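import Mathlib
import Cfsg.Agent.Nodes.Slope
set_option linter.all false

/-!
The FRAME METHOD (project CIT, helper82's text #5999): sign groups.

* `Frame K z X Q` : pairwise commuting `K i = ⟨X i 1, X i (-1)⟩` with involutions `z i` and the odd order groups
  `Q i s`, `s = ±1` (`Q i 0` is the centraliser of `K i`);
* `XX Q e` : the sign group of `e : ι → SignType`, the intersection of the `Q i (e i)`;
* `Frame.inv` : the involutions `z i`, `e i ≠ 0`, invert the sign group if the support has at least two elements;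
* `Frame.commute_of_two`, `Frame.commute_of_zero` : the R-trick;
* `ChartOn` : a chart with (F2), `ChartOn.XX_eq` : (F3), the sign groups are the products of the root groups with
  the given signs.
-/

set_option autoImplicit false
set_option linter.unusedSectionVars false

namespace Cfsg.Agent.Cit.FrameSign

open CoxeterSystem Cfsg.Agent.ChevalleyStructure.CoxeterGeom Cfsg.Agent.Tits.Roots Cfsg.Agent.Tits.Core
  Cfsg.Agent.Nodes.Reps Cfsg.Agent.Nodes.BNOf Cfsg.Agent.Nodes.Slope
open scoped commutatorElement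

variable {G : Type*} [Group G] {ι : Type*}

/-- A frame: commuting groups `K i` with central involutions `z i`, opposite subgroups `X i (±1)` and the groups
`Q i (±1)`; by convention `Q i 0` is the centraliser of `K i`. -/
structure Frame (K : ι → Subgroup G) (z : ι → G) (X Q : ι → SignType → Subgroup G) : Prop where
  z_mem : ∀ i, z i ∈ K i
  z_sq : ∀ i, z i * z i = 1
  z_cent : ∀ i, ∀ a ∈ K i, z i * a = a * z i
  comm : ∀ i j, i ≠ j → ∀ a ∈ K i, ∀ b ∈ K j, a * b = b * a
  K_eq : ∀ i, K i = X i 1 ⊔ X i (-1)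
  Q_zero : ∀ i, Q i 0 = Subgroup.centralizer (K i : Set G)
  X_le_Q : ∀ i s, s ≠ 0 → X i s ≤ Q i s
  Q_cent : ∀ i s, s ≠ 0 → ∀ a ∈ Q i s, ∀ b ∈ X i s, a * b = b * a
  Q_der : ∀ i s, s ≠ 0 → ∀ a ∈ Q i s, ∀ b ∈ Q i s, ⁅a, b⁆ ∈ X i s
  Q_fix : ∀ i s, s ≠ 0 → ∀ a ∈ Q i s, z i * a = a * z i → a ∈ X i s
  Q_norm : ∀ i s, s ≠ 0 → Subgroup.normalizer (X i s : Set G) ≤ Subgroup.normalizer (Q i s : Set G)
  Q_odd : ∀ i s, s ≠ 0 → Odd (Nat.card (Q i s))
  X_center : ∀ i s, s ≠ 0 → ∀ a ∈ X i s, (∀ b ∈ K i, a * b = b * a) → a = 1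
  X_disj : ∀ i j, i ≠ j → ∀ s t, s ≠ 0 → t ≠ 0 → ∀ a, a ∈ X i s → a ∈ X j t → a = 1

/-- The sign group of `e`. -/
def XX (Q : ι → SignType → Subgroup G) (e : ι → SignType) : Subgroup G := ⨅ i, Q i (e i)

theorem mem_XX {Q : ι → SignType → Subgroup G} {e : ι → SignType} {a : G} : a ∈ XX Q e ↔ ∀ i, a ∈ Q i (e i) :=
  Subgroup.mem_iInf

namespace Frame

variable {K : ι → Subgroup G} {z : ι → G} {X Q : ι → SignType → Subgroup G} (F : Frame K z X Q)

include F

theorem X_le_K (i : ι) {s : SignType} (hs : s ≠ 0) : X i s ≤ K i := by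
  rw [F.K_eq i]
  rcases s with _ | _ | _
  · exact absurd rfl hs
  · exact le_sup_right
  · exact le_sup_left

theorem mem_Q_zero {i : ι} {a : G} : a ∈ Q i 0 ↔ ∀ b ∈ K i, a * b = b * a := by
  rw [F.Q_zero i, Subgroup.mem_centralizer_iff]
  exact ⟨fun h b hb => (h b hb).symm, fun h b hb => (h b hb).symm⟩

theorem z_inv (i : ι) : (z i)⁻¹ = z i := inv_eq_of_mul_eq_one_left (F.z_sq i)

/-- (F1) -/
theorem eq_one_of_mem_X_Q {i j : ι} (hij : i ≠ j) {s t : SignType} (hs : s ≠ 0) (ht : t ≠ 0) {a : G}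
    (ha : a ∈ X i s) (hb : a ∈ Q j t) : a = 1 :=
  F.X_disj i j hij s t hs ht a ha
    (F.Q_fix j t ht a hb ((F.comm i j hij a (F.X_le_K i hs ha) _ (F.z_mem j)).symm))

/-- (F1) -/
theorem eq_one_of_mem_Q_zero {i : ι} {s : SignType} (hs : s ≠ 0) {a : G} (ha : a ∈ Q i s)
    (h0 : ∀ b ∈ K i, a * b = b * a) : a = 1 :=
  F.X_center i s hs a (F.Q_fix i s hs a ha (h0 _ (F.z_mem i)).symm) h0

/-- Elements commuting with `X i (±1)` commute with `K i`. -/
theorem comm_K {i : ι} {a : G} (h1 : ∀ b ∈ X i 1, a * b = b * a) (h2 : ∀ b ∈ X i (-1), a * b = b * a) :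
    ∀ b ∈ K i, a * b = b * a := by
  have : K i ≤ Subgroup.centralizer {a} := by
    rw [F.K_eq i]
    refine sup_le (fun b hb => ?_) (fun b hb => ?_)
    · rw [Subgroup.mem_centralizer_singleton_iff]; exact (h1 b hb).symm
    · rw [Subgroup.mem_centralizer_singleton_iff]; exact (h2 b hb).symm
  intro b hb
  exact (Subgroup.mem_centralizer_singleton_iff.1 (this hb)).symm

/-- `z i` normalises every sign group. -/
theorem z_mem_normalizer_Q (i k : ι) (s : SignType) : z i ∈ Subgroup.normalizer (Q k s : Set G) := by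
  by_cases hs : s = 0
  · subst hs
    refine Subgroup.le_normalizer (F.mem_Q_zero.2 fun b hb => ?_)
    by_cases hik : i = k
    · subst hik; exact F.z_cent i b hb
    · exact F.comm i k hik _ (F.z_mem i) b hb
  · refine F.Q_norm k s hs ?_
    refine (Subgroup.centralizer_le_normalizer (X k s : Set G) : _) ?_
    rw [Subgroup.mem_centralizer_iff]
    intro b hb
    have hb' := F.X_le_K k hs hb
    by_cases hik : i = k
    · subst hik; exact (F.z_cent i b hb').symm
    · exact (F.comm i k hik _ (F.z_mem i) b hb').symm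

theorem z_conj_mem {e : ι → SignType} (i : ι) {a : G} (ha : a ∈ XX Q e) : z i * a * z i ∈ XX Q e := by
  rw [mem_XX] at ha ⊢
  intro k
  have h1 := (Subgroup.mem_normalizer_iff.1 (F.z_mem_normalizer_Q i k (e k)) a).1 (ha k)
  rwa [F.z_inv] at h1

theorem fix_eq_one {e : ι → SignType} {i j : ι} (hij : i ≠ j) (hi : e i ≠ 0) (hj : e j ≠ 0) {a : G}
    (ha : a ∈ XX Q e) (h1 : z i * a = a * z i) : a = 1 := by
  rw [mem_XX] at ha
  exact F.eq_one_of_mem_X_Q hij hi hj (F.Q_fix i _ hi a (ha i) h1) (ha j)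

/-- **`z i` inverts the sign group** (two elements in the support). -/
theorem inv [Finite G] {e : ι → SignType} {i j : ι} (hij : i ≠ j) (hi : e i ≠ 0) (hj : e j ≠ 0) {a : G}
    (ha : a ∈ XX Q e) : z i * a * z i = a⁻¹ := by
  let φ : XX Q e →* XX Q e :=
    { toFun := fun a => ⟨z i * a * z i, F.z_conj_mem i a.2⟩
      map_one' := Subtype.ext (by
        change z i * 1 * z i = 1
        rw [mul_one, F.z_sq])
      map_mul' := fun a b => Subtype.ext (by
        change z i * (a * b) * z i = (z i * a * z i) * (z i * b * z i)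
        calc z i * (a * b) * z i = z i * a * 1 * b * z i := by group
          _ = z i * a * (z i * z i) * b * z i := by rw [F.z_sq]
          _ = z i * a * z i * (z i * b * z i) := by group) }
  have hφ : MonoidHom.FixedPointFree φ := by
    intro a ha
    apply Subtype.ext
    refine F.fix_eq_one hij hi hj a.2 ?_
    have h1 : z i * (a : G) * z i = a := congrArg Subtype.val ha
    calc z i * (a : G) = z i * a * (z i * z i) := by rw [F.z_sq, mul_one]
      _ = z i * a * z i * z i := by group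
      _ = a * z i := by rw [h1]
  have h2 : Function.Involutive φ := by
    intro a
    apply Subtype.ext
    change z i * (z i * a * z i) * z i = a
    calc z i * (z i * (a : G) * z i) * z i = (z i * z i) * a * (z i * z i) := by group
      _ = a := by rw [F.z_sq, one_mul, mul_one]
  have h3 : φ ⟨a, ha⟩ = (⟨a, ha⟩ : XX Q e)⁻¹ := congrFun (hφ.coe_eq_inv_of_involutive h2) (⟨a, ha⟩ : XX Q e)
  exact congrArg Subtype.val h3

/-- the sign groups are abelian (two elements in the support) -/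
theorem commute_self [Finite G] {e : ι → SignType} {i j : ι} (hij : i ≠ j) (hi : e i ≠ 0) (hj : e j ≠ 0) {a b : G}
    (ha : a ∈ XX Q e) (hb : b ∈ XX Q e) : a * b = b * a := by
  have h1 := F.inv hij hi hj (mul_mem ha hb)
  have h2 := F.inv hij hi hj ha
  have h3 := F.inv hij hi hj hb
  have h4 : z i * (a * b) * z i = (z i * a * z i) * (z i * b * z i) := by
    calc z i * (a * b) * z i = z i * a * 1 * b * z i := by group
      _ = z i * a * (z i * z i) * b * z i := by rw [F.z_sq]
      _ = z i * a * z i * (z i * b * z i) := by group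
  rw [h4, h2, h3] at h1
  have h5 := congrArg (·⁻¹) h1
  simp only [mul_inv_rev, inv_inv] at h5
  exact h5.symm

/-- `z j` centralises the sign group if `e j = 0`. -/
theorem z_comm {e : ι → SignType} {j : ι} (hj : e j = 0) {a : G} (ha : a ∈ XX Q e) : z j * a = a * z j := by
  have h1 := (mem_XX.1 ha) j
  rw [hj] at h1
  exact (F.mem_Q_zero.1 h1 _ (F.z_mem j)).symm

theorem odd_order [Finite G] {i : ι} {s : SignType} (hs : s ≠ 0) {a : G} (ha : a ∈ Q i s) : Odd (orderOf a) := by
  have h1 : orderOf (⟨a, ha⟩ : Q i s) ∣ Nat.card (Q i s) := orderOf_dvd_natCard _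
  rw [Subgroup.orderOf_mk] at h1
  exact Odd.of_dvd_nat (F.Q_odd i s hs) h1

theorem eq_one_of_sq [Finite G] {i : ι} {s : SignType} (hs : s ≠ 0) {a : G} (ha : a ∈ Q i s) (h2 : a * a = 1) :
    a = 1 := by
  have h1 : orderOf a ∣ 2 := orderOf_dvd_of_pow_eq_one (by rw [pow_two]; exact h2)
  have h3 := F.odd_order hs ha
  rcases (Nat.dvd_prime Nat.prime_two).1 h1 with h4 | h4
  · exact orderOf_eq_one_iff.1 h4
  · rw [h4] at h3
    exact absurd h3 (by decide)

/-- **R-trick, two agreements.** -/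
theorem commute_of_two {e f : ι → SignType} {i j : ι} (hij : i ≠ j) (hi : e i ≠ 0) (hj : e j ≠ 0)
    (hi' : f i = e i) (hj' : f j = e j) {a b : G} (ha : a ∈ XX Q e) (hb : b ∈ XX Q f) : a * b = b * a := by
  rw [mem_XX] at ha hb
  have h1 := F.Q_der i _ hi a (ha i) b (by have := hb i; rwa [hi'] at this)
  have h2 := F.Q_der j _ hj a (ha j) b (by have := hb j; rwa [hj'] at this)
  exact commutatorElement_eq_one_iff_mul_comm.1 (F.X_disj i j hij _ _ hi hj _ h1 h2)

/-- **R-trick**: one agreement and an involution inverting `a` and centralising `b`. -/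
theorem commute_of_inverts [Finite G] {i j : ι} {s : SignType} (hs : s ≠ 0) {a b : G} (ha : a ∈ Q i s)
    (hb : b ∈ Q i s) (h1 : z j * a * z j = a⁻¹) (h2 : z j * b = b * z j) : a * b = b * a := by
  have hc := F.Q_der i s hs a ha b hb
  set c := ⁅a, b⁆ with hcdef
  have hca : a * c = c * a := F.Q_cent i s hs a ha c hc
  have hzc : z j * c = c * z j := by
    have hcK := F.X_le_K i hs hc
    by_cases hij : i = j
    · subst hij; exact F.z_cent i c hcK
    · exact (F.comm i j hij c hcK _ (F.z_mem j)).symm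
  have hb' : z j * b * z j = b := by rw [h2, mul_assoc, F.z_sq, mul_one]
  have h3 : z j * c * z j = c⁻¹ := by
    have e1 : z j * c * z j = (z j * a * z j) * (z j * b * z j) * (z j * a * z j)⁻¹ * (z j * b * z j)⁻¹ := by
      rw [hcdef, commutatorElement_def]
      simp only [mul_inv_rev, F.z_inv]
      calc z j * (a * b * a⁻¹ * b⁻¹) * z j = z j * a * 1 * b * 1 * a⁻¹ * 1 * b⁻¹ * z j := by group
        _ = z j * a * (z j * z j) * b * (z j * z j) * a⁻¹ * (z j * z j) * b⁻¹ * z j := by rw [F.z_sq]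
        _ = _ := by group
    rw [e1, h1, hb', inv_inv]
    have e2 : a⁻¹ * b * a * b⁻¹ = a⁻¹ * c⁻¹ * a := by
      rw [hcdef, commutatorElement_def]; group
    rw [e2]
    have e3 : c⁻¹ * a = a * c⁻¹ := by
      have := congrArg (fun x => c⁻¹ * x * c⁻¹) hca
      simp only [mul_assoc, mul_inv_cancel, mul_one, inv_mul_cancel_left] at this
      exact this
    rw [mul_assoc, e3, inv_mul_cancel_left]
  have h4 : c * c = 1 := by
    have e1 : z j * c * z j = c := by rw [hzc, mul_assoc, F.z_sq, mul_one]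
    rw [e1] at h3
    calc c * c = c⁻¹ * c := by rw [← h3]
      _ = 1 := inv_mul_cancel c
  exact commutatorElement_eq_one_iff_mul_comm.1 (F.eq_one_of_sq hs (F.X_le_Q i s hs hc) h4)

/-- **R-trick for sign groups**: `e i = f i ≠ 0`, `e j ≠ 0`, `f j = 0`. -/
theorem commute_of_zero [Finite G] {e f : ι → SignType} {i j : ι} (hi : e i ≠ 0) (hi' : f i = e i)
    (hj : e j ≠ 0) (hj' : f j = 0) {a b : G} (ha : a ∈ XX Q e) (hb : b ∈ XX Q f) : a * b = b * a := by
  have hij : j ≠ i := by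
    rintro rfl
    rw [hi'] at hj'
    exact hj hj'
  have h1 := F.inv hij hj hi ha
  have h2 := F.z_comm hj' hb
  rw [mem_XX] at ha hb
  exact F.commute_of_inverts hi (ha i) (by have := hb i; rwa [hi'] at this) h1 h2

/-- An element of odd order inverted by an element of `L` and normalising `L` lies in `L`. -/
theorem mem_of_inv [Finite G] {L : Subgroup G} {e : ι → SignType} {i j : ι} (hij : i ≠ j) (hi : e i ≠ 0)
    (hj : e j ≠ 0) (hz : z i ∈ L) {a : G} (ha : a ∈ XX Q e) (hn : a ∈ Subgroup.normalizer (L : Set G)) :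
    a ∈ L := by
  have h1 := F.inv hij hi hj ha
  have h2 : a * z i * a⁻¹ ∈ L := (Subgroup.mem_normalizer_iff.1 hn _).1 hz
  have h3 : a * a = (a * z i * a⁻¹) * z i := by
    have : a * z i * a⁻¹ * z i = a * (z i * a⁻¹ * z i) := by group
    rw [this]
    have h4 : z i * a⁻¹ * z i = a := by
      rw [← h1]
      calc z i * (z i * a * z i) * z i = (z i * z i) * a * (z i * z i) := by group
        _ = a := by rw [F.z_sq, one_mul, mul_one]
    rw [h4]
  have h4 : a * a ∈ L := by rw [h3]; exact mul_mem h2 hz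
  have h5 := F.odd_order hi ((mem_XX.1 ha) i)
  obtain ⟨k, hk⟩ := h5
  have h6 : a ^ (2 * (k + 1)) = a := by
    have : a ^ (2 * k + 1) = 1 := by rw [← hk]; exact pow_orderOf_eq_one a
    calc a ^ (2 * (k + 1)) = a ^ (2 * k + 1) * a := by rw [← pow_succ]; congr 1
      _ = a := by rw [this, one_mul]
  rw [← h6, pow_mul, pow_two]
  exact pow_mem h4 _

end Frame

/-! ### Charts -/

section Chart

variable {I W : Type*} [Fintype I] [DecidableEq I] [Group W] {M : CoxeterMatrix I} {cs : CoxeterSystem M W}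
  {A : I → I → ℤ} {h : IsCartan M A} {p : ℕ} {T : Subgroup G} {n : I → G} {Xc : (I → ℤ) → Subgroup G}

/-- A chart of the subgroup `L` adapted to the part `D` of the frame: `ell i` (`i ∈ D`) is the pairing with the
frame root. -/
structure ChartOn (K : ι → Subgroup G) (Q : ι → SignType → Subgroup G) (D : Set ι) (L : Subgroup G)
    (cs : CoxeterSystem M W) (h : IsCartan M A) (p : ℕ) (T : Subgroup G) (n : I → G)
    (Xc : (I → ℤ) → Subgroup G) (ell : ι → (I → ℤ) →+ ℤ) : Prop where
  rgd : RGD cs h p T n Xc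
  /-- (F2) -/
  inter : ∀ i ∈ D, ∀ s : SignType, s ≠ 0 →
    Q i s ⊓ L = RGD.Sup Xc {x | IsRoot cs h x ∧ SignType.sign (ell i x) = s}
  orth : ∀ i ∈ D, ∀ x, IsRoot cs h x → ell i x = 0 → Xc x ≤ Subgroup.centralizer (K i : Set G)
  out : ∀ i, i ∉ D → L ≤ Subgroup.centralizer (K i : Set G)
  X_le : ∀ x, IsRoot cs h x → Xc x ≤ L

theorem mono_mem {S S' : Set (I → ℤ)} {u : G} (hu : u ∈ RGD.Sup Xc S) (hS : ∀ x ∈ S, x ∈ S') :
    u ∈ RGD.Sup Xc S' := RGD.Sup_mono hS hu

/-- the roots with given signs -/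
def RS (cs : CoxeterSystem M W) (h : IsCartan M A) (ell : ι → (I → ℤ) →+ ℤ) (J : Set ι) (e : ι → SignType) :
    Set (I → ℤ) := {x | IsRoot cs h x ∧ ∀ i ∈ J, SignType.sign (ell i x) = e i}

theorem closed_RS (ell : ι → (I → ℤ) →+ ℤ) (J : Set ι) (e : ι → SignType) : Closed cs h (RS cs h ell J e) := by
  refine ⟨fun x hx => hx.1, fun x hx y hy z hz => ⟨hz.1, fun i hi => ?_⟩⟩
  have h1 := hx.2 i hi
  have h2 := hy.2 i hi
  rcases hei : e i with _ | _ | _
  · rw [hei] at h1 h2
    have h3 := btwn_zero' hz (ell i) (sign_eq_zero_iff.1 h1) (sign_eq_zero_iff.1 h2)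
    exact sign_eq_zero_iff.2 h3
  · rw [hei] at h1 h2
    have h3 := btwn_pos' hz (-(ell i)) (by simpa using sign_eq_neg_one_iff.1 h1)
      (by simpa using (sign_eq_neg_one_iff.1 h2).le)
    exact sign_eq_neg_one_iff.2 (by simpa using h3)
  · rw [hei] at h1 h2
    have h3 := btwn_pos' hz (ell i) (sign_eq_one_iff.1 h1) (sign_eq_one_iff.1 h2).le
    exact sign_eq_one_iff.2 h3

variable {K : ι → Subgroup G} {z : ι → G} {X Q : ι → SignType → Subgroup G} {D : Set ι} {L : Subgroup G}
  {ell : ι → (I → ℤ) →+ ℤ}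

namespace ChartOn

variable (F : Frame K z X Q) (C : ChartOn K Q D L cs h p T n Xc ell)

include F C

/-- the root groups with the signs `e` lie in the sign group -/
theorem Sup_le_XX {e : ι → SignType} (h0 : ∀ i, i ∉ D → e i = 0) : RGD.Sup Xc (RS cs h ell D e) ≤ XX Q e := by
  refine RGD.Sup_le fun x hx a ha => mem_XX.2 fun i => ?_
  by_cases hi : i ∈ D
  · by_cases hei : e i = 0
    · rw [hei, F.mem_Q_zero]
      have h1 := C.orth i hi x hx.1 (sign_eq_zero_iff.1 ((hx.2 i hi).trans hei)) ha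
      rw [Subgroup.mem_centralizer_iff] at h1
      exact fun b hb => (h1 b hb).symm
    · have h1 : a ∈ Q i (e i) ⊓ L := by
        rw [C.inter i hi _ hei]
        exact RGD.le_Sup (S := {x | IsRoot cs h x ∧ SignType.sign (ell i x) = e i}) ⟨hx.1, hx.2 i hi⟩ ha
      exact h1.1
  · rw [h0 i hi, F.mem_Q_zero]
    have h1 := C.out i hi (C.X_le x hx.1 ha)
    rw [Subgroup.mem_centralizer_iff] at h1
    exact fun b hb => (h1 b hb).symm

/-- one step of (F3) -/
theorem mem_step [Finite W] {S : Set (I → ℤ)} (hS : Closed cs h S) (lam : (I → ℤ) →+ ℤ) (hl : ∀ x ∈ S, 0 < lam x)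
    {i : ι} (hi : i ∈ D) {s : SignType} {u : G} (hu : u ∈ RGD.Sup Xc S) (hus : u ∈ Q i s) (huL : u ∈ L) :
    u ∈ RGD.Sup Xc {x | x ∈ S ∧ SignType.sign (ell i x) = s} := by
  have R := C.rgd
  rcases s with _ | _ | _
  · -- sign zero
    obtain ⟨a, ha, b, hb, c, hc, e⟩ := split3 R hS lam (ell i) hl hu
    have hu0 : ∀ k ∈ K i, u * k = k * u := F.mem_Q_zero.1 hus
    have haQ : a ∈ Q i 1 := by
      have h1 : a ∈ Q i 1 ⊓ L := by
        rw [C.inter i hi 1 (by decide)]
        exact mono_mem ha fun x hx => ⟨hS.root x hx.1, sign_eq_one_iff.2 hx.2⟩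
      exact h1.1
    have hbQ : b ∈ Q i (-1) := by
      have h1 : b ∈ Q i (-1) ⊓ L := by
        rw [C.inter i hi (-1) (by decide)]
        exact mono_mem hb fun x hx => ⟨hS.root x hx.1, sign_eq_neg_one_iff.2 hx.2⟩
      exact h1.1
    have hcK : ∀ k ∈ K i, c * k = k * c := by
      have h1 : RGD.Sup Xc {x | x ∈ S ∧ ell i x = 0} ≤ Subgroup.centralizer (K i : Set G) :=
        RGD.Sup_le fun x hx => C.orth i hi x (hS.root x hx.1) hx.2
      have h2 := h1 hc
      rw [Subgroup.mem_centralizer_iff] at h2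
      exact fun k hk => (h2 k hk).symm
    have habK : ∀ k ∈ K i, a * b * k = k * (a * b) := by
      intro k hk
      have e1 : a * b = u * c⁻¹ := by rw [e]; group
      have h3 : c⁻¹ * k = k * c⁻¹ := by
        have := congrArg (fun x => c⁻¹ * x * c⁻¹) (hcK k hk)
        simp only [mul_assoc, mul_inv_cancel, mul_one, inv_mul_cancel_left] at this
        exact this.symm
      rw [e1, mul_assoc, h3, ← mul_assoc, hu0 k hk, mul_assoc]
    have hb1 : b = 1 := by
      refine F.eq_one_of_mem_Q_zero (i := i) (s := -1) (by decide) hbQ (F.comm_K ?_ (F.Q_cent i (-1) (by decide) b hbQ))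
      intro k hk
      have h1 := habK k (F.X_le_K i (by decide) hk)
      have h2 := F.Q_cent i 1 (by decide) a haQ k hk
      have h3 : a * (b * k) = a * (k * b) := by
        rw [← mul_assoc, h1, ← mul_assoc, ← mul_assoc, h2]
      exact mul_left_cancel h3
    have ha1 : a = 1 := by
      refine F.eq_one_of_mem_Q_zero (i := i) (s := 1) (by decide) haQ ?_
      intro k hk
      have h1 := habK k hk
      rwa [hb1, mul_one] at h1
    rw [e, ha1, hb1, one_mul, one_mul]
    exact mono_mem hc fun x hx => ⟨hx.1, sign_eq_zero_iff.2 hx.2⟩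
  · -- sign minus one
    obtain ⟨a, ha, c, hc, e⟩ := split R hS lam (-(ell i)) hl hu
    have h1 : u ∈ RGD.Sup Xc {x | IsRoot cs h x ∧ 0 < (-(ell i)) x} := by
      have h2 : u ∈ Q i (-1) ⊓ L := ⟨hus, huL⟩
      rw [C.inter i hi (-1) (by decide)] at h2
      exact mono_mem h2 fun x hx => ⟨hx.1, by simpa using sign_eq_neg_one_iff.1 hx.2⟩
    have h2 : c = 1 := by
      refine sup_inf_sup' R (-(ell i)) lam ?_
        (mono_mem hc fun x hx => ⟨hS.root x hx.1, hx.2, hl x hx.1⟩)
      have : c = a⁻¹ * u := by rw [e]; group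
      rw [this]
      exact mul_mem (inv_mem (mono_mem ha fun x hx => ⟨hS.root x hx.1, hx.2⟩)) h1
    rw [e, h2, mul_one]
    exact mono_mem ha fun x hx => ⟨hx.1, sign_eq_neg_one_iff.2 (by simpa using hx.2)⟩
  · obtain ⟨a, ha, c, hc, e⟩ := split R hS lam (ell i) hl hu
    have h1 : u ∈ RGD.Sup Xc {x | IsRoot cs h x ∧ 0 < (ell i) x} := by
      have h2 : u ∈ Q i 1 ⊓ L := ⟨hus, huL⟩
      rw [C.inter i hi 1 (by decide)] at h2
      exact mono_mem h2 fun x hx => ⟨hx.1, sign_eq_one_iff.1 hx.2⟩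
    have h2 : c = 1 := by
      refine sup_inf_sup' R (ell i) lam ?_
        (mono_mem hc fun x hx => ⟨hS.root x hx.1, hx.2, hl x hx.1⟩)
      have : c = a⁻¹ * u := by rw [e]; group
      rw [this]
      exact mul_mem (inv_mem (mono_mem ha fun x hx => ⟨hS.root x hx.1, hx.2⟩)) h1
    rw [e, h2, mul_one]
    exact mono_mem ha fun x hx => ⟨hx.1, sign_eq_one_iff.2 hx.2⟩

/-- **(F3)**: the sign group is the product of the root groups with the given signs. -/
theorem XX_eq [Finite W] [Finite ι] {e : ι → SignType} (h0 : ∀ i, i ∉ D → e i = 0) (hL : XX Q e ≤ L) {i₀ : ι}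
    (hi₀ : i₀ ∈ D) (he₀ : e i₀ ≠ 0) : XX Q e = RGD.Sup Xc (RS cs h ell D e) := by
  classical
  apply le_antisymm _ (C.Sup_le_XX F h0)
  intro u hu
  have hu' := mem_XX.1 hu
  obtain ⟨lam, hlam⟩ : ∃ lam : (I → ℤ) →+ ℤ, ∀ x, SignType.sign (ell i₀ x) = e i₀ → 0 < lam x := by
    rcases hei : e i₀ with _ | _ | _
    · exact absurd hei he₀
    · exact ⟨-(ell i₀), fun x hx => by simpa using sign_eq_neg_one_iff.1 hx⟩
    · exact ⟨ell i₀, fun x hx => sign_eq_one_iff.1 hx⟩
  have key : ∀ J : Finset ι, (∀ i ∈ J, i ∈ D) → u ∈ RGD.Sup Xc (RS cs h ell (insert i₀ (J : Set ι)) e) := by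
    intro J
    induction J using Finset.induction_on with
    | empty =>
      intro _
      have h1 : u ∈ Q i₀ (e i₀) ⊓ L := ⟨hu' i₀, hL hu⟩
      rw [C.inter i₀ hi₀ _ he₀] at h1
      refine RGD.Sup_mono ?_ h1
      rintro x ⟨hx, hx1⟩
      refine ⟨hx, fun i hi => ?_⟩
      rcases hi with rfl | hi
      · exact hx1
      · exact absurd hi (by simp)
    | insert j J hj ih =>
      intro hJ
      have h1 := ih fun i hi => hJ i (Finset.mem_insert_of_mem hi)
      have h2 := C.mem_step F (closed_RS ell (insert i₀ (J : Set ι)) e) lam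
        (fun x hx => hlam x (hx.2 i₀ (Set.mem_insert _ _))) (hJ j (Finset.mem_insert_self j J)) h1 (hu' j) (hL hu)
      refine RGD.Sup_mono ?_ h2
      rintro x ⟨⟨hx, hx1⟩, hx2⟩
      refine ⟨hx, fun i hi => ?_⟩
      rw [Finset.coe_insert, Set.insert_comm] at hi
      rcases hi with rfl | hi
      · exact hx2
      · exact hx1 i hi
  have hD : D.Finite := Set.toFinite D
  have h1 := key hD.toFinset (fun i hi => hD.mem_toFinset.1 hi)
  rwa [Set.Finite.coe_toFinset, Set.insert_eq_of_mem hi₀] at h1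

/-- If `x` is the only root with its signs, the sign group is the root group. -/
theorem XX_eq_X [Finite W] [Finite ι] {e : ι → SignType} (h0 : ∀ i, i ∉ D → e i = 0) (hL : XX Q e ≤ L) {i₀ : ι}
    (hi₀ : i₀ ∈ D) (he₀ : e i₀ ≠ 0) {x : I → ℤ} (hx : IsRoot cs h x) (hxe : ∀ i ∈ D, SignType.sign (ell i x) = e i)
    (huniq : ∀ y, IsRoot cs h y → (∀ i ∈ D, SignType.sign (ell i y) = e i) → y = x) : XX Q e = Xc x := by
  rw [C.XX_eq F h0 hL hi₀ he₀]
  apply le_antisymm
  · refine RGD.Sup_le fun y hy => ?_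
    rw [huniq y hy.1 hy.2]
  · exact RGD.le_Sup (S := RS cs h ell D e) ⟨hx, hxe⟩

/-- If no root has the given signs, the sign group is trivial. -/
theorem XX_eq_bot [Finite W] [Finite ι] {e : ι → SignType} (h0 : ∀ i, i ∉ D → e i = 0) (hL : XX Q e ≤ L) {i₀ : ι}
    (hi₀ : i₀ ∈ D) (he₀ : e i₀ ≠ 0) (hno : ∀ y, IsRoot cs h y → ¬ (∀ i ∈ D, SignType.sign (ell i y) = e i)) :
    XX Q e = ⊥ := by
  rw [C.XX_eq F h0 hL hi₀ he₀, eq_bot_iff]
  exact RGD.Sup_le fun y hy => absurd hy.2 (hno y hy.1)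

end ChartOn

end Chart

end Cfsg.Agent.Cit.FrameSign
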