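import Mathlib.LinearAlgebra.Matrix.SpecialLinearGroup
import Mathlib.Tactic
import Cfsg.Agent.SignalizersComponents.SLQuasisimple
import Cfsg.Agent.SignalizersComponents.Components
import Cfsg.Agent.SignalizersComponents.ComponentNormalize
import Cfsg.Agent.LieClassical.FieldTransfer
import Cfsg.Agent.Lib.FinFast
import Cfsg.Agent.Lib.PComponents
import Cfsg.Agent.SignalizersComponents.PCompQuot
import Cfsg.Agent.SignalizersComponents.ComponentImage
import Cfsg.Agent.S0281
import Cfsg.Agent.LieClassical.SUBasic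
import Cfsg.Agent.LieClassical.HermPerfect
import Cfsg.Agent.LieClassical.HermSimple
import Cfsg.Agent.LieClassical.SympCenter
import Cfsg.Agent.FastGrp
import Cfsg.Agent.Prune
set_option linter.all false

section
prune_inst 0x7f00000000000000000000000000000000000000000000000000000000000000000000000000000000000000000000000000000000000000000000000000000000000000000000000000000000000000003fffffffffffffffffffffffffffbeffbdffffffff

-- part: Cit/LongAbs
section
set_option linter.all false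
open scoped Cfsg.Agent.FastGrp

-- part: Cit/LongSL3
section
/-!
# Computations in `SL₂(3)`
-/

set_option autoImplicit false

namespace Cfsg.Agent.Cit.LongSL3

abbrev S3 := Matrix.SpecialLinearGroup (Fin 2) (ZMod 3)

/-- the entries of the element with the number `i` -/
private def en (i k : ℕ) : ZMod 3 := Fin.ofNat 3 (Nat.land (Nat.shiftRight 0x6a1a8a265686a29282a919492595456151985818a4642441 (Nat.add (Nat.mul 8 i) k)) 3)

private theorem en_det : ∀ i : Fin 24, en i 0 * en i 6 - en i 2 * en i 4 = 1 := by decide +kernel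

/-- the elements -/
private def el (i : Fin 24) : S3 := ⟨!![en i 0, en i 2; en i 4, en i 6], (Matrix.det_fin_two_of _ _ _ _).trans (en_det i)⟩

/-- the products -/
private def ml (i j : Fin 24) : Fin 24 := Fin.ofNat 24 (Nat.land (Nat.shiftRight
  0x789b509e43511313028565a1342dd788dd7122815995029e646d5f20259680596182624956f2224675e343a9b52cce6828966a05770e2b0818993eb4249057acd5700766060911daaa46f3350048a4b761c35689ea1a1cb9c2d25a54e635003ca74adaef80c22214d14a96c6b80745253bd6d178443310b052d2d730e804e92b5eb0888612988f0b203058499bcab911153469769d4e1ba2245c2ba40ca994f623e556012d135e13d46a94489a18172c2767216c3966a341a4b0ae81c5c1a240c7d64b01a8924585b86a713da392d0e85a6a4124b2bdc6a8ec00c1829a8ed8de89aded2a4df18358e52567010c510468b56f39520f8b1cd4ad404148608c4764020b0d3312de54488ead2f1534e66bc47a85521a624050ccbced05b90574468b89740aa063ccadb4aaf4b004a00d1492ec2d4e17b45253968b4e039208f596ae35803830334b547bd22299cb051acd25d028b8745b120ac9e1bdab49ca307b9ac5a928398a418820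
  (Nat.mul 5 (Nat.add (Nat.mul 24 i) j))) 31)

/-- the inverses -/
private def iv (i : Fin 24) : Fin 24 := Fin.ofNat 24 (Nat.land (Nat.shiftRight 0x50e46756117cc492dd8745161b3480 (Nat.mul 5 i)) 31)

private theorem el_mul (i j : Fin 24) : el i * el j = el (ml i j) := by
  have h : ∀ i j : Fin 24, en i 0 * en j 0 + en i 2 * en j 4 = en (ml i j) 0 ∧ en i 0 * en j 2 + en i 2 * en j 6 = en (ml i j) 2 ∧
      en i 4 * en j 0 + en i 6 * en j 4 = en (ml i j) 4 ∧ en i 4 * en j 2 + en i 6 * en j 6 = en (ml i j) 6 := by (refine of_decide_eq_true ?_; (try (rewrite [Cfsg.Agent.LsF.zadd_pat, Cfsg.Agent.LsF.zmul_pat, Cfsg.Agent.LsF.zdecEq_eq, Cfsg.Agent.LsF.dAnd_eq, Cfsg.Agent.LsF.dForallFin_eq, Cfsg.Agent.LsF.decide_eq])); decide +kernel)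
  obtain ⟨h1, h2, h3, h4⟩ := h i j
  refine Subtype.ext ((Matrix.mul_fin_two _ _ _ _ _ _ _ _).trans ?_)
  rw [h1, h2, h3, h4]
  rfl

private theorem el_one : (1 : S3) = el 0 := by decide +kernel

private theorem el_inv (i : Fin 24) : (el i)⁻¹ = el (iv i) := by
  have h : ∀ i : Fin 24, ml i (iv i) = 0 := by decide +kernel
  rw [inv_eq_iff_mul_eq_one, el_mul, h, el_one]

private theorem el_inj : Function.Injective el := fun i j h => by
  have h0 : ∀ i j : Fin 24, en i 0 = en j 0 → en i 2 = en j 2 → en i 4 = en j 4 → en i 6 = en j 6 → i = j := by decide +kernel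
  exact h0 i j (congrArg (fun x : S3 => x.1 0 0) h) (congrArg (fun x : S3 => x.1 0 1) h) (congrArg (fun x : S3 => x.1 1 0) h)
    (congrArg (fun x : S3 => x.1 1 1) h)

theorem sl3_card : Fintype.card S3 = 24 := by decide +kernel

private theorem el_surj : Function.Surjective el :=
  ((Fintype.bijective_iff_injective_and_card el).2 ⟨el_inj, by rw [sl3_card, Fintype.card_fin]⟩).2

theorem sl3_fact1 : ∀ c : S3, c * c * c = 1 → c ≠ 1 → ∀ x : S3, x * x * (x * x) = 1 →
    ∃ u v : S3, u * u * (u * u) = 1 ∧ v * v * (v * v) = 1 ∧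
      x = (u * c * u⁻¹ * c⁻¹) * (v * c * v⁻¹ * c⁻¹) := by
  simp only [el_surj.forall, el_surj.exists, el_mul, el_inv, el_one, ne_eq, el_inj.eq_iff]
  (refine of_decide_eq_true ?_; (try (rewrite [Cfsg.Agent.LsF.dAnd_eq, Cfsg.Agent.LsF.dNot_eq, Cfsg.Agent.LsF.dFinEq_eq, Cfsg.Agent.LsF.dForallFin_eq, Cfsg.Agent.LsF.dExistsFin_eq, Cfsg.Agent.LsF.decide_eq])); decide +kernel)

theorem sl3_fact2 : ∀ c : S3, c * c * c = 1 → c ≠ 1 → ∀ g : S3, ∃ x : S3, ∃ k : Fin 3,
    x * x * (x * x) = 1 ∧ g = x * c ^ (k : ℕ) := by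
  have h : ∀ (i : Fin 24) (k : ℕ), el i ^ k = el (Nat.rec 0 (fun _ r => ml r i) k) := fun i k => by
    induction k with
    | zero => exact (pow_zero _).trans el_one
    | succ k ih => rw [pow_succ, ih, el_mul]
  simp only [el_surj.forall, h, el_surj.exists, el_mul, el_inv, el_one, ne_eq, el_inj.eq_iff]
  (refine of_decide_eq_true ?_; (try (rewrite [Cfsg.Agent.LsF.dAnd_eq, Cfsg.Agent.LsF.dNot_eq, Cfsg.Agent.LsF.dFinEq_eq, Cfsg.Agent.LsF.dForallFin_eq, Cfsg.Agent.LsF.dExistsFin_eq, Cfsg.Agent.LsF.decide_eq])); decide +kernel)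

theorem sl3_fact3 : ∀ x y : S3, x * x * (x * x) = 1 → y * y * (y * y) = 1 →
    x * y * (x * y) * ((x * y) * (x * y)) = 1 := by
  simp only [el_surj.forall, el_surj.exists, el_mul, el_inv, el_one, ne_eq, el_inj.eq_iff]
  decide +kernel

theorem sl3_fact4 : ∃ x y : S3, x * x * (x * x) = 1 ∧ y * y * (y * y) = 1 ∧ x * y ≠ y * x := by
  simp only [el_surj.forall, el_surj.exists, el_mul, el_inv, el_one, ne_eq, el_inj.eq_iff]
  decide +kernel

theorem sl3_fact5 : ∃ c : S3, c * c * c = 1 ∧ c ≠ 1 := by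
  simp only [el_surj.forall, el_surj.exists, el_mul, el_inv, el_one, ne_eq, el_inj.eq_iff]
  decide +kernel

theorem sl3_center : ∀ x : S3, (∀ y, x * y = y * x) → x * x = 1 := by
  simp only [el_surj.forall, el_surj.exists, el_mul, el_inv, el_one, ne_eq, el_inj.eq_iff]
  decide +kernel

/-- in `SL₂(3)` two elements of order dividing 4 generate a group in which all commutators are ±1 -/
theorem sl3_fact6 : ∀ x y : S3, x * x * (x * x) = 1 → y * y * (y * y) = 1 →
    (x * y * x⁻¹ * y⁻¹) * (x * y * x⁻¹ * y⁻¹) = 1 := by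
  simp only [el_surj.forall, el_surj.exists, el_mul, el_inv, el_one, ne_eq, el_inj.eq_iff]
  decide +kernel

theorem sl3_fact8 : ∀ x y : S3, (x * y * x⁻¹ * y⁻¹) * (x * y * x⁻¹ * y⁻¹) *
    ((x * y * x⁻¹ * y⁻¹) * (x * y * x⁻¹ * y⁻¹)) = 1 := by
  simp only [el_surj.forall, el_surj.exists, el_mul, el_inv, el_one, ne_eq, el_inj.eq_iff]
  decide +kernel

theorem sl3_fact9 : ∀ x y : S3, x * x = 1 → x * y = y * x := by
  simp only [el_surj.forall, el_surj.exists, el_mul, el_inv, el_one, ne_eq, el_inj.eq_iff]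
  decide +kernel

end Cfsg.Agent.Cit.LongSL3
end

-- part: Cit/LongAbs
section
/-!
# Subnormal `SL₂`-subgroups of an involution centraliser (abstract part)

`X` is a finite group with two commuting subnormal subgroups `E₁ ≅ SL₂(F)` and `E₂` (`≅ SL₂(F)`, quasisimple
or trivial) whose product has an abelian centraliser.  A subnormal `K ≅ SL₂(F')` which shares an involution
with `E₁` (and, in the first alternative, `E₂`) is `E₁` or `E₂`.
-/

set_option autoImplicit false

namespace Cfsg.Agent.Cit.LongAbs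

open Subgroup Cfsg Cfsg.Agent.SignalizersComponents Cfsg.Agent.SignalizersComponents.Components
  Cfsg.Agent.Cit.LongSL3
open scoped commutatorElement

theorem equiv_S3 {F : Type*} [Field F] [Fintype F] (h : Fintype.card F = 3) :
    Nonempty (Matrix.SpecialLinearGroup (Fin 2) F ≃* S3) :=
  ⟨Cfsg.Agent.LieClassical.FieldTransfer.slCongr
    (ZMod.ringEquivOfPrime F Nat.prime_three h).symm⟩

theorem quasisimple_SL2 {F : Type*} [Field F] [Fintype F] (ho : Odd (Fintype.card F))
    (h : Fintype.card F ≠ 3) : IsQuasisimple (Matrix.SpecialLinearGroup (Fin 2) F) := by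
  apply SLQuasisimple.isQuasisimple_two
  rw [Nat.card_eq_fintype_card]
  have h1 : 1 < Fintype.card F := Fintype.one_lt_card
  obtain ⟨k, hk⟩ := ho
  omega

variable {X : Type*} [Group X]

theorem le_of_le_commutator {A K : Subgroup X} (hK : K.IsSubnormal) (h : A ≤ ⁅A, K⁆) : A ≤ K := by
  induction hK with
  | top => exact le_top
  | step H L hle _ hN ih =>
    have h1 : A ≤ L := ih (h.trans (commutator_mono le_rfl hle))
    have h2 : ⁅L, H⁆ ≤ H := by
      rw [commutator_le]
      intro l hl g hg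
      have h3 := hN.conj_mem ⟨g, hle hg⟩ (mem_subgroupOf.2 hg) ⟨l, hl⟩
      have h4 : l * g * l⁻¹ ∈ H := mem_subgroupOf.1 h3
      rw [commutatorElement_def]
      exact H.mul_mem h4 (H.inv_mem hg)
    exact h.trans ((commutator_mono h1 le_rfl).trans h2)

/-! ### subgroups isomorphic to `SL₂(3)` -/

/-- the elements of order dividing 4 -/
def QQ4 (E : Subgroup X) : Subgroup X := closure {x | x ∈ E ∧ x * x * (x * x) = 1}

section S3
variable {E : Subgroup X} (e : E ≃* S3)
include e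

theorem mem_QQ4 {x : X} : x ∈ QQ4 E ↔ x ∈ E ∧ x * x * (x * x) = 1 := by
  constructor
  · intro hx
    refine closure_induction (p := fun y _ => y ∈ E ∧ y * y * (y * y) = 1) ?_ ?_ ?_ ?_ hx
    · intro y hy; exact hy
    · exact ⟨E.one_mem, by simp⟩
    · rintro a b _ _ ⟨ha, ha'⟩ ⟨hb, hb'⟩
      refine ⟨E.mul_mem ha hb, ?_⟩
      have h := sl3_fact3 (e ⟨a, ha⟩) (e ⟨b, hb⟩)
        (by rw [← map_mul, ← map_mul, ← map_one e]; congr 1; exact Subtype.ext ha')
        (by rw [← map_mul, ← map_mul, ← map_one e]; congr 1; exact Subtype.ext hb')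
      rw [← map_mul, ← map_mul, ← map_mul, ← map_one e] at h
      exact congrArg Subtype.val (e.injective h)
    · rintro a _ ⟨ha, ha'⟩
      refine ⟨E.inv_mem ha, ?_⟩
      have : a⁻¹ * a⁻¹ * (a⁻¹ * a⁻¹) = (a * a * (a * a))⁻¹ := by group
      rw [this, ha', inv_one]
  · intro h; exact subset_closure h

theorem QQ4_le : QQ4 E ≤ E := fun _ hx => ((mem_QQ4 e).1 hx).1

/-- elements `x` of order dividing 4 as product of commutators with `c` -/
theorem exists_comm {c x : X} (hc : c ∈ E) (hc3 : c * c * c = 1) (hc1 : c ≠ 1) (hx : x ∈ QQ4 E) :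
    ∃ u ∈ QQ4 E, ∃ v ∈ QQ4 E, x = (u * c * u⁻¹ * c⁻¹) * (v * c * v⁻¹ * c⁻¹) := by
  obtain ⟨hxE, hx4⟩ := (mem_QQ4 e).1 hx
  obtain ⟨u, v, hu, hv, huv⟩ := sl3_fact1 (e ⟨c, hc⟩)
    (by rw [← map_mul, ← map_mul, ← map_one e]; congr 1; exact Subtype.ext hc3)
    (by
      intro h
      rw [← map_one e] at h
      exact hc1 (congrArg Subtype.val (e.injective h)))
    (e ⟨x, hxE⟩) (by rw [← map_mul, ← map_mul, ← map_one e]; congr 1; exact Subtype.ext hx4)
  refine ⟨e.symm u, (mem_QQ4 e).2 ⟨(e.symm u).2, ?_⟩, e.symm v, (mem_QQ4 e).2 ⟨(e.symm v).2, ?_⟩, ?_⟩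
  · have h := congrArg (fun y => ((e.symm y : E) : X)) hu
    simpa using h
  · have h := congrArg (fun y => ((e.symm y : E) : X)) hv
    simpa using h
  · have h := congrArg (fun y => ((e.symm y : E) : X)) huv
    simpa using h

theorem QQ4_le_commutator {c c1 c2 : X} (hc : c = c1 * c2) (hc1 : c1 ∈ E) (h3 : c1 * c1 * c1 = 1)
    (h1 : c1 ≠ 1) (h2 : ∀ u ∈ E, u * c2 = c2 * u) : QQ4 E ≤ ⁅QQ4 E, zpowers c⁆ := by
  have key : ∀ u ∈ QQ4 E, u * c1 * u⁻¹ * c1⁻¹ ∈ ⁅QQ4 E, zpowers c⁆ := by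
    intro u hu
    have h4 : u * c1 * u⁻¹ * c1⁻¹ = ⁅u, c⁆ := by
      rw [commutatorElement_def, hc]
      have h5 := h2 u⁻¹ (E.inv_mem (QQ4_le e hu))
      have h6 := h2 c1⁻¹ (E.inv_mem hc1)
      calc u * c1 * u⁻¹ * c1⁻¹ = u * c1 * u⁻¹ * (c2 * c2⁻¹) * c1⁻¹ := by group
        _ = u * c1 * (u⁻¹ * c2) * c2⁻¹ * c1⁻¹ := by group
        _ = u * c1 * (c2 * u⁻¹) * c2⁻¹ * c1⁻¹ := by rw [h5]
        _ = u * (c1 * c2) * u⁻¹ * (c1 * c2)⁻¹ := by group
    rw [h4]
    exact commutator_mem_commutator hu (mem_zpowers c)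
  intro x hx
  obtain ⟨u, hu, v, hv, rfl⟩ := exists_comm e hc1 h3 h1 hx
  exact mul_mem (key u hu) (key v hv)

theorem exists_mul_pow {c g : X} (hc : c ∈ E) (hc3 : c * c * c = 1) (hc1 : c ≠ 1) (hg : g ∈ E) :
    ∃ x ∈ QQ4 E, ∃ k : ℕ, g = x * c ^ k := by
  obtain ⟨x, k, hx, hk⟩ := sl3_fact2 (e ⟨c, hc⟩)
    (by rw [← map_mul, ← map_mul, ← map_one e]; congr 1; exact Subtype.ext hc3)
    (by
      intro h
      rw [← map_one e] at h
      exact hc1 (congrArg Subtype.val (e.injective h)))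
    (e ⟨g, hg⟩)
  refine ⟨e.symm x, (mem_QQ4 e).2 ⟨(e.symm x).2, ?_⟩, k, ?_⟩
  · have h := congrArg (fun y => ((e.symm y : E) : X)) hx
    simpa using h
  · have h := congrArg (fun y => ((e.symm y : E) : X)) hk
    simpa using h

theorem exists_three : ∃ c ∈ E, c * c * c = 1 ∧ c ≠ 1 := by
  obtain ⟨c, hc, hc1⟩ := sl3_fact5
  refine ⟨e.symm c, (e.symm c).2, ?_, ?_⟩
  · have h := congrArg (fun y => ((e.symm y : E) : X)) hc
    simpa using h
  · intro h
    apply hc1
    have h2 : e.symm c = 1 := Subtype.ext h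
    simpa using congrArg e h2

/-- `E` is generated by its elements of order 3 -/
theorem le_of_three {H : Subgroup X} (h : ∀ c ∈ E, c * c * c = 1 → c ∈ H) : E ≤ H := by
  obtain ⟨c, hc, hc3, hc1⟩ := exists_three e
  have hcH := h c hc hc3
  have key : ∀ u ∈ E, u * c * u⁻¹ * c⁻¹ ∈ H := by
    intro u hu
    refine H.mul_mem (h _ (E.mul_mem (E.mul_mem hu hc) (E.inv_mem hu)) ?_) (H.inv_mem hcH)
    calc u * c * u⁻¹ * (u * c * u⁻¹) * (u * c * u⁻¹) = u * (c * c * c) * u⁻¹ := by group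
      _ = 1 := by rw [hc3]; group
  intro g hg
  obtain ⟨x, hx, k, rfl⟩ := exists_mul_pow e hc hc3 hc1 hg
  obtain ⟨u, hu, v, hv, rfl⟩ := exists_comm e hc hc3 hc1 hx
  exact H.mul_mem (H.mul_mem (key u (QQ4_le e hu)) (key v (QQ4_le e hv))) (H.pow_mem hcH k)

theorem card_E : Nat.card E = 24 := by
  rw [Nat.card_congr e.toEquiv, Nat.card_eq_fintype_card, sl3_card]

theorem nonabelian : ∃ x ∈ QQ4 E, ∃ y ∈ QQ4 E, x * y ≠ y * x := by
  obtain ⟨x, y, hx, hy, hxy⟩ := sl3_fact4
  refine ⟨e.symm x, (mem_QQ4 e).2 ⟨(e.symm x).2, ?_⟩, e.symm y, (mem_QQ4 e).2 ⟨(e.symm y).2, ?_⟩, ?_⟩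
  · have h := congrArg (fun y => ((e.symm y : E) : X)) hx
    simpa using h
  · have h := congrArg (fun y => ((e.symm y : E) : X)) hy
    simpa using h
  · intro h
    apply hxy
    have h2 : e.symm (x * y) = e.symm (y * x) := by
      apply Subtype.ext
      simpa using h
    exact e.symm.injective h2

theorem isSolvable_E : Group.IsSolvable E := by
  have h : Group.IsSolvable S3 := by
    have d1 : ∀ x ∈ derivedSeries S3 1, x * x * (x * x) = 1 := by
      intro x hx
      have h0 : derivedSeries S3 1 ≤ QQ4 (⊤ : Subgroup S3) := by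
        rw [derivedSeries_succ, derivedSeries_zero, commutator_le]
        intro a _ b _
        refine (mem_QQ4 Subgroup.topEquiv).2 ⟨mem_top _, ?_⟩
        exact sl3_fact8 a b
      exact ((mem_QQ4 (E := (⊤ : Subgroup S3)) Subgroup.topEquiv).1 (h0 hx)).2
    have d2 : ∀ x ∈ derivedSeries S3 2, x * x = 1 := by
      intro x hx
      rw [derivedSeries_succ] at hx
      refine closure_induction (p := fun y _ => y * y = 1) ?_ ?_ ?_ ?_ hx
      · rintro _ ⟨a, ha, b, hb, rfl⟩
        exact sl3_fact6 a b (d1 a ha) (d1 b hb)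
      · simp
      · intro a b _ _ ha hb
        calc a * b * (a * b) = a * (b * a) * b := by group
          _ = a * (a * b) * b := by rw [sl3_fact9 a b ha]
          _ = (a * a) * (b * b) := by group
          _ = 1 := by rw [ha, hb, one_mul]
      · intro a _ ha
        calc a⁻¹ * a⁻¹ = (a * a)⁻¹ := by group
          _ = 1 := by rw [ha, inv_one]
    refine ⟨⟨3, ?_⟩⟩
    rw [eq_bot_iff, derivedSeries_succ, commutator_le]
    intro a ha b _
    rw [mem_bot, commutatorElement_def, sl3_fact9 a b (d2 a ha)]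
    group
  exact Group.isSolvable_of_isSolvable_injective (f := e.toMonoidHom) e.injective

end S3

theorem mem_sup_comm {E1 E2 : Subgroup X} (hc : ∀ x ∈ E1, ∀ y ∈ E2, x * y = y * x) {x : X}
    (hx : x ∈ E1 ⊔ E2) : ∃ a ∈ E1, ∃ b ∈ E2, x = a * b := by
  rw [sup_eq_closure] at hx
  refine closure_induction (p := fun y _ => ∃ a ∈ E1, ∃ b ∈ E2, y = a * b) ?_ ?_ ?_ ?_ hx
  · rintro y (hy | hy)
    · exact ⟨y, hy, 1, E2.one_mem, by simp⟩
    · exact ⟨1, E1.one_mem, y, hy, by simp⟩
  · exact ⟨1, E1.one_mem, 1, E2.one_mem, by simp⟩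
  · rintro _ _ _ _ ⟨a, ha, b, hb, rfl⟩ ⟨a', ha', b', hb', rfl⟩
    refine ⟨a * a', E1.mul_mem ha ha', b * b', E2.mul_mem hb hb', ?_⟩
    have := hc a' ha' b hb
    calc a * b * (a' * b') = a * (b * a') * b' := by group
      _ = a * (a' * b) * b' := by rw [this]
      _ = a * a' * (b * b') := by group
  · rintro _ _ ⟨a, ha, b, hb, rfl⟩
    refine ⟨a⁻¹, E1.inv_mem ha, b⁻¹, E2.inv_mem hb, ?_⟩
    have := hc a ha b hb
    rw [this]
    group

/-- a quasisimple subnormal subgroup and a subnormal `SL₂(F')` are equal or commute -/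
theorem eq_or_commute [Finite X] {K E : Subgroup X} {F' : Type*} [Field F'] [Fintype F']
    (ho : Odd (Fintype.card F')) (hK : K.IsSubnormal)
    (eK : K ≃* Matrix.SpecialLinearGroup (Fin 2) F') (hE : IsComponent E) :
    K = E ∨ ⁅K, E⁆ = ⊥ := by
  rcases component_le_or_commutator_eq_bot hE hK with h | h
  · by_cases h3 : Fintype.card F' = 3
    · exfalso
      obtain ⟨f⟩ := equiv_S3 h3
      have h1 : Group.IsSolvable K := isSolvable_E (eK.trans f)
      exact quasisimple_not_isSolvable hE.2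
        (Group.isSolvable_of_isSolvable_injective (f := inclusion h) (inclusion_injective h))
    · have hKc : IsComponent K := ⟨hK, ComponentNormalize.quasisimple_congr eK.symm
        (quasisimple_SL2 ho h3)⟩
      by_cases hne : K = E
      · exact Or.inl hne
      · exact Or.inr (component_commutator_eq_bot_of_ne hKc hE hne)
  · right; rwa [commutator_comm]

theorem not_comm_of_equiv {K : Subgroup X} {F' : Type*} [Field F'] [Fintype F']
    (ho : Odd (Fintype.card F')) (eK : K ≃* Matrix.SpecialLinearGroup (Fin 2) F') :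
    ¬ ∀ x ∈ K, ∀ y ∈ K, x * y = y * x := by
  intro h
  by_cases h3 : Fintype.card F' = 3
  · obtain ⟨f⟩ := equiv_S3 h3
    obtain ⟨x, hx, y, hy, hxy⟩ := nonabelian (eK.trans f)
    exact hxy (h x (QQ4_le (eK.trans f) hx) y (QQ4_le (eK.trans f) hy))
  · have hq : IsQuasisimple K := ComponentNormalize.quasisimple_congr eK.symm (quasisimple_SL2 ho h3)
    apply quasisimple_not_isMulCommutative hq
    exact ⟨⟨fun a b => Subtype.ext (h a a.2 b b.2)⟩⟩

/-- **Abstract form of F(L)**. -/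
theorem eq_or_eq [Finite X] {K E1 E2 : Subgroup X} {F F' : Type*} [Field F] [Fintype F]
    [Field F'] [Fintype F'] (ho : Odd (Fintype.card F)) (ho' : Odd (Fintype.card F'))
    (hK : K.IsSubnormal) (eK : K ≃* Matrix.SpecialLinearGroup (Fin 2) F')
    (h1 : E1.IsSubnormal) (e1 : E1 ≃* Matrix.SpecialLinearGroup (Fin 2) F) (h2 : E2.IsSubnormal)
    (hc : ∀ x ∈ E1, ∀ y ∈ E2, x * y = y * x) {z : X} (hzK : z ∈ K) 
    (hE2 : Nonempty (E2 ≃* Matrix.SpecialLinearGroup (Fin 2) F) ∨
      (IsQuasisimple E2 ∧ z ∉ E2 ∧ (Fintype.card F = 3 → center E2 = ⊥)) ∨ E2 = ⊥)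
    (hab : ∀ x ∈ centralizer ((E1 ⊔ E2 : Subgroup X) : Set X),
      ∀ y ∈ centralizer ((E1 ⊔ E2 : Subgroup X) : Set X), x * y = y * x)
    (h3 : Fintype.card F = 3 → ∀ x : X, x * x * x = 1 → x ∈ E1 ⊔ E2) : K = E1 ∨ K = E2 := by
  -- not both commutators are trivial
  have hnot : ¬ (⁅K, E1⁆ = ⊥ ∧ ⁅K, E2⁆ = ⊥) := by
    rintro ⟨ha, hb⟩
    rw [commutator_eq_bot_iff_le_centralizer] at ha hb
    have hle : K ≤ centralizer ((E1 ⊔ E2 : Subgroup X) : Set X) := by
      intro k hk
      rw [mem_centralizer_iff]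
      intro w hw
      obtain ⟨a, ha', b, hb', rfl⟩ := mem_sup_comm hc hw
      have h4 := mem_centralizer_iff.1 (ha hk) a ha'
      have h5 := mem_centralizer_iff.1 (hb hk) b hb'
      calc a * b * k = a * (b * k) := by group
        _ = (a * k) * b := by rw [h5]; group
        _ = k * (a * b) := by rw [h4]; group
    exact not_comm_of_equiv ho' eK (fun x hx y hy => hab x (hle hx) y (hle hy))
  by_cases hF : Fintype.card F = 3
  · -- E1 is SL₂(3)
    obtain ⟨f⟩ := equiv_S3 hF
    have hs1 : Group.IsSolvable E1 := isSolvable_E (e1.trans f)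
    by_cases hF' : Fintype.card F' = 3
    · obtain ⟨f'⟩ := equiv_S3 hF'
      have eK' := eK.trans f'
      have e1' := e1.trans f
      rcases hE2 with ⟨⟨e2⟩⟩ | ⟨hq, hz, hce⟩ | hb
      · -- both `SL₂(3)`
        have e2' := e2.trans f
        -- decomposition of the elements of order 3
        have hdec : ∀ c ∈ K, c * c * c = 1 → ∃ a ∈ E1, ∃ b ∈ E2, c = a * b ∧ a * a * a = 1 ∧
            b * b * b = 1 := by
          intro c _ hc3
          obtain ⟨a, ha, b, hb, hab'⟩ := mem_sup_comm hc (h3 hF c hc3)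
          have hcab := hc a ha b hb
          have h6 : a * a * a * (b * b * b) = 1 := by
            rw [← hc3, hab']
            have e1 : a * b * (a * b) * (a * b) = a * (b * a) * (b * a) * b := by group
            rw [e1, ← hcab]
            have e2 : a * (a * b) * (a * b) * b = a * a * (b * a) * b * b := by group
            rw [e2, ← hcab]
            group
          -- t := a³ is in the centre
          have ht : a * a * a = (b * b * b)⁻¹ := by rw [mul_eq_one_iff_eq_inv] at h6; exact h6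
          have htE2 : a * a * a ∈ E2 := by
            rw [ht]; exact E2.inv_mem (E2.mul_mem (E2.mul_mem hb hb) hb)
          have htE1 : a * a * a ∈ E1 := E1.mul_mem (E1.mul_mem ha ha) ha
          have ht2 : (a * a * a) * (a * a * a) = 1 := by
            have h7 := sl3_center (e1' ⟨_, htE1⟩) (by
              intro y
              have h8 := hc (e1'.symm y) (e1'.symm y).2 _ htE2
              have h9 : (⟨a * a * a, htE1⟩ : E1) * e1'.symm y = e1'.symm y * ⟨a * a * a, htE1⟩ :=
                Subtype.ext h8.symm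
              simpa using congrArg e1' h9)
            rw [← map_mul, ← map_one e1'] at h7
            exact congrArg Subtype.val (e1'.injective h7)
          have htc : ∀ w ∈ E1 ⊔ E2, (a * a * a) * w = w * (a * a * a) := by
            intro w hw
            obtain ⟨u, hu, v, hv, rfl⟩ := mem_sup_comm hc hw
            have h8 := hc u hu _ htE2
            have h9 := hc _ htE1 v hv
            calc a * a * a * (u * v) = (a * a * a * u) * v := by group
              _ = u * (a * a * a * v) := by rw [← h8]; group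
              _ = u * v * (a * a * a) := by rw [h9]; group
          set t := a * a * a with htdef
          have hta : t * a = a * t := by rw [htdef]; group
          refine ⟨a * t, E1.mul_mem ha htE1, t * b, E2.mul_mem htE2 hb, ?_, ?_, ?_⟩
          · rw [hab']
            calc a * b = a * (t * t) * b := by rw [ht2]; group
              _ = a * t * (t * b) := by group
          · calc a * t * (a * t) * (a * t) = a * (t * a) * (t * a) * t := by group
              _ = a * (a * t) * (a * t) * t := by rw [hta]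
              _ = a * a * (t * a) * t * t := by group
              _ = a * a * (a * t) * t * t := by rw [hta]
              _ = (a * a * a) * (t * (t * t)) := by group
              _ = t * (t * (t * t)) := by rw [← htdef]
              _ = 1 := by rw [ht2, mul_one, ht2]
          · have htb : t * b = b * t := htc b (le_sup_right (a := E1) hb)
            have hb3 : b * b * b = t := by
              have : t⁻¹ = t := inv_eq_of_mul_eq_one_left ht2
              rw [← this, ht, inv_inv]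
            calc t * b * (t * b) * (t * b) = t * (b * t) * (b * t) * b := by group
              _ = t * t * b * (b * t) * b := by rw [← htb]; group
              _ = t * t * b * t * b * b := by rw [← htb]; group
              _ = t * t * t * (b * b * b) := by
                  rw [mul_assoc (t * t) b t, ← htb]; group
              _ = (t * t) * (t * t) := by rw [hb3]; group
              _ = 1 := by rw [ht2, mul_one]
        have hQ1 : ∀ a ∈ E1, ∀ b ∈ E2, a * b ∈ K → a * a * a = 1 → a ≠ 1 → QQ4 E1 ≤ K := by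
          intro a ha b hb habK ha3 ha1
          apply le_of_le_commutator hK
          refine (QQ4_le_commutator e1' (c := a * b) rfl ha ha3 ha1
            (fun u hu => hc u hu b hb)).trans (commutator_mono le_rfl ?_)
          rw [zpowers_le]; exact habK
        have hQ2 : ∀ a ∈ E1, ∀ b ∈ E2, a * b ∈ K → b * b * b = 1 → b ≠ 1 → QQ4 E2 ≤ K := by
          intro a ha b hb habK hb3 hb1
          apply le_of_le_commutator hK
          refine (QQ4_le_commutator e2' (c := a * b) (hc a ha b hb) hb hb3 hb1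
            (fun u hu => (hc a ha u hu).symm)).trans (commutator_mono le_rfl ?_)
          rw [zpowers_le]; exact habK
        have hno : ¬ (QQ4 E1 ≤ K ∧ QQ4 E2 ≤ K) := by
          rintro ⟨hA, hB⟩
          have q1 : QQ4 E1 ≤ QQ4 K := fun x hx => (mem_QQ4 eK').2 ⟨hA hx, ((mem_QQ4 e1').1 hx).2⟩
          have q2 : QQ4 E2 ≤ QQ4 K := fun x hx => (mem_QQ4 eK').2 ⟨hB hx, ((mem_QQ4 e2').1 hx).2⟩
          -- cardinalities: QQ4 of each is carried by the isomorphism to the same set
          have card_eq : ∀ {E E' : Subgroup X} (e : E ≃* S3) (e' : E' ≃* S3),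
              Nat.card (QQ4 E) = Nat.card (QQ4 E') := by
            intro E E' e e'
            refine Nat.card_congr ⟨fun x => ⟨e'.symm (e ⟨x, QQ4_le e x.2⟩), ?_⟩,
              fun x => ⟨e.symm (e' ⟨x, QQ4_le e' x.2⟩), ?_⟩, ?_, ?_⟩
            · refine (mem_QQ4 e').2 ⟨Subtype.property _, ?_⟩
              have h7 := ((mem_QQ4 e).1 x.2).2
              have h8 : (⟨(x : X), QQ4_le e x.2⟩ : E) * ⟨(x : X), QQ4_le e x.2⟩ *
                (⟨(x : X), QQ4_le e x.2⟩ * ⟨(x : X), QQ4_le e x.2⟩) = 1 := Subtype.ext h7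
              have h9 : e'.symm (e ⟨x, QQ4_le e x.2⟩) * e'.symm (e ⟨x, QQ4_le e x.2⟩) *
                  (e'.symm (e ⟨x, QQ4_le e x.2⟩) * e'.symm (e ⟨x, QQ4_le e x.2⟩)) = 1 := by
                rw [← map_mul, ← map_mul, ← map_mul, ← map_mul, h8, map_one, map_one]
              exact congrArg Subtype.val h9
            · refine (mem_QQ4 e).2 ⟨Subtype.property _, ?_⟩
              have h7 := ((mem_QQ4 e').1 x.2).2
              have h8 : (⟨(x : X), QQ4_le e' x.2⟩ : E') * ⟨(x : X), QQ4_le e' x.2⟩ *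
                (⟨(x : X), QQ4_le e' x.2⟩ * ⟨(x : X), QQ4_le e' x.2⟩) = 1 := Subtype.ext h7
              have h9 : e.symm (e' ⟨x, QQ4_le e' x.2⟩) * e.symm (e' ⟨x, QQ4_le e' x.2⟩) *
                  (e.symm (e' ⟨x, QQ4_le e' x.2⟩) * e.symm (e' ⟨x, QQ4_le e' x.2⟩)) = 1 := by
                rw [← map_mul, ← map_mul, ← map_mul, ← map_mul, h8, map_one, map_one]
              exact congrArg Subtype.val h9
            · intro x; simp
            · intro x; simp
          have r1 : QQ4 E1 = QQ4 K :=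
            Subgroup.eq_of_le_of_card_ge q1 (card_eq eK' e1').le
          have r2 : QQ4 E2 = QQ4 K :=
            Subgroup.eq_of_le_of_card_ge q2 (card_eq eK' e2').le
          obtain ⟨x, hx, y, hy, hxy⟩ := nonabelian e1'
          apply hxy
          have hy2 : y ∈ QQ4 E2 := by rw [r2, ← r1]; exact hy
          exact hc x (QQ4_le e1' hx) y (QQ4_le e2' hy2)
        obtain ⟨c, hcK, hc3, hc1⟩ := exists_three eK'
        obtain ⟨a, ha, b, hb, rfl, ha3, hb3⟩ := hdec c hcK hc3
        by_cases ha1 : a = 1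
        · right
          have hb1 : b ≠ 1 := by rintro rfl; exact hc1 (by rw [ha1, mul_one])
          have hQ := hQ2 a ha b hb hcK hb3 hb1
          have hbK : b ∈ K := by rw [ha1, one_mul] at hcK; exact hcK
          have hle : E2 ≤ K := by
            intro g hg
            obtain ⟨x, hx, k, rfl⟩ := exists_mul_pow e2' hb hb3 hb1 hg
            exact K.mul_mem (hQ hx) (K.pow_mem hbK k)
          exact (Subgroup.eq_of_le_of_card_ge hle (by rw [card_E eK', card_E e2'])).symm
        · by_cases hb1 : b = 1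
          · left
            have hQ := hQ1 a ha b hb hcK ha3 ha1
            have haK : a ∈ K := by rw [hb1, mul_one] at hcK; exact hcK
            have hle : E1 ≤ K := by
              intro g hg
              obtain ⟨x, hx, k, rfl⟩ := exists_mul_pow e1' ha ha3 ha1 hg
              exact K.mul_mem (hQ hx) (K.pow_mem haK k)
            exact (Subgroup.eq_of_le_of_card_ge hle (by rw [card_E eK', card_E e1'])).symm
          · exact absurd ⟨hQ1 a ha b hb hcK ha3 ha1, hQ2 a ha b hb hcK hb3 hb1⟩ hno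
      · -- `E2` quasisimple
        rcases eq_or_commute ho' hK eK ⟨h2, hq⟩ with h | h
        · exact Or.inr h
        · left
          rw [commutator_eq_bot_iff_le_centralizer] at h
          have hle : K ≤ E1 := by
            refine le_of_three eK' fun c hcK hc3 => ?_
            obtain ⟨a, ha, b, hb, rfl⟩ := mem_sup_comm hc (h3 hF c hc3)
            have hb0 : (⟨b, hb⟩ : E2) ∈ center E2 := by
              rw [mem_center_iff]
              intro w
              apply Subtype.ext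
              have h8 := mem_centralizer_iff.1 (h hcK) w w.2
              have h9 := hc a ha w w.2
              have h10 : a * (w * b) = a * (b * w) := by
                calc a * (w * b) = (a * w) * b := by group
                  _ = w * (a * b) := by rw [h9]; group
                  _ = a * b * w := h8
                  _ = a * (b * w) := by group
              exact mul_left_cancel h10
            rw [hce hF, mem_bot] at hb0
            have hb1 : b = 1 := congrArg Subtype.val hb0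
            rw [hb1, mul_one]; exact ha
          exact Subgroup.eq_of_le_of_card_ge hle (by rw [card_E eK', card_E e1'])
      · left
        subst hb
        have hle : K ≤ E1 := by
          refine le_of_three eK' fun c hcK hc3 => ?_
          have := h3 hF c hc3
          rwa [sup_bot_eq] at this
        exact Subgroup.eq_of_le_of_card_ge hle (by rw [card_E eK', card_E e1'])
    · -- K quasisimple
      exfalso
      have hKc : IsComponent K := ⟨hK, ComponentNormalize.quasisimple_congr eK.symm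
        (quasisimple_SL2 ho' hF')⟩
      have hsolv : ∀ E : Subgroup X, E.IsSubnormal → Group.IsSolvable E → ⁅K, E⁆ = ⊥ := by
        intro E hE hsE
        rcases component_le_or_commutator_eq_bot hKc hE with h | h
        · exact absurd (Group.isSolvable_of_isSolvable_injective (f := inclusion h)
            (inclusion_injective h)) (quasisimple_not_isSolvable hKc.2)
        · exact h
      refine hnot ⟨hsolv E1 h1 hs1, ?_⟩
      rcases hE2 with ⟨⟨e2⟩⟩ | ⟨hq, hz, -⟩ | hb
      · exact hsolv E2 h2 (isSolvable_E (e2.trans f))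
      · rcases eq_or_commute ho' hK eK ⟨h2, hq⟩ with h | h
        · exact absurd (h ▸ hzK) hz
        · exact h
      · rw [hb]; exact commutator_bot_right K
  · -- E1 quasisimple
    have hq1 : IsQuasisimple E1 := ComponentNormalize.quasisimple_congr e1.symm
      (quasisimple_SL2 ho hF)
    rcases eq_or_commute ho' hK eK ⟨h1, hq1⟩ with h | h
    · exact Or.inl h
    · rcases hE2 with ⟨⟨e2⟩⟩ | ⟨hq, hz, -⟩ | hb
      · have hq2 : IsQuasisimple E2 := ComponentNormalize.quasisimple_congr e2.symm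
          (quasisimple_SL2 ho hF)
        rcases eq_or_commute ho' hK eK ⟨h2, hq2⟩ with h' | h'
        · exact Or.inr h'
        · exact absurd ⟨h, h'⟩ hnot
      · rcases eq_or_commute ho' hK eK ⟨h2, hq⟩ with h' | h'
        · exact Or.inr h'
        · exact absurd ⟨h, h'⟩ hnot
      · exact absurd ⟨h, by rw [hb]; exact commutator_bot_right K⟩ hnot

end Cfsg.Agent.Cit.LongAbs
end
end

-- part: Cit/LongInst
section
set_option linter.all false
open scoped Cfsg.Agent.FastGrp

-- part: Cit/LongBlock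
section
/-!
# Block matrices and the centraliser of `diag(-1,-1,1,…,1)`

`R : RepG Γ F μ κ` is a faithful matrix representation of `Γ` with index set `μ ⊕ κ` such that central
elements are scalar and `t = diag(-1,…,-1,1,…,1)` lies in `Γ`.  `R.E1` and `R.E2` are the two block subgroups.
`Rep Γ F κ` is the case `μ = Fin 2`.
-/

set_option autoImplicit false

namespace Cfsg.Agent.Cit.LongBlock

open Subgroup Cfsg Matrix Cfsg.Agent.Cit.LongAbs

variable {Γ : Type*} [Group Γ] {F : Type*} [Field F] {κ : Type*} [Fintype κ] [DecidableEq κ]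
  {μ : Type*} [Fintype μ] [DecidableEq μ]

/-- matrix representation on `μ ⊕ κ` -/
structure RepG (Γ : Type*) [Group Γ] (F : Type*) [Field F] (μ : Type*) [Fintype μ] [DecidableEq μ]
    (κ : Type*) [Fintype κ] [DecidableEq κ] where
  ρ : Γ →* Matrix (μ ⊕ κ) (μ ⊕ κ) F
  inj : Function.Injective ρ
  cen : ∀ g ∈ center Γ, ∃ c : F, ρ g = c • (1 : Matrix (μ ⊕ κ) (μ ⊕ κ) F)
  t : Γ
  t_eq : ρ t = fromBlocks (-1) 0 0 1

/-- the case `μ = Fin 2` -/
abbrev Rep (Γ : Type*) [Group Γ] (F : Type*) [Field F] (κ : Type*) [Fintype κ] [DecidableEq κ] :=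
  RepG Γ F (Fin 2) κ

namespace RepG

variable (R : RepG Γ F μ κ)

theorem mem_center_of_scalar {g : Γ} {c : F} (h : R.ρ g = c • 1) : g ∈ center Γ := by
  rw [mem_center_iff]
  intro x
  apply R.inj
  rw [map_mul, map_mul, h]
  simp

theorem ρ_mul_inv (g : Γ) : R.ρ g * R.ρ g⁻¹ = 1 := by rw [← map_mul, mul_inv_cancel, map_one]

theorem ρ_inv_mul (g : Γ) : R.ρ g⁻¹ * R.ρ g = 1 := by rw [← map_mul, inv_mul_cancel, map_one]

/-- commuting up to a scalar with an element of non-zero trace is commuting -/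
theorem comm_of_trace {g u : Γ} (h : g * u * g⁻¹ * u⁻¹ ∈ center Γ) (ht : trace (R.ρ u) ≠ 0) :
    g * u = u * g := by
  obtain ⟨c, hc⟩ := R.cen _ h
  have h1 : R.ρ (g * u * g⁻¹) = c • R.ρ u := by
    have h2 : g * u * g⁻¹ = (g * u * g⁻¹ * u⁻¹) * u := by group
    rw [h2, map_mul, hc, smul_mul_assoc, one_mul]
  have h3 : trace (R.ρ (g * u * g⁻¹)) = trace (R.ρ u) := by
    rw [map_mul, map_mul, trace_mul_comm, ← mul_assoc, R.ρ_inv_mul, one_mul]
  rw [h1, trace_smul, smul_eq_mul] at h3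
  have h4 : c = 1 := by
    have : (c - 1) * trace (R.ρ u) = 0 := by rw [sub_mul, h3, one_mul, sub_self]
    rcases mul_eq_zero.1 this with h | h
    · exact sub_eq_zero.1 h
    · exact absurd h ht
  rw [h4, one_smul] at h1
  have h5 : g * u * g⁻¹ = u := R.inj h1
  calc g * u = g * u * g⁻¹ * g := by group
    _ = u * g := by rw [h5]

theorem blocks_inv {g : Γ} {P S} (h : R.ρ g = fromBlocks P 0 0 S) :
    ∃ P' S', R.ρ g⁻¹ = fromBlocks P' 0 0 S' ∧ P * P' = 1 ∧ P' * P = 1 ∧ S * S' = 1 ∧ S' * S = 1 := by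
  have h0 := R.ρ_mul_inv g
  rw [h] at h0
  generalize R.ρ g⁻¹ = N at h0 ⊢
  have hN : N = fromBlocks N.toBlocks₁₁ N.toBlocks₁₂ N.toBlocks₂₁ N.toBlocks₂₂ :=
    (fromBlocks_toBlocks N).symm
  rw [hN, fromBlocks_multiply, ← fromBlocks_one, fromBlocks_inj] at h0
  simp only [Matrix.zero_mul, add_zero, zero_add] at h0
  obtain ⟨h1, h2, h3, h4⟩ := h0
  have h1' := mul_eq_one_comm.1 h1
  have h4' := mul_eq_one_comm.1 h4
  have h5 : N.toBlocks₁₂ = 0 := by
    calc N.toBlocks₁₂ = (N.toBlocks₁₁ * P) * N.toBlocks₁₂ := by rw [h1', Matrix.one_mul]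
      _ = 0 := by rw [Matrix.mul_assoc, h2, Matrix.mul_zero]
  have h6 : N.toBlocks₂₁ = 0 := by
    calc N.toBlocks₂₁ = (N.toBlocks₂₂ * S) * N.toBlocks₂₁ := by rw [h4', Matrix.one_mul]
      _ = 0 := by rw [Matrix.mul_assoc, h3, Matrix.mul_zero]
  exact ⟨_, _, by rw [h5, h6] at hN; exact hN, h1, h1', h4, h4'⟩

/-- the block subgroup on the first two basis vectors -/
def E1 : Subgroup Γ where
  carrier := {g | ∃ P, R.ρ g = fromBlocks P 0 0 1}
  one_mem' := ⟨1, by rw [map_one, fromBlocks_one]⟩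
  mul_mem' := by
    rintro a b ⟨P, hP⟩ ⟨P', hP'⟩
    exact ⟨P * P', by rw [map_mul, hP, hP', fromBlocks_multiply]; simp⟩
  inv_mem' := by
    rintro a ⟨P, hP⟩
    obtain ⟨P', S', h, h1, h2, h3, h4⟩ := R.blocks_inv hP
    exact ⟨P', by rw [h]; congr 1; rw [← h4, Matrix.mul_one]⟩

/-- the block subgroup on the remaining basis vectors -/
def E2 : Subgroup Γ where
  carrier := {g | ∃ S, R.ρ g = fromBlocks 1 0 0 S}
  one_mem' := ⟨1, by rw [map_one, fromBlocks_one]⟩
  mul_mem' := by
    rintro a b ⟨P, hP⟩ ⟨P', hP'⟩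
    exact ⟨P * P', by rw [map_mul, hP, hP', fromBlocks_multiply]; simp only [_root_.mul_one, _root_.Matrix.mul_zero, _root_.add_zero, _root_.Matrix.zero_mul, _root_.Matrix.mul_one, _root_.zero_add]⟩
  inv_mem' := by
    rintro a ⟨P, hP⟩
    obtain ⟨P', S', h, h1, h2, h3, h4⟩ := R.blocks_inv hP
    exact ⟨S', by rw [h]; congr 1; rw [← h2, Matrix.mul_one]⟩

theorem mem_E2 {g : Γ} : g ∈ R.E2 ↔ ∃ S, R.ρ g = fromBlocks 1 0 0 S := Iff.rfl

theorem comm_E1_E2 {x y : Γ} (hx : x ∈ R.E1) (hy : y ∈ R.E2) : x * y = y * x := by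
  obtain ⟨P, hP⟩ := hx
  obtain ⟨S, hS⟩ := hy
  apply R.inj
  rw [map_mul, map_mul, hP, hS, fromBlocks_multiply, fromBlocks_multiply]
  simp only [_root_.mul_one, _root_.Matrix.mul_zero, _root_.add_zero, _root_.Matrix.zero_mul, _root_.Matrix.mul_one, _root_.one_mul, _root_.zero_add]

theorem t_mem : R.t ∈ R.E1 := ⟨-1, R.t_eq⟩

theorem t_sq : R.t * R.t = 1 := by
  apply R.inj
  rw [map_mul, R.t_eq, fromBlocks_multiply, map_one, ← fromBlocks_one]
  simp

theorem t_inv : R.t⁻¹ = R.t := inv_eq_of_mul_eq_one_left R.t_sq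

/-- `C(t)` consists of block diagonal matrices -/
theorem blocks_of_comm (h2 : (2 : F) ≠ 0) {g : Γ} (h : g * R.t = R.t * g) :
    ∃ P S, R.ρ g = fromBlocks P 0 0 S := by
  have h1 := congrArg R.ρ h
  rw [map_mul, map_mul, R.t_eq] at h1
  generalize R.ρ g = N at h1 ⊢
  have hN : N = fromBlocks N.toBlocks₁₁ N.toBlocks₁₂ N.toBlocks₂₁ N.toBlocks₂₂ :=
    (fromBlocks_toBlocks N).symm
  rw [hN, fromBlocks_multiply, fromBlocks_multiply, fromBlocks_inj] at h1
  simp only [Matrix.mul_neg, Matrix.mul_one, Matrix.mul_zero, zero_add, add_zero, Matrix.neg_mul,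
    Matrix.one_mul, Matrix.zero_mul] at h1
  obtain ⟨-, h3, h4, -⟩ := h1
  have h5 : N.toBlocks₁₂ = 0 := by
    have : (2 : F) • N.toBlocks₁₂ = 0 := by
      rw [two_smul]
      nth_rewrite 1 [h3]
      exact neg_add_cancel _
    exact (smul_eq_zero.1 this).resolve_left h2
  have h6 : N.toBlocks₂₁ = 0 := by
    have : (2 : F) • N.toBlocks₂₁ = 0 := by
      rw [two_smul]
      nth_rewrite 1 [← h4]
      exact neg_add_cancel _
    exact (smul_eq_zero.1 this).resolve_left h2
  exact ⟨_, _, by rw [h5, h6] at hN; exact hN⟩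

theorem comm_t_of_blocks {g : Γ} {P S} (h : R.ρ g = fromBlocks P 0 0 S) : g * R.t = R.t * g := by
  apply R.inj
  rw [map_mul, map_mul, h, R.t_eq, fromBlocks_multiply, fromBlocks_multiply]
  simp

theorem conj_mem_E1 {g x : Γ} (hg : g * R.t = R.t * g) (h2 : (2 : F) ≠ 0) (hx : x ∈ R.E1) :
    g * x * g⁻¹ ∈ R.E1 := by
  obtain ⟨P, S, h⟩ := R.blocks_of_comm h2 hg
  obtain ⟨P', S', h', h3, h4, h5, h6⟩ := R.blocks_inv h
  obtain ⟨A, hA⟩ := hx
  refine ⟨P * A * P', ?_⟩
  rw [map_mul, map_mul, h, h', hA, fromBlocks_multiply, fromBlocks_multiply]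
  simp only [h5, _root_.Matrix.mul_zero, _root_.add_zero, _root_.Matrix.mul_one, _root_.Matrix.zero_mul, _root_.mul_one, _root_.zero_add]

theorem conj_mem_E2 {g x : Γ} (hg : g * R.t = R.t * g) (h2 : (2 : F) ≠ 0) (hx : x ∈ R.E2) :
    g * x * g⁻¹ ∈ R.E2 := by
  obtain ⟨P, S, h⟩ := R.blocks_of_comm h2 hg
  obtain ⟨P', S', h', h3, h4, h5, h6⟩ := R.blocks_inv h
  obtain ⟨A, hA⟩ := hx
  refine ⟨S * A * S', ?_⟩
  rw [map_mul, map_mul, h, h', hA, fromBlocks_multiply, fromBlocks_multiply]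
  simp only [h3, _root_.mul_one, _root_.Matrix.mul_zero, _root_.add_zero, _root_.Matrix.zero_mul, _root_.Matrix.mul_one, _root_.zero_add]

end RepG

end Cfsg.Agent.Cit.LongBlock
end

-- part: Cit/LongQuot
section
/-!
# Passage to `Γ ⧸ Z(Γ)`

`R : Rep Γ F κ` with `Γ` finite.  In `L = Γ ⧸ Z(Γ)` the images `D1`, `D2` of the block subgroups are
subnormal in the centraliser of the image of `t`, and the hypotheses of `LongAbs.eq_or_eq` hold there.
-/

set_option autoImplicit false

namespace Cfsg.Agent.Cit.LongQuot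

open Subgroup Cfsg Matrix Cfsg.Agent.Cit.LongAbs Cfsg.Agent.Cit.LongBlock

variable {Γ : Type*} [Group Γ] {F : Type*} [Field F] {κ : Type*} [Fintype κ] [DecidableEq κ]
  {μ : Type*} [Fintype μ] [DecidableEq μ]

/-- the quotient map -/
abbrev pr (Γ : Type*) [Group Γ] : Γ →* Γ ⧸ center Γ := QuotientGroup.mk' (center Γ)

theorem pr_surjective : Function.Surjective (pr Γ) := QuotientGroup.mk'_surjective _

theorem pr_eq_one {g : Γ} : pr Γ g = 1 ↔ g ∈ center Γ := QuotientGroup.eq_one_iff g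

theorem pr_comm {g h : Γ} : pr Γ g * pr Γ h = pr Γ h * pr Γ g ↔ g * h * g⁻¹ * h⁻¹ ∈ center Γ := by
  rw [← pr_eq_one, map_mul, map_mul, map_mul, map_inv, map_inv, mul_inv_eq_one, mul_inv_eq_iff_eq_mul]

variable (R : RepG Γ F μ κ)

/-- image of `E1` -/
def D1 : Subgroup (Γ ⧸ center Γ) := R.E1.map (pr Γ)
/-- image of `E2` -/
def D2 : Subgroup (Γ ⧸ center Γ) := R.E2.map (pr Γ)
/-- image of `t` -/
def z0 : Γ ⧸ center Γ := pr Γ R.t

/-- the centraliser of `z0` -/
abbrev CC : Subgroup (Γ ⧸ center Γ) := centralizer {z0 R}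

theorem mem_CC {g : Γ} : pr Γ g ∈ CC R ↔ g * R.t * g⁻¹ * R.t⁻¹ ∈ center Γ := by
  rw [CC, mem_centralizer_singleton_iff, z0, pr_comm]

theorem mem_CC_of_comm {g : Γ} (h : g * R.t = R.t * g) : pr Γ g ∈ CC R := by
  rw [mem_CC, h]
  simp [(center Γ).one_mem]

/-- image of `C(t)` -/
def C0 : Subgroup (Γ ⧸ center Γ) := (centralizer {R.t}).map (pr Γ)

theorem C0_le : C0 R ≤ CC R := by
  rintro _ ⟨g, hg, rfl⟩
  exact mem_CC_of_comm R (mem_centralizer_singleton_iff.1 hg)

theorem D1_le : D1 R ≤ C0 R := by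
  rintro _ ⟨g, hg, rfl⟩
  obtain ⟨P, hP⟩ := hg
  exact ⟨g, mem_centralizer_singleton_iff.2 (R.comm_t_of_blocks hP), rfl⟩

theorem D2_le : D2 R ≤ C0 R := by
  rintro _ ⟨g, hg, rfl⟩
  obtain ⟨P, hP⟩ := hg
  exact ⟨g, mem_centralizer_singleton_iff.2 (R.comm_t_of_blocks hP), rfl⟩

theorem C0_conj {x c : Γ ⧸ center Γ} (hx : x ∈ CC R) (hc : c ∈ C0 R) : x * c * x⁻¹ ∈ C0 R := by
  obtain ⟨g, rfl⟩ := pr_surjective x
  obtain ⟨c, hc, rfl⟩ := hc
  rw [mem_CC] at hx
  have hct : c * R.t = R.t * c := mem_centralizer_singleton_iff.1 hc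
  refine ⟨g * c * g⁻¹, ?_, by simp only [_root_.QuotientGroup.mk'_apply, _root_.QuotientGroup.mk_mul, _root_.QuotientGroup.mk_inv]⟩
  refine mem_centralizer_singleton_iff.2 ?_
  set ζ := g * R.t * g⁻¹ * R.t⁻¹ with hζ
  have hζc := mem_center_iff.1 hx
  have h1 : g * R.t * g⁻¹ = ζ * R.t := by rw [hζ]; group
  have h2 : R.t = ζ⁻¹ * (g * R.t * g⁻¹) := by rw [h1]; group
  have h3 : (g * c * g⁻¹) * ζ⁻¹ = ζ⁻¹ * (g * c * g⁻¹) := by
    have := hζc (g * c * g⁻¹)
    calc (g * c * g⁻¹) * ζ⁻¹ = ζ⁻¹ * (ζ * (g * c * g⁻¹)) * ζ⁻¹ := by group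
      _ = ζ⁻¹ * ((g * c * g⁻¹) * ζ) * ζ⁻¹ := by rw [this]
      _ = _ := by group
  calc g * c * g⁻¹ * R.t = g * c * g⁻¹ * (ζ⁻¹ * (g * R.t * g⁻¹)) := by rw [← h2]
    _ = (g * c * g⁻¹ * ζ⁻¹) * (g * R.t * g⁻¹) := by group
    _ = ζ⁻¹ * (g * (c * R.t) * g⁻¹) := by rw [h3]; group
    _ = ζ⁻¹ * (g * R.t * g⁻¹) * (g * c * g⁻¹) := by rw [hct]; group
    _ = R.t * (g * c * g⁻¹) := by rw [← h2]

variable (h2 : (2 : F) ≠ 0)
include h2

theorem D1_conj {x c : Γ ⧸ center Γ} (hx : x ∈ C0 R) (hc : c ∈ D1 R) : x * c * x⁻¹ ∈ D1 R := by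
  obtain ⟨g, hg, rfl⟩ := hx
  obtain ⟨c, hc, rfl⟩ := hc
  exact ⟨g * c * g⁻¹, R.conj_mem_E1 (mem_centralizer_singleton_iff.1 hg) h2 hc, by simp only [_root_.QuotientGroup.mk'_apply, _root_.QuotientGroup.mk_mul, _root_.QuotientGroup.mk_inv]⟩

theorem D2_conj {x c : Γ ⧸ center Γ} (hx : x ∈ C0 R) (hc : c ∈ D2 R) : x * c * x⁻¹ ∈ D2 R := by
  obtain ⟨g, hg, rfl⟩ := hx
  obtain ⟨c, hc, rfl⟩ := hc
  exact ⟨g * c * g⁻¹, R.conj_mem_E2 (mem_centralizer_singleton_iff.1 hg) h2 hc, by simp only [_root_.QuotientGroup.mk'_apply, _root_.QuotientGroup.mk_mul, _root_.QuotientGroup.mk_inv]⟩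

omit h2 in
/-- two-step normal chain gives a subnormal subgroup of the top term -/
theorem isSubnormal_of_chain {L : Type*} [Group L] {D C X : Subgroup L} (hDC : D ≤ C) 
    (h1 : ∀ x ∈ X, ∀ c ∈ C, x * c * x⁻¹ ∈ C) (h2 : ∀ x ∈ C, ∀ c ∈ D, x * c * x⁻¹ ∈ D) :
    (D.subgroupOf X).IsSubnormal := by
  have hC : (C.subgroupOf X).Normal :=
    ⟨fun n hn g => mem_subgroupOf.2 (h1 g g.2 n (mem_subgroupOf.1 hn))⟩
  refine IsSubnormal.step _ (C.subgroupOf X) ?_ ?_ ?_
  · intro x hx
    exact mem_subgroupOf.2 (hDC (mem_subgroupOf.1 hx))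
  · exact hC.isSubnormal
  · constructor
    intro n hn g
    refine mem_subgroupOf.2 (mem_subgroupOf.2 ?_)
    exact h2 _ (mem_subgroupOf.1 g.2) _ (mem_subgroupOf.1 (mem_subgroupOf.1 hn))

theorem D1_subnormal : ((D1 R).subgroupOf (CC R)).IsSubnormal :=
  isSubnormal_of_chain (D1_le R) (fun _ hx _ hc => C0_conj R hx hc)
    (fun _ hx _ hc => D1_conj R h2 hx hc)

theorem D2_subnormal : ((D2 R).subgroupOf (CC R)).IsSubnormal :=
  isSubnormal_of_chain (D2_le R) (fun _ hx _ hc => C0_conj R hx hc)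
    (fun _ hx _ hc => D2_conj R h2 hx hc)

omit h2

theorem comm_D1_D2 {x y : Γ ⧸ center Γ} (hx : x ∈ D1 R) (hy : y ∈ D2 R) : x * y = y * x := by
  obtain ⟨x, hx, rfl⟩ := hx
  obtain ⟨y, hy, rfl⟩ := hy
  rw [← map_mul, ← map_mul, R.comm_E1_E2 hx hy]

/-- a subgroup meeting the centre trivially maps isomorphically -/
noncomputable def mapEquiv {E : Subgroup Γ} (h : ∀ x ∈ E, x ∈ center Γ → x = 1) :
    E ≃* E.map (pr Γ) :=
  MulEquiv.ofBijective ((pr Γ).subgroupMap E) ⟨by
    rw [injective_iff_map_eq_one]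
    intro a ha
    have h1 : pr Γ (a : Γ) = 1 := congrArg Subtype.val ha
    exact Subtype.ext (h a a.2 (pr_eq_one.1 h1)), (pr Γ).subgroupMap_surjective E⟩

theorem E1_center [Nonempty κ] {x : Γ} (hx : x ∈ R.E1) (hc : x ∈ center Γ) : x = 1 := by
  obtain ⟨P, hP⟩ := hx
  obtain ⟨c, hc⟩ := R.cen x hc
  obtain ⟨k⟩ := ‹Nonempty κ›
  have h1 : c = 1 := by
    have := congrFun (congrFun (hP.symm.trans hc) (Sum.inr k)) (Sum.inr k)
    simpa using this.symm
  apply R.inj
  rw [hc, h1, one_smul, map_one]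

theorem E2_center [Nonempty μ] {x : Γ} (hx : x ∈ R.E2) (hc : x ∈ center Γ) : x = 1 := by
  obtain ⟨P, hP⟩ := hx
  obtain ⟨c, hc⟩ := R.cen x hc
  obtain ⟨m⟩ := ‹Nonempty μ›
  have h1 : c = 1 := by
    have := congrFun (congrFun (hP.symm.trans hc) (Sum.inl m)) (Sum.inl m)
    simpa using this.symm
  apply R.inj
  rw [hc, h1, one_smul, map_one]

noncomputable def D1Equiv [Nonempty κ] : R.E1 ≃* D1 R := mapEquiv fun _ hx hc => E1_center R hx hc
noncomputable def D2Equiv [Nonempty μ] : R.E2 ≃* D2 R := mapEquiv fun _ hx hc => E2_center R hx hc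

/-- the data on `R` used below: a set `T` of block elements of non-zero trace whose commutant consists of
pairs of scalars -/
def Big : Prop := ∃ T : Set Γ, (∀ u ∈ T, u ∈ R.E1 ⊔ R.E2) ∧ (∀ u ∈ T, trace (R.ρ u) ≠ 0) ∧
  ∀ g, (∀ u ∈ T, g * u = u * g) → ∃ a b : F, R.ρ g = fromBlocks (a • 1) 0 0 (b • 1)

theorem Big.centralizer (hB : Big R) {x : Γ ⧸ center Γ}
    (hx : x ∈ centralizer ((D1 R ⊔ D2 R : Subgroup (Γ ⧸ center Γ)) : Set (Γ ⧸ center Γ))) :
    ∃ g, pr Γ g = x ∧ ∃ a b : F, R.ρ g = fromBlocks (a • 1) 0 0 (b • 1) := by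
  obtain ⟨T, hT, hTt, hTc⟩ := hB
  obtain ⟨g, rfl⟩ := pr_surjective x
  refine ⟨g, rfl, hTc g fun u hu => R.comm_of_trace (pr_comm.1 ?_) (hTt u hu)⟩
  have h1 : pr Γ u ∈ D1 R ⊔ D2 R := by
    rw [D1, D2, ← Subgroup.map_sup]
    exact mem_map_of_mem _ (hT u hu)
  exact (mem_centralizer_iff.1 hx _ h1).symm

theorem Big.comm (hB : Big R) {x y : Γ ⧸ center Γ}
    (hx : x ∈ Subgroup.centralizer ((D1 R ⊔ D2 R : Subgroup (Γ ⧸ center Γ)) : Set (Γ ⧸ center Γ)))
    (hy : y ∈ Subgroup.centralizer ((D1 R ⊔ D2 R : Subgroup (Γ ⧸ center Γ)) : Set (Γ ⧸ center Γ))) :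
    x * y = y * x := by
  obtain ⟨g, rfl, a, b, hg⟩ := hB.centralizer R hx
  obtain ⟨g', rfl, a', b', hg'⟩ := hB.centralizer R hy
  rw [← map_mul, ← map_mul]
  congr 1
  apply R.inj
  rw [map_mul, map_mul, hg, hg', fromBlocks_multiply, fromBlocks_multiply]
  simp only [smul_smul, mul_comm, _root_.Algebra.mul_smul_comm, _root_.mul_one, _root_.smul_smul, _root_.mul_comm, _root_.Matrix.mul_zero, _root_.add_zero, _root_.Matrix.mul_smul, _root_.Matrix.mul_one, _root_.smul_zero, _root_.zero_add]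


/-! ### elements of order 3 in characteristic 3 -/

theorem eq_one_of_cube {c : F} (h3 : (3 : F) = 0) (h : c * c * c = 1) : c = 1 := by
  have h1 : (c - 1) ^ 3 = 0 := by linear_combination h - (c ^ 2 - c) * h3
  exact sub_eq_zero.1 (pow_eq_zero_iff (by norm_num) |>.1 h1)

include R in
theorem center_cube [Nonempty μ] (h3 : (3 : F) = 0) {ζ : Γ} (hc : ζ ∈ center Γ) (h : ζ ^ 3 = 1) : ζ = 1 := by
  obtain ⟨c, hc⟩ := R.cen ζ hc
  obtain ⟨m⟩ := ‹Nonempty μ›
  have h1 : R.ρ (ζ ^ 3) = (c * c * c) • (1 : Matrix (μ ⊕ κ) (μ ⊕ κ) F) := by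
    rw [pow_succ, pow_two, map_mul, map_mul, hc]
    simp only [smul_smul, mul_assoc, _root_.Algebra.mul_smul_comm, _root_.mul_one, _root_.smul_smul, _root_.mul_assoc]
  rw [h, map_one] at h1
  have h4 : c * c * c = 1 := by
    have := congrFun (congrFun h1 (Sum.inl m)) (Sum.inl m)
    simpa only [_root_.Matrix.smul_apply, _root_.Matrix.one_apply_eq, _root_.smul_eq_mul, _root_.mul_one] using this.symm
  apply R.inj
  rw [hc, eq_one_of_cube h3 h4, one_smul, map_one]

include R in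
theorem exists_lift_three [Finite Γ] [Nonempty μ] (h3 : (3 : F) = 0) {x : Γ ⧸ center Γ} (hx : x * x * x = 1) :
    ∃ g, pr Γ g = x ∧ g ^ 3 = 1 := by
  obtain ⟨g, rfl⟩ := pr_surjective x
  have hz : g ^ 3 ∈ center Γ := by
    rw [← pr_eq_one, map_pow, pow_succ, pow_two, hx]
  set ζ := g ^ 3 with hζ
  have hco : Nat.Coprime 3 (orderOf ζ) := by
    rw [Nat.Prime.coprime_iff_not_dvd Nat.prime_three]
    rintro ⟨k, hk⟩
    have hpos : 0 < orderOf ζ := orderOf_pos ζ
    have h1 : (ζ ^ k) ^ 3 = 1 := by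
      rw [← pow_mul, mul_comm, ← hk, pow_orderOf_eq_one]
    have h4 : ζ ^ k = 1 := center_cube R h3 ((center Γ).pow_mem hz k) h1
    have h5 := Nat.le_of_dvd (by omega) (orderOf_dvd_of_pow_eq_one h4)
    omega
  obtain ⟨m, hm1, hm2⟩ := Nat.chineseRemainder hco 1 0
  refine ⟨g ^ m, ?_, ?_⟩
  · have h1 : pr Γ g ^ 3 = 1 := by rw [pow_succ, pow_two, hx]
    have h4 : m = 3 * (m / 3) + 1 := by
      have : m % 3 = 1 := hm1
      omega
    rw [map_pow, h4, pow_add, pow_mul, h1, one_pow, one_mul, pow_one]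
  · have h1 : orderOf ζ ∣ m := (Nat.modEq_zero_iff_dvd).1 hm2
    rw [← pow_mul, mul_comm, pow_mul, ← hζ]
    exact orderOf_dvd_iff_pow_eq_one.1 h1

theorem comm_of_three {g : Γ} (hg : g ^ 3 = 1) (h : pr Γ g ∈ CC R) : g * R.t = R.t * g := by
  rw [mem_CC] at h
  set ζ := g * R.t * g⁻¹ * R.t⁻¹ with hζ
  have hc := mem_center_iff.1 h
  have h1 : g * R.t * g⁻¹ = ζ * R.t := by rw [hζ]; group
  have hc2 : g * ζ * g⁻¹ = ζ := by rw [hc]; group
  have hsq : ζ * ζ = 1 := by
    have h4 : (ζ * R.t) * (ζ * R.t) = 1 := by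
      rw [← h1]
      calc g * R.t * g⁻¹ * (g * R.t * g⁻¹) = g * (R.t * R.t) * g⁻¹ := by group
        _ = 1 := by rw [R.t_sq]; group
    calc ζ * ζ = ζ * ζ * (R.t * R.t) := by rw [R.t_sq, mul_one]
      _ = ζ * (ζ * R.t) * R.t := by group
      _ = ζ * (R.t * ζ) * R.t := by rw [hc R.t]
      _ = (ζ * R.t) * (ζ * R.t) := by group
      _ = 1 := h4
  have h5 : g * (g * (g * R.t * g⁻¹) * g⁻¹) * g⁻¹ = ζ * ζ * ζ * R.t := by
    have h6 : g * (ζ * R.t) * g⁻¹ = ζ * ζ * R.t := by
      calc g * (ζ * R.t) * g⁻¹ = (g * ζ * g⁻¹) * (g * R.t * g⁻¹) := by group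
        _ = ζ * ζ * R.t := by rw [hc2, h1]; group
    rw [h1, h6]
    calc g * (ζ * ζ * R.t) * g⁻¹ = (g * ζ * g⁻¹) * (g * ζ * g⁻¹) * (g * R.t * g⁻¹) := by group
      _ = ζ * ζ * ζ * R.t := by rw [hc2, h1]; group
  have h6 : g * (g * (g * R.t * g⁻¹) * g⁻¹) * g⁻¹ = R.t := by
    calc g * (g * (g * R.t * g⁻¹) * g⁻¹) * g⁻¹ = g ^ 3 * R.t * (g ^ 3)⁻¹ := by
          rw [pow_succ, pow_two]; group
      _ = R.t := by rw [hg]; group
  have h7 : ζ * ζ * ζ = 1 := by
    rw [h6] at h5
    exact (mul_eq_right.1 h5.symm)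
  have h8 : ζ = 1 := by rwa [hsq, one_mul] at h7
  rw [h8, one_mul] at h1
  calc g * R.t = g * R.t * g⁻¹ * g := by group
    _ = R.t * g := by rw [h1]

/-- block diagonal elements with blocks of determinant one split -/
def Split : Prop := ∀ (g : Γ) P S, R.ρ g = fromBlocks P 0 0 S → P.det = 1 → S.det = 1 →
  ∃ g1, R.ρ g1 = fromBlocks P 0 0 1

theorem Split.mem (hs : Split R) {g : Γ} {P S} (h : R.ρ g = fromBlocks P 0 0 S) (hP : P.det = 1)
    (hS : S.det = 1) : g ∈ R.E1 ⊔ R.E2 := by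
  obtain ⟨g1, h1⟩ := hs g P S h hP hS
  have hm : g1 ∈ R.E1 := ⟨P, h1⟩
  obtain ⟨P', S', h', h3, h4, h5, h6⟩ := R.blocks_inv h1
  have h7 : g1⁻¹ * g ∈ R.E2 := by
    refine ⟨S, ?_⟩
    rw [map_mul, h', h, fromBlocks_multiply]
    have : S' = 1 := by rw [← h5, Matrix.one_mul]
    simp only [h4, this, _root_.Matrix.mul_zero, _root_.add_zero, _root_.Matrix.zero_mul, _root_.one_mul, _root_.zero_add]
  have h8 : g = g1 * (g1⁻¹ * g) := by group
  rw [h8]
  exact mul_mem (mem_sup_left hm) (mem_sup_right h7)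

theorem Split.three [Finite Γ] [Nonempty μ] (hs : Split R) (h2 : (2 : F) ≠ 0) (h3 : (3 : F) = 0)
    {x : Γ ⧸ center Γ} (hxC : x ∈ CC R) (hx : x * x * x = 1) : x ∈ D1 R ⊔ D2 R := by
  obtain ⟨g, rfl, hg⟩ := exists_lift_three R h3 hx
  have hgt := comm_of_three R hg hxC
  obtain ⟨P, S, h⟩ := R.blocks_of_comm h2 hgt
  have h4 : R.ρ g * R.ρ g * R.ρ g = 1 := by rw [← map_mul, ← map_mul, ← pow_two, ← pow_succ, hg, map_one]
  rw [h, fromBlocks_multiply, fromBlocks_multiply, ← fromBlocks_one, fromBlocks_inj] at h4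
  simp only [Matrix.zero_mul, Matrix.mul_zero, add_zero, zero_add] at h4
  have hP : P.det = 1 := by
    apply eq_one_of_cube h3
    rw [← det_mul, ← det_mul, h4.1, det_one]
  have hS : S.det = 1 := by
    apply eq_one_of_cube h3
    rw [← det_mul, ← det_mul, h4.2.2.2, det_one]
  rw [D1, D2, ← Subgroup.map_sup]
  exact mem_map_of_mem _ (hs.mem R h hP hS)

end Cfsg.Agent.Cit.LongQuot
end

-- part: Cit/LongCore
section
/-!
# `LongAbs.eq_or_eq` with odd cores

`Setup X E₁ E₂ z F`: the hypotheses of `LongAbs.eq_or_eq`.  They pass to `X ⧸ O(X)` (`Setup.quot`), which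
centralises `E₁ E₂` (`Setup.core_comm`), and so `K ⊲⊲ X` with `z ∈ K` and `K / O(K) ≃ SL₂(F')` satisfies
`E_i ≤ K ≤ E_i O(X)` for `i = 1` or `i = 2` (`Setup.main`).
-/

set_option autoImplicit false

namespace Cfsg.Agent.Cit.LongCore

open Subgroup Cfsg Cfsg.Agent.SignalizersComponents Cfsg.Agent.SignalizersComponents.Components
  Cfsg.Agent.Cit.LongSL3 Cfsg.Agent.Cit.LongAbs
open scoped commutatorElement

/-- hypotheses of `LongAbs.eq_or_eq` -/
structure Setup (X : Type*) [Group X] (E1 E2 : Subgroup X) (z : X) (F : Type*) [Field F]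
    [Fintype F] : Prop where
  odd : Odd (Fintype.card F)
  s1 : E1.IsSubnormal
  e1 : Nonempty (E1 ≃* Matrix.SpecialLinearGroup (Fin 2) F)
  s2 : E2.IsSubnormal
  comm : ∀ x ∈ E1, ∀ y ∈ E2, x * y = y * x
  zc : z ∈ center X
  zz : z * z = 1
  alt : Nonempty (E2 ≃* Matrix.SpecialLinearGroup (Fin 2) F) ∨
    (IsQuasisimple E2 ∧ Even (Nat.card E2) ∧ z ∉ E2 ∧ (Fintype.card F = 3 → center E2 = ⊥)) ∨ E2 = ⊥
  ab : ∀ x ∈ centralizer ((E1 ⊔ E2 : Subgroup X) : Set X),
    ∀ y ∈ centralizer ((E1 ⊔ E2 : Subgroup X) : Set X), x * y = y * x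
  three : Fintype.card F = 3 → ∀ x : X, x * x * x = 1 → x ∈ E1 ⊔ E2

variable {X : Type*} [Group X] {E1 E2 : Subgroup X} {z : X} {F : Type*} [Field F] [Fintype F]

theorem Setup.eq_or_eq [Finite X] (h : Setup X E1 E2 z F) {K : Subgroup X} {F' : Type*} [Field F']
    [Fintype F'] (ho' : Odd (Fintype.card F')) (hK : K.IsSubnormal)
    (eK : K ≃* Matrix.SpecialLinearGroup (Fin 2) F') (hzK : z ∈ K) : K = E1 ∨ K = E2 := by
  obtain ⟨e1⟩ := h.e1
  refine LongAbs.eq_or_eq h.odd ho' hK eK h.s1 e1 h.s2 h.comm hzK ?_ h.ab h.three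
  rcases h.alt with h1 | ⟨h1, -, h2, h3⟩ | h1
  · exact Or.inl h1
  · exact Or.inr (Or.inl ⟨h1, h2, h3⟩)
  · exact Or.inr (Or.inr h1)

/-! ### small facts on odd orders -/

theorem oddCore_pow_card [Finite X] {x : X} (hx : x ∈ oddCore X) :
    Odd (Nat.card (oddCore X)) ∧ x ^ Nat.card (oddCore X) = 1 := by
  refine ⟨Nat.coprime_two_right.1 (Lib.Cores.pPrimeCore_coprime 2), ?_⟩
  have h1 : (⟨x, hx⟩ : oddCore X) ^ Nat.card (oddCore X) = 1 := pow_card_eq_one'
  exact congrArg Subtype.val h1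

theorem eq_one_of_sq [Finite X] {x : X} (hx : x ∈ oddCore X) (h : x * x = 1) : x = 1 := by
  obtain ⟨h1, h2⟩ := oddCore_pow_card hx
  obtain ⟨k, hk⟩ := h1
  rw [hk, pow_add, pow_mul, pow_two, h, one_pow, one_mul, pow_one] at h2
  exact h2

theorem normal_core (X : Type*) [Group X] : (oddCore X).Normal := Lib.Cores.pPrimeCore_normal 2

/-- a component of even order commutes with the odd core -/
theorem component_comm_core [Finite X] {E : Subgroup X} (hE : IsComponent E) (hev : Even (Nat.card E))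
    {x y : X} (hx : x ∈ E) (hy : y ∈ oddCore X) : x * y = y * x := by
  rcases component_le_or_commutator_eq_bot hE (normal_core X).isSubnormal with h | h
  · exfalso
    have h1 : Nat.card E ∣ Nat.card (oddCore X) := card_dvd_of_le h
    have h2 : Odd (Nat.card (oddCore X)) :=
      Nat.coprime_two_right.1 (Lib.Cores.pPrimeCore_coprime 2)
    exact (Nat.not_even_iff_odd.2 h2) (hev.trans_dvd h1)
  · rw [commutator_comm, commutator_eq_bot_iff_le_centralizer] at h
    exact (mem_centralizer_iff.1 (h hy) x hx)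

theorem even_SL2 {E : Subgroup X} [Finite X] {F : Type*} [Field F] [Fintype F]
    (ho : Odd (Fintype.card F)) (e : E ≃* Matrix.SpecialLinearGroup (Fin 2) F) :
    Even (Nat.card E) := by
  have h2 := SLQuasisimple.two_ne_zero_of_odd ho
  set x : E := e.symm (-1) with hx
  have h3 : x ≠ 1 := by
    intro h
    have h4 : (-1 : Matrix.SpecialLinearGroup (Fin 2) F) = 1 := by
      rw [← e.apply_symm_apply (-1), ← hx, h, map_one]
    have h5 := congrArg (fun g : Matrix.SpecialLinearGroup (Fin 2) F =>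
      (g : Matrix (Fin 2) (Fin 2) F) 0 0) h4
    simp at h5
    apply h2
    have : (1 : F) + 1 = 0 := by nth_rewrite 1 [← h5]; ring
    rw [← this]; norm_num
  have h4 : x ^ 2 = 1 := by
    rw [hx, ← map_pow]
    simp only [_root_.even_two, _root_.Even.neg_pow, _root_.one_pow, _root_.map_one]
  have h5 : orderOf x = 2 := orderOf_eq_prime h4 h3
  exact (even_iff_two_dvd.2 (h5 ▸ orderOf_dvd_natCard x))

/-- central elements of `SL₂(F)` are involutions -/
theorem sq_of_central {E : Subgroup X} {F : Type*} [Field F]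
    (e : E ≃* Matrix.SpecialLinearGroup (Fin 2) F) {x : X} (hx : x ∈ E)
    (h : ∀ y ∈ E, y * x = x * y) : x * x = 1 := by
  have h1 : e ⟨x, hx⟩ ∈ center (Matrix.SpecialLinearGroup (Fin 2) F) := by
    rw [mem_center_iff]
    intro g
    have h2 := h (e.symm g) (e.symm g).2
    have h3 : e.symm g * ⟨x, hx⟩ = ⟨x, hx⟩ * e.symm g := Subtype.ext h2
    have h4 := congrArg e h3
    rwa [map_mul, map_mul, e.apply_symm_apply] at h4
  rw [Matrix.SpecialLinearGroup.mem_center_iff] at h1
  obtain ⟨r, hr, hr'⟩ := h1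
  have h5 : e ⟨x, hx⟩ * e ⟨x, hx⟩ = 1 := by
    apply Subtype.ext
    rw [Matrix.SpecialLinearGroup.coe_mul, ← hr', ← map_mul, Matrix.SpecialLinearGroup.coe_one]
    rw [Fintype.card_fin, pow_two] at hr
    rw [hr, map_one]
  rw [← map_mul, ← map_one e] at h5
  exact congrArg Subtype.val (e.injective h5)

/-- `O(X)` meets `SL₂(3)`-subgroups trivially -/
theorem inf_core_three [Finite X] {E : Subgroup X} (e : E ≃* S3) {x : X} (hx : x ∈ E)
    (hxO : x ∈ oddCore X) : x = 1 := by
  have hN := normal_core X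
  have h3 : ∀ c ∈ E, c ∈ oddCore X → c * c * c = 1 → c = 1 := by
    intro c hc hcO hc3
    by_contra hc1
    have hle : ∀ q ∈ QQ4 E, q = 1 := by
      intro q hq
      have h4 : q * q * (q * q) = 1 := ((mem_QQ4 e).1 hq).2
      obtain ⟨u, hu, v, hv, huv⟩ := exists_comm e hc hc3 hc1 hq
      have hqO : q ∈ oddCore X := by
        rw [huv]
        refine mul_mem (mul_mem (hN.conj_mem _ hcO u) (inv_mem hcO))
          (mul_mem (hN.conj_mem _ hcO v) (inv_mem hcO))
      exact eq_one_of_sq hqO (eq_one_of_sq (mul_mem hqO hqO) h4)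
    obtain ⟨a, ha, b, hb, hab⟩ := nonabelian e
    exact hab (by rw [hle a ha, hle b hb])
  have h24 : x ^ 24 = 1 := by
    rw [← card_E e]
    exact congrArg Subtype.val (pow_card_eq_one' (x := (⟨x, hx⟩ : E)))
  have h8 : x ^ 8 = 1 := by
    apply h3 _ (pow_mem hx 8) (pow_mem hxO 8)
    rw [← pow_add, ← pow_add]
    exact h24
  have h4 : x ^ 4 = 1 := eq_one_of_sq (pow_mem hxO 4) (by rw [← pow_add]; exact h8)
  have h2 : x ^ 2 = 1 := eq_one_of_sq (pow_mem hxO 2) (by rw [← pow_add]; exact h4)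
  exact eq_one_of_sq hxO (by rw [← pow_two]; exact h2)

namespace Setup

variable (h : Setup X E1 E2 z F)
include h

theorem equiv1 (h3 : Fintype.card F = 3) : Nonempty (E1 ≃* S3) := by
  obtain ⟨e⟩ := h.e1
  obtain ⟨f⟩ := equiv_S3 h3
  exact ⟨e.trans f⟩

theorem comp1 (h3 : Fintype.card F ≠ 3) : IsComponent E1 := by
  obtain ⟨e⟩ := h.e1
  exact ⟨h.s1, ComponentNormalize.quasisimple_congr e.symm (quasisimple_SL2 h.odd h3)⟩

theorem inf2 [Finite X] (h3 : Fintype.card F = 3) {x : X} (hx : x ∈ E2) (hxO : x ∈ oddCore X) : x = 1 := by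
  rcases h.alt with ⟨⟨e⟩⟩ | ⟨h1, h2, h4, h5⟩ | h1
  · obtain ⟨f⟩ := equiv_S3 h3
    exact inf_core_three (e.trans f) hx hxO
  · have h6 : (⟨x, hx⟩ : E2) ∈ center E2 := by
      rw [mem_center_iff]
      intro g
      exact Subtype.ext (component_comm_core ⟨h.s2, h1⟩ h2 g.2 hxO)
    rw [h5 h3, mem_bot] at h6
    exact congrArg Subtype.val h6
  · rw [h1, mem_bot] at hx
    exact hx

theorem normal1 {x y : X} (hx : x ∈ E1 ⊔ E2) (hy : y ∈ E1) : x * y * x⁻¹ ∈ E1 := by
  obtain ⟨a, ha, b, hb, rfl⟩ := mem_sup_comm h.comm hx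
  have h1 := h.comm y hy b hb
  have : a * b * y * (a * b)⁻¹ = a * y * a⁻¹ := by
    calc a * b * y * (a * b)⁻¹ = a * (b * y) * b⁻¹ * a⁻¹ := by group
      _ = a * (y * b) * b⁻¹ * a⁻¹ := by rw [h1]
      _ = _ := by group
  rw [this]
  exact mul_mem (mul_mem ha hy) (inv_mem ha)

theorem normal2 {x y : X} (hx : x ∈ E1 ⊔ E2) (hy : y ∈ E2) : x * y * x⁻¹ ∈ E2 := by
  obtain ⟨a, ha, b, hb, rfl⟩ := mem_sup_comm h.comm hx
  have h1 := h.comm a ha _ (mul_mem (mul_mem hb hy) (inv_mem hb))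
  have : a * b * y * (a * b)⁻¹ = b * y * b⁻¹ := by
    calc a * b * y * (a * b)⁻¹ = a * (b * y * b⁻¹) * a⁻¹ := by group
      _ = _ := by rw [h1]; group
  rw [this]
  exact mul_mem (mul_mem hb hy) (inv_mem hb)

/-- for `|F| = 3`, `O(X) ∩ E₁E₂ = 1` -/
theorem inf_three [Finite X] (h3 : Fintype.card F = 3) {w : X} (hw : w ∈ E1 ⊔ E2)
    (hwO : w ∈ oddCore X) : w = 1 := by
  have hN := normal_core X
  obtain ⟨e1⟩ := h.equiv1 h3
  -- `w` commutes with `E1` and `E2`
  have c1 : ∀ y ∈ E1, y * w = w * y := by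
    intro y hy
    have h4 : y * (w * y⁻¹ * w⁻¹) ∈ E1 := mul_mem hy (h.normal1 hw (inv_mem hy))
    have h5 : y * (w * y⁻¹ * w⁻¹) ∈ oddCore X := by
      have : y * (w * y⁻¹ * w⁻¹) = (y * w * y⁻¹) * w⁻¹ := by group
      rw [this]
      exact mul_mem (hN.conj_mem _ hwO y) (inv_mem hwO)
    have h6 := inf_core_three e1 h4 h5
    calc y * w = (y * (w * y⁻¹ * w⁻¹)) * w * y := by group
      _ = w * y := by rw [h6, one_mul]
  have c2 : ∀ y ∈ E2, y * w = w * y := by
    intro y hy
    have h4 : y * (w * y⁻¹ * w⁻¹) ∈ E2 := mul_mem hy (h.normal2 hw (inv_mem hy))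
    have h5 : y * (w * y⁻¹ * w⁻¹) ∈ oddCore X := by
      have : y * (w * y⁻¹ * w⁻¹) = (y * w * y⁻¹) * w⁻¹ := by group
      rw [this]
      exact mul_mem (hN.conj_mem _ hwO y) (inv_mem hwO)
    have h6 := h.inf2 h3 h4 h5
    calc y * w = (y * (w * y⁻¹ * w⁻¹)) * w * y := by group
      _ = w * y := by rw [h6, one_mul]
  obtain ⟨a, ha, b, hb, rfl⟩ := mem_sup_comm h.comm hw
  have ha2 : a * a = 1 := by
    obtain ⟨e⟩ := h.e1
    refine sq_of_central e ha fun y hy => ?_
    have h4 := c1 y hy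
    have h5 := h.comm y hy b hb
    calc y * a = y * (a * b) * b⁻¹ := by group
      _ = a * (b * y) * b⁻¹ := by rw [h4]; group
      _ = a * y := by rw [← h5]; group
  have c2' : ∀ y ∈ E2, y * b = b * y := by
    intro y hy
    have h4 := c2 y hy
    have h5 := h.comm a ha y hy
    calc y * b = a⁻¹ * (a * y) * b := by group
      _ = a⁻¹ * (y * (a * b)) := by rw [h5]; group
      _ = b * y := by rw [h4]; group
  have hb2 : b * b = 1 := by
    rcases h.alt with ⟨⟨e⟩⟩ | ⟨h1, h2, h4, h5⟩ | h1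
    · exact sq_of_central e hb c2'
    · have h6 : (⟨b, hb⟩ : E2) ∈ center E2 := by
        rw [mem_center_iff]
        intro g
        exact Subtype.ext (c2' g g.2)
      rw [h5 h3, mem_bot] at h6
      have : b = 1 := congrArg Subtype.val h6
      rw [this, one_mul]
    · rw [h1, mem_bot] at hb
      rw [hb, one_mul]
  refine eq_one_of_sq hwO ?_
  have h5 := h.comm a ha b hb
  calc a * b * (a * b) = a * (b * a) * b := by group
    _ = (a * a) * (b * b) := by rw [← h5]; group
    _ = 1 := by rw [ha2, hb2, one_mul]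

theorem three_aux [Finite X] (h3 : Fintype.card F = 3) {E : Subgroup X} (e : E ≃* S3)
    (hE : E ≤ E1 ⊔ E2) {x y : X} (hx : x ∈ E) (hy : y ∈ oddCore X) : x * y = y * x := by
  have hN := normal_core X
  have key : E ≤ centralizer {y} := by
    refine le_of_three e fun c hc hc3 => ?_
    rw [mem_centralizer_singleton_iff]
    have h1 : y * c * y⁻¹ ∈ E1 ⊔ E2 := by
      apply h.three h3
      calc y * c * y⁻¹ * (y * c * y⁻¹) * (y * c * y⁻¹) = y * (c * c * c) * y⁻¹ := by group
        _ = 1 := by rw [hc3]; group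
    have h2 : c⁻¹ * (y * c * y⁻¹) ∈ E1 ⊔ E2 := mul_mem (inv_mem (hE hc)) h1
    have h4 : c⁻¹ * (y * c * y⁻¹) ∈ oddCore X := by
      have : c⁻¹ * (y * c * y⁻¹) = (c⁻¹ * y * c⁻¹⁻¹) * y⁻¹ := by group
      rw [this]
      exact mul_mem (hN.conj_mem _ hy _) (inv_mem hy)
    have h5 := h.inf_three h3 h2 h4
    calc c * y = c * (c⁻¹ * (y * c * y⁻¹)) * y := by rw [h5]; group
      _ = y * c := by group
  exact mem_centralizer_singleton_iff.1 (key hx)

theorem comm1 [Finite X] {x y : X} (hx : x ∈ E1) (hy : y ∈ oddCore X) : x * y = y * x := by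
  by_cases h3 : Fintype.card F = 3
  · obtain ⟨e⟩ := h.equiv1 h3
    exact h.three_aux h3 e le_sup_left hx hy
  · obtain ⟨e⟩ := h.e1
    exact component_comm_core (h.comp1 h3) (even_SL2 h.odd e) hx hy

theorem comm2 [Finite X] {x y : X} (hx : x ∈ E2) (hy : y ∈ oddCore X) : x * y = y * x := by
  rcases h.alt with ⟨⟨e⟩⟩ | ⟨h1, h2, h4, h5⟩ | h1
  · by_cases h3 : Fintype.card F = 3
    · obtain ⟨f⟩ := equiv_S3 h3
      exact h.three_aux h3 (e.trans f) le_sup_right hx hy
    · exact component_comm_core ⟨h.s2, ComponentNormalize.quasisimple_congr e.symm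
        (quasisimple_SL2 h.odd h3)⟩ (even_SL2 h.odd e) hx hy
  · exact component_comm_core ⟨h.s2, h1⟩ h2 hx hy
  · rw [h1, mem_bot] at hx
    rw [hx, one_mul, mul_one]

end Setup

/-- the quotient map modulo the odd core -/
abbrev qt (X : Type*) [Group X] : X →* X ⧸ oddCore X := QuotientGroup.mk' (oddCore X)

theorem qt_surjective : Function.Surjective (qt X) := QuotientGroup.mk'_surjective _

theorem qt_eq_one {x : X} : qt X x = 1 ↔ x ∈ oddCore X := QuotientGroup.eq_one_iff x

/-- a subgroup meeting the core trivially maps isomorphically -/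
noncomputable def mapEquiv {E : Subgroup X} (h : ∀ x ∈ E, x ∈ oddCore X → x = 1) :
    E ≃* E.map (qt X) :=
  MulEquiv.ofBijective ((qt X).subgroupMap E) ⟨by
    rw [injective_iff_map_eq_one]
    intro a ha
    have h1 : qt X (a : X) = 1 := congrArg Subtype.val ha
    exact Subtype.ext (h a a.2 (qt_eq_one.1 h1)), (qt X).subgroupMap_surjective E⟩

/-- a perfect subgroup centralising the abelian core, normalised modulo the core by `x`, commutes
with `x` -/
theorem comm_of_perfect {E : Subgroup X} (hE : Group.IsPerfect E)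
    (hO : ∀ a ∈ oddCore X, ∀ b ∈ oddCore X, a * b = b * a)
    (hEO : ∀ a ∈ E, ∀ b ∈ oddCore X, a * b = b * a) {x : X}
    (hx : ∀ e ∈ E, e⁻¹ * (x * e * x⁻¹) ∈ oddCore X) {e : X} (he : e ∈ E) : x * e = e * x := by
  let φ : E →* X :=
    { toFun := fun e => (e : X)⁻¹ * (x * e * x⁻¹)
      map_one' := by simp
      map_mul' := by
        intro a b
        have h1 := hEO (b : X)⁻¹ (E.inv_mem b.2) _ (hx a a.2)
        calc ((a * b : E) : X)⁻¹ * (x * (a * b : E) * x⁻¹)
            = (b : X)⁻¹ * ((a : X)⁻¹ * (x * a * x⁻¹)) * (x * b * x⁻¹) := by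
              rw [coe_mul]; group
          _ = (a : X)⁻¹ * (x * a * x⁻¹) * ((b : X)⁻¹ * (x * b * x⁻¹)) := by rw [h1]; group }
  have h1 : commutator E ≤ φ.ker := by
    rw [commutator_def, commutator_le]
    intro a _ b _
    rw [MonoidHom.mem_ker, map_commutatorElement, commutatorElement_eq_one_iff_mul_comm]
    exact hO _ (hx a a.2) _ (hx b b.2)
  have h2 : (⟨e, he⟩ : E) ∈ φ.ker := h1 (by rw [hE.commutator_eq_top]; exact mem_top _)
  have h3 : e⁻¹ * (x * e * x⁻¹) = 1 := h2
  calc x * e = e * (e⁻¹ * (x * e * x⁻¹)) * x := by group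
    _ = e * x := by rw [h3, mul_one]

namespace Setup

variable (h : Setup X E1 E2 z F)
include h

theorem core_comm [Finite X] {x y : X} (hx : x ∈ E1 ⊔ E2) (hy : y ∈ oddCore X) : x * y = y * x := by
  obtain ⟨a, ha, b, hb, rfl⟩ := mem_sup_comm h.comm hx
  have h1 := h.comm1 ha hy
  have h2 := h.comm2 hb hy
  calc a * b * y = a * (b * y) := by group
    _ = a * y * b := by rw [h2]; group
    _ = y * (a * b) := by rw [h1]; group

theorem core_abelian [Finite X] : ∀ a ∈ oddCore X, ∀ b ∈ oddCore X, a * b = b * a := by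
  intro a ha b hb
  exact h.ab a (mem_centralizer_iff.2 fun x hx => h.core_comm hx ha) b
    (mem_centralizer_iff.2 fun x hx => h.core_comm hx hb)

theorem inf1 [Finite X] {x : X} (hx : x ∈ E1) (hxO : x ∈ oddCore X) : x = 1 := by
  obtain ⟨e⟩ := h.e1
  exact eq_one_of_sq hxO (sq_of_central e hx fun y hy => h.comm1 hy hxO)

theorem lift_comm [Finite X] {x : X}
    (hx : qt X x ∈ centralizer ((E1.map (qt X) ⊔ E2.map (qt X) : Subgroup (X ⧸ oddCore X)) :
      Set (X ⧸ oddCore X))) : x ∈ centralizer ((E1 ⊔ E2 : Subgroup X) : Set X) := by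
  have h0 : ∀ e ∈ E1 ⊔ E2, e⁻¹ * (x * e * x⁻¹) ∈ oddCore X := by
    intro e he
    have h1 : qt X e ∈ E1.map (qt X) ⊔ E2.map (qt X) := by
      rw [← Subgroup.map_sup]
      exact mem_map_of_mem _ he
    have h2 := mem_centralizer_iff.1 hx _ h1
    rw [← qt_eq_one, map_mul, map_mul, map_mul, map_inv, map_inv, ← h2]
    group
  have h1 : ∀ e ∈ E1, x * e = e * x := by
    intro e he
    by_cases h3 : Fintype.card F = 3
    · obtain ⟨f⟩ := h.equiv1 h3
      have key : E1 ≤ centralizer {x} := by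
        refine le_of_three f fun c hc hc3 => ?_
        rw [mem_centralizer_singleton_iff]
        have h4 : x * c * x⁻¹ ∈ E1 ⊔ E2 := by
          apply h.three h3
          calc x * c * x⁻¹ * (x * c * x⁻¹) * (x * c * x⁻¹) = x * (c * c * c) * x⁻¹ := by group
            _ = 1 := by rw [hc3]; group
        have h5 := h.inf_three h3 (mul_mem (inv_mem (le_sup_left (a := E1) hc)) h4)
          (h0 c (le_sup_left (a := E1) hc))
        calc c * x = c * (c⁻¹ * (x * c * x⁻¹)) * x := by rw [h5]; group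
          _ = x * c := by group
      exact (mem_centralizer_singleton_iff.1 (key he)).symm
    · exact comm_of_perfect (h.comp1 h3).2.1 h.core_abelian (fun a ha b hb => h.comm1 ha hb)
        (fun e he => h0 e (le_sup_left (a := E1) he)) he
  have h2 : ∀ e ∈ E2, x * e = e * x := by
    intro e he
    rcases h.alt with ⟨⟨f⟩⟩ | ⟨h1, h2, h4, h5⟩ | h1
    · by_cases h3 : Fintype.card F = 3
      · obtain ⟨g⟩ := equiv_S3 h3
        have key : E2 ≤ centralizer {x} := by
          refine le_of_three (f.trans g) fun c hc hc3 => ?_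
          rw [mem_centralizer_singleton_iff]
          have h4 : x * c * x⁻¹ ∈ E1 ⊔ E2 := by
            apply h.three h3
            calc x * c * x⁻¹ * (x * c * x⁻¹) * (x * c * x⁻¹) = x * (c * c * c) * x⁻¹ := by group
              _ = 1 := by rw [hc3]; group
          have h5 := h.inf_three h3 (mul_mem (inv_mem (le_sup_right (a := E1) hc)) h4)
            (h0 c (le_sup_right (a := E1) hc))
          calc c * x = c * (c⁻¹ * (x * c * x⁻¹)) * x := by rw [h5]; group
            _ = x * c := by group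
        exact (mem_centralizer_singleton_iff.1 (key he)).symm
      · exact comm_of_perfect (ComponentNormalize.quasisimple_congr f.symm
          (quasisimple_SL2 h.odd h3)).1 h.core_abelian (fun a ha b hb => h.comm2 ha hb)
          (fun e he => h0 e (le_sup_right (a := E1) he)) he
    · exact comm_of_perfect h1.1 h.core_abelian (fun a ha b hb => h.comm2 ha hb)
        (fun e he => h0 e (le_sup_right (a := E1) he)) he
    · rw [h1, mem_bot] at he
      rw [he, one_mul, mul_one]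
  rw [mem_centralizer_iff]
  intro e he
  obtain ⟨a, ha, b, hb, rfl⟩ := mem_sup_comm h.comm he
  calc a * b * x = a * (b * x) := by group
    _ = (a * x) * b := by rw [← h2 b hb]; group
    _ = x * (a * b) := by rw [← h1 a ha]; group

theorem lift_three [Finite X] (h3 : Fintype.card F = 3) {y : X ⧸ oddCore X} (hy : y * y * y = 1) :
    y ∈ E1.map (qt X) ⊔ E2.map (qt X) := by
  obtain ⟨x, rfl⟩ := qt_surjective y
  have hx3 : x ^ 3 ∈ oddCore X := by
    rw [← qt_eq_one, map_pow, pow_succ, pow_two, hy]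
  have hco : Nat.Coprime 3 (Nat.card (oddCore X)) := by
    rw [Nat.Prime.coprime_iff_not_dvd Nat.prime_three]
    intro hd
    have : Fact (Nat.Prime 3) := ⟨Nat.prime_three⟩
    obtain ⟨o, ho⟩ := exists_prime_orderOf_dvd_card' 3 hd
    have h4 : (o : X) * o * o = 1 := by
      have : o ^ 3 = 1 := by rw [← ho]; exact pow_orderOf_eq_one o
      simpa only [pow_succ, _root_.pow_zero, _root_.one_mul, _root_.Subgroup.coe_mul, _root_.OneMemClass.coe_one] using congrArg Subtype.val this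
    have h5 := h.inf_three h3 (h.three h3 _ h4) o.2
    have h6 : o = 1 := Subtype.ext h5
    rw [h6, orderOf_one] at ho
    norm_num at ho
  obtain ⟨m, hm1, hm2⟩ := Nat.chineseRemainder hco 1 0
  have h4 : (x ^ m) * (x ^ m) * (x ^ m) = 1 := by
    obtain ⟨k, hk⟩ := (Nat.modEq_zero_iff_dvd).1 hm2
    rw [← pow_two, ← pow_succ, ← pow_mul, mul_comm, pow_mul, hk, pow_mul, (oddCore_pow_card hx3).2,
      one_pow]
  have h5 : qt X (x ^ m) = qt X x := by
    have h1 : qt X x ^ 3 = 1 := by rw [pow_succ, pow_two, hy]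
    have h4 : m = 3 * (m / 3) + 1 := by
      have : m % 3 = 1 := hm1
      omega
    rw [map_pow, h4, pow_add, pow_mul, h1, one_pow, one_mul, pow_one]
  rw [← h5, ← Subgroup.map_sup]
  exact mem_map_of_mem _ (h.three h3 _ h4)

theorem z_notMem [Finite X] (hz : z ∉ E2) : qt X z ∉ E2.map (qt X) := by
  rintro ⟨e, he, hez⟩
  have h1 : e⁻¹ * z ∈ oddCore X := by
    rw [← qt_eq_one, map_mul, map_inv, hez]; group
  set o := e⁻¹ * z with ho
  have h2 : z = e * o := by rw [ho]; group
  have h3 : Commute e o := h.comm2 he h1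
  obtain ⟨⟨k, hk⟩, h5⟩ := oddCore_pow_card h1
  have h6 : z ^ Nat.card (oddCore X) = z := by
    rw [hk, pow_add, pow_mul, pow_two, h.zz, one_pow, one_mul, pow_one]
  apply hz
  rw [← h6, h2, h3.mul_pow, h5, mul_one]
  exact pow_mem he _

/-- **the hypotheses pass to `X ⧸ O(X)`** -/
theorem quot [Finite X] : Setup (X ⧸ oddCore X) (E1.map (qt X)) (E2.map (qt X)) (qt X z) F where
  odd := h.odd
  s1 := h.s1.map qt_surjective
  e1 := by
    obtain ⟨e⟩ := h.e1
    exact ⟨(mapEquiv fun x hx hxO => h.inf1 hx hxO).symm.trans e⟩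
  s2 := h.s2.map qt_surjective
  comm := by
    rintro _ ⟨x, hx, rfl⟩ _ ⟨y, hy, rfl⟩
    rw [← map_mul, ← map_mul, h.comm x hx y hy]
  zc := by
    rw [mem_center_iff]
    intro g
    obtain ⟨g, rfl⟩ := qt_surjective g
    rw [← map_mul, ← map_mul, mem_center_iff.1 h.zc]
  zz := by rw [← map_mul, h.zz, map_one]
  alt := by
    rcases h.alt with ⟨⟨e⟩⟩ | ⟨h1, h2, h4, h5⟩ | h1
    · left
      refine ⟨(mapEquiv fun x hx hxO => ?_).symm.trans e⟩
      exact eq_one_of_sq hxO (sq_of_central e hx fun y hy => h.comm2 hy hxO)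
    · right; left
      -- an involution of `E2`
      have : Fact (Nat.Prime 2) := ⟨Nat.prime_two⟩
      obtain ⟨t, ht⟩ := exists_prime_orderOf_dvd_card' 2 h2.two_dvd
      have ht2 : (t : X) * t = 1 := by
        have : t ^ 2 = 1 := by rw [← ht]; exact pow_orderOf_eq_one t
        simpa only [pow_two, _root_.Subgroup.coe_mul, _root_.OneMemClass.coe_one] using congrArg Subtype.val this
      have ht1 : (t : X) ≠ 1 := by
        intro h6
        have : t = 1 := Subtype.ext h6
        rw [this, orderOf_one] at ht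
        norm_num at ht
      have htq : qt X (t : X) ≠ 1 := fun h6 => ht1 (eq_one_of_sq (qt_eq_one.1 h6) ht2)
      let s : E2.map (qt X) := ⟨qt X (t : X), mem_map_of_mem _ t.2⟩
      have hs1 : s ≠ 1 := fun h6 => htq (congrArg Subtype.val h6)
      have hs2 : s ^ 2 = 1 := by
        apply Subtype.ext
        change (qt X (t : X)) ^ 2 = 1
        rw [pow_two, ← map_mul, ht2, map_one]
      have hs : orderOf s = 2 := orderOf_eq_prime hs2 hs1
      refine ⟨?_, ?_, h.z_notMem h4, ?_⟩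
      · exact ComponentImage.isQuasisimple_of_surjective h1 _
          ((qt X).subgroupMap_surjective E2) ⟨⟨s, 1, hs1⟩⟩
      · have h6 := orderOf_dvd_natCard s
        rw [hs] at h6
        exact even_iff_two_dvd.2 h6
      · intro h3
        let e : E2 ≃* E2.map (qt X) := mapEquiv fun x hx hxO => h.inf2 h3 hx hxO
        rw [eq_bot_iff]
        intro y hy
        have h6 : e.symm y ∈ center E2 := by
          rw [mem_center_iff]
          intro g
          apply e.injective
          rw [map_mul, map_mul, e.apply_symm_apply, mem_center_iff.1 hy]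
        rw [h5 h3, mem_bot] at h6
        rw [mem_bot, ← e.apply_symm_apply y, h6, map_one]
    · right; right
      rw [h1, Subgroup.map_bot]
  ab := by
    intro x hx y hy
    obtain ⟨x, rfl⟩ := qt_surjective x
    obtain ⟨y, rfl⟩ := qt_surjective y
    rw [← map_mul, ← map_mul, h.ab x (h.lift_comm hx) y (h.lift_comm hy)]
  three := fun h3 y hy => h.lift_three h3 hy

/-- `E ≤ K O(X)` implies `E ≤ K` (for `E = E₁`, `E₂`) -/
theorem le_of_le_sup [Finite X] {K E : Subgroup X} (hK : K.IsSubnormal)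
    (hEc : ∀ x ∈ E, ∀ y ∈ oddCore X, x * y = y * x)
    (hE : IsComponent E ∨ (Fintype.card F = 3 ∧ E ≤ E1 ⊔ E2 ∧ Nonempty (E ≃* S3)))
    (hle : E ≤ K ⊔ oddCore X) : E ≤ K := by
  rcases hE with hE | ⟨h3, hE12, ⟨e⟩⟩
  · rcases component_le_or_commutator_eq_bot hE hK with h1 | h1
    · exact h1
    · exfalso
      rw [commutator_comm, commutator_eq_bot_iff_le_centralizer] at h1
      have h2 : K ⊔ oddCore X ≤ centralizer (E : Set X) := by
        refine sup_le ?_ ?_
        · exact h1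
        · intro y hy
          exact mem_centralizer_iff.2 fun x hx => hEc x hx y hy
      apply quasisimple_not_isMulCommutative hE.2
      exact ⟨⟨fun a b => Subtype.ext (mem_centralizer_iff.1 (h2 (hle b.2)) a a.2)⟩⟩
  · refine le_of_three e fun c hc hc3 => ?_
    have hN := normal_core X
    obtain ⟨k, hk, o, ho, hko⟩ := mem_sup_of_normal_right.1 (hle hc)
    -- `3` does not divide `|O(X)|`
    have hco : Nat.Coprime 3 (Nat.card (oddCore X)) := by
      rw [Nat.Prime.coprime_iff_not_dvd Nat.prime_three]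
      intro hd
      have : Fact (Nat.Prime 3) := ⟨Nat.prime_three⟩
      obtain ⟨o, ho⟩ := exists_prime_orderOf_dvd_card' 3 hd
      have h4 : (o : X) * o * o = 1 := by
        have : o ^ 3 = 1 := by rw [← ho]; exact pow_orderOf_eq_one o
        simpa only [pow_succ, _root_.pow_zero, _root_.one_mul, _root_.Subgroup.coe_mul, _root_.OneMemClass.coe_one] using congrArg Subtype.val this
      have h5 := h.inf_three h3 (h.three h3 _ h4) o.2
      have h6 : o = 1 := Subtype.ext h5
      rw [h6, orderOf_one] at ho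
      norm_num at ho
    obtain ⟨m, hm1, hm2⟩ := Nat.chineseRemainder hco 1 0
    have h1 : k = c * o⁻¹ := by rw [← hko]; group
    have h2 : Commute c o⁻¹ := hEc c hc _ (inv_mem ho)
    have h4 : k ^ m = c := by
      obtain ⟨j, hj⟩ := (Nat.modEq_zero_iff_dvd).1 hm2
      have h5 : o⁻¹ ^ m = 1 := by
        rw [hj, pow_mul, (oddCore_pow_card (inv_mem ho)).2, one_pow]
      have h6 : c ^ m = c := by
        have h7 : c ^ 3 = 1 := by rw [pow_succ, pow_two, hc3]
        have h8 : m = 3 * (m / 3) + 1 := by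
          have : m % 3 = 1 := hm1
          omega
        rw [h8, pow_add, pow_mul, h7, one_pow, one_mul, pow_one]
      rw [h1, h2.mul_pow, h5, h6, mul_one]
    rw [← h4]
    exact pow_mem hk m

theorem type1 : IsComponent E1 ∨ (Fintype.card F = 3 ∧ E1 ≤ E1 ⊔ E2 ∧ Nonempty (E1 ≃* S3)) := by
  by_cases h3 : Fintype.card F = 3
  · exact Or.inr ⟨h3, le_sup_left, h.equiv1 h3⟩
  · exact Or.inl (h.comp1 h3)

theorem type2 : IsComponent E2 ∨ (Fintype.card F = 3 ∧ E2 ≤ E1 ⊔ E2 ∧ Nonempty (E2 ≃* S3)) ∨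
    E2 = ⊥ := by
  rcases h.alt with ⟨⟨f⟩⟩ | ⟨h1, h2, h4, h5⟩ | h1
  · by_cases h3 : Fintype.card F = 3
    · obtain ⟨g⟩ := equiv_S3 h3
      exact Or.inr (Or.inl ⟨h3, le_sup_right, ⟨f.trans g⟩⟩)
    · exact Or.inl ⟨h.s2, ComponentNormalize.quasisimple_congr f.symm (quasisimple_SL2 h.odd h3)⟩
  · exact Or.inl ⟨h.s2, h1⟩
  · exact Or.inr (Or.inr h1)

/-- **F(L), abstract form with cores** -/
theorem main [Finite X] {K : Subgroup X} (hK : K.IsSubnormal) {F' : Type*} [Field F'] [Fintype F']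
    (ho' : Odd (Fintype.card F')) (eK : ↥K ⧸ oddCore ↥K ≃* Matrix.SpecialLinearGroup (Fin 2) F')
    (hz : z ∈ K) :
    (E1 ≤ K ∧ K ≤ E1 ⊔ oddCore X) ∨
      (Nonempty (E2 ≃* Matrix.SpecialLinearGroup (Fin 2) F) ∧ E2 ≤ K ∧ K ≤ E2 ⊔ oddCore X) := by
  obtain ⟨f, -⟩ := PCompQuot.exists_quotient_equiv 2 hK
  have hN := normal_core X
  have hker : ∀ E : Subgroup X, (E.map (qt X)).comap (qt X) = E ⊔ oddCore X := by
    intro E
    rw [comap_map_eq, QuotientGroup.ker_mk']
  rcases h.quot.eq_or_eq ho' (hK.map qt_surjective) (f.symm.trans eK) (mem_map_of_mem _ hz)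
    with h1 | h1
  · left
    have h2 := congrArg (Subgroup.comap (qt X)) h1
    rw [hker, hker] at h2
    refine ⟨?_, ?_⟩
    · exact h.le_of_le_sup hK (fun x hx y hy => h.comm1 hx hy) h.type1 (by rw [h2]; exact le_sup_left)
    · rw [← h2]; exact le_sup_left
  · right
    have h2 := congrArg (Subgroup.comap (qt X)) h1
    rw [hker, hker] at h2
    have hne : E2 ≠ ⊥ := by
      intro h3
      rw [h3, Subgroup.map_bot] at h1
      have h4 := even_SL2 ho' (f.symm.trans eK)
      rw [h1] at h4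
      rw [Subgroup.card_bot] at h4
      exact absurd h4 (by decide)
    refine ⟨?_, ?_, ?_⟩
    · rcases h.alt with h3 | ⟨-, -, h3, -⟩ | h3
      · exact h3
      · exfalso
        apply h.z_notMem h3
        rw [← h1]; exact mem_map_of_mem _ hz
      · exact absurd h3 hne
    · rcases h.type2 with h3 | h3 | h3
      · exact h.le_of_le_sup hK (fun x hx y hy => h.comm2 hx hy) (Or.inl h3)
          (by rw [h2]; exact le_sup_left)
      · exact h.le_of_le_sup hK (fun x hx y hy => h.comm2 hx hy) (Or.inr h3)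
          (by rw [h2]; exact le_sup_left)
      · exact absurd h3 hne
    · rw [← h2]; exact le_sup_left

/-- a component which is not of type `SL₂(F)` does not contain `z` -/
theorem component_false [Finite X] {K : Subgroup X} (hK : IsComponent K)
    (hne : ¬ Nonempty (K ≃* Matrix.SpecialLinearGroup (Fin 2) F)) (hz : z ∈ K) : False := by
  have key : ∀ E : Subgroup X, E.IsSubnormal →
      Nonempty (E ≃* Matrix.SpecialLinearGroup (Fin 2) F) → ⁅K, E⁆ = ⊥ := by
    rintro E hE ⟨e⟩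
    by_cases h3 : Fintype.card F = 3
    · rcases component_le_or_commutator_eq_bot hK hE with h1 | h1
      · exfalso
        obtain ⟨f⟩ := equiv_S3 h3
        have h2 : Group.IsSolvable E := isSolvable_E (e.trans f)
        exact quasisimple_not_isSolvable hK.2
          (Group.isSolvable_of_isSolvable_injective (f := inclusion h1) (inclusion_injective h1))
      · exact h1
    · apply component_commutator_eq_bot_of_ne hK ⟨hE, ComponentNormalize.quasisimple_congr e.symm
        (quasisimple_SL2 h.odd h3)⟩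
      rintro rfl
      exact hne ⟨e⟩
  have h1 : ⁅K, E1⁆ = ⊥ := key E1 h.s1 h.e1
  have h2 : ⁅K, E2⁆ = ⊥ := by
    rcases h.alt with h3 | ⟨h3, h4, h5, h6⟩ | h3
    · exact key E2 h.s2 h3
    · apply component_commutator_eq_bot_of_ne hK ⟨h.s2, h3⟩
      rintro rfl
      exact h5 hz
    · rw [h3, commutator_bot_right]
  rw [commutator_eq_bot_iff_le_centralizer] at h1 h2
  have hle : K ≤ centralizer ((E1 ⊔ E2 : Subgroup X) : Set X) := by
    intro x hx
    rw [mem_centralizer_iff]
    intro y hy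
    obtain ⟨a, ha, b, hb, rfl⟩ := mem_sup_comm h.comm hy
    have h3 := mem_centralizer_iff.1 (h1 hx) a ha
    have h4 := mem_centralizer_iff.1 (h2 hx) b hb
    calc a * b * x = a * (b * x) := by group
      _ = (a * x) * b := by rw [h4]; group
      _ = x * (a * b) := by rw [h3]; group
  apply quasisimple_not_isMulCommutative hK.2
  exact ⟨⟨fun a b => Subtype.ext (h.ab a (hle a.2) b (hle b.2))⟩⟩

/-- other quasisimple types (`2.A₇`) do not occur -/
theorem main_quasisimple [Finite X] {K : Subgroup X} (hK : K.IsSubnormal)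
    (hq : IsQuasisimple (↥K ⧸ oddCore ↥K))
    (hne : ¬ Nonempty (↥K ⧸ oddCore ↥K ≃* Matrix.SpecialLinearGroup (Fin 2) F))
    (hz : z ∈ K) : False := by
  obtain ⟨f, -⟩ := PCompQuot.exists_quotient_equiv 2 hK
  refine h.quot.component_false ⟨hK.map qt_surjective, ComponentNormalize.quasisimple_congr f hq⟩ ?_
    (mem_map_of_mem _ hz)
  rintro ⟨e⟩
  exact hne ⟨f.trans e⟩

end Setup

end Cfsg.Agent.Cit.LongCore
end

-- part: Cit/LongMain
section
/-!
# `F(L)` for `L = Γ ⧸ Z(Γ)`, `R : Rep Γ F κ`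

`Good R F₁`: `E₁ ≃ SL₂(F₁)`, `E₂` of one of the three types, and the data `Big`, `Split`.
Then every `K ≤ C_L(z₀)`, subnormal, `z₀ ∈ K`, `K / O(K) ≃ SL₂(F')` satisfies
`D_i ≤ K ≤ D_i O(C_L(z₀))` (`i = 1` or `2`).
-/

set_option autoImplicit false

namespace Cfsg.Agent.Cit.LongMain

open Subgroup Cfsg Matrix Cfsg.Agent.Cit.LongAbs Cfsg.Agent.Cit.LongBlock Cfsg.Agent.Cit.LongQuot
  Cfsg.Agent.Cit.LongCore

variable {Γ : Type*} [Group Γ] {F : Type*} [Field F] {κ : Type*} [Fintype κ] [DecidableEq κ]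

/-- the data needed -/
structure Good (R : Rep Γ F κ) (F1 : Type*) [Field F1] [Fintype F1] : Prop where
  two : (2 : F) ≠ 0
  ne : Nonempty κ
  odd : Odd (Fintype.card F1)
  e1 : Nonempty (R.E1 ≃* SpecialLinearGroup (Fin 2) F1)
  alt : Nonempty (R.E2 ≃* SpecialLinearGroup (Fin 2) F1) ∨
    (IsQuasisimple R.E2 ∧ Even (Nat.card R.E2) ∧ (¬ ∃ g, R.ρ g = fromBlocks 1 0 0 (-1)) ∧
      (Fintype.card F1 = 3 → center R.E2 = ⊥)) ∨ R.E2 = ⊥
  big : Big R
  split : Split R
  char3 : Fintype.card F1 = 3 → (3 : F) = 0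

variable {R : Rep Γ F κ} {F1 : Type*} [Field F1] [Fintype F1]

theorem z0_mul : z0 R * z0 R = 1 := by rw [z0, ← map_mul, R.t_sq, map_one]

theorem z0_mem_CC : z0 R ∈ CC R := mem_centralizer_singleton_iff.2 rfl

theorem z0_mem : z0 R ∈ D1 R := mem_map_of_mem _ R.t_mem

theorem D1_le_CC : D1 R ≤ CC R := (D1_le R).trans (C0_le R)
theorem D2_le_CC : D2 R ≤ CC R := (D2_le R).trans (C0_le R)

theorem mem_center_CC : (⟨z0 R, z0_mem_CC⟩ : CC R) ∈ center (CC R) := by
  rw [mem_center_iff]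
  intro g
  exact Subtype.ext (mem_centralizer_singleton_iff.1 g.2)

/-- if `z0 ∈ D2` then `fromBlocks 1 0 0 (-1)` lies in the group -/
theorem exists_of_mem_D2 (hne : Nonempty κ) (h : z0 R ∈ D2 R) : ∃ g, R.ρ g = fromBlocks 1 0 0 (-1) := by
  obtain ⟨s, ⟨S, hS⟩, hs⟩ := h
  have h1 : R.t * s⁻¹ ∈ center Γ := by
    rw [← pr_eq_one, map_mul, map_inv, hs]
    exact mul_inv_cancel _
  obtain ⟨c, hc⟩ := R.cen _ h1
  obtain ⟨P', S', h', h3, h4, h5, h6⟩ := R.blocks_inv hS
  obtain ⟨k⟩ := hne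
  rw [map_mul, R.t_eq, h', fromBlocks_multiply, ← fromBlocks_one, fromBlocks_smul, fromBlocks_inj] at hc
  simp only [Matrix.zero_mul, Matrix.mul_zero, add_zero, zero_add, Matrix.one_mul] at hc
  obtain ⟨h7, -, -, h8⟩ := hc
  have hP' : P' = 1 := by rw [← h3, Matrix.one_mul]
  have hc1 : c = -1 := by
    have := congrFun (congrFun h7 0) 0
    rw [hP'] at this
    simpa using this.symm
  refine ⟨s, ?_⟩
  rw [hS]
  have h9 : S' = -1 := by rw [h8, hc1, neg_smul, one_smul]
  have h10 : S = -1 := by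
    rw [h9] at h5
    have : -S = 1 := by simpa using h5
    rw [← this, neg_neg]
  rw [h10]

theorem subgroupOf_sup (A B : Subgroup (Γ ⧸ center Γ)) (X : Subgroup (Γ ⧸ center Γ)) (hA : A ≤ X) (hB : B ≤ X) :
    A.subgroupOf X ⊔ B.subgroupOf X = (A ⊔ B).subgroupOf X := by
  apply Subgroup.map_injective X.subtype_injective
  rw [Subgroup.map_sup, map_subgroupOf_eq_of_le hA, map_subgroupOf_eq_of_le hB,
    map_subgroupOf_eq_of_le (sup_le hA hB)]

theorem center_eq_bot_congr {A B : Type*} [Group A] [Group B] (e : A ≃* B) (h : center A = ⊥) :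
    center B = ⊥ := by
  rw [eq_bot_iff]
  intro y hy
  have h6 : e.symm y ∈ center A := by
    rw [mem_center_iff]
    intro g
    apply e.injective
    rw [map_mul, map_mul, e.apply_symm_apply, mem_center_iff.1 hy]
  rw [h, mem_bot] at h6
  rw [mem_bot, ← e.apply_symm_apply y, h6, map_one]

theorem Good.setup [Finite Γ] (h : Good R F1) :
    Setup (CC R) ((D1 R).subgroupOf (CC R)) ((D2 R).subgroupOf (CC R)) ⟨z0 R, z0_mem_CC⟩ F1 where
  odd := h.odd
  s1 := D1_subnormal R h.two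
  e1 := by
    have := h.ne
    obtain ⟨e⟩ := h.e1
    exact ⟨((subgroupOfEquivOfLe D1_le_CC).trans (D1Equiv R).symm).trans e⟩
  s2 := D2_subnormal R h.two
  comm := fun x hx y hy => Subtype.ext (comm_D1_D2 R hx hy)
  zc := mem_center_CC
  zz := Subtype.ext z0_mul
  alt := by
    have e2 := (subgroupOfEquivOfLe (D2_le_CC (R := R))).trans (D2Equiv R).symm
    rcases h.alt with ⟨⟨e⟩⟩ | ⟨h1, h2, h3, h4⟩ | h1
    · exact Or.inl ⟨e2.trans e⟩
    · refine Or.inr (Or.inl ⟨SignalizersComponents.ComponentNormalize.quasisimple_congr e2.symm h1,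
        ?_, ?_, fun h5 => center_eq_bot_congr e2.symm (h4 h5)⟩)
      · rwa [Nat.card_congr e2.toEquiv]
      · intro h5
        exact h3 (exists_of_mem_D2 h.ne (mem_subgroupOf.1 h5))
    · right; right
      rw [eq_bot_iff]
      intro x hx
      have h2 : (x : Γ ⧸ center Γ) ∈ D2 R := mem_subgroupOf.1 hx
      rw [D2, h1, Subgroup.map_bot, mem_bot] at h2
      exact (mem_bot.2 (Subtype.ext h2))
  ab := by
    have key : ∀ x : CC R, x ∈ centralizer (((D1 R).subgroupOf (CC R) ⊔ (D2 R).subgroupOf (CC R) :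
        Subgroup (CC R)) : Set (CC R)) → (x : Γ ⧸ center Γ) ∈
        centralizer ((D1 R ⊔ D2 R : Subgroup (Γ ⧸ center Γ)) : Set (Γ ⧸ center Γ)) := by
      intro x hx
      rw [mem_centralizer_iff]
      intro y hy
      have hyC : y ∈ CC R := (sup_le D1_le_CC D2_le_CC) hy
      rw [subgroupOf_sup _ _ _ D1_le_CC D2_le_CC] at hx
      exact congrArg Subtype.val (mem_centralizer_iff.1 hx ⟨y, hyC⟩ hy)
    intro x hx y hy
    exact Subtype.ext (h.big.comm R (key x hx) (key y hy))
  three := by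
    intro h3 x hx
    rw [subgroupOf_sup _ _ _ D1_le_CC D2_le_CC]
    exact h.split.three R h.two (h.char3 h3) x.2 (congrArg Subtype.val hx)

/-- `O(C_L(z₀))` -/
def OC (R : Rep Γ F κ) : Subgroup (Γ ⧸ center Γ) := (oddCore (CC R)).map (CC R).subtype

/-- transport of `K / O(K)` to `K.subgroupOf X` -/
theorem exists_quot_equiv {G : Type*} [Group G] {K X : Subgroup G} (h : K ≤ X) :
    Nonempty ((↥(K.subgroupOf X) ⧸ oddCore ↥(K.subgroupOf X)) ≃* (↥K ⧸ oddCore ↥K)) :=
  ⟨QuotientGroup.congr _ _ (subgroupOfEquivOfLe h) (Lib.Cores.map_equiv_pPrimeCore _ 2)⟩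

theorem le_of_subgroupOf_le {G : Type*} [Group G] {K E X : Subgroup G} (h : E ≤ X)
    (hle : E.subgroupOf X ≤ K.subgroupOf X) : E ≤ K := by
  intro x hx
  exact mem_subgroupOf.1 (hle (mem_subgroupOf.2 (show ((⟨x, h hx⟩ : X) : G) ∈ E from hx)))

theorem le_sup_of_subgroupOf_le {G : Type*} [Group G] {K E X : Subgroup G} (hK : K ≤ X) (hE : E ≤ X)
    {O : Subgroup X} (hle : K.subgroupOf X ≤ E.subgroupOf X ⊔ O) : K ≤ E ⊔ O.map X.subtype := by
  have h1 := Subgroup.map_mono (f := X.subtype) hle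
  rwa [Subgroup.map_sup, map_subgroupOf_eq_of_le hK, map_subgroupOf_eq_of_le hE] at h1

/-- **F(L)** with cores: `D_i ≤ K ≤ D_i O(C_L(z₀))` -/
theorem Good.main [Finite Γ] (h : Good R F1) {K : Subgroup (Γ ⧸ center Γ)} (hK : K ≤ CC R)
    (hsn : (K.subgroupOf (CC R)).IsSubnormal) (hz : z0 R ∈ K) {F' : Type*} [Field F'] [Fintype F']
    (ho' : Odd (Fintype.card F')) (eK : Nonempty (↥K ⧸ oddCore ↥K ≃* SpecialLinearGroup (Fin 2) F')) :
    (D1 R ≤ K ∧ K ≤ D1 R ⊔ OC R) ∨
      (Nonempty (R.E2 ≃* SpecialLinearGroup (Fin 2) F1) ∧ D2 R ≤ K ∧ K ≤ D2 R ⊔ OC R) := by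
  obtain ⟨f⟩ := exists_quot_equiv hK
  obtain ⟨eK⟩ := eK
  rcases h.setup.main hsn ho' (f.trans eK) (mem_subgroupOf.2 hz) with ⟨h1, h2⟩ | ⟨⟨e2⟩, h1, h2⟩
  · exact Or.inl ⟨le_of_subgroupOf_le D1_le_CC h1, le_sup_of_subgroupOf_le hK D1_le_CC h2⟩
  · exact Or.inr ⟨⟨((D2Equiv R).trans (subgroupOfEquivOfLe D2_le_CC).symm).trans e2⟩,
      le_of_subgroupOf_le D2_le_CC h1, le_sup_of_subgroupOf_le hK D2_le_CC h2⟩

/-- **F(L)**, exact form -/
theorem Good.main_exact [Finite Γ] (h : Good R F1) {K : Subgroup (Γ ⧸ center Γ)} (hK : K ≤ CC R)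
    (hsn : (K.subgroupOf (CC R)).IsSubnormal) (hz : z0 R ∈ K) {F' : Type*} [Field F'] [Fintype F']
    (ho' : Odd (Fintype.card F')) (eK : Nonempty (↥K ≃* SpecialLinearGroup (Fin 2) F')) :
    K = D1 R ∨ (Nonempty (R.E2 ≃* SpecialLinearGroup (Fin 2) F1) ∧ K = D2 R) := by
  obtain ⟨eK⟩ := eK
  have e0 := (subgroupOfEquivOfLe hK).trans eK
  rcases h.setup.eq_or_eq ho' hsn e0 (mem_subgroupOf.2 hz) with h1 | h1
  · left
    have h2 := congrArg (Subgroup.map (CC R).subtype) h1
    rwa [map_subgroupOf_eq_of_le hK, map_subgroupOf_eq_of_le D1_le_CC] at h2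
  · right
    have h2 := congrArg (Subgroup.map (CC R).subtype) h1
    rw [map_subgroupOf_eq_of_le hK, map_subgroupOf_eq_of_le D2_le_CC] at h2
    refine ⟨?_, h2⟩
    rcases h.alt with h3 | ⟨-, -, h3, -⟩ | h3
    · exact h3
    · exfalso
      apply h3
      apply exists_of_mem_D2 h.ne
      rw [← h2]; exact hz
    · exfalso
      have h4 : D2 R = ⊥ := by rw [D2, h3, Subgroup.map_bot]
      rw [h2, h4, mem_bot] at hz
      have h5 : R.t ∈ center Γ := pr_eq_one.1 hz
      have := h.ne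
      have h6 := congrArg R.ρ (E1_center R R.t_mem h5)
      rw [R.t_eq, map_one, ← fromBlocks_one, fromBlocks_inj] at h6
      have h7 := congrFun (congrFun h6.1 0) 0
      simp at h7
      apply h.two
      have : (1 : F) + 1 = 0 := by nth_rewrite 1 [← h7]; ring
      rw [← this]; norm_num

/-- other quasisimple types (`2.A₇`) do not occur -/
theorem Good.false_of_quasisimple [Finite Γ] (h : Good R F1) {K : Subgroup (Γ ⧸ center Γ)}
    (hK : K ≤ CC R) (hsn : (K.subgroupOf (CC R)).IsSubnormal) (hz : z0 R ∈ K)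
    (hq : IsQuasisimple (↥K ⧸ oddCore ↥K))
    (hne : ¬ Nonempty (↥K ⧸ oddCore ↥K ≃* SpecialLinearGroup (Fin 2) F1)) : False := by
  obtain ⟨f⟩ := exists_quot_equiv hK
  refine h.setup.main_quasisimple hsn
    (SignalizersComponents.ComponentNormalize.quasisimple_congr f.symm hq) ?_ (mem_subgroupOf.2 hz)
  rintro ⟨e⟩
  exact hne ⟨f.symm.trans e⟩

end Cfsg.Agent.Cit.LongMain
end

-- part: Cit/LongModel
section
/-!
# The groups `{M | det M = 1, Mᵀ M^t = 1 (t ∈ T)}`

`T = ∅` gives `SL`, `T = {x ↦ x ^ q}` gives `SU`.  `Model R T` says that the range of `R.ρ` is this group on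
the index set `Fin 2 ⊕ κ`; then `E1`, `E2` are the same groups on `Fin 2`, `κ`, and `Split`, `Big` hold.
-/

set_option autoImplicit false

namespace Cfsg.Agent.Cit.LongModel

open Subgroup Cfsg Matrix Cfsg.Agent.Cit.LongAbs Cfsg.Agent.Cit.LongBlock Cfsg.Agent.Cit.LongQuot
  Cfsg.Agent.Cit.LongMain

section Cond

variable {F : Type*} [Field F] (T : Set (F →+* F))
variable {ι : Type*} [Fintype ι] [DecidableEq ι] {κ : Type*} [Fintype κ] [DecidableEq κ]

/-- determinant one, unitary for all `t ∈ T` -/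
def Cond {ι : Type*} [Fintype ι] [DecidableEq ι] (M : Matrix ι ι F) : Prop :=
  M.det = 1 ∧ ∀ t ∈ T, Mᵀ * M.map t = 1

theorem Cond.one : Cond T (1 : Matrix ι ι F) := by
  refine ⟨det_one, fun t _ => ?_⟩
  rw [transpose_one, Matrix.one_mul, Matrix.map_one t (map_zero t) (map_one t)]

variable {T}

theorem Cond.mul {M N : Matrix ι ι F} (hM : Cond T M) (hN : Cond T N) : Cond T (M * N) := by
  refine ⟨by rw [det_mul, hM.1, hN.1, one_mul], fun t ht => ?_⟩
  rw [transpose_mul, Matrix.map_mul]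
  calc Nᵀ * Mᵀ * (M.map t * N.map t) = Nᵀ * (Mᵀ * M.map t) * N.map t := by
        simp only [Matrix.mul_assoc]
    _ = 1 := by rw [hM.2 t ht, Matrix.mul_one, hN.2 t ht]

theorem Cond.of_mul_eq_one {M N : Matrix ι ι F} (hM : Cond T M) (h : M * N = 1) : Cond T N := by
  refine ⟨?_, fun t ht => ?_⟩
  · have h1 := congrArg det h
    rwa [det_mul, hM.1, one_mul, det_one] at h1
  · have h0 := mul_eq_one_comm.1 (hM.2 t ht)
    have h1 : N = M⁻¹ := by
      rw [← Matrix.one_mul N]
      have : IsUnit M.det := by rw [hM.1]; exact isUnit_one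
      rw [← nonsing_inv_mul M this, Matrix.mul_assoc, h, Matrix.mul_one]
    have h2 : N.map t * M.map t = 1 := by
      rw [← Matrix.map_mul, mul_eq_one_comm.1 h, Matrix.map_one t (map_zero t) (map_one t)]
    have h3 : Nᵀ * Mᵀ = 1 := by rw [← transpose_mul, h, transpose_one]
    calc Nᵀ * N.map t = Nᵀ * ((Mᵀ * M.map t) * N.map t) := by rw [hM.2 t ht, Matrix.one_mul]
      _ = (Nᵀ * Mᵀ) * (M.map t * N.map t) := by simp only [Matrix.mul_assoc]
      _ = 1 := by rw [h3, Matrix.one_mul]; exact mul_eq_one_comm.1 h2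

theorem cond_fromBlocks {P : Matrix ι ι F} {S : Matrix κ κ F} (hP : P.det = 1) (hS : S.det = 1) :
    Cond T (fromBlocks P 0 0 S) ↔ Cond T P ∧ Cond T S := by
  have h1 : ∀ t : F →+* F, (fromBlocks P 0 0 S)ᵀ * (fromBlocks P 0 0 S).map t =
      fromBlocks (Pᵀ * P.map t) 0 0 (Sᵀ * S.map t) := by
    intro t
    rw [fromBlocks_transpose, fromBlocks_map, fromBlocks_multiply]
    simp only [_root_.Matrix.transpose_zero, _root_.map_zero, _root_.Matrix.map_zero, _root_.Matrix.mul_zero, _root_.add_zero, _root_.Matrix.zero_mul, _root_.zero_add]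
  constructor
  · rintro ⟨-, h⟩
    refine ⟨⟨hP, fun t ht => ?_⟩, ⟨hS, fun t ht => ?_⟩⟩
    · have h2 := h t ht
      rw [h1, ← fromBlocks_one, fromBlocks_inj] at h2
      exact h2.1
    · have h2 := h t ht
      rw [h1, ← fromBlocks_one, fromBlocks_inj] at h2
      exact h2.2.2.2
  · rintro ⟨hP', hS'⟩
    refine ⟨by rw [det_fromBlocks_zero₂₁, hP, hS, one_mul], fun t ht => ?_⟩
    rw [h1, hP'.2 t ht, hS'.2 t ht, fromBlocks_one]

theorem Cond.fromBlocks {P : Matrix ι ι F} {S : Matrix κ κ F} (hP : Cond T P) (hS : Cond T S) :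
    Cond T (fromBlocks P 0 0 S) := (cond_fromBlocks hP.1 hS.1).2 ⟨hP, hS⟩

theorem cond_fromBlocks_left {P : Matrix ι ι F} :
    Cond T (Matrix.fromBlocks P 0 0 (1 : Matrix κ κ F)) ↔ Cond T P := by
  constructor
  · intro h
    have hd : P.det = 1 := by
      have := h.1
      rwa [det_fromBlocks_zero₂₁, det_one, mul_one] at this
    exact ((cond_fromBlocks hd det_one).1 h).1
  · intro h
    exact h.fromBlocks (Cond.one T)

theorem cond_fromBlocks_right {S : Matrix κ κ F} :
    Cond T (Matrix.fromBlocks (1 : Matrix ι ι F) 0 0 S) ↔ Cond T S := by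
  constructor
  · intro h
    have hd : S.det = 1 := by
      have := h.1
      rwa [det_fromBlocks_zero₂₁, det_one, one_mul] at this
    exact ((cond_fromBlocks det_one hd).1 h).2
  · intro h
    exact (Cond.one T).fromBlocks h

theorem cond_reindex {ι' : Type*} [Fintype ι'] [DecidableEq ι'] (e : ι ≃ ι') {M : Matrix ι ι F} :
    Cond T (M.submatrix e.symm e.symm) ↔ Cond T M := by
  have h0 : ∀ t : F →+* F, (M.submatrix e.symm e.symm)ᵀ * (M.submatrix e.symm e.symm).map t =
      (Mᵀ * M.map t).submatrix e.symm e.symm := by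
    intro t
    rw [transpose_submatrix, ← submatrix_map, submatrix_mul_equiv]
  constructor
  · rintro ⟨h1, h2⟩
    refine ⟨by rwa [det_submatrix_equiv_self] at h1, fun t ht => ?_⟩
    have h3 := h2 t ht
    rw [h0] at h3
    have h4 := congrArg (fun N => N.submatrix e e) h3
    simpa only [_root_.Matrix.submatrix_submatrix, _root_.Equiv.symm_comp_self, _root_.Matrix.submatrix_id_id, _root_.Matrix.submatrix_one_equiv] using h4
  · rintro ⟨h1, h2⟩
    refine ⟨by rwa [det_submatrix_equiv_self], fun t ht => ?_⟩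
    rw [h0, h2 t ht]
    simp

/-- the group -/
def Un (T : Set (F →+* F)) (ι : Type*) [Fintype ι] [DecidableEq ι] :
    Subgroup (SpecialLinearGroup ι F) where
  carrier := {A : SpecialLinearGroup ι F | Cond T (A : Matrix ι ι F)}
  one_mem' := Cond.one T
  mul_mem' := fun {a b} ha hb => Cond.mul (M := a.1) (N := b.1) ha hb
  inv_mem' := fun {a} ha => by
    refine Cond.of_mul_eq_one (M := a.1) (N := (a⁻¹).1) ha ?_
    exact congrArg Subtype.val (mul_inv_cancel a)

/-- constructor -/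
def Un.mk {M : Matrix ι ι F} (h : Cond T M) : Un T ι := ⟨⟨M, h.1⟩, h⟩

end Cond

/-! ### models -/

variable {Γ : Type*} [Group Γ] {F : Type*} [Field F] {κ : Type*} [Fintype κ] [DecidableEq κ]
  {μ : Type*} [Fintype μ] [DecidableEq μ]
variable {T : Set (F →+* F)}

/-- the range of `ρ` is given by `Cond T` -/
def Model (R : RepG Γ F μ κ) (T : Set (F →+* F)) : Prop := ∀ M, (∃ g, R.ρ g = M) ↔ Cond T M

/-- the weaker statement which is used: only the block diagonal part -/
structure WModel (R : RepG Γ F μ κ) (T : Set (F →+* F)) : Prop where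
  ex : ∀ P S, Cond T P → Cond T S → ∃ g, R.ρ g = fromBlocks P 0 0 S
  left : ∀ g P, R.ρ g = fromBlocks P 0 0 1 → Cond T P
  right : ∀ g S, R.ρ g = fromBlocks 1 0 0 S → Cond T S
  split : Split R

theorem Model.toW {R : RepG Γ F μ κ} (hR : Model R T) : WModel R T where
  ex P S hP hS := (hR _).2 (hP.fromBlocks hS)
  left g P h := cond_fromBlocks_left.1 (h ▸ (hR _).1 ⟨g, rfl⟩)
  right g S h := cond_fromBlocks_right.1 (h ▸ (hR _).1 ⟨g, rfl⟩)
  split := by
    intro g P S h hP hS
    have h1 : Cond T (R.ρ g) := (hR _).1 ⟨g, rfl⟩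
    rw [h] at h1
    exact (hR _).2 (((cond_fromBlocks hP hS).1 h1).1.fromBlocks (Cond.one T))

variable {R : RepG Γ F μ κ} (hR : WModel R T)
include hR

theorem WModel.equiv1 : Nonempty (R.E1 ≃* Un T μ) := by
  have h0 : ∀ x : R.E1, R.ρ x = fromBlocks (R.ρ x).toBlocks₁₁ 0 0 1 ∧ Cond T (R.ρ x).toBlocks₁₁ := by
    rintro ⟨x, P, hP⟩
    rw [hP, toBlocks_fromBlocks₁₁]
    exact ⟨rfl, hR.left _ _ hP⟩
  let φ : R.E1 →* Un T μ :=
    { toFun := fun x => Un.mk (h0 x).2
      map_one' := by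
        apply Subtype.ext; apply Subtype.ext
        change (R.ρ ((1 : R.E1) : Γ)).toBlocks₁₁ = 1
        rw [Subgroup.coe_one, map_one, ← fromBlocks_one, toBlocks_fromBlocks₁₁]
      map_mul' := by
        intro x y
        apply Subtype.ext; apply Subtype.ext
        change (R.ρ ((x * y : R.E1) : Γ)).toBlocks₁₁ = (R.ρ x).toBlocks₁₁ * (R.ρ y).toBlocks₁₁
        rw [Subgroup.coe_mul, map_mul]
        nth_rewrite 1 [(h0 x).1, (h0 y).1]
        rw [fromBlocks_multiply, toBlocks_fromBlocks₁₁]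
        simp }
  refine ⟨MulEquiv.ofBijective φ ⟨?_, ?_⟩⟩
  · intro x y hxy
    have h1 : (R.ρ x).toBlocks₁₁ = (R.ρ y).toBlocks₁₁ :=
      congrArg (fun A : Un T μ => (A.1.1 : Matrix μ μ F)) hxy
    apply Subtype.ext
    apply R.inj
    rw [(h0 x).1, (h0 y).1, h1]
  · rintro ⟨⟨M, hM⟩, hM'⟩
    have h1 : Cond T M := hM'
    obtain ⟨g, hg⟩ := hR.ex M 1 h1 (Cond.one T)
    refine ⟨⟨g, M, hg⟩, ?_⟩
    apply Subtype.ext; apply Subtype.ext
    change (R.ρ g).toBlocks₁₁ = M
    rw [hg, toBlocks_fromBlocks₁₁]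

theorem WModel.equiv2 : Nonempty (R.E2 ≃* Un T κ) := by
  have h0 : ∀ x : R.E2, R.ρ x = fromBlocks 1 0 0 (R.ρ x).toBlocks₂₂ ∧ Cond T (R.ρ x).toBlocks₂₂ := by
    rintro ⟨x, P, hP⟩
    rw [hP, toBlocks_fromBlocks₂₂]
    exact ⟨rfl, hR.right _ _ hP⟩
  let φ : R.E2 →* Un T κ :=
    { toFun := fun x => Un.mk (h0 x).2
      map_one' := by
        apply Subtype.ext; apply Subtype.ext
        change (R.ρ ((1 : R.E2) : Γ)).toBlocks₂₂ = 1
        rw [Subgroup.coe_one, map_one, ← fromBlocks_one, toBlocks_fromBlocks₂₂]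
      map_mul' := by
        intro x y
        apply Subtype.ext; apply Subtype.ext
        change (R.ρ ((x * y : R.E2) : Γ)).toBlocks₂₂ = (R.ρ x).toBlocks₂₂ * (R.ρ y).toBlocks₂₂
        rw [Subgroup.coe_mul, map_mul]
        nth_rewrite 1 [(h0 x).1, (h0 y).1]
        rw [fromBlocks_multiply, toBlocks_fromBlocks₂₂]
        simp }
  refine ⟨MulEquiv.ofBijective φ ⟨?_, ?_⟩⟩
  · intro x y hxy
    have h1 : (R.ρ x).toBlocks₂₂ = (R.ρ y).toBlocks₂₂ :=
      congrArg (fun A : Un T κ => (A.1.1 : Matrix κ κ F)) hxy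
    apply Subtype.ext
    apply R.inj
    rw [(h0 x).1, (h0 y).1, h1]
  · rintro ⟨⟨M, hM⟩, hM'⟩
    have h1 : Cond T M := hM'
    obtain ⟨g, hg⟩ := hR.ex 1 M (Cond.one T) h1
    refine ⟨⟨g, M, hg⟩, ?_⟩
    apply Subtype.ext; apply Subtype.ext
    change (R.ρ g).toBlocks₂₂ = M
    rw [hg, toBlocks_fromBlocks₂₂]

omit hR

/-! ### quaternion pairs -/

/-- the data for a quaternion pair -/
def Quat (T : Set (F →+* F)) (a b : F) : Prop := a * a + b * b = -1 ∧ ∀ t ∈ T, t a = -a ∧ t b = -b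

/-- first element -/
def U1 (F : Type*) [Field F] : Matrix (Fin 2) (Fin 2) F := !![0, 1; -1, 0]
/-- second element -/
def U2 (a b : F) : Matrix (Fin 2) (Fin 2) F := !![a, b; b, -a]

theorem U1_sq : U1 F * U1 F = -1 := by
  ext i j
  (revert i j; simp only [U1, Matrix.mul_apply, Fin.sum_univ_two, _root_.Fin.forall_fin_succ, _root_.Matrix.of_apply, _root_.Matrix.cons_val', _root_.Matrix.cons_val_fin_one, Fin.isValue, _root_.Matrix.cons_val_zero, _root_.Matrix.cons_val_one, _root_.Matrix.neg_apply, _root_.MulZeroClass.mul_zero, _root_.mul_neg, _root_.mul_one, _root_.zero_add, _root_.neg_inj, _root_.Matrix.cons_val_succ, _root_.add_zero, _root_.IsEmpty.forall_iff, _root_.and_true, _root_.Matrix.one_apply_eq, Nat.reduceAdd, _root_.Fin.succ_zero_eq_one, _root_.ne_eq, _root_.zero_ne_one, _root_.not_false_eq_true, _root_.Matrix.one_apply_ne, _root_.neg_zero, _root_.and_self, _root_.Fin.succ_ne_zero, _root_.true_and])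

theorem U2_sq {a b : F} (h : Quat T a b) : U2 a b * U2 a b = -1 := by
  have h1 := h.1
  ext i j
  (revert i j; simp only [U2, Matrix.mul_apply, Fin.sum_univ_two, _root_.Fin.forall_fin_succ, _root_.Matrix.of_apply, _root_.Matrix.cons_val', _root_.Matrix.cons_val_fin_one, Fin.isValue, _root_.Matrix.cons_val_zero, _root_.Matrix.cons_val_one, _root_.Matrix.neg_apply, _root_.Matrix.cons_val_succ, _root_.mul_neg, _root_.IsEmpty.forall_iff, _root_.Matrix.one_apply_eq, Nat.reduceAdd, _root_.Fin.succ_zero_eq_one, _root_.ne_eq, _root_.zero_ne_one, _root_.not_false_eq_true, _root_.Matrix.one_apply_ne, _root_.neg_zero, _root_.neg_mul, _root_.Fin.succ_ne_zero, _root_.neg_neg, _root_.and_true, _root_.true_and]) <;> (repeat' with_reducible apply And.intro)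
  · linear_combination h1
  · ring
  · ring
  · linear_combination h1

theorem cond_U1 (T : Set (F →+* F)) : Cond T (U1 F) := by
  refine ⟨by simp [U1], fun t _ => ?_⟩
  ext i j
  (revert i j; simp only [U1, Matrix.mul_apply, Fin.sum_univ_two, _root_.Fin.forall_fin_succ, _root_.Matrix.transpose_apply, _root_.Matrix.of_apply, _root_.Matrix.cons_val', _root_.Matrix.cons_val_fin_one, _root_.Matrix.map_apply, Fin.isValue, _root_.Matrix.cons_val_zero, _root_.Matrix.cons_val_one, _root_.map_zero, _root_.MulZeroClass.mul_zero, _root_.map_neg, _root_.map_one, _root_.mul_neg, _root_.mul_one, _root_.zero_add, _root_.Matrix.cons_val_succ, _root_.add_zero, _root_.IsEmpty.forall_iff, _root_.and_true, _root_.neg_neg, _root_.Matrix.one_apply_eq, Nat.reduceAdd, _root_.Fin.succ_zero_eq_one, _root_.ne_eq, _root_.zero_ne_one, _root_.not_false_eq_true, _root_.Matrix.one_apply_ne, _root_.and_self, _root_.neg_zero, _root_.Fin.succ_ne_zero, _root_.true_and])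

theorem cond_U2 {a b : F} (h : Quat T a b) : Cond T (U2 a b) := by
  have h1 := h.1
  refine ⟨?_, fun t ht => ?_⟩
  · rw [U2, det_fin_two_of]
    linear_combination -h1
  · obtain ⟨h2, h3⟩ := h.2 t ht
    ext i j
    (revert i j; simp only [U2, Matrix.mul_apply, Fin.sum_univ_two, h2, h3, _root_.Fin.forall_fin_succ, _root_.Matrix.transpose_apply, _root_.Matrix.of_apply, _root_.Matrix.cons_val', _root_.Matrix.cons_val_fin_one, _root_.Matrix.map_apply, Fin.isValue, _root_.Matrix.cons_val_zero, _root_.Matrix.cons_val_one, _root_.mul_neg, _root_.Matrix.cons_val_succ, _root_.map_neg, _root_.neg_neg, _root_.IsEmpty.forall_iff, _root_.Matrix.one_apply_eq, Nat.reduceAdd, _root_.Fin.succ_zero_eq_one, _root_.ne_eq, _root_.zero_ne_one, _root_.not_false_eq_true, _root_.Matrix.one_apply_ne, _root_.neg_mul, _root_.Fin.succ_ne_zero, _root_.and_true, _root_.true_and]) <;> (repeat' with_reducible apply And.intro)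
    · linear_combination -h1
    · ring
    · ring
    · linear_combination -h1

theorem trace_U1 : trace (U1 F) = 0 := by simp [U1, trace_fin_two]
theorem trace_U2 (a b : F) : trace (U2 a b) = 0 := by simp [U2, trace_fin_two]

theorem scalar_of_comm {a b : F} (h2 : (2 : F) ≠ 0) (h : Quat T a b) {P : Matrix (Fin 2) (Fin 2) F}
    (h3 : P * U1 F = U1 F * P) (h4 : P * U2 a b = U2 a b * P) : ∃ c : F, P = c • 1 := by
  have e1 := congrFun (congrFun h3 0) 0
  have e2 := congrFun (congrFun h3 0) 1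
  have e3 := congrFun (congrFun h4 0) 0
  have e4 := congrFun (congrFun h4 0) 1
  simp only [U1, Matrix.mul_apply, Fin.sum_univ_two, _root_.Cfsg.Agent.Cit.LongModel.U1, _root_.Fin.isValue, _root_.Matrix.mul_apply, _root_.Matrix.of_apply, _root_.Matrix.cons_val', _root_.Matrix.cons_val_zero, _root_.Matrix.cons_val_fin_one, _root_.Fin.sum_univ_two, _root_.MulZeroClass.mul_zero, _root_.Matrix.cons_val_one, _root_.mul_neg, _root_.mul_one, _root_.zero_add, _root_.MulZeroClass.zero_mul, _root_.one_mul, _root_.add_zero] at e1 e2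
  simp only [U2, Matrix.mul_apply, Fin.sum_univ_two, _root_.Cfsg.Agent.Cit.LongModel.U2, _root_.Fin.isValue, _root_.Matrix.mul_apply, _root_.Matrix.of_apply, _root_.Matrix.cons_val', _root_.Matrix.cons_val_zero, _root_.Matrix.cons_val_fin_one, _root_.Fin.sum_univ_two, _root_.Matrix.cons_val_one, _root_.mul_neg] at e3 e4
  -- `e1 : -P 0 1 = P 1 0`, `e2 : P 0 0 = P 1 1`
  have e5 : 2 * (P 0 1 * b) = 0 := by linear_combination e3 - b * e1
  have e6 : 2 * (P 0 1 * a) = 0 := by linear_combination -e4 + b * e2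
  have hb : P 0 1 * b = 0 := (mul_eq_zero.1 e5).resolve_left h2
  have ha : P 0 1 * a = 0 := (mul_eq_zero.1 e6).resolve_left h2
  have h0 : P 0 1 = 0 := by
    have h1 := h.1
    linear_combination (P 0 1) * h1 - a * ha - b * hb
  have h5 : P 1 0 = 0 := by rw [← e1, h0, neg_zero]
  refine ⟨P 0 0, ?_⟩
  ext i j
  (revert i j; simp only [h0, h5, e2, _root_.Fin.forall_fin_succ, Fin.isValue, _root_.Matrix.smul_apply, _root_.smul_eq_mul, _root_.Fin.succ_zero_eq_one, _root_.IsEmpty.forall_iff, _root_.and_true, _root_.Matrix.one_apply_eq, _root_.mul_one, Nat.reduceAdd, _root_.ne_eq, _root_.zero_ne_one, _root_.not_false_eq_true, _root_.Matrix.one_apply_ne, _root_.MulZeroClass.mul_zero, _root_.and_self, _root_.Fin.succ_ne_zero])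

omit [DecidableEq κ] in
theorem trace_blocks {ι : Type*} [Fintype ι] (P : Matrix ι ι F) (S : Matrix κ κ F) :
    trace (fromBlocks P 0 0 S) = trace P + trace S := by
  simp only [trace, Fintype.sum_sum_type, _root_.Matrix.trace, _root_.Matrix.diag_apply, _root_.Fintype.sum_sum_type, _root_.Matrix.fromBlocks_apply₁₁, _root_.Matrix.fromBlocks_apply₂₂]

theorem WModel.big_of {R : Rep Γ F κ} (hR : WModel R T) {a b : F} (h2 : (2 : F) ≠ 0) (h : Quat T a b) (w0 : Matrix κ κ F)
    (hw0 : Cond T w0) (hw0s : w0 * w0 = 1) (hw0t : trace w0 ≠ 0) (W : Set (Matrix κ κ F))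
    (hW : ∀ w ∈ W, Cond T w) (hWt : ∀ w ∈ W, 2 + trace w ≠ 0)
    (hWc : ∀ S : Matrix κ κ F, (∀ w ∈ W, S * w = w * S) → ∃ c : F, S = c • 1) : Big R := by
  have hmem : ∀ g P S, R.ρ g = fromBlocks P 0 0 S → P.det = 1 → S.det = 1 → g ∈ R.E1 ⊔ R.E2 :=
    fun g P S hg hP hS => hR.split.mem R hg hP hS
  refine ⟨{g | (∃ U ∈ ({U1 F, U2 a b} : Set (Matrix (Fin 2) (Fin 2) F)), R.ρ g = fromBlocks U 0 0 w0) ∨
    ∃ w ∈ W, R.ρ g = fromBlocks 1 0 0 w}, ?_, ?_, ?_⟩
  · rintro u (⟨U, hU, hu⟩ | ⟨w, hw, hu⟩)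
    · refine hmem u _ _ hu ?_ hw0.1
      rcases hU with rfl | rfl
      · exact (cond_U1 T).1
      · exact (cond_U2 h).1
    · exact hmem u _ _ hu det_one (hW w hw).1
  · rintro u (⟨U, hU, hu⟩ | ⟨w, hw, hu⟩)
    · rw [hu, trace_blocks]
      have : trace U = 0 := by
        rcases hU with rfl | rfl
        · exact trace_U1
        · exact trace_U2 a b
      rwa [this, zero_add]
    · rw [hu, trace_blocks, trace_one, Fintype.card_fin]
      exact_mod_cast hWt w hw
  · intro g hg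
    obtain ⟨u1, hu1⟩ := hR.ex _ _ (cond_U1 T) hw0
    obtain ⟨u2, hu2⟩ := hR.ex _ _ (cond_U2 h) hw0
    have c1 := hg u1 (Or.inl ⟨_, Or.inl rfl, hu1⟩)
    have c2 := hg u2 (Or.inl ⟨_, Or.inr rfl, hu2⟩)
    have ht : u1 * u1 = R.t := by
      apply R.inj
      rw [map_mul, hu1, fromBlocks_multiply, R.t_eq]
      simp only [U1_sq, hw0s, _root_.Cfsg.Agent.Cit.LongModel.U1_sq, _root_.Matrix.mul_zero, _root_.add_zero, _root_.Matrix.zero_mul, _root_.zero_add]
    have hgt : g * R.t = R.t * g := by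
      rw [← ht]
      calc g * (u1 * u1) = (g * u1) * u1 := (mul_assoc _ _ _).symm
        _ = u1 * (g * u1) := by rw [c1, mul_assoc, c1, ← mul_assoc]
        _ = u1 * u1 * g := by rw [c1, mul_assoc]
    obtain ⟨P, S, hPS⟩ := R.blocks_of_comm h2 hgt
    have d1 := congrArg R.ρ c1
    have d2 := congrArg R.ρ c2
    rw [map_mul, map_mul, hPS, hu1, fromBlocks_multiply, fromBlocks_multiply, fromBlocks_inj] at d1
    rw [map_mul, map_mul, hPS, hu2, fromBlocks_multiply, fromBlocks_multiply, fromBlocks_inj] at d2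
    simp only [Matrix.zero_mul, Matrix.mul_zero, add_zero, zero_add] at d1 d2
    obtain ⟨c, hc⟩ := scalar_of_comm h2 h d1.1 d2.1
    obtain ⟨d, hd⟩ := hWc S fun w hw => by
      obtain ⟨k, hk⟩ := hR.ex _ _ (Cond.one T) (hW w hw)
      have d3 := congrArg R.ρ (hg k (Or.inr ⟨w, hw, hk⟩))
      rw [map_mul, map_mul, hPS, hk, fromBlocks_multiply, fromBlocks_multiply, fromBlocks_inj] at d3
      simp only [Matrix.zero_mul, Matrix.mul_zero, add_zero, zero_add] at d3
      exact d3.2.2.2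
    exact ⟨c, d, by rw [hPS, hc, hd]⟩

theorem WModel.big1 {R : Rep Γ F (Fin 1)} (hR : WModel R T) {a b : F} (h2 : (2 : F) ≠ 0)
    (h : Quat T a b) : Big R := by
  refine hR.big_of h2 h 1 (Cond.one T) (Matrix.one_mul _) (by simp only [_root_.Matrix.trace_one, _root_.Fintype.card_unique, _root_.Nat.cast_one, _root_.ne_eq, _root_.one_ne_zero, _root_.not_false_eq_true]) ∅ (by simp) (by simp only [_root_.Set.mem_empty_iff_false, _root_.ne_eq, _root_.IsEmpty.forall_iff, _root_.implies_true]) ?_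
  intro S _
  refine ⟨S 0 0, ?_⟩
  ext i j
  fin_cases i; fin_cases j; simp

theorem WModel.big2 {R : Rep Γ F (Fin 2)} (hR : WModel R T) {a b : F} (h2 : (2 : F) ≠ 0)
    (h : Quat T a b) : Big R := by
  refine hR.big_of h2 h 1 (Cond.one T) (Matrix.one_mul _) (by simpa only [_root_.Matrix.trace_one, _root_.Fintype.card_fin, _root_.Nat.cast_ofNat, _root_.ne_eq] using h2) {U1 F, U2 a b} ?_ ?_ ?_
  · rintro w (rfl | rfl)
    · exact cond_U1 T
    · exact cond_U2 h
  · rintro w (rfl | rfl)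
    · rw [trace_U1, add_zero]; exact h2
    · rw [trace_U2, add_zero]; exact h2
  · intro S hS
    exact scalar_of_comm h2 h (hS _ (Or.inl rfl)) (hS _ (Or.inr rfl))

/-- `diag(-1,-1,1)` -/
def V1 (F : Type*) [Field F] : Matrix (Fin 3) (Fin 3) F := !![-1, 0, 0; 0, -1, 0; 0, 0, 1]
/-- `diag(1,-1,-1)` -/
def V2 (F : Type*) [Field F] : Matrix (Fin 3) (Fin 3) F := !![1, 0, 0; 0, -1, 0; 0, 0, -1]
/-- a 3-cycle -/
def V3 (F : Type*) [Field F] : Matrix (Fin 3) (Fin 3) F := !![0, 1, 0; 0, 0, 1; 1, 0, 0]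

theorem cond_V1 (T : Set (F →+* F)) : Cond T (V1 F) := by
  refine ⟨by simp [V1, det_fin_three], fun t _ => ?_⟩
  ext i j
  (revert i j; simp only [V1, Matrix.mul_apply, Fin.sum_univ_three, _root_.Fin.forall_fin_succ, _root_.Matrix.transpose_apply, _root_.Matrix.of_apply, _root_.Matrix.cons_val', _root_.Matrix.cons_val_fin_one, _root_.Matrix.map_apply, Fin.isValue, _root_.Matrix.cons_val_zero, _root_.Matrix.cons_val_one, _root_.Matrix.cons_val, _root_.map_neg, _root_.map_one, _root_.mul_neg, _root_.mul_one, _root_.map_zero, _root_.MulZeroClass.mul_zero, _root_.add_zero, _root_.Matrix.cons_val_succ, _root_.zero_add, _root_.IsEmpty.forall_iff, _root_.and_true, _root_.neg_neg, _root_.Matrix.one_apply_eq, _root_.neg_zero, Nat.reduceAdd, _root_.Fin.succ_zero_eq_one, _root_.ne_eq, _root_.zero_ne_one, _root_.not_false_eq_true, _root_.Matrix.one_apply_ne, _root_.Fin.succ_one_eq_two, Fin.reduceEq, _root_.and_self, _root_.Fin.succ_ne_zero, _root_.neg_eq_zero, _root_.true_and])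

theorem cond_V2 (T : Set (F →+* F)) : Cond T (V2 F) := by
  refine ⟨by simp [V2, det_fin_three], fun t _ => ?_⟩
  ext i j
  (revert i j; simp only [V2, Matrix.mul_apply, Fin.sum_univ_three, _root_.Fin.forall_fin_succ, _root_.Matrix.transpose_apply, _root_.Matrix.of_apply, _root_.Matrix.cons_val', _root_.Matrix.cons_val_fin_one, _root_.Matrix.map_apply, Fin.isValue, _root_.Matrix.cons_val_zero, _root_.Matrix.cons_val_one, _root_.Matrix.cons_val, _root_.map_one, _root_.mul_one, _root_.map_zero, _root_.MulZeroClass.mul_zero, _root_.add_zero, _root_.Matrix.cons_val_succ, _root_.map_neg, _root_.mul_neg, _root_.zero_add, _root_.IsEmpty.forall_iff, _root_.and_true, _root_.Matrix.one_apply_eq, _root_.neg_zero, Nat.reduceAdd, _root_.Fin.succ_zero_eq_one, _root_.ne_eq, _root_.zero_ne_one, _root_.not_false_eq_true, _root_.Matrix.one_apply_ne, _root_.Fin.succ_one_eq_two, Fin.reduceEq, _root_.and_self, _root_.Fin.succ_ne_zero, _root_.neg_neg, _root_.true_and])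

theorem cond_V3 (T : Set (F →+* F)) : Cond T (V3 F) := by
  refine ⟨by simp [V3, det_fin_three], fun t _ => ?_⟩
  ext i j
  (revert i j; simp only [V3, Matrix.mul_apply, Fin.sum_univ_three, _root_.Fin.forall_fin_succ, _root_.Matrix.transpose_apply, _root_.Matrix.of_apply, _root_.Matrix.cons_val', _root_.Matrix.cons_val_fin_one, _root_.Matrix.map_apply, Fin.isValue, _root_.Matrix.cons_val_zero, _root_.Matrix.cons_val_one, _root_.Matrix.cons_val, _root_.map_zero, _root_.MulZeroClass.mul_zero, _root_.add_zero, _root_.map_one, _root_.mul_one, _root_.zero_add, _root_.Matrix.cons_val_succ, _root_.IsEmpty.forall_iff, _root_.and_true, _root_.Matrix.one_apply_eq, Nat.reduceAdd, _root_.Fin.succ_zero_eq_one, _root_.ne_eq, _root_.zero_ne_one, _root_.not_false_eq_true, _root_.Matrix.one_apply_ne, _root_.Fin.succ_one_eq_two, Fin.reduceEq, _root_.and_self, _root_.Fin.succ_ne_zero, _root_.true_and])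

theorem V1_sq : V1 F * V1 F = 1 := by
  ext i j
  (revert i j; simp only [V1, Matrix.mul_apply, Fin.sum_univ_three, _root_.Fin.forall_fin_succ, _root_.Matrix.of_apply, _root_.Matrix.cons_val', _root_.Matrix.cons_val_fin_one, Fin.isValue, _root_.Matrix.cons_val_zero, _root_.Matrix.cons_val_one, _root_.Matrix.cons_val, _root_.mul_neg, _root_.mul_one, _root_.MulZeroClass.mul_zero, _root_.add_zero, _root_.Matrix.cons_val_succ, _root_.zero_add, _root_.IsEmpty.forall_iff, _root_.and_true, _root_.neg_neg, _root_.Matrix.one_apply_eq, _root_.neg_zero, Nat.reduceAdd, _root_.Fin.succ_zero_eq_one, _root_.ne_eq, _root_.zero_ne_one, _root_.not_false_eq_true, _root_.Matrix.one_apply_ne, _root_.Fin.succ_one_eq_two, Fin.reduceEq, _root_.and_self, _root_.Fin.succ_ne_zero, _root_.neg_eq_zero, _root_.true_and])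

theorem WModel.big3 {R : Rep Γ F (Fin 3)} (hR : WModel R T) {a b : F} (h2 : (2 : F) ≠ 0)
    (h : Quat T a b) : Big R := by
  have t1 : trace (V1 F) = -1 := by simp [V1, trace_fin_three]
  have t2 : trace (V2 F) = -1 := by simp [V2, trace_fin_three]
  have t3 : trace (V3 F) = 0 := by simp [V3, trace_fin_three]
  refine hR.big_of h2 h (V1 F) (cond_V1 T) V1_sq ?_ {V1 F, V2 F, V3 F} ?_ ?_ ?_
  · rw [t1]; exact neg_ne_zero.2 one_ne_zero
  · rintro w (rfl | rfl | rfl)
    · exact cond_V1 T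
    · exact cond_V2 T
    · exact cond_V3 T
  · have h1 : (2 : F) + -1 ≠ 0 := by
      have : (2 : F) + -1 = 1 := by norm_num
      rw [this]; exact one_ne_zero
    rintro w (rfl | rfl | rfl)
    · rw [t1]; exact h1
    · rw [t2]; exact h1
    · rw [t3, add_zero]; exact h2
  · intro S hS
    have e1 := hS _ (Or.inl rfl)
    have e2 := hS _ (Or.inr (Or.inl rfl))
    have e3 := hS _ (Or.inr (Or.inr rfl))
    have key : ∀ x : F, -x = x → x = 0 := by
      intro x hx
      have : 2 * x = 0 := by linear_combination -hx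
      exact (mul_eq_zero.1 this).resolve_left h2
    have key' : ∀ x : F, x = -x → x = 0 := fun x hx => key x hx.symm
    have a02 := congrFun (congrFun e1 0) 2
    have a12 := congrFun (congrFun e1 1) 2
    have a20 := congrFun (congrFun e1 2) 0
    have a21 := congrFun (congrFun e1 2) 1
    have a01 := congrFun (congrFun e2 0) 1
    have a10 := congrFun (congrFun e2 1) 0
    have b0 := congrFun (congrFun e3 0) 1
    have b1 := congrFun (congrFun e3 1) 2
    simp only [V1, V2, V3, Matrix.mul_apply, Fin.sum_univ_three, _root_.Cfsg.Agent.Cit.LongModel.V1, _root_.Fin.isValue, _root_.Matrix.mul_apply, _root_.Matrix.of_apply, _root_.Matrix.cons_val', _root_.Matrix.cons_val, _root_.Matrix.cons_val_fin_one, _root_.Fin.sum_univ_three, _root_.Matrix.cons_val_zero, _root_.MulZeroClass.mul_zero, _root_.Matrix.cons_val_one, _root_.add_zero, _root_.mul_one, _root_.zero_add, _root_.neg_mul, _root_.one_mul, _root_.MulZeroClass.zero_mul, _root_.mul_neg, _root_.Cfsg.Agent.Cit.LongModel.V2,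 _root_.Cfsg.Agent.Cit.LongModel.V3] at a02 a12 a20 a21 a01 a10 b0 b1
    refine ⟨S 0 0, ?_⟩
    ext i j
    (revert i j; simp only [_root_.Fin.forall_fin_succ, Fin.isValue, _root_.Matrix.smul_apply, _root_.smul_eq_mul, _root_.Fin.succ_zero_eq_one, _root_.Fin.succ_one_eq_two, _root_.IsEmpty.forall_iff, _root_.Matrix.one_apply_eq, _root_.mul_one, Nat.reduceAdd, _root_.ne_eq, _root_.zero_ne_one, _root_.not_false_eq_true, _root_.Matrix.one_apply_ne, _root_.MulZeroClass.mul_zero, Fin.reduceEq, _root_.Fin.succ_ne_zero, _root_.and_true, _root_.true_and]) <;> (repeat' with_reducible apply And.intro)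
    all_goals first
      | exact key _ (by assumption)
      | exact key' _ (by assumption)
      | exact b0.symm
      | exact (b0.trans b1).symm

end Cfsg.Agent.Cit.LongModel
end

-- part: Cit/LongInst
section
/-!
# `F(L)` for `PSL_n(F)` and `PSU_n(q)`, `n = 3, 4, 5`
-/

set_option autoImplicit false

namespace Cfsg.Agent.Cit.LongInst

open Subgroup Cfsg Matrix Cfsg.Agent.Cit.LongAbs Cfsg.Agent.Cit.LongBlock Cfsg.Agent.Cit.LongQuot
  Cfsg.Agent.Cit.LongMain Cfsg.Agent.Cit.LongModel Cfsg.Agent.LieClassical.HermBasic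

section Mk

variable {Γ : Type*} [Group Γ] {F : Type*} [Field F] {κ : Type*} [Fintype κ] [DecidableEq κ]
  {μ : Type*} [Fintype μ] [DecidableEq μ]
variable {ι : Type*} [Fintype ι] [DecidableEq ι]

/-- reindexed representation -/
def rho (e : ι ≃ μ ⊕ κ) (f : Γ →* SpecialLinearGroup ι F) :
    Γ →* Matrix (μ ⊕ κ) (μ ⊕ κ) F where
  toFun g := (f g).1.submatrix e.symm e.symm
  map_one' := by rw [map_one]; exact submatrix_one_equiv e.symm
  map_mul' g h := by
    rw [map_mul]
    exact (submatrix_mul_equiv (f g).1 (f h).1 e.symm e.symm e.symm).symm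

theorem rho_apply (e : ι ≃ μ ⊕ κ) (f : Γ →* SpecialLinearGroup ι F) (g : Γ) :
    rho e f g = (f g).1.submatrix e.symm e.symm := rfl

theorem rho_eq_iff {e : ι ≃ μ ⊕ κ} {f : Γ →* SpecialLinearGroup ι F} {g : Γ}
    {M : Matrix (μ ⊕ κ) (μ ⊕ κ) F} : rho e f g = M ↔ (f g).1 = M.submatrix e e := by
  constructor
  · rintro rfl
    simp [rho_apply]
  · intro h
    rw [rho_apply, h]
    simp

/-- the `Rep` from an embedding in `SL` -/
def mkRep (e : ι ≃ μ ⊕ κ) (f : Γ →* SpecialLinearGroup ι F) (hf : Function.Injective f)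
    (cen : ∀ g ∈ center Γ, ∃ c : F, (f g).1 = c • 1) (t : Γ)
    (ht : (f t).1 = (fromBlocks (-1) 0 0 1 : Matrix (μ ⊕ κ) (μ ⊕ κ) F).submatrix e e) : RepG Γ F μ κ where
  ρ := rho e f
  inj := by
    intro g h hgh
    apply hf
    apply Subtype.ext
    have h1 := (rho_eq_iff (e := e) (f := f) (g := g)).1 hgh
    rw [h1, rho_apply]
    simp
  cen := by
    intro g hg
    obtain ⟨c, hc⟩ := cen g hg
    refine ⟨c, rho_eq_iff.2 ?_⟩
    rw [hc]
    ext i j
    simp [Matrix.one_apply]
  t := t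
  t_eq := rho_eq_iff.2 ht

theorem mkRep_model (T : Set (F →+* F)) (e : ι ≃ μ ⊕ κ) (f : Γ →* SpecialLinearGroup ι F)
    (hf : Function.Injective f) (cen) (t : Γ) (ht)
    (hr : ∀ A : SpecialLinearGroup ι F, A ∈ f.range ↔ Cond T A.1) :
    Model (mkRep e f hf cen t ht) T := by
  intro M
  have h0 : Cond T (M.submatrix e e) ↔ Cond T M := by
    have := cond_reindex (T := T) e.symm (M := M)
    simpa using this
  constructor
  · rintro ⟨g, hg⟩
    have h1 : (f g).1 = M.submatrix e e := rho_eq_iff.1 hg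
    rw [← h0, ← h1]
    exact (hr _).1 ⟨g, rfl⟩
  · intro hM
    have h1 : Cond T (M.submatrix e e) := h0.2 hM
    obtain ⟨g, hg⟩ := (hr ⟨M.submatrix e e, h1.1⟩).2 h1
    exact ⟨g, rho_eq_iff.2 (by rw [hg])⟩

end Mk

/-! ### `SL` -/

section SL

variable (F : Type*) [Field F] (k : ℕ)

/-- the index equivalence -/
def ee : Fin (2 + k) ≃ Fin 2 ⊕ Fin k := finSumFinEquiv.symm

/-- `diag(-1,-1,1,…)` -/
def tt : SpecialLinearGroup (Fin (2 + k)) F :=
  ⟨(fromBlocks (-1) 0 0 1 : Matrix (Fin 2 ⊕ Fin k) (Fin 2 ⊕ Fin k) F).submatrix (ee k) (ee k), by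
    rw [det_submatrix_equiv_self, det_fromBlocks_zero₂₁, det_one, mul_one, det_neg]
    simp only [_root_.Fintype.card_fin, _root_.even_two, _root_.Even.neg_pow, _root_.one_pow, _root_.Matrix.det_one, _root_.mul_one]⟩

theorem sl_cen (g : SpecialLinearGroup (Fin (2 + k)) F)
    (hg : g ∈ center (SpecialLinearGroup (Fin (2 + k)) F)) : ∃ c : F, g.1 = c • 1 := by
  rw [Matrix.SpecialLinearGroup.mem_center_iff] at hg
  obtain ⟨c, -, hc⟩ := hg
  exact ⟨c, by rw [← hc]; ext i j; simp [Matrix.scalar_apply, Matrix.diagonal_apply, Matrix.one_apply]⟩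

/-- `SL_{2+k}(F)` -/
def slRep : Rep (SpecialLinearGroup (Fin (2 + k)) F) F (Fin k) :=
  mkRep (ee k) (MonoidHom.id _) Function.injective_id (sl_cen F k) (tt F k) rfl

theorem slRep_model : Model (slRep F k) ∅ := by
  refine mkRep_model ∅ _ _ _ _ _ _ fun A => ?_
  constructor
  · intro _
    exact ⟨A.2, fun t ht => absurd ht (Set.notMem_empty t)⟩
  · intro _
    exact ⟨A, rfl⟩

theorem un_empty (ι : Type*) [Fintype ι] [DecidableEq ι] : Un (∅ : Set (F →+* F)) ι = ⊤ := by
  rw [eq_top_iff]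
  intro A _
  exact ⟨A.2, fun t ht => absurd ht (Set.notMem_empty t)⟩

theorem un_empty_equiv (ι : Type*) [Fintype ι] [DecidableEq ι] :
    Nonempty (Un (∅ : Set (F →+* F)) ι ≃* SpecialLinearGroup ι F) := by
  rw [un_empty]; exact ⟨Subgroup.topEquiv⟩

/-- a quaternion pair for `SL` -/
theorem exists_quat [Fintype F] : ∃ a b : F, Quat (∅ : Set (F →+* F)) a b := by
  obtain ⟨p, hp⟩ := CharP.exists F
  have hp0 : NeZero p := ⟨by
    rintro rfl
    have := (CharP.charP_zero_iff_charZero F).1 hp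
    exact not_finite F⟩
  obtain ⟨a, b, hab⟩ := CharP.sq_add_sq F p (-1)
  refine ⟨a, b, ?_, fun t ht => absurd ht (Set.notMem_empty t)⟩
  rw [← pow_two, ← pow_two, hab]
  simp

theorem three_eq_zero {F : Type*} [Field F] [Fintype F] (h : Fintype.card F = 3) : (3 : F) = 0 := by
  have := FiniteField.cast_card_eq_zero F
  rw [h] at this
  exact_mod_cast this

/-- centre of `SL_3`, `|F| = 3` -/
theorem un3_center {F : Type*} [Field F] {T : Set (F →+* F)} (h3 : (3 : F) = 0)
    (hc : ∀ A ∈ center (Un T (Fin 3)), ∃ c : F, A.1.1 = c • 1) : center (Un T (Fin 3)) = ⊥ := by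
  rw [eq_bot_iff]
  intro A hA
  obtain ⟨c, hc⟩ := hc A hA
  have h1 : A.1.1.det = 1 := A.1.2
  rw [hc, det_smul, det_one, mul_one, Fintype.card_fin, pow_succ, pow_two] at h1
  rw [mem_bot]
  apply Subtype.ext; apply Subtype.ext
  rw [hc, eq_one_of_cube h3 h1, one_smul]
  rfl

/-- an involution in `Un T (Fin 3)` -/
theorem un3_even {F : Type*} [Field F] [Finite F] {T : Set (F →+* F)} (h2 : (2 : F) ≠ 0) :
    Even (Nat.card (Un T (Fin 3))) := by
  have h1 : (Un.mk (cond_V1 T)) ≠ (1 : Un T (Fin 3)) := by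
    intro h
    have h3 : (V1 F) 0 0 = (1 : Matrix (Fin 3) (Fin 3) F) 0 0 := by
      have := congrArg (fun A : Un T (Fin 3) => (A.1.1 : Matrix (Fin 3) (Fin 3) F) 0 0) h
      exact this
    simp [V1] at h3
    apply h2
    have : (1 : F) + 1 = 0 := by nth_rewrite 1 [← h3]; ring
    rw [← this]; norm_num
  have h3 : (Un.mk (cond_V1 T)) ^ 2 = (1 : Un T (Fin 3)) := by
    rw [pow_two]
    apply Subtype.ext; apply Subtype.ext
    exact V1_sq
  have h4 : orderOf (Un.mk (cond_V1 T)) = 2 := orderOf_eq_prime h3 h1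
  have h5 := orderOf_dvd_natCard (Un.mk (cond_V1 T))
  rw [h4] at h5
  exact even_iff_two_dvd.2 h5

end SL

/-! ### `Good` for models -/

section Good

variable {Γ : Type*} [Group Γ] {F : Type*} [Field F] {T : Set (F →+* F)}
  {F1 : Type*} [Field F1] [Fintype F1]

theorem good1 {R : Rep Γ F (Fin 1)} (hR : WModel R T) {a b : F} (h2 : (2 : F) ≠ 0) (h : Quat T a b)
    (ho : Odd (Fintype.card F1)) (e : Nonempty (Un T (Fin 2) ≃* SpecialLinearGroup (Fin 2) F1))
    (h3 : Fintype.card F1 = 3 → (3 : F) = 0) : Good R F1 where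
  two := h2
  ne := ⟨0⟩
  odd := ho
  e1 := by
    obtain ⟨f⟩ := hR.equiv1
    obtain ⟨e⟩ := e
    exact ⟨f.trans e⟩
  alt := by
    right; right
    rw [eq_bot_iff]
    rintro x ⟨S, hS⟩
    rw [mem_bot]
    apply R.inj
    have h1 := (hR.right x S hS).1
    rw [det_fin_one] at h1
    rw [hS, map_one, ← fromBlocks_one]
    congr 1
    ext i j
    fin_cases i; fin_cases j
    simpa using h1
  big := hR.big1 h2 h
  split := hR.split
  char3 := h3

theorem good2 {R : Rep Γ F (Fin 2)} (hR : WModel R T) {a b : F} (h2 : (2 : F) ≠ 0) (h : Quat T a b)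
    (ho : Odd (Fintype.card F1)) (e : Nonempty (Un T (Fin 2) ≃* SpecialLinearGroup (Fin 2) F1))
    (h3 : Fintype.card F1 = 3 → (3 : F) = 0) : Good R F1 where
  two := h2
  ne := ⟨0⟩
  odd := ho
  e1 := by
    obtain ⟨f⟩ := hR.equiv1
    obtain ⟨e⟩ := e
    exact ⟨f.trans e⟩
  alt := by
    left
    obtain ⟨f⟩ := hR.equiv2
    obtain ⟨e⟩ := e
    exact ⟨f.trans e⟩
  big := hR.big2 h2 h
  split := hR.split
  char3 := h3

theorem good3 [Finite F] {R : Rep Γ F (Fin 3)} (hR : WModel R T) {a b : F} (h2 : (2 : F) ≠ 0)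
    (h : Quat T a b)
    (ho : Odd (Fintype.card F1)) (e : Nonempty (Un T (Fin 2) ≃* SpecialLinearGroup (Fin 2) F1))
    (hq : IsQuasisimple (Un T (Fin 3)))
    (hc : ∀ A ∈ center (Un T (Fin 3)), ∃ c : F, A.1.1 = c • 1)
    (h3 : Fintype.card F1 = 3 → (3 : F) = 0) : Good R F1 where
  two := h2
  ne := ⟨0⟩
  odd := ho
  e1 := by
    obtain ⟨f⟩ := hR.equiv1
    obtain ⟨e⟩ := e
    exact ⟨f.trans e⟩
  alt := by
    right; left
    obtain ⟨f⟩ := hR.equiv2
    refine ⟨SignalizersComponents.ComponentNormalize.quasisimple_congr f.symm hq, ?_, ?_, fun h4 =>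
      center_eq_bot_congr f.symm (un3_center (h3 h4) hc)⟩
    · rw [Nat.card_congr f.toEquiv]
      exact un3_even h2
    · rintro ⟨g, hg⟩
      have h1 := (hR.right g _ hg).1
      rw [det_neg, det_one, Fintype.card_fin] at h1
      apply h2
      have h4 : (-1 : F) = 1 := by simpa [pow_succ] using h1
      have : (1 : F) + 1 = 0 := by nth_rewrite 1 [← h4]; ring
      rw [← this]; norm_num
  big := hR.big3 h2 h
  split := hR.split
  char3 := h3

end Good

section SLGood

variable {F : Type*} [Field F] [Fintype F] (ho : Odd (Fintype.card F))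
include ho

theorem sl_good1 : Good (slRep F 1) F := by
  obtain ⟨a, b, h⟩ := exists_quat F
  exact good1 (slRep_model F 1).toW (SignalizersComponents.SLQuasisimple.two_ne_zero_of_odd ho) h ho
    (un_empty_equiv F _) three_eq_zero

theorem sl_good2 : Good (slRep F 2) F := by
  obtain ⟨a, b, h⟩ := exists_quat F
  exact good2 (slRep_model F 2).toW (SignalizersComponents.SLQuasisimple.two_ne_zero_of_odd ho) h ho
    (un_empty_equiv F _) three_eq_zero

theorem sl_good3 : Good (slRep F 3) F := by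
  obtain ⟨a, b, h⟩ := exists_quat F
  obtain ⟨e⟩ := un_empty_equiv F (Fin 3)
  refine good3 (slRep_model F 3).toW (SignalizersComponents.SLQuasisimple.two_ne_zero_of_odd ho) h ho
    (un_empty_equiv F _) ?_ ?_ three_eq_zero
  · exact SignalizersComponents.ComponentNormalize.quasisimple_congr e.symm
      (SignalizersComponents.SLQuasisimple.isQuasisimple_of_three_le (by simp))
  · intro A hA
    have h1 : (A : SpecialLinearGroup (Fin 3) F) ∈ center (SpecialLinearGroup (Fin 3) F) := by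
      rw [mem_center_iff]
      intro g
      have h2 : g ∈ Un (∅ : Set (F →+* F)) (Fin 3) := by rw [un_empty]; exact mem_top g
      exact congrArg Subtype.val (mem_center_iff.1 hA ⟨g, h2⟩)
    exact sl_cen F 1 _ h1

end SLGood

section SU

variable {F : Type*} [Field F] [Fintype F] {q : ℕ} (hF : Fintype.card F = q ^ 2)

/-- `x ↦ x ^ q` -/
def cj : F →+* F := (conj hF).toRingHom

theorem cj_apply (x : F) : cj hF x = x ^ q := rfl

theorem herm_eq (n : ℕ) (u v : Fin n → F) : hermForm n F q u v = u ⬝ᵥ (fun i => cj hF (v i)) := rfl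

theorem su_cond {n : ℕ} (A : SpecialLinearGroup (Fin n) F) :
    A ∈ SU n F q ↔ Cond {cj hF} A.1 := by
  have key : ∀ u v : Fin n → F, hermForm n F q (A.1 *ᵥ u) (A.1 *ᵥ v) =
      u ⬝ᵥ ((A.1ᵀ * A.1.map (cj hF)) *ᵥ (fun i => cj hF (v i))) := by
    intro u v
    rw [herm_eq hF]
    have h1 : (fun i => cj hF ((A.1 *ᵥ v) i)) = (A.1.map (cj hF)) *ᵥ (fun i => cj hF (v i)) := by
      funext i
      simp only [mulVec, dotProduct, map_sum, map_mul, Matrix.map_apply]
    rw [h1, ← mulVec_mulVec, dotProduct_mulVec u, vecMul_transpose]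
  constructor
  · intro h
    refine ⟨A.2, fun t ht => ?_⟩
    rw [Set.mem_singleton_iff.1 ht]
    ext i j
    have h1 := (mem_SU_iff A).1 h (Pi.single i 1) (Pi.single j 1)
    have h2 := key (Pi.single i 1) (Pi.single j 1)
    have h3 : ∀ j : Fin n, (fun k => cj hF ((Pi.single j (1 : F) : Fin n → F) k)) = Pi.single j 1 := by
      intro j
      funext k
      rcases eq_or_ne k j with rfl | hk
      · simp
      · simp [hk]
    have h6 : Pi.single i (1 : F) ⬝ᵥ ((A.1ᵀ * A.1.map (cj hF)) *ᵥ Pi.single j 1) =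
        (A.1ᵀ * A.1.map (cj hF)) i j := by
      rw [single_one_dotProduct, mulVec_single_one]; rfl
    rw [h3, h6] at h2
    have h4 : hermForm n F q (Pi.single i 1) (Pi.single j 1) = (1 : Matrix (Fin n) (Fin n) F) i j := by
      rw [herm_eq hF, h3, single_one_dotProduct, Matrix.one_apply, Pi.single_apply]
    exact h2.symm.trans (h1.trans h4)
  · intro h
    rw [mem_SU_iff]
    intro u v
    rw [key, h.2 _ (Set.mem_singleton _), one_mulVec]
    rfl

theorem un_cj (n : ℕ) : Un {cj hF} (Fin n) = SU n F q := by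
  ext A
  exact (su_cond hF A).symm

omit [Field F] in
include hF in
theorem odd_q (ho : Odd (Fintype.card F)) : Odd q := by
  rw [hF, pow_two, Nat.odd_mul] at ho
  exact ho.1

/-- the fixed field -/
abbrev KK : Subfield F := RingHom.eqLocusField (cj hF) (RingHom.id F)

theorem mem_KK {x : F} : x ∈ KK hF ↔ x ^ q = x := Iff.rfl

noncomputable instance : Fintype (KK hF) := Fintype.ofFinite _

theorem card_KK : Fintype.card (KK hF) = q := by
  rw [← Nat.card_eq_fintype_card]
  exact card_fixed hF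

/-- a quaternion pair for `SU` -/
theorem exists_quat_su (ho : Odd (Fintype.card F)) : ∃ a b : F, Quat ({cj hF} : Set (F →+* F)) a b := by
  obtain ⟨θ, hθ, hθ'⟩ := exists_trace_zero_ne hF
  have hθq : θ ^ q = -θ := by linear_combination hθ'
  have h2 : θ ^ 2 ∈ KK hF := by
    rw [mem_KK, ← pow_mul, mul_comm, pow_mul, hθq, neg_sq]
  let c : KK hF := ⟨θ ^ 2, h2⟩
  have hc : c ≠ 0 := by
    intro h
    have : θ ^ 2 = 0 := congrArg Subtype.val h
    exact hθ (pow_eq_zero_iff (by norm_num) |>.1 this)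
  obtain ⟨x, y, hxy⟩ := FiniteField.exists_root_sum_quadratic
    (f := Polynomial.C c * Polynomial.X ^ 2) (g := Polynomial.C c * Polynomial.X ^ 2 + Polynomial.C 1)
    (by rw [Polynomial.degree_C_mul_X_pow 2 hc]; rfl)
    (by
      rw [Polynomial.degree_add_eq_left_of_degree_lt]
      · rw [Polynomial.degree_C_mul_X_pow 2 hc]; rfl
      · rw [Polynomial.degree_C_mul_X_pow 2 hc, Polynomial.degree_C one_ne_zero]
        norm_num)
    (by rw [card_KK]; exact Nat.odd_iff.1 (odd_q hF ho))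
  simp only [Polynomial.eval_mul, Polynomial.eval_C, Polynomial.eval_pow, Polynomial.eval_X,
    Polynomial.eval_add] at hxy
  have h3 : θ ^ 2 * (x : F) ^ 2 + (θ ^ 2 * (y : F) ^ 2 + 1) = 0 := congrArg Subtype.val hxy
  refine ⟨θ * x, θ * y, by linear_combination h3, fun t ht => ?_⟩
  rw [Set.mem_singleton_iff.1 ht]
  have hx : cj hF (x : F) = x := x.2
  have hy : cj hF (y : F) = y := y.2
  have h4 : cj hF θ = -θ := hθq
  rw [map_mul, map_mul, hx, hy, h4]
  constructor <;> ring

theorem un2_equiv : Nonempty (Un ({cj hF} : Set (F →+* F)) (Fin 2) ≃* SpecialLinearGroup (Fin 2) (KK hF)) := by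
  rw [un_cj]
  exact Cfsg.Agent.S0281.result hF (card_KK hF)

include hF in
theorem su_cen {n : ℕ} (hn : 3 ≤ n) (A : SU n F q) (hA : A ∈ center (SU n F q)) :
    ∃ c : F, A.1.1 = c • 1 := by
  obtain ⟨c, h1, h2, rfl⟩ := (Cfsg.Agent.LieClassical.SUBasic.mem_center_SU_iff hF hn A).1 hA
  refine ⟨c, ?_⟩
  change Matrix.diagonal (fun _ => c) = c • 1
  ext i j
  simp [Matrix.diagonal_apply, Matrix.one_apply]

theorem un3_quasisimple (ho : Odd (Fintype.card F)) :
    IsQuasisimple (Un ({cj hF} : Set (F →+* F)) (Fin 3)) := by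
  rw [un_cj]
  have h32 : ¬ (3 = 3 ∧ q = 2) := by
    rintro ⟨-, rfl⟩
    exact absurd (odd_q hF ho) (by decide)
  exact ⟨⟨LieClassical.HermPerfect.commutator_SU_eq_top hF le_rfl h32⟩,
    LieClassical.HermSimple.isSimpleGroup_of_perfect hF le_rfl
      (LieClassical.HermPerfect.commutator_SU_eq_top hF le_rfl h32)⟩

theorem un3_cen (A) (hA : A ∈ center (Un ({cj hF} : Set (F →+* F)) (Fin 3))) :
    ∃ c : F, A.1.1 = c • 1 := by
  have h0 := un_cj hF 3
  revert A
  rw [h0]
  exact su_cen hF le_rfl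

include hF in
theorem three_su (h : Fintype.card (KK hF) = 3) : (3 : F) = 0 := by
  rw [card_KK] at h
  have := FiniteField.cast_card_eq_zero F
  rw [hF, h] at this
  have h1 : (3 : F) ^ 2 = 0 := by exact_mod_cast this
  exact pow_eq_zero_iff (by norm_num) |>.1 h1

/-- `diag(-1,-1,1,…)` in `SU` -/
def su_t (k : ℕ) : SU (2 + k) F q := ⟨tt F k, by
  rw [su_cond hF]
  change Cond {cj hF} ((fromBlocks (-1) 0 0 1 : Matrix (Fin 2 ⊕ Fin k) (Fin 2 ⊕ Fin k) F).submatrix
    (ee k) (ee k))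
  have h1 : Cond {cj hF} (-1 : Matrix (Fin 2) (Fin 2) F) := by
    refine ⟨by rw [det_neg]; simp only [_root_.Fintype.card_fin, _root_.even_two, _root_.Even.neg_pow, _root_.one_pow, _root_.Matrix.det_one, _root_.mul_one], fun t _ => ?_⟩
    ext i j
    (revert i j; simp only [_root_.Fin.forall_fin_succ, _root_.Matrix.transpose_neg, _root_.Matrix.transpose_one, _root_.neg_mul, _root_.one_mul, _root_.Matrix.neg_apply, _root_.Matrix.map_apply, _root_.map_neg, _root_.neg_neg, _root_.IsEmpty.forall_iff, _root_.and_true, _root_.Matrix.one_apply_eq, _root_.map_one, Nat.reduceAdd, Fin.isValue, _root_.Fin.succ_zero_eq_one, _root_.ne_eq, _root_.zero_ne_one, _root_.not_false_eq_true, _root_.Matrix.one_apply_ne, _root_.map_zero, _root_.and_self, _root_.Fin.succ_ne_zero, _root_.true_and])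
  exact (cond_reindex (ee k).symm).2 (h1.fromBlocks (Cond.one _))⟩

/-- `SU_{2+k}(q)` -/
def suRep (k : ℕ) (hk : 1 ≤ k) : Rep (SU (2 + k) F q) F (Fin k) :=
  mkRep (ee k) (SU (2 + k) F q).subtype (SU (2 + k) F q).subtype_injective
    (su_cen hF (by omega)) (su_t hF k) rfl

theorem suRep_model (k : ℕ) (hk : 1 ≤ k) : Model (suRep hF k hk) {cj hF} := by
  refine mkRep_model _ _ _ _ _ _ _ fun A => ?_
  rw [← su_cond, Subgroup.range_subtype]

variable (ho : Odd (Fintype.card F))
include ho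

theorem odd_KK : Odd (Fintype.card (KK hF)) := by
  rw [card_KK]; exact odd_q hF ho

theorem su_good1 : Good (suRep hF 1 le_rfl) (KK hF) := by
  obtain ⟨a, b, h⟩ := exists_quat_su hF ho
  exact good1 (suRep_model hF 1 le_rfl).toW (SignalizersComponents.SLQuasisimple.two_ne_zero_of_odd ho) h
    (odd_KK hF ho) (un2_equiv hF) (three_su hF)

theorem su_good2 : Good (suRep hF 2 (by norm_num)) (KK hF) := by
  obtain ⟨a, b, h⟩ := exists_quat_su hF ho
  exact good2 (suRep_model hF 2 _).toW (SignalizersComponents.SLQuasisimple.two_ne_zero_of_odd ho) h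
    (odd_KK hF ho) (un2_equiv hF) (three_su hF)

theorem su_good3 : Good (suRep hF 3 (by norm_num)) (KK hF) := by
  obtain ⟨a, b, h⟩ := exists_quat_su hF ho
  exact good3 (suRep_model hF 3 _).toW (SignalizersComponents.SLQuasisimple.two_ne_zero_of_odd ho) h
    (odd_KK hF ho) (un2_equiv hF) (un3_quasisimple hF ho) (un3_cen hF) (three_su hF)

end SU

end Cfsg.Agent.Cit.LongInst
end

private theorem dce_97e6c104e2ce : _root_.True := by
  try have : _root_.True := by simp only [_root_.Cfsg.Agent.Cit.LongQuot.CC.eq_1]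
  try have : _root_.True := by simp only [_root_.Cfsg.Agent.Cit.LongModel.U1.eq_1]
  try have : _root_.True := by simp only [_root_.Cfsg.Agent.Cit.LongModel.U2.eq_1]
  try have : _root_.True := by simp only [_root_.Cfsg.Agent.Cit.LongModel.V3.eq_1]
  try have : _root_.True := by simp only [_root_.Cfsg.Agent.Cit.LongQuot.z0.eq_1]
  try have : _root_.True := by simp only [_root_.Cfsg.Agent.Cit.LongModel.Cond.congr_simp]
  try have : _root_.True := by simp only [_root_.Cfsg.Agent.Cit.LongQuot.D1.eq_1]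
  try have : _root_.True := by simp only [_root_.Cfsg.Agent.Cit.LongModel.V1.eq_1]
  try have : _root_.True := by simp only [_root_.Cfsg.Agent.Cit.LongModel.V2.eq_1]
  try have : _root_.True := by simp only [_root_.Cfsg.Agent.Cit.LongInst.cj.congr_simp]
  try have : _root_.True := by simp only [_root_.Cfsg.Agent.Cit.LongQuot.D2.eq_1]
  exact _root_.True.intro
end

-- part: Cit/LongSp
section
set_option linter.all false
open scoped Cfsg.Agent.FastGrp

/-!
# `F(L)` for `PSp₄(F)`
-/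

set_option autoImplicit false

namespace Cfsg.Agent.Cit.LongSp

open Subgroup Cfsg Matrix Cfsg.Agent.Cit.LongAbs Cfsg.Agent.Cit.LongBlock Cfsg.Agent.Cit.LongQuot
  Cfsg.Agent.Cit.LongMain Cfsg.Agent.Cit.LongModel Cfsg.Agent.Cit.LongInst

variable (F : Type*) [Field F]

/-- the index equivalence -/
def e4 : Fin 2 ⊕ Fin 2 ≃ Fin 2 ⊕ Fin 2 := Equiv.swap (Sum.inl 1) (Sum.inr 0)

/-- the form on a block -/
def jj : Matrix (Fin 2) (Fin 2) F := !![0, -1; 1, 0]

theorem J_eq : (J (Fin 2) F).submatrix e4 e4 = fromBlocks (jj F) 0 0 (jj F) := by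
  ext i j
  rcases i with i | i <;> rcases j with j | j <;> fin_cases i <;> fin_cases j <;>
    simp [J, jj, e4, Equiv.swap_apply_def]

omit [Field F] in
theorem e4_e4 (M : Matrix (Fin 2 ⊕ Fin 2) (Fin 2 ⊕ Fin 2) F) :
    (M.submatrix e4 e4).submatrix e4 e4 = M := by
  ext i j
  simp [e4]

variable {F}

theorem mul_jj (P : Matrix (Fin 2) (Fin 2) F) : P * jj F * Pᵀ = P.det • jj F := by
  ext i j
  fin_cases i <;> fin_cases j <;>
    simp [jj, Matrix.mul_apply, Fin.sum_univ_two, det_fin_two] <;> ring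

theorem sp_iff (M : Matrix (Fin 2 ⊕ Fin 2) (Fin 2 ⊕ Fin 2) F) :
    M.submatrix e4 e4 ∈ symplecticGroup (Fin 2) F ↔
      M * fromBlocks (jj F) 0 0 (jj F) * Mᵀ = fromBlocks (jj F) 0 0 (jj F) := by
  rw [SymplecticGroup.mem_iff]
  have h1 : M.submatrix e4 e4 * J (Fin 2) F * (M.submatrix e4 e4)ᵀ =
      (M * fromBlocks (jj F) 0 0 (jj F) * Mᵀ).submatrix e4 e4 := by
    rw [← J_eq]
    nth_rewrite 1 [← e4_e4 F (J (Fin 2) F)]
    rw [transpose_submatrix, submatrix_mul_equiv, submatrix_mul_equiv]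
  rw [h1]
  constructor
  · intro h
    have := congrArg (fun N => N.submatrix e4 e4) h
    simp only [e4_e4, J_eq] at this
    exact this
  · intro h
    rw [h, ← J_eq, e4_e4]

theorem sp_blocks (P S : Matrix (Fin 2) (Fin 2) F) :
    (fromBlocks P 0 0 S).submatrix e4 e4 ∈ symplecticGroup (Fin 2) F ↔ P.det = 1 ∧ S.det = 1 := by
  rw [sp_iff, fromBlocks_transpose, fromBlocks_multiply, fromBlocks_multiply, fromBlocks_inj]
  simp only [Matrix.zero_mul, Matrix.mul_zero, add_zero, zero_add, transpose_zero, mul_jj]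
  have key : ∀ c : F, c • jj F = jj F ↔ c = 1 := by
    intro c
    constructor
    · intro h
      have := congrFun (congrFun h 1) 0
      simpa [jj] using this
    · rintro rfl; rw [one_smul]
  rw [key, key]
  simp

variable (F)

/-- `diag(-1,-1,1,1)` -/
def sp_t : symplecticGroup (Fin 2) F :=
  ⟨(fromBlocks (-1) 0 0 1 : Matrix (Fin 2 ⊕ Fin 2) (Fin 2 ⊕ Fin 2) F).submatrix e4 e4,
    (sp_blocks _ _).2 ⟨by rw [det_neg]; simp, det_one⟩⟩

/-- `Sp₄(F)` -/
def spRep : Rep (symplecticGroup (Fin 2) F) F (Fin 2) where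
  ρ :=
    { toFun := fun g => g.1.submatrix e4 e4
      map_one' := submatrix_one_equiv e4
      map_mul' := fun g h => (submatrix_mul_equiv g.1 h.1 e4 e4 e4).symm }
  inj := by
    intro g h hgh
    have h1 : g.1.submatrix e4 e4 = h.1.submatrix e4 e4 := hgh
    apply Subtype.ext
    rw [← e4_e4 F g.1, h1, e4_e4]
  cen := by
    intro g hg
    rw [LieClassical.SympCenter.mem_center_iff] at hg
    obtain ⟨c, hc⟩ := hg
    refine ⟨c, ?_⟩
    change g.1.submatrix e4 e4 = c • 1
    rw [hc]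
    ext i j
    simp [Matrix.one_apply]
  t := sp_t F
  t_eq := e4_e4 F _

theorem spRep_ρ (g : symplecticGroup (Fin 2) F) : (spRep F).ρ g = g.1.submatrix e4 e4 := rfl

theorem spRep_blocks {g : symplecticGroup (Fin 2) F} {P S} (h : (spRep F).ρ g = fromBlocks P 0 0 S) :
    P.det = 1 ∧ S.det = 1 := by
  rw [← sp_blocks, ← h, spRep_ρ, e4_e4]
  exact g.2

theorem spRep_model : WModel (spRep F) ∅ where
  ex P S hP hS := by
    refine ⟨⟨(fromBlocks P 0 0 S).submatrix e4 e4, (sp_blocks P S).2 ⟨hP.1, hS.1⟩⟩, ?_⟩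
    rw [spRep_ρ, e4_e4]
  left g P h := ⟨(spRep_blocks F h).1, fun t ht => absurd ht (Set.notMem_empty t)⟩
  right g S h := ⟨(spRep_blocks F h).2, fun t ht => absurd ht (Set.notMem_empty t)⟩
  split := by
    intro g P S h hP hS
    refine ⟨⟨(fromBlocks P 0 0 1).submatrix e4 e4, (sp_blocks P 1).2 ⟨hP, det_one⟩⟩, ?_⟩
    rw [spRep_ρ, e4_e4]

theorem sp_good {F : Type*} [Field F] [Fintype F] (ho : Odd (Fintype.card F)) : Good (spRep F) F := by
  obtain ⟨a, b, h⟩ := exists_quat F
  exact good2 (spRep_model F) (SignalizersComponents.SLQuasisimple.two_ne_zero_of_odd ho) h ho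
    (un_empty_equiv F _) three_eq_zero

end Cfsg.Agent.Cit.LongSp

private theorem dce_0eb95a706c75 : _root_.True := by
  try have : _root_.True := by simp only [_root_.Cfsg.Agent.Cit.LongSp.jj.eq_1]
  try have : _root_.True := by simp only [_root_.Cfsg.Agent.Cit.LongSp.e4.eq_1]
  exact _root_.True.intro
end
end
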