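import Cfsg.Agent.Cit.Defs
import Cfsg.Agent.Cit.AutQuat
import Cfsg.Agent.Lib.SylowNormalInf
set_option linter.all false

/-!
# Classical involutions, the case `|Om(S)| = 1`: basic facts

`One Om`: `Hyp Om` and every 2-subgroup `S` contains Sylow 2-subgroups of at most one member.
-/

set_option autoImplicit false
set_option linter.style.haveILetI false
set_option linter.unusedSectionVars false

namespace Cfsg.Agent.Cit

open Subgroup Cfsg

variable {G : Type*} [Group G]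

namespace OneBasic

/-! ### General tools -/

/-- a 2-subgroup normalising `L` lies in a Sylow 2-subgroup of `A ⊔ L`, which meets `L` in a Sylow subgroup -/
theorem exists_two_sup [Finite G] {A L : Subgroup G} (hA : IsPGroup 2 A)
    (hAL : A ≤ normalizer (L : Set G)) :
    ∃ R : Subgroup G, IsPGroup 2 R ∧ A ≤ R ∧ R ≤ A ⊔ L ∧ Syl (L ⊓ R) L := by
  haveI : Fact (Nat.Prime 2) := ⟨Nat.prime_two⟩
  have hL : L ≤ A ⊔ L := le_sup_right
  haveI hn : (L.subgroupOf (A ⊔ L)).Normal :=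
    (normal_subgroupOf_iff_le_normalizer hL).2 (sup_le hAL le_normalizer)
  have hAp : IsPGroup 2 (A.subgroupOf (A ⊔ L)) := hA.comap_subtype
  obtain ⟨P, hP⟩ := hAp.exists_le_sylow
  refine ⟨(P : Subgroup _).map (A ⊔ L).subtype, P.isPGroup'.map _, ?_, map_subtype_le _, ?_⟩
  · exact (map_subgroupOf_eq_of_le (le_sup_left : A ≤ A ⊔ L)).symm.le.trans (Subgroup.map_mono hP)
  · refine ⟨inf_le_left, (P.isPGroup'.map _).to_le inf_le_right, ?_⟩
    rw [inf_comm, inf_relIndex_right]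
    have h1 := Lib.SylowNormalInf.not_dvd_relIndex P (L.subgroupOf (A ⊔ L))
    rw [← relIndex_map_map_of_injective _ _ (A ⊔ L).subtype_injective,
      map_subgroupOf_eq_of_le hL] at h1
    exact h1

/-- a 2-subgroup normalising `L` normalises a Sylow 2-subgroup of `L` -/
theorem exists_syl_normalized [Finite G] {A L : Subgroup G} (hA : IsPGroup 2 A)
    (hAL : A ≤ normalizer (L : Set G)) :
    ∃ Q : Subgroup G, Syl Q L ∧ A ≤ normalizer (Q : Set G) := by
  obtain ⟨R, hR, hAR, -, hS⟩ := exists_two_sup hA hAL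
  refine ⟨L ⊓ R, hS, fun a ha => ?_⟩
  rw [mem_normalizer_iff_cj, cj_inf, mem_normalizer_iff_cj.1 (hAL ha),
    mem_normalizer_iff_cj.1 (le_normalizer (hAR ha))]

/-- the join of two 2-subgroups, one normalising the other, is a 2-group -/
theorem isPGroup_sup_of_normalizes [Finite G] {A B : Subgroup G} (hA : IsPGroup 2 A) (hB : IsPGroup 2 B)
    (h : A ≤ normalizer (B : Set G)) : IsPGroup 2 (A ⊔ B : Subgroup G) :=
  hA.to_sup_of_normal_right' hB h

/-- a 2-subgroup of `M` normalised by a Sylow 2-subgroup `T` of `M` is contained in `T` -/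
theorem syl_le_of_normalizes [Finite G] {T M R : Subgroup G} (hT : Syl T M) (hR : IsPGroup 2 R) (hRM : R ≤ M)
    (h : T ≤ normalizer (R : Set G)) : R ≤ T := by
  haveI : Fact (Nat.Prime 2) := ⟨Nat.prime_two⟩
  have h1 : IsPGroup 2 (T ⊔ R : Subgroup G) := isPGroup_sup_of_normalizes hT.2.1 hR h
  have h2 : T ⊔ R ≤ M := sup_le hT.1 hRM
  have h3 : T.relIndex (T ⊔ R) ∣ T.relIndex M :=
    ⟨(T ⊔ R).relIndex M, (relIndex_mul_relIndex T (T ⊔ R) M le_sup_left h2).symm⟩
  have h4 : ∃ k, T.relIndex (T ⊔ R) = 2 ^ k := by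
    obtain ⟨k, hk⟩ := h1.index (T.subgroupOf (T ⊔ R))
    exact ⟨k, hk⟩
  obtain ⟨k, hk⟩ := h4
  have h5 : k = 0 := by
    by_contra hk0
    apply hT.2.2
    refine dvd_trans ?_ h3
    rw [hk]
    exact dvd_pow_self 2 hk0
  rw [h5, pow_zero, relIndex_eq_one] at hk
  exact le_sup_right.trans hk

/-- same, the other way round -/
theorem syl_le_of_normalizes' [Finite G] {T M R : Subgroup G} (hT : Syl T M) (hR : IsPGroup 2 R) (hRM : R ≤ M)
    (h : R ≤ normalizer (T : Set G)) : R ≤ T := by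
  haveI : Fact (Nat.Prime 2) := ⟨Nat.prime_two⟩
  have h1 : IsPGroup 2 (R ⊔ T : Subgroup G) := isPGroup_sup_of_normalizes hR hT.2.1 h
  rw [sup_comm] at h1
  have h2 : T ⊔ R ≤ M := sup_le hT.1 hRM
  have h3 : T.relIndex (T ⊔ R) ∣ T.relIndex M :=
    ⟨(T ⊔ R).relIndex M, (relIndex_mul_relIndex T (T ⊔ R) M le_sup_left h2).symm⟩
  obtain ⟨k, hk⟩ : ∃ k, T.relIndex (T ⊔ R) = 2 ^ k := by
    obtain ⟨k, hk⟩ := h1.index (T.subgroupOf (T ⊔ R))
    exact ⟨k, hk⟩
  have h5 : k = 0 := by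
    by_contra hk0
    apply hT.2.2
    refine dvd_trans ?_ h3
    rw [hk]
    exact dvd_pow_self 2 hk0
  rw [h5, pow_zero, relIndex_eq_one] at hk
  exact le_sup_right.trans hk

/-- every 2-subgroup of `M` is contained in a Sylow 2-subgroup of `M` -/
theorem exists_syl_ge [Finite G] {A M : Subgroup G} (hA : IsPGroup 2 A) (hAM : A ≤ M) :
    ∃ T, Syl T M ∧ A ≤ T := by
  haveI : Fact (Nat.Prime 2) := ⟨Nat.prime_two⟩
  have hAp : IsPGroup 2 (A.subgroupOf M) := hA.comap_subtype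
  obtain ⟨P, hP⟩ := hAp.exists_le_sylow
  refine ⟨(P : Subgroup M).map M.subtype, ⟨map_subtype_le _, P.isPGroup'.map _, ?_⟩, ?_⟩
  · have h1 : ((P : Subgroup M).map M.subtype).subgroupOf M = P := by
      rw [subgroupOf, comap_map_eq_self_of_injective M.subtype_injective]
    rw [relIndex, h1]
    exact P.not_dvd_index
  · exact (map_subgroupOf_eq_of_le hAM).symm.le.trans (Subgroup.map_mono hP)

/-- a Sylow 2-subgroup of `M` contained in `H ≤ M` is one of `H` -/
theorem syl_of_le {Q M H : Subgroup G} (hQ : Syl Q M) (hQH : Q ≤ H) (hHM : H ≤ M) : Syl Q H :=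
  ⟨hQH, hQ.2.1, fun h => hQ.2.2 (h.trans
    ⟨H.relIndex M, (relIndex_mul_relIndex Q H M hQH hHM).symm⟩)⟩

/-- a 2-subgroup of `M` containing a Sylow 2-subgroup of `M` is equal to it -/
theorem syl_eq_of_le [Finite G] {Q M R : Subgroup G} (hQ : Syl Q M) (hR : IsPGroup 2 R) (hRM : R ≤ M)
    (h : Q ≤ R) : Q = R := by
  haveI : Fact (Nat.Prime 2) := ⟨Nat.prime_two⟩
  obtain ⟨k, hk⟩ : ∃ k, Q.relIndex R = 2 ^ k := by
    obtain ⟨k, hk⟩ := hR.index (Q.subgroupOf R)
    exact ⟨k, hk⟩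
  have h3 : Q.relIndex R ∣ Q.relIndex M :=
    ⟨R.relIndex M, (relIndex_mul_relIndex Q R M h hRM).symm⟩
  have h5 : k = 0 := by
    by_contra hk0
    apply hQ.2.2
    refine dvd_trans ?_ h3
    rw [hk]
    exact dvd_pow_self 2 hk0
  rw [h5, pow_zero, relIndex_eq_one] at hk
  exact le_antisymm h hk

/-- elements of `A ⊔ K` when `A` normalises `K` -/
theorem exists_mul_of_mem_sup {A K : Subgroup G} (h : A ≤ normalizer (K : Set G)) {x : G}
    (hx : x ∈ A ⊔ K) : ∃ a ∈ A, ∃ k ∈ K, x = a * k := by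
  let S : Subgroup G :=
    { carrier := {x | ∃ a ∈ A, ∃ k ∈ K, x = a * k}
      one_mem' := ⟨1, A.one_mem, 1, K.one_mem, by simp⟩
      mul_mem' := by
        rintro x y ⟨a, ha, k, hk, rfl⟩ ⟨b, hb, l, hl, rfl⟩
        refine ⟨a * b, A.mul_mem ha hb, (b⁻¹ * k * b) * l, K.mul_mem ?_ hl, by group⟩
        have h1 := (mem_normalizer_iff.1 (inv_mem (h hb)) k).1 hk
        simpa using h1
      inv_mem' := by
        rintro x ⟨a, ha, k, hk, rfl⟩
        refine ⟨a⁻¹, A.inv_mem ha, a * k⁻¹ * a⁻¹, ?_, by group⟩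
        exact (mem_normalizer_iff.1 (h ha) k⁻¹).1 (K.inv_mem hk) }
  have h1 : A ⊔ K ≤ S := sup_le (fun a ha => ⟨a, ha, 1, K.one_mem, by simp⟩)
    (fun k hk => ⟨1, A.one_mem, k, hk, by simp⟩)
  exact h1 hx

theorem mem_normalizer_of_cent {K : Subgroup G} {f : G} (h : ∀ x ∈ K, f * x = x * f) :
    f ∈ normalizer (K : Set G) := by
  rw [mem_normalizer_iff_cj]
  ext x
  rw [mem_cj]
  constructor
  · intro hx
    have h1 := h _ hx
    have h2 : x = f⁻¹ * x * f := by
      calc x = f * (f⁻¹ * x * f) * f⁻¹ := by group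
        _ = (f⁻¹ * x * f) * f * f⁻¹ := by rw [h1]
        _ = f⁻¹ * x * f := by group
    rw [h2]; exact hx
  · intro hx
    have h1 := h _ hx
    have h2 : f⁻¹ * x * f = x := by
      calc f⁻¹ * x * f = f⁻¹ * (x * f) := by group
        _ = f⁻¹ * (f * x) := by rw [h1]
        _ = x := by group
    rw [h2]; exact hx

end OneBasic

open OneBasic

/-! ### Rigidity -/

namespace Hyp

variable [Finite G] {Om : Set (Subgroup G)}

/-- an element centralising a Sylow 2-subgroup `Q` of `K ∈ Om` is not conjugate under `K` to its product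
with the involution of `K` -/
theorem not_conj_mul_zz (h : Hyp Om) {K Q : Subgroup G} (hK : K ∈ Om) (hQ : Syl Q K) {f : G}
    (hf : ∀ x ∈ Q, f * x = x * f) {l : G} (hl : l ∈ K) : l * f * l⁻¹ ≠ zz K * f := by
  haveI : Fact (Nat.Prime 2) := ⟨Nat.prime_two⟩
  intro hlf
  -- `Q` and `l Q l⁻¹` are Sylow in `C = C_K(f)`
  set C : Subgroup G := K ⊓ centralizer {f} with hC
  have hfz : f * zz K = zz K * f := by
    obtain ⟨c, v, n, hc⟩ := h.exists_gq hK hQ
    exact hf _ hc.z_mem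
  have hQC : Q ≤ C := le_inf hQ.1 fun x hx => mem_centralizer_singleton_iff.2 (hf x hx).symm
  have hQ1 : Syl (cj l Q) K := by
    have := hQ.cj l
    rwa [mem_normalizer_iff_cj.1 (le_normalizer hl)] at this
  have hQ1C : cj l Q ≤ C := by
    refine le_inf hQ1.1 ?_
    rintro x hx
    rw [mem_cj] at hx
    rw [mem_centralizer_singleton_iff]
    have h1 := hf _ hx
    have hxz : x * zz K = zz K * x := by
      have h2 : l⁻¹ * x * l * zz K = zz K * (l⁻¹ * x * l) := by
        refine h.comm_zz hK (le_normalizer (hQ.1 hx))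
      have hlz : l * zz K = zz K * l := h.comm_zz hK (le_normalizer hl)
      have hlz' : l⁻¹ * zz K = zz K * l⁻¹ := h.comm_zz hK (inv_mem (le_normalizer hl))
      calc x * zz K = l * (l⁻¹ * x * l) * (l⁻¹ * zz K) := by group
        _ = l * ((l⁻¹ * x * l) * zz K) * l⁻¹ := by rw [hlz']; group
        _ = (l * zz K) * (l⁻¹ * x * l) * l⁻¹ := by rw [h2]; group
        _ = zz K * x := by rw [hlz]; group
    -- `x` commutes with `l f l⁻¹ = z f`
    have h3 : x * (l * f * l⁻¹) = (l * f * l⁻¹) * x := by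
      calc x * (l * f * l⁻¹) = l * ((l⁻¹ * x * l) * f) * l⁻¹ := by group
        _ = l * (f * (l⁻¹ * x * l)) * l⁻¹ := by rw [h1]
        _ = _ := by group
    rw [hlf] at h3
    have h4 : zz K * (x * f) = zz K * (f * x) := by
      calc zz K * (x * f) = (zz K * x) * f := by group
        _ = x * (zz K * f) := by rw [← hxz]; group
        _ = zz K * f * x := h3
        _ = _ := by group
    exact mul_left_cancel h4
  obtain ⟨c, hc, hcQ⟩ := (syl_of_le hQ1 hQ1C inf_le_left).exists_conj (syl_of_le hQ hQC inf_le_left)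
  -- `g = c l` normalises `Q` and maps `f` to `z f`
  set g : G := c * l with hg
  have hgQ : cj g Q = Q := by rw [hg, cj_mul, hcQ]
  have hgK : g ∈ K := K.mul_mem hc.1 hl
  have hcf : c * f = f * c := mem_centralizer_singleton_iff.1 hc.2
  have hgf : g * f * g⁻¹ = zz K * f := by
    have hcz : c * zz K = zz K * c := h.comm_zz hK (le_normalizer hc.1)
    calc g * f * g⁻¹ = c * (l * f * l⁻¹) * c⁻¹ := by rw [hg]; group
      _ = c * (zz K * f) * c⁻¹ := by rw [hlf]
      _ = (c * zz K) * f * c⁻¹ := by group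
      _ = zz K * (c * f) * c⁻¹ := by rw [hcz]; group
      _ = zz K * f := by rw [hcf]; group
  -- an odd power of `g` lies in `Q`
  set H : Subgroup G := K ⊓ normalizer (Q : Set G) with hH
  have hQH : Q ≤ H := le_inf hQ.1 le_normalizer
  have hQn : (Q.subgroupOf H).Normal := (normal_subgroupOf_iff_le_normalizer hQH).2 inf_le_right
  have hgH : g ∈ H := ⟨hgK, mem_normalizer_iff_cj.2 hgQ⟩
  have h1 := Subgroup.pow_index_mem (Q.subgroupOf H) (⟨g, hgH⟩ : H)
  have h2 : ¬ 2 ∣ (Q.subgroupOf H).index := (syl_of_le hQ hQH inf_le_left).2.2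
  obtain ⟨m, hm⟩ : ∃ m, (Q.subgroupOf H).index = 2 * m + 1 := by
    have h3 : Odd (Q.subgroupOf H).index := by
      rw [← Nat.not_even_iff_odd, even_iff_two_dvd]; exact h2
    exact h3
  rw [hm] at h1
  have h3 : g ^ (2 * m + 1) ∈ Q := h1
  have hgz : g * zz K = zz K * g := h.comm_zz hK (le_normalizer hgK)
  have h4 : ∀ k : ℕ, g ^ (2 * k) * f = f * g ^ (2 * k) := by
    intro k
    have h5 : g * f = zz K * f * g := by rw [← hgf]; group
    have h6 : g ^ 2 * f = f * g ^ 2 := by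
      calc g ^ 2 * f = g * (g * f) := by rw [pow_two, mul_assoc]
        _ = g * (zz K * f * g) := by rw [h5]
        _ = (g * zz K) * f * g := by group
        _ = zz K * (g * f) * g := by rw [hgz]; group
        _ = (zz K * zz K) * f * g ^ 2 := by rw [h5, pow_two]; group
        _ = f * g ^ 2 := by rw [h.zz_mul hK, one_mul]
    rw [pow_mul]
    exact (Commute.pow_left (show Commute (g ^ 2) f from h6) k).eq
  have h5 := hf _ h3
  rw [pow_succ] at h5
  have h6 : f * g ^ (2 * m) * g = zz K * (f * g ^ (2 * m) * g) := by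
    calc f * g ^ (2 * m) * g = g ^ (2 * m) * g * f := by rw [mul_assoc, h5]
      _ = g ^ (2 * m) * (g * f) := by group
      _ = g ^ (2 * m) * (zz K * f * g) := by rw [← hgf]; group
      _ = (g ^ (2 * m) * zz K) * f * g := by group
      _ = zz K * g ^ (2 * m) * f * g := by
          rw [(Commute.pow_left (show Commute g (zz K) from hgz) (2 * m)).eq]
      _ = zz K * (g ^ (2 * m) * f) * g := by group
      _ = zz K * (f * g ^ (2 * m) * g) := by rw [h4]; group
  exact h.zz_ne hK (by simpa using h6)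

/-- **Rigidity**: a 2-element normalising `K ∈ Om` and centralising a Sylow 2-subgroup of `K` centralises
every Sylow 2-subgroup of `K` which it normalises -/
theorem rigid (h : Hyp Om) {K Q Q1 : Subgroup G} (hK : K ∈ Om) (hQ : Syl Q K) (hQ1 : Syl Q1 K) {f : G}
    (hfK : f ∈ normalizer (K : Set G)) (hf2 : IsPGroup 2 (zpowers f))
    (hf : ∀ x ∈ Q, f * x = x * f) (hf1 : f ∈ normalizer (Q1 : Set G)) : ∀ x ∈ Q1, f * x = x * f := by
  haveI : Fact (Nat.Prime 2) := ⟨Nat.prime_two⟩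
  have hfQ : f ∈ normalizer (Q : Set G) := mem_normalizer_of_cent hf
  -- Sylow subgroups of `K ⟨f⟩`
  set M : Subgroup G := zpowers f ⊔ K with hM
  have hKM : K ≤ M := le_sup_right
  have hfM : f ∈ M := mem_sup_left (mem_zpowers f)
  have hKn : ∀ g ∈ M, cj g K = K := by
    intro g hg
    rw [← mem_normalizer_iff_cj]
    have : M ≤ normalizer (K : Set G) := sup_le (zpowers_le.2 hfK) le_normalizer
    exact this hg
  have key : ∀ {R : Subgroup G}, Syl R K → f ∈ normalizer (R : Set G) →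
      Syl (zpowers f ⊔ R) M ∧ K ⊓ (zpowers f ⊔ R) = R := by
    intro R hR hfR
    have h1 : IsPGroup 2 (zpowers f ⊔ R : Subgroup G) :=
      isPGroup_sup_of_normalizes hf2 hR.2.1 (zpowers_le.2 hfR)
    have h3 : K ⊓ (zpowers f ⊔ R) = R := by
      symm
      exact syl_eq_of_le hR (h1.to_le inf_le_right) inf_le_left (le_inf hR.1 le_sup_right)
    refine ⟨?_, h3⟩
    obtain ⟨T, hT, hXT⟩ := exists_syl_ge h1 (sup_le_sup_left hR.1 _ : zpowers f ⊔ R ≤ M)
    have h4 : T = zpowers f ⊔ R := by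
      refine le_antisymm ?_ hXT
      intro x hx
      obtain ⟨a, ha, k, hk, rfl⟩ := exists_mul_of_mem_sup (zpowers_le.2 hfK) (hT.1 hx)
      refine mul_mem (mem_sup_left ha) ?_
      have h5 : k ∈ K ⊓ T := by
        refine ⟨hk, ?_⟩
        have : k = a⁻¹ * (a * k) := by group
        rw [this]
        exact T.mul_mem (T.inv_mem (hXT (mem_sup_left ha))) hx
      have h6 : K ⊓ T = R :=
        (syl_eq_of_le hR (hT.2.1.to_le inf_le_right) inf_le_left (le_inf hR.1 (le_sup_right.trans hXT))).symm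
      rw [h6] at h5
      exact mem_sup_right h5
    rw [← h4]
    exact hT
  obtain ⟨hA, hA2⟩ := key hQ hfQ
  obtain ⟨hB, hB2⟩ := key hQ1 hf1
  obtain ⟨m, hm, hmAB⟩ := hA.exists_conj hB
  obtain ⟨a, ha, l, hl, hal⟩ := exists_mul_of_mem_sup (zpowers_le.2 hfK) hm
  -- replace `m` by an element of `K`
  obtain ⟨b, hb, k, hk, hbk⟩ : ∃ b ∈ K, ∃ k ∈ zpowers f, m = b * k := by
    refine ⟨a * l * a⁻¹, ?_, a, ha, by rw [hal]; group⟩
    have h1 := (zpowers_le.2 hfK : zpowers f ≤ normalizer (K : Set G)) ha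
    exact (mem_normalizer_iff.1 h1 l).1 hl
  have hbAB : cj b (zpowers f ⊔ Q) = zpowers f ⊔ Q1 := by
    rw [← hmAB, hbk, cj_mul]
    congr 1
    symm
    rw [← mem_normalizer_iff_cj]
    exact le_normalizer (mem_sup_left hk)
  have hbQ : cj b Q = Q1 := by
    have h1 : cj b (K ⊓ (zpowers f ⊔ Q)) = K ⊓ (zpowers f ⊔ Q1) := by
      rw [cj_inf, hbAB, mem_normalizer_iff_cj.1 (le_normalizer hb)]
    rwa [hA2, hB2] at h1
  -- `q = b f b⁻¹ f⁻¹ ∈ Q1`
  obtain ⟨q, hq⟩ : ∃ q, q = b * f * b⁻¹ * f⁻¹ := ⟨_, rfl⟩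
  have hqK : q ∈ K := by
    have h1 := (mem_normalizer_iff.1 hfK b⁻¹).1 (K.inv_mem hb)
    have h2 := K.mul_mem hb h1
    rw [hq]; simpa [mul_assoc] using h2
  have hqQ1 : q ∈ Q1 := by
    rw [← hB2]
    refine ⟨hqK, ?_⟩
    have h1 : b * f * b⁻¹ ∈ zpowers f ⊔ Q1 := by
      rw [← hbAB]
      exact conj_mem_cj (mem_sup_left (mem_zpowers f))
    rw [hq]
    exact (zpowers f ⊔ Q1).mul_mem h1 ((zpowers f ⊔ Q1).inv_mem (mem_sup_left (mem_zpowers f)))
  have hqf : q * f = b * f * b⁻¹ := by rw [hq]; group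
  -- `q f` centralises `Q1`
  have hcen : ∀ x ∈ Q1, q * f * x = x * (q * f) := by
    intro x hx
    rw [← hbQ, mem_cj] at hx
    have h1 := hf _ hx
    rw [hqf]
    calc b * f * b⁻¹ * x = b * (f * (b⁻¹ * x * b)) * b⁻¹ := by group
      _ = b * ((b⁻¹ * x * b) * f) * b⁻¹ := by rw [h1]
      _ = _ := by group
  have hqf1 : f * q = q * f := by
    have h1 := hcen q hqQ1
    have h2 : q * (f * q) = q * (q * f) := by
      calc q * (f * q) = q * f * q := by group
        _ = _ := h1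
    exact mul_left_cancel h2
  have hz1 : zz K ∈ Q1 := by
    obtain ⟨c, v, n, hc⟩ := h.exists_gq hK hQ1
    exact hc.z_mem
  by_cases hq1 : q = 1
  · intro x hx
    have h1 := hcen x hx
    rwa [hq1, one_mul] at h1
  by_cases hqz : q = zz K
  · intro x hx
    have h1 := hcen x hx
    have h2 : x * zz K = zz K * x := h.comm_zz hK (le_normalizer (hQ1.1 hx))
    rw [hqz] at h1
    have h3 : zz K * (f * x) = zz K * (x * f) := by
      calc zz K * (f * x) = zz K * f * x := by group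
        _ = x * (zz K * f) := h1
        _ = x * zz K * f := by group
        _ = _ := by rw [h2]; group
    exact mul_left_cancel h3
  · exfalso
    have hIQ : AutQuat.IsQ Q1 := h.isGQ hK hQ1
    have h1 : zz K ∈ zpowers q :=
      hIQ.mem_zpowers (fun t ht => h.uniq K hK t (hQ1.1 ht)) hqQ1 hq1
    obtain ⟨m, hm⟩ := h1
    have hm' : q ^ m = zz K := hm
    have hc : Commute f q := hqf1
    have h2 : b * f ^ m * b⁻¹ = zz K * f ^ m := by
      calc b * f ^ m * b⁻¹ = (b * f * b⁻¹) ^ m := by rw [conj_zpow]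
        _ = (q * f) ^ m := by rw [hqf]
        _ = q ^ m * f ^ m := (hc.symm.mul_zpow m)
        _ = _ := by rw [hm']
    refine h.not_conj_mul_zz hK hQ (f := f ^ m) ?_ hb h2
    intro x hx
    exact ((show Commute f x from hf x hx).zpow_left m).eq

end Hyp

/-! ### The case `|Om(S)| = 1` -/

/-- `Hyp Om`, and every 2-subgroup contains Sylow 2-subgroups of at most one member -/
structure One (Om : Set (Subgroup G)) : Prop where
  hyp : Hyp Om
  one : ∀ S : Subgroup G, IsPGroup 2 S → ∀ K ∈ OmS Om S, ∀ L ∈ OmS Om S, K = L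

namespace One

variable [Finite G] {Om : Set (Subgroup G)}

/-- (0a) -/
theorem eq_of_le_normalizer (h : One Om) {K L Q : Subgroup G} (hK : K ∈ Om) (hL : L ∈ Om) (hQ : Syl Q K)
    (hQL : Q ≤ normalizer (L : Set G)) : K = L := by
  obtain ⟨R, hR, hQR, -, hLR⟩ := exists_two_sup hQ.2.1 hQL
  exact h.one R hR K (mem_OmS_of_le hK hQ hQR) L (mem_OmS_of_le hL hLR inf_le_right)

/-- (0b) -/
theorem eq_of_zz_eq (h : One Om) {K L : Subgroup G} (hK : K ∈ Om) (hL : L ∈ Om) (hz : zz K = zz L) :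
    K = L := by
  rcases h.hyp.h2 K hK L hL hz with h1 | h1
  · exact h1
  · obtain ⟨Q, hQ⟩ := Hyp.exists_syl K
    apply h.eq_of_le_normalizer hK hL hQ
    rw [le_normalizer_iff]
    intro x hx k hk
    have h2 : x * k * x⁻¹ * k⁻¹ ∈ L :=
      OO_le L (h1 (commutator_mem_commutator (hQ.1 hx) hk)).2
    simpa using L.mul_mem h2 hk

/-- (0c) -/
theorem centralizer_zz (h : One Om) {K : Subgroup G} (hK : K ∈ Om) :
    centralizer {zz K} = normalizer (K : Set G) := by
  apply le_antisymm _ (h.hyp.normalizer_le hK)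
  intro g hg
  rw [mem_normalizer_iff_cj]
  apply h.eq_of_zz_eq (h.hyp.conj K hK g) hK
  rw [h.hyp.zz_cj hK, mul_inv_eq_iff_eq_mul]
  exact mem_centralizer_singleton_iff.1 hg

theorem mem_normalizer (h : One Om) {K : Subgroup G} (hK : K ∈ Om) {g : G} (hg : g * zz K = zz K * g) :
    g ∈ normalizer (K : Set G) := by
  rw [← h.centralizer_zz hK]
  exact mem_centralizer_singleton_iff.2 hg

theorem cj_eq (h : One Om) {K L : Subgroup G} (hK : K ∈ Om) (hL : L ∈ Om) {g : G}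
    (hg : g * zz K * g⁻¹ = zz L) : cj g K = L := by
  apply h.eq_of_zz_eq (h.hyp.conj K hK g) hL
  rw [h.hyp.zz_cj hK, hg]

/-- (0d) -/
theorem eq_of_cent (h : One Om) {K L Q : Subgroup G} (hK : K ∈ Om) (hL : L ∈ Om) (hQ : Syl Q K)
    (hc : ∀ x ∈ Q, zz L * x = x * zz L) : K = L := by
  apply h.eq_of_le_normalizer hK hL hQ
  intro x hx
  exact h.mem_normalizer hL (hc x hx).symm

/-- (0e) all members are conjugate -/
theorem exists_cj_eq (h : One Om) {K L : Subgroup G} (hK : K ∈ Om) (hL : L ∈ Om) : ∃ g, cj g K = L := by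
  obtain ⟨Q, hQ⟩ := Hyp.exists_syl K
  obtain ⟨R, hR⟩ := Hyp.exists_syl L
  obtain ⟨S, hS, hQS⟩ := exists_syl_ge hQ.2.1 (le_top : Q ≤ ⊤)
  obtain ⟨T, hT, hRT⟩ := exists_syl_ge hR.2.1 (le_top : R ≤ ⊤)
  obtain ⟨g, -, hg⟩ := hS.exists_conj hT
  refine ⟨g, ?_⟩
  refine h.one T hT.2.1 _ (mem_OmS_of_le (h.hyp.conj K hK g) (hQ.cj g) ?_) L
    (mem_OmS_of_le hL hR hRT)
  rw [← hg]
  exact cj_mono g hQS

/-- the involutions of two members are conjugate -/
theorem exists_conj_zz (h : One Om) {K L : Subgroup G} (hK : K ∈ Om) (hL : L ∈ Om) :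
    ∃ g, g * zz K * g⁻¹ = zz L := by
  obtain ⟨g, hg⟩ := h.exists_cj_eq hK hL
  exact ⟨g, by rw [← h.hyp.zz_cj hK, hg]⟩

/-- every conjugate of `zz K` is `zz` of a member -/
theorem conj_zz (h : One Om) {K : Subgroup G} (hK : K ∈ Om) (g : G) :
    ∃ L ∈ Om, zz L = g * zz K * g⁻¹ := ⟨cj g K, h.hyp.conj K hK g, h.hyp.zz_cj hK g⟩

/-- a 2-subgroup containing a Sylow 2-subgroup of `K` normalises `K` -/
theorem le_normalizer_of_mem (h : One Om) {K S : Subgroup G} (hS : IsPGroup 2 S) (hK : K ∈ OmS Om S) :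
    normalizer (S : Set G) ≤ normalizer (K : Set G) := by
  intro g hg
  rw [mem_normalizer_iff_cj]
  exact h.one S hS _ (cj_mem_OmS' h.hyp.conj hg hK) K hK

theorem le_normalizer_self (h : One Om) {K S : Subgroup G} (hS : IsPGroup 2 S) (hK : K ∈ OmS Om S) :
    S ≤ normalizer (K : Set G) := le_normalizer.trans (h.le_normalizer_of_mem hS hK)

/-- weak closure: a conjugate in `S` of the Sylow subgroup of `K ∈ Om(S)` is equal to it -/
theorem weakly_closed (h : One Om) {K S Q : Subgroup G} (hS : IsPGroup 2 S) (hK : K ∈ Om) (hQ : Syl Q K)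
    (hQS : Q ≤ S) {g : G} (hg : cj g Q ≤ S) : cj g Q = Q ∧ cj g K = K := by
  have h1 : cj g K = K :=
    h.one S hS _ (mem_OmS_of_le (h.hyp.conj K hK g) (hQ.cj g) hg) K (mem_OmS_of_le hK hQ hQS)
  refine ⟨?_, h1⟩
  have h2 : Q = K ⊓ S := syl_eq_of_le hQ (hS.to_le inf_le_right) inf_le_left (le_inf hQ.1 hQS)
  have h3 : cj g Q ≤ Q := by
    conv_rhs => rw [h2]
    refine le_inf ?_ hg
    exact (cj_mono g hQ.1).trans h1.le
  exact eq_of_le_of_card_ge h3 (by rw [card_cj])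

/-- fusion in `C(Q)` is controlled by `N(K) ∩ N(Q)` -/
theorem fusion (h : One Om) {K Q X : Subgroup G} (hK : K ∈ Om) (hQ : Syl Q K) {g : G}
    (hX : ∀ x ∈ X, ∀ q ∈ Q, x * q = q * x) (hg : ∀ x ∈ X, ∀ q ∈ Q, (g * x * g⁻¹) * q = q * (g * x * g⁻¹)) :
    ∃ m, cj m K = K ∧ cj m Q = Q ∧ ∀ x ∈ X, m * x * m⁻¹ = g * x * g⁻¹ := by
  set C : Subgroup G := centralizer (X : Set G) with hC
  have h1 : Q ≤ C := by
    intro q hq
    rw [hC, mem_centralizer_iff]
    intro x hx
    exact hX x hx q hq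
  have h2 : cj g⁻¹ Q ≤ C := by
    intro q hq
    rw [mem_cj, inv_inv] at hq
    rw [hC, mem_centralizer_iff]
    intro x hx
    have h3 := hg x hx _ hq
    calc x * q = g⁻¹ * ((g * x * g⁻¹) * (g * q * g⁻¹)) * g := by group
      _ = g⁻¹ * ((g * q * g⁻¹) * (g * x * g⁻¹)) * g := by rw [h3]
      _ = q * x := by group
  obtain ⟨S, hS, hQS⟩ := exists_syl_ge hQ.2.1 h1
  obtain ⟨T, hT, hRT⟩ := exists_syl_ge (hQ.cj g⁻¹).2.1 h2
  obtain ⟨c, hc, hcTS⟩ := hT.exists_conj hS
  have h3 : cj (c * g⁻¹) Q ≤ S := by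
    rw [cj_mul, ← hcTS]
    exact cj_mono c hRT
  obtain ⟨h4, h5⟩ := h.weakly_closed hS.2.1 hK hQ hQS h3
  refine ⟨(c * g⁻¹)⁻¹, ?_, ?_, ?_⟩
  · conv_lhs => rw [← h5]
    rw [cj_inv_cj]
  · conv_lhs => rw [← h4]
    rw [cj_inv_cj]
  · intro x hx
    have h6 : x * c = c * x := (mem_centralizer_iff.1 hc x hx)
    calc (c * g⁻¹)⁻¹ * x * (c * g⁻¹)⁻¹⁻¹ = g * c⁻¹ * (x * c) * g⁻¹ := by group
      _ = g * x * g⁻¹ := by rw [h6]; group

/-- fusion in `C(Q)` for elements -/
theorem fusion_elem (h : One Om) {K Q : Subgroup G} (hK : K ∈ Om) (hQ : Syl Q K) {g x : G}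
    (hX : ∀ q ∈ Q, x * q = q * x) (hg : ∀ q ∈ Q, (g * x * g⁻¹) * q = q * (g * x * g⁻¹)) :
    ∃ m, cj m K = K ∧ cj m Q = Q ∧ m * x * m⁻¹ = g * x * g⁻¹ := by
  obtain ⟨m, h1, h2, h3⟩ := h.fusion (X := zpowers x) (g := g) hK hQ
    (by
      rintro y ⟨k, rfl⟩ q hq
      exact ((show Commute x q from hX q hq).zpow_left k).eq)
    (by
      rintro y ⟨k, rfl⟩ q hq
      have : g * x ^ k * g⁻¹ = (g * x * g⁻¹) ^ k := by rw [conj_zpow]
      change (g * x ^ k * g⁻¹) * q = q * (g * x ^ k * g⁻¹)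
      rw [this]
      exact ((show Commute (g * x * g⁻¹) q from hg q hq).zpow_left k).eq)
  exact ⟨m, h1, h2, h3 x (mem_zpowers x)⟩

/-- `z^G ∩ C(Q) = {z}` -/
theorem zz_eq_of_cent (h : One Om) {K L Q : Subgroup G} (hK : K ∈ Om) (hL : L ∈ Om) (hQ : Syl Q K)
    (hc : ∀ x ∈ Q, zz L * x = x * zz L) : zz L = zz K := by
  rw [h.eq_of_cent hK hL hQ hc]

end One

end Cfsg.Agent.Cit
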