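import Cfsg.Agent.Cit.Quo
import Cfsg.Agent.Cit.CorTwo
set_option linter.all false

/-!
# `D(S)`, its weak closure, and fusion of the involutions `zz K`

`DD Om S` is generated by the `K ⊓ S`, `K ∈ OmS Om S`.

Facts that do not need LEMMA 1: `weakly_closed`, `OmS_eq_of_sylow` (`S` Sylow, `D(S) ≤ T` a 2-group:
`Om(T) = Om(S)`, `D(T) = D(S)`), `control` (for any two subsets centralised by `D`).

Facts that need LEMMA 1: `inf_le_normalizer`, `OmS_centralizer`, `inf_inf_le`, `Omz_subset`, `control_zz`,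
`DD_conj_of_common`.
-/

set_option autoImplicit false
set_option linter.style.haveILetI false

namespace Cfsg.Agent.Cit

open Subgroup Cfsg

variable {G : Type*} [Group G] {Om : Set (Subgroup G)} {S T K L : Subgroup G}

/-! ### `D(S)` -/

theorem DD_mono (h : S ≤ T) : DD Om S ≤ DD Om T :=
  DD_le_iff.2 fun _ hK => (inf_le_inf_left _ h).trans (inf_le_DD (OmS_mono h hK))

theorem inf_eq_of_le (hK : K ∈ OmS Om S) (h1 : DD Om S ≤ T) (h2 : T ≤ S) : K ⊓ T = K ⊓ S :=
  le_antisymm (inf_le_inf_left _ h2) (le_inf inf_le_left ((inf_le_DD hK).trans h1))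

/-- `Om(T) = Om(S)` for `D(S) ≤ T ≤ S` -/
theorem OmS_eq_of_le (h1 : DD Om S ≤ T) (h2 : T ≤ S) : OmS Om T = OmS Om S := by
  refine Set.Subset.antisymm (OmS_mono h2) fun K hK => ⟨hK.1, ?_⟩
  rw [← inf_relIndex_right, inf_comm, inf_eq_of_le hK h1 h2, inf_comm, inf_relIndex_right]
  exact hK.2

theorem DD_eq_of_le (h1 : DD Om S ≤ T) (h2 : T ≤ S) : DD Om T = DD Om S := by
  refine le_antisymm (DD_mono h2) (DD_le_iff.2 fun K hK => ?_)
  rw [← inf_eq_of_le hK h1 h2]
  exact inf_le_DD (by rw [OmS_eq_of_le h1 h2]; exact hK)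

theorem cj_le_iff {g : G} {A B : Subgroup G} : cj g A ≤ B ↔ A ≤ cj g⁻¹ B := by
  rw [← cj_le_cj (g := g⁻¹), cj_inv_cj]

theorem mem_OmS_cj (hO : ∀ K ∈ Om, ∀ g, cj g K ∈ Om) {g : G} :
    cj g K ∈ OmS Om (cj g S) ↔ K ∈ OmS Om S :=
  ⟨fun h => by simpa [cj_inv_cj] using cj_mem_OmS hO g⁻¹ h, cj_mem_OmS hO g⟩

theorem cj_injective (g : G) : Function.Injective (cj g : Subgroup G → Subgroup G) :=
  fun _ _ h => cj_inj.1 h

theorem ncard_OmS_cj (hO : ∀ K ∈ Om, ∀ g, cj g K ∈ Om) (g : G) :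
    (OmS Om (cj g S)).ncard = (OmS Om S).ncard := by
  rw [OmS_cj hO, Set.ncard_image_of_injective _ (cj_injective g)]

/-- if `g` conjugates `D(S)` into `S` then `g` permutes `Om(S)` -/
theorem cj_mem_of_cj_DD_le [Finite G] (hO : ∀ K ∈ Om, ∀ g, cj g K ∈ Om) {g : G}
    (h : cj g (DD Om S) ≤ S) (hK : K ∈ OmS Om S) : cj g K ∈ OmS Om S := by
  refine ⟨hO K hK.1 g, fun h2 => hK.2 ?_⟩
  have h3 : cj g (K ⊓ S) ≤ S := (cj_mono g (inf_le_DD hK)).trans h
  have h4 := h2.trans (relIndex_dvd_of_le_left (cj g K) h3)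
  rwa [relIndex_cj, inf_comm, inf_relIndex_right] at h4

/-- **`D(S)` is weakly closed in `S`** -/
theorem weakly_closed [Finite G] (hO : ∀ K ∈ Om, ∀ g, cj g K ∈ Om) {g : G}
    (h : cj g (DD Om S) ≤ S) : cj g (DD Om S) = DD Om S := by
  have h1 : cj g (DD Om S) ≤ DD Om S := by
    rw [cj_le_iff, DD_le_iff]
    intro K hK
    rw [← cj_le_cj (g := g), cj_cj_inv]
    exact (le_inf (cj_mono g inf_le_left) ((cj_mono g (inf_le_DD hK)).trans h)).trans
      (inf_le_DD (cj_mem_of_cj_DD_le hO h hK))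
  exact Subgroup.eq_of_le_of_card_ge h1 (card_cj g _).ge

/-- conjugate of a Sylow subgroup -/
theorem exists_cj_sylow [Finite G] (S S' : Sylow 2 G) :
    ∃ g : G, cj g (S : Subgroup G) = (S' : Subgroup G) := by
  haveI : Fact (Nat.Prime 2) := ⟨Nat.prime_two⟩
  obtain ⟨g, hg⟩ := MulAction.exists_smul_eq G S S'
  exact ⟨g, by rw [← hg]; rfl⟩

/-- **for `S` Sylow in `G` and a 2-group `T ≥ D(S)`: `Om(T) = Om(S)`** -/
theorem OmS_eq_of_sylow [Finite G] (hO : ∀ K ∈ Om, ∀ g, cj g K ∈ Om) (S : Sylow 2 G)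
    (hT : IsPGroup 2 T) (h : DD Om (S : Subgroup G) ≤ T) : OmS Om T = OmS Om (S : Subgroup G) := by
  haveI : Fact (Nat.Prime 2) := ⟨Nat.prime_two⟩
  obtain ⟨S', hS'⟩ := hT.exists_le_sylow
  obtain ⟨g, hg⟩ := MulAction.exists_smul_eq G S S'
  have hg' : cj g (S : Subgroup G) = S' := by rw [← hg]; rfl
  have h1 : OmS Om (S : Subgroup G) ⊆ OmS Om T := by
    rw [← OmS_eq_of_le le_rfl (DD_le (Om := Om) (S := (S : Subgroup G)))]
    exact OmS_mono h
  have h2 : OmS Om T ⊆ OmS Om (S' : Subgroup G) := OmS_mono hS'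
  have h3 : (OmS Om (S' : Subgroup G)).ncard = (OmS Om (S : Subgroup G)).ncard := by
    rw [← hg', ncard_OmS_cj hO]
  symm
  refine Set.eq_of_subset_of_ncard_le h1 ?_ (Set.toFinite _)
  rw [← h3]
  exact Set.ncard_le_ncard h2 (Set.toFinite _)

/-- **for `S` Sylow in `G` and a 2-group `T ≥ D(S)`: `D(T) = D(S)`** -/
theorem DD_eq_of_sylow [Finite G] (hO : ∀ K ∈ Om, ∀ g, cj g K ∈ Om) (S : Sylow 2 G)
    (hT : IsPGroup 2 T) (h : DD Om (S : Subgroup G) ≤ T) : DD Om T = DD Om (S : Subgroup G) := by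
  have h1 := OmS_eq_of_sylow hO S hT h
  apply le_antisymm
  · rw [DD_le_iff]
    intro K hK
    rw [h1] at hK
    have h2 : K ⊓ (S : Subgroup G) ≤ K ⊓ T := le_inf inf_le_left ((inf_le_DD hK).trans h)
    rw [← (syl_inf S.isPGroup' hK).eq_of_le h2 inf_le_left (hT.to_le inf_le_right)]
    exact inf_le_DD hK
  · rw [← DD_eq_of_le le_rfl (DD_le (Om := Om) (S := (S : Subgroup G)))]
    exact DD_mono h

/-- two 2-subgroups containing `D(S)`, `S` Sylow -/
theorem inf_eq_of_sylow [Finite G] (S : Sylow 2 G)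
    (hT : IsPGroup 2 T) (h : DD Om (S : Subgroup G) ≤ T) (hK : K ∈ OmS Om (S : Subgroup G)) :
    K ⊓ T = K ⊓ (S : Subgroup G) := by
  have h2 : K ⊓ (S : Subgroup G) ≤ K ⊓ T := le_inf inf_le_left ((inf_le_DD hK).trans h)
  exact ((syl_inf S.isPGroup' hK).eq_of_le h2 inf_le_left (hT.to_le inf_le_right)).symm

/-- **control of fusion**: if `D = D(S)` (`S` Sylow) centralises `A` and `g A g⁻¹`, then some
`h = g c`, `c ∈ C(A)`, normalises `D` -/
theorem control [Finite G] (hO : ∀ K ∈ Om, ∀ g, cj g K ∈ Om) (S : Sylow 2 G) {A : Set G} {g : G}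
    (h1 : DD Om (S : Subgroup G) ≤ centralizer A)
    (h2 : ∀ a ∈ A, DD Om (S : Subgroup G) ≤ centralizer {g * a * g⁻¹}) :
    ∃ c ∈ centralizer A, g * c ∈ normalizer (DD Om (S : Subgroup G) : Set G) := by
  haveI : Fact (Nat.Prime 2) := ⟨Nat.prime_two⟩
  set D := DD Om (S : Subgroup G) with hD
  have hD2 : IsPGroup 2 D := S.isPGroup'.to_le DD_le
  have h3 : cj g⁻¹ D ≤ centralizer A := by
    intro x hx
    rw [mem_cj, inv_inv] at hx
    rw [mem_centralizer_iff]
    intro a ha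
    have h4 := mem_centralizer_singleton_iff.1 (h2 a ha hx)
    calc a * x = g⁻¹ * ((g * a * g⁻¹) * (g * x * g⁻¹)) * g := by group
      _ = g⁻¹ * ((g * x * g⁻¹) * (g * a * g⁻¹)) * g := by rw [h4]
      _ = x * a := by group
  -- Sylow subgroups of the centraliser
  have h5 : ∀ B : Subgroup G, IsPGroup 2 B → B ≤ centralizer A →
      ∃ T : Sylow 2 (centralizer A), B ≤ (T : Subgroup (centralizer A)).map (centralizer A).subtype := by
    intro B hB hBA
    obtain ⟨T, hT⟩ := (hB.comap_subtype (K := centralizer A)).exists_le_sylow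
    refine ⟨T, ?_⟩
    have := Subgroup.map_mono (f := (centralizer A).subtype) hT
    rwa [show (Subgroup.comap (centralizer A).subtype B) = B.subgroupOf (centralizer A) from rfl,
      map_subgroupOf_eq_of_le hBA] at this
  obtain ⟨T, hT⟩ := h5 D hD2 h1
  obtain ⟨T', hT'⟩ := h5 (cj g⁻¹ D) (isPGroup_cj hD2) h3
  obtain ⟨c, hc⟩ := MulAction.exists_smul_eq (centralizer A) T T'
  have h6 : cj (c : G) ((T : Subgroup (centralizer A)).map (centralizer A).subtype) =
      (T' : Subgroup (centralizer A)).map (centralizer A).subtype := by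
    rw [← hc, ← coe_subtype, ← cj_map]
    rfl
  have h7 : cj (c : G) D ≤ (T' : Subgroup (centralizer A)).map (centralizer A).subtype := by
    rw [← h6]; exact cj_mono _ hT
  have hT'2 : IsPGroup 2 ((T' : Subgroup (centralizer A)).map (centralizer A).subtype) :=
    T'.isPGroup'.map _
  obtain ⟨R, hR⟩ := hT'2.exists_le_sylow
  obtain ⟨x, hx⟩ := MulAction.exists_smul_eq G S R
  have hx' : cj x (S : Subgroup G) = R := by rw [← hx]; rfl
  have h8 : ∀ y : G, cj y D ≤ (R : Subgroup G) → cj y D = cj x D := by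
    intro y hy
    have h9 : cj (x⁻¹ * y) D ≤ (S : Subgroup G) := by
      rw [cj_mul, cj_le_iff, inv_inv, hx']
      exact hy
    have h10 := weakly_closed hO h9
    rw [← hD, cj_mul] at h10
    have h11 := congrArg (cj x) h10
    rwa [cj_cj_inv] at h11
  have h12 := h8 c (h7.trans hR)
  have h13 := h8 g⁻¹ (hT'.trans hR)
  refine ⟨(c : G), c.2, ?_⟩
  rw [mem_normalizer_iff_cj, cj_mul, h12, ← h13, cj_cj_inv]

/-! ### Subnormality: `Om(z)` -/

/-- a member with involution `z` has a Sylow 2-subgroup in every Sylow 2-subgroup of `C(z)` -/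
theorem mem_OmS_of_zz [Finite G] (h : Hyp Om) (hK : K ∈ Om)
    (hT : Syl T (centralizer {zz K})) : K ∈ OmS Om T := by
  refine ⟨hK, fun h2 => hT.2.2 (h2.trans ?_)⟩
  have h3 := SignalizersComponents.PCompCore.relIndex_dvd_index_of_subnormal
    (T.subgroupOf (centralizer {zz K})) (h.sub K hK)
  rwa [relIndex_subgroupOf (h.le_centralizer hK)] at h3

/-! ### Facts depending on LEMMA 1 -/

theorem inf_le_normalizer [Finite G] (h : Hyp Om) (hS : IsPGroup 2 S)
    (hK : K ∈ OmS Om S) (hL : L ∈ OmS Om S) : L ⊓ S ≤ normalizer (K : Set G) := by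
  by_cases hKL : K = L
  · subst hKL
    exact inf_le_left.trans le_normalizer
  obtain ⟨c, v, n, hq⟩ := h.exists_gq hL.1 (syl_inf hS hL)
  refine hq.le_of_four fun y hy hy4 => ?_
  refine h.h3 L hL.1 K hK.1 y hy.1 ((hS.to_le ?_)) hy4.ge ?_
  · rw [zpowers_le]; exact hy.2
  · obtain ⟨c', v', n', hq'⟩ := h.exists_gq hK.1 (syl_inf hS hK)
    exact h.comm hS hL hK (Ne.symm hKL) hy hq'.z_mem

/-- `Om(S) = Om(C_S(z_K))` -/
theorem OmS_centralizer [Finite G] (h : Hyp Om) (hS : IsPGroup 2 S)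
    (hK : K ∈ OmS Om S) : OmS Om (S ⊓ centralizer {zz K}) = OmS Om S :=
  OmS_eq_of_le (le_inf DD_le (h.DD_le_centralizer hS hK)) inf_le_left

theorem DD_centralizer [Finite G] (h : Hyp Om) (hS : IsPGroup 2 S)
    (hK : K ∈ OmS Om S) : DD Om (S ⊓ centralizer {zz K}) = DD Om S :=
  DD_eq_of_le (le_inf DD_le (h.DD_le_centralizer hS hK)) inf_le_left

/-- members of `Om(S)` meet `S` in subgroups intersecting at most in the centre -/
theorem inf_inf_le [Finite G] (h : Hyp Om) (hS : IsPGroup 2 S)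
    (hK : K ∈ OmS Om S) (hL : L ∈ OmS Om S) (hKL : K ≠ L) {x : G} (hx : x ∈ K ⊓ S) (hx' : x ∈ L) :
    x = 1 ∨ (x = zz K ∧ zz K = zz L) := by
  obtain ⟨c, v, n, hq⟩ := h.exists_gq hK.1 (syl_inf hS hK)
  have h1 : ∀ y ∈ K ⊓ S, y * x = x * y := fun y hy => h.comm hS hK hL hKL hy ⟨hx', hx.2⟩
  by_cases hx1 : x = 1
  · exact Or.inl hx1
  · right
    have h2 : x * x = 1 := by
      rcases hq.cov x hx with ⟨i, rfl⟩ | ⟨i, rfl⟩
      · have h3 := h1 v hq.v_mem
        have h4 := hq.conj_pow i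
        rw [h3] at h4
        have h5 : c ^ i = (c ^ i)⁻¹ := mul_right_cancel h4
        nth_rw 2 [h5]
        group
      · exfalso
        apply hq.not_comm
        have h3 := h1 c hq.c_mem
        have h4 : c * v = v * c := by
          have h5 : c * v * c ^ i = v * c * c ^ i := by
            rw [mul_assoc, h3, mul_assoc, mul_assoc]
            congr 1
            exact (Commute.pow_self c i).eq
          exact mul_right_cancel h5
        exact h4.symm
    have h3 := h.eq_zz hK.1 hx.1 h2 hx1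
    exact ⟨h3, h3.symm.trans (h.eq_zz hL.1 hx' h2 hx1)⟩

/-- for `S` Sylow and `K ∈ Om(S)`, all `L ∈ Om` with `z_L = z_K` are in `Om(S)` -/
theorem Omz_subset [Finite G] (h : Hyp Om) (S : Sylow 2 G)
    (hK : K ∈ OmS Om (S : Subgroup G)) (hL : L ∈ Om) (hKL : zz L = zz K) :
    L ∈ OmS Om (S : Subgroup G) := by
  haveI : Fact (Nat.Prime 2) := ⟨Nat.prime_two⟩
  -- a Sylow 2-subgroup `T` of the centraliser containing `C_S(z)`
  have hD := h.DD_le_centralizer S.isPGroup' hK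
  have hD2 : IsPGroup 2 ((DD Om (S : Subgroup G)).subgroupOf (centralizer {zz K})) :=
    (S.isPGroup'.to_le DD_le).comap_subtype
  obtain ⟨T, hT⟩ := hD2.exists_le_sylow
  have hT2 : IsPGroup 2 ((T : Subgroup (centralizer {zz K})).map (centralizer {zz K}).subtype) :=
    T.isPGroup'.map _
  have hDT : DD Om (S : Subgroup G) ≤
      (T : Subgroup (centralizer {zz K})).map (centralizer {zz K}).subtype := by
    have := Subgroup.map_mono (f := (centralizer {zz K}).subtype) hT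
    rwa [map_subgroupOf_eq_of_le hD] at this
  rw [← OmS_eq_of_sylow h.conj S hT2 hDT]
  apply mem_OmS_of_zz h hL
  rw [hKL]
  refine ⟨map_subtype_le _, hT2, ?_⟩
  rw [relIndex, subgroupOf, comap_map_eq_self_of_injective (subtype_injective _)]
  exact T.not_dvd_index

/-- **fusion of the involutions `z_K` is controlled by `N(D)`** -/
theorem control_zz [Finite G] (h : Hyp Om) (S : Sylow 2 G) {g : G}
    (hK : K ∈ OmS Om (S : Subgroup G)) (hL : L ∈ OmS Om (S : Subgroup G))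
    (hg : g * zz K * g⁻¹ = zz L) :
    ∃ x ∈ centralizer {zz K}, g * x ∈ normalizer (DD Om (S : Subgroup G) : Set G) := by
  refine control h.conj S (A := {zz K}) (h.DD_le_centralizer S.isPGroup' hK) ?_
  intro a ha
  rw [Set.mem_singleton_iff] at ha
  rw [ha, hg]
  exact h.DD_le_centralizer S.isPGroup' hL

/-- two Sylow 2-subgroups sharing a member of `Om` -/
theorem DD_conj_of_common [Finite G] (h : Hyp Om) (S S' : Sylow 2 G)
    (hK : K ∈ OmS Om (S : Subgroup G)) (hK' : K ∈ OmS Om (S' : Subgroup G)) :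
    ∃ x ∈ centralizer {zz K}, cj x (DD Om (S : Subgroup G)) = DD Om (S' : Subgroup G) := by
  haveI : Fact (Nat.Prime 2) := ⟨Nat.prime_two⟩
  obtain ⟨g, hg⟩ := MulAction.exists_smul_eq G S S'
  have hg' : cj g (S : Subgroup G) = S' := by rw [← hg]; rfl
  have h1 : cj g⁻¹ K ∈ OmS Om (S : Subgroup G) := by
    have := cj_mem_OmS h.conj g⁻¹ hK'
    rwa [← hg', cj_inv_cj] at this
  obtain ⟨x, hx, hx2⟩ := control_zz h S (g := g⁻¹) hK h1 (h.zz_cj hK.1 _).symm
  refine ⟨x, hx, ?_⟩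
  rw [mem_normalizer_iff_cj, cj_mul] at hx2
  have h2 := congrArg (cj g) hx2
  rw [cj_cj_inv, cj_DD h.conj g, hg'] at h2
  exact h2

end Cfsg.Agent.Cit
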