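import Cfsg.Agent.Cit.WeakCl
import Cfsg.Agent.SignalizersComponents.Components
import Cfsg.Agent.SignalizersComponents.QuasisimpleQuotient
import Cfsg.Agent.FastGrp
import Cfsg.Agent.Prune
set_option linter.all false
prune_inst 0x7f00000000000000000000000000000000000000000000000000000000000000000000000000000000000000000000000000000000000000000000000000000000000000000000000000000000000000003fffffffffffffffffffffffffffbeffbdffffffff
open scoped Cfsg.Agent.FastGrp

/-!
# LEMMA N: the involution `zz K` normalises every component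

Only HYP is used, and the fact that quasisimple groups have even order (`EvQ G`, from the odd order
theorem; kept as a hypothesis to keep the imports light).
-/

set_option autoImplicit false
set_option linter.style.haveILetI false

namespace Cfsg.Agent.Cit.Comp

open Subgroup Cfsg Cfsg.Agent.Cit
open Cfsg.Agent.SignalizersComponents.Components

variable {G : Type*} [Group G]

/-- every quasisimple subgroup has even order (odd order theorem) -/
def EvQ (G : Type*) [Group G] : Prop := ∀ D : Subgroup G, IsQuasisimple D → 2 ∣ Nat.card D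

theorem evQ_of_solvable (h : ∀ D : Subgroup G, Odd (Nat.card D) → Group.IsSolvable D) : EvQ G := by
  intro D hD
  by_contra h2
  exact quasisimple_not_isSolvable hD (h D (Nat.odd_iff.2 (by omega)))

theorem isComponent_cj {E : Subgroup G} (hE : IsComponent E) (g : G) : IsComponent (cj g E) :=
  isComponent_conj g hE

/-- distinct components commute elementwise -/
theorem comm_of_ne {E F : Subgroup G} (hE : IsComponent E) (hF : IsComponent F) (hne : E ≠ F)
    {x y : G} (hx : x ∈ E) (hy : y ∈ F) : x * y = y * x :=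
  (mem_centralizer_iff.1 (component_le_centralizer_of_ne hF hE hne.symm hy) x hx)

/-- the join of two commuting subgroups -/
theorem mem_sup_comm {E F : Subgroup G} (h : ∀ x ∈ E, ∀ y ∈ F, x * y = y * x) {x : G}
    (hx : x ∈ E ⊔ F) : ∃ a ∈ E, ∃ b ∈ F, a * b = x := by
  let M : Subgroup G :=
    { carrier := {x | ∃ a ∈ E, ∃ b ∈ F, a * b = x}
      one_mem' := ⟨1, E.one_mem, 1, F.one_mem, by simp⟩
      mul_mem' := by
        rintro _ _ ⟨a, ha, b, hb, rfl⟩ ⟨c, hc, d, hd, rfl⟩
        refine ⟨a * c, E.mul_mem ha hc, b * d, F.mul_mem hb hd, ?_⟩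
        have h1 := h c hc b hb
        calc a * c * (b * d) = a * (c * b) * d := by group
          _ = a * b * (c * d) := by rw [h1]; group
      inv_mem' := by
        rintro _ ⟨a, ha, b, hb, rfl⟩
        refine ⟨a⁻¹, E.inv_mem ha, b⁻¹, F.inv_mem hb, ?_⟩
        rw [mul_inv_rev]
        exact h _ (E.inv_mem ha) _ (F.inv_mem hb) }
  have h1 : E ⊔ F ≤ M :=
    sup_le (fun a ha => ⟨a, ha, 1, F.one_mem, by simp⟩) (fun b hb => ⟨1, E.one_mem, b, hb, by simp⟩)
  exact h1 hx

/-- the diagonal of `E` and `z E z⁻¹` -/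
theorem exists_diag {E : Subgroup G} (hE : IsComponent E) {z : G} (hz : z * z = 1)
    (hne : cj z E ≠ E) : ∃ D : Subgroup G, D ≤ centralizer {z} ∧ D ≤ E ⊔ cj z E ∧
      IsComponent (D.subgroupOf (centralizer {z})) ∧ IsQuasisimple D ∧
      (∀ e ∈ E, e * (z * e * z⁻¹) ∈ D) := by
  have hzi : z⁻¹ = z := inv_eq_of_mul_eq_one_right hz
  have hcomm : ∀ x ∈ E, ∀ y ∈ cj z E, x * y = y * x := fun x hx y hy =>
    comm_of_ne hE (isComponent_cj hE z) hne.symm hx hy
  have hzz : cj z (cj z E) = E := by rw [← cj_mul, hz, cj_one]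
  let f : E →* G :=
    { toFun := fun e => (e : G) * (z * e * z⁻¹)
      map_one' := by simp
      map_mul' := fun a b => by
        have h1 := hcomm (b : G) b.2 (z * a * z⁻¹) (conj_mem_cj a.2)
        simp only [Subgroup.coe_mul]
        calc (a : G) * b * (z * (a * b) * z⁻¹) = a * (b * (z * a * z⁻¹)) * (z * b * z⁻¹) := by group
          _ = a * ((z * a * z⁻¹) * b) * (z * b * z⁻¹) := by rw [h1]
          _ = a * (z * a * z⁻¹) * (b * (z * b * z⁻¹)) := by group }
  have hf : ∀ e : E, f e = (e : G) * (z * e * z⁻¹) := fun e => rfl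
  have hfz : ∀ e : E, z * f e * z⁻¹ = f e := by
    intro e
    rw [hf]
    have h1 := hcomm (e : G) e.2 (z * e * z⁻¹) (conj_mem_cj e.2)
    rw [h1]
    calc z * (z * ↑e * z⁻¹ * ↑e) * z⁻¹ = (z * z) * e * (z⁻¹ * e * z⁻¹) := by group
      _ = (e : G) * (z * e * z⁻¹) := by rw [hz, hzi]; group
      _ = z * ↑e * z⁻¹ * ↑e := h1
  have hnt : Nontrivial f.range := by
    rw [← not_subsingleton_iff_nontrivial]
    intro hs
    apply quasisimple_not_isMulCommutative hE.2
    refine ⟨⟨fun a b => Subtype.ext ?_⟩⟩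
    -- `f = 1`, so `E = z E z⁻¹`-elements, hence `a ∈ cj z E`
    have h1 : f a = 1 := by
      have : (⟨f a, ⟨a, rfl⟩⟩ : f.range) = 1 := Subsingleton.elim _ _
      exact congrArg Subtype.val this
    have h2 : (a : G) = (z * a * z⁻¹)⁻¹ := eq_inv_of_mul_eq_one_left h1
    have h3 : (a : G) ∈ cj z E := by
      rw [h2]; exact (cj z E).inv_mem (conj_mem_cj a.2)
    exact (hcomm b b.2 a h3).symm
  have hq : IsQuasisimple f.range :=
    SignalizersComponents.QuasisimpleQuotient.isQuasisimple_of_surjective f.rangeRestrict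
      f.rangeRestrict_surjective hE.2
  have hle : f.range ≤ centralizer {z} := by
    rintro _ ⟨e, rfl⟩
    rw [mem_centralizer_singleton_iff]
    have := hfz e
    rw [mul_inv_eq_iff_eq_mul] at this
    exact this.symm
  have hle2 : f.range ≤ E ⊔ cj z E := by
    rintro _ ⟨e, rfl⟩
    exact (E ⊔ cj z E).mul_mem (mem_sup_left e.2) (mem_sup_right (conj_mem_cj e.2))
  refine ⟨f.range, hle, hle2, ⟨?_, ?_⟩, hq, fun e he => ⟨⟨e, he⟩, rfl⟩⟩
  · -- subnormality
    have hn : ((E ⊔ cj z E).subgroupOf (layer G)).Normal := by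
      refine normal_subgroupOf_of_le_normalizer ?_
      have h1 := layer_le_normalizer_component hE
      have h2 := layer_le_normalizer_component (isComponent_cj hE z)
      intro g hg
      rw [mem_normalizer_iff_cj, cj_sup, mem_normalizer_iff_cj.1 (h1 hg),
        mem_normalizer_iff_cj.1 (h2 hg)]
    have hle3 : E ⊔ cj z E ≤ layer G :=
      sup_le (component_le_layer hE) (component_le_layer (isComponent_cj hE z))
    have hsn : (E ⊔ cj z E).IsSubnormal :=
      IsSubnormal.step _ _ hle3 (layer_normal (G := G)).isSubnormal hn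
    have hsn2 : ((E ⊔ cj z E).subgroupOf (centralizer {z})).IsSubnormal := hsn.subgroupOf
    refine IsSubnormal.step _ _ ?_ hsn2 ?_
    · intro x hx
      exact hle2 hx
    · refine normal_subgroupOf_of_le_normalizer ?_
      intro x hx
      rw [mem_normalizer_iff_cj]
      have hx1 : (x : G) ∈ E ⊔ cj z E := hx
      have hxz : z * (x : G) * z⁻¹ = x := by
        rw [mul_inv_eq_iff_eq_mul]
        exact (mem_centralizer_singleton_iff.1 x.2).symm
      -- it is enough that `x` conjugates `f e` into the range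
      have key : ∀ x : G, x ∈ E ⊔ cj z E → z * x * z⁻¹ = x → ∀ e : E, x * f e * x⁻¹ ∈ f.range := by
        intro x hx1 hxz e
        obtain ⟨a, ha, b, hb, rfl⟩ := mem_sup_comm hcomm hx1
        -- `z a z⁻¹ = c b`, `c` central in `cj z E`
        have hza : z * a * z⁻¹ ∈ cj z E := conj_mem_cj ha
        have hzb : z * b * z⁻¹ ∈ E := by
          have := conj_mem_cj (g := z) hb
          rwa [hzz] at this
        have h1 : (z * a * z⁻¹) * (z * b * z⁻¹) = a * b := by
          rw [← hxz]; group
        have h2 : (z * b * z⁻¹)⁻¹ * a = (z * a * z⁻¹) * b⁻¹ := by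
          have h3 := hcomm _ hzb _ hza
          rw [← h3] at h1
          rw [inv_mul_eq_iff_eq_mul, ← mul_assoc, h1]; group
        have h4 : (z * a * z⁻¹) * b⁻¹ ∈ E := by
          rw [← h2]; exact E.mul_mem (E.inv_mem hzb) ha
        have h5 : (z * a * z⁻¹) * b⁻¹ ∈ cj z E := (cj z E).mul_mem hza ((cj z E).inv_mem hb)
        refine ⟨⟨a * e * a⁻¹, E.mul_mem (E.mul_mem ha e.2) (E.inv_mem ha)⟩, ?_⟩
        rw [hf, hf]
        simp only
        have h6 : z * (a * (e : G) * a⁻¹) * z⁻¹ = b * (z * e * z⁻¹) * b⁻¹ := by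
          have h7 : z * (a * (e : G) * a⁻¹) * z⁻¹ =
              (z * a * z⁻¹) * (z * e * z⁻¹) * (z * a * z⁻¹)⁻¹ := by group
          have h8 : ((z * a * z⁻¹) * b⁻¹) * (b * (z * e * z⁻¹) * b⁻¹) =
              (b * (z * e * z⁻¹) * b⁻¹) * ((z * a * z⁻¹) * b⁻¹) :=
            hcomm _ h4 _ ((cj z E).mul_mem ((cj z E).mul_mem hb (conj_mem_cj e.2))
              ((cj z E).inv_mem hb))
          rw [h7]
          calc (z * a * z⁻¹) * (z * e * z⁻¹) * (z * a * z⁻¹)⁻¹
              = (((z * a * z⁻¹) * b⁻¹) * (b * (z * e * z⁻¹) * b⁻¹)) *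
                ((z * a * z⁻¹) * b⁻¹)⁻¹ := by group
            _ = b * (z * e * z⁻¹) * b⁻¹ := by rw [h8]; group
        rw [h6]
        have h9 : a⁻¹ * b = b * a⁻¹ := hcomm _ (E.inv_mem ha) _ hb
        have h10 : (e : G) * b = b * e := hcomm _ e.2 _ hb
        have h11 : a * b = b * a := hcomm _ ha _ hb
        have h12 : ∀ t ∈ cj z E, a⁻¹ * t = t * a⁻¹ := fun t ht => hcomm _ (E.inv_mem ha) _ ht
        have h13 : b * (z * (e : G) * z⁻¹) * b⁻¹ ∈ cj z E :=
          (cj z E).mul_mem ((cj z E).mul_mem hb (conj_mem_cj e.2)) ((cj z E).inv_mem hb)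
        calc a * e * a⁻¹ * (b * (z * e * z⁻¹) * b⁻¹)
            = a * e * (a⁻¹ * (b * (z * e * z⁻¹) * b⁻¹)) := by group
          _ = a * (e * b) * (z * e * z⁻¹) * b⁻¹ * a⁻¹ := by rw [h12 _ h13]; group
          _ = a * b * (e * (z * e * z⁻¹)) * (b⁻¹ * a⁻¹) := by rw [h10]; group
          _ = a * b * (e * (z * e * z⁻¹)) * (a * b)⁻¹ := by
              rw [h11]
              have : (b * a)⁻¹ = (a * b)⁻¹ := by rw [h11]
              rw [this, mul_inv_rev]
      apply le_antisymm
      · rintro y hy
        rw [mem_cj] at hy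
        obtain ⟨e, he⟩ := hy
        have h1 := key x hx1 hxz e
        rw [he] at h1
        have h2 : (x : G) * (((x⁻¹ * y * x : centralizer {z}) : G)) * (x : G)⁻¹ = y := by
          simp only [Subgroup.coe_mul, Subgroup.coe_inv]; group
        rw [coe_subtype, h2] at h1
        exact h1
      · rintro y ⟨e, he⟩
        rw [mem_cj]
        have hx2 : (x : G)⁻¹ ∈ E ⊔ cj z E := (E ⊔ cj z E).inv_mem hx1
        have hxz2 : z * (x : G)⁻¹ * z⁻¹ = (x : G)⁻¹ := by
          have := congrArg (·⁻¹) hxz
          simpa [mul_assoc] using this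
        have h1 := key _ hx2 hxz2 e
        rw [he, inv_inv] at h1
        exact h1
  · -- quasisimplicity
    exact isQuasisimple_of_mulEquiv (subgroupOfEquivOfLe hle).symm hq

/-- **LEMMA N (i)**: `zz K` normalises every component -/
theorem cj_zz_component [Finite G] {Om : Set (Subgroup G)} (h : Hyp Om) (hev : EvQ G)
    {K E : Subgroup G} (hK : K ∈ Om) (hE : IsComponent E) : cj (zz K) E = E := by
  by_contra hne
  set z := zz K with hz
  have hz2 : z * z = 1 := h.zz_mul hK
  obtain ⟨D, hDz, hDE, hDc, hDq, hD⟩ := exists_diag hE hz2 hne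
  have hlay : E ⊔ cj z E ≤ layer G :=
    sup_le (component_le_layer hE) (component_le_layer (isComponent_cj hE z))
  have hKz : ∀ k ∈ K, k * z = z * k := fun k hk => h.comm_zz hK (le_normalizer hk)
  have hcz : ∀ k ∈ K, ∀ F : Subgroup G, cj k (cj z F) = cj z (cj k F) := by
    intro k hk F
    rw [← cj_mul, ← cj_mul, hKz k hk]
  have hzz : ∀ F : Subgroup G, cj z (cj z F) = F := by
    intro F; rw [← cj_mul, hz2, cj_one]
  rcases component_le_or_commutator_eq_bot hDc (h.sub K hK) with h1 | h1
  · -- `D ≤ K`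
    have h2 : D ≤ K := fun x hx => h1 (show (⟨x, hDz hx⟩ : centralizer {z}) ∈ _ from hx)
    haveI : Fact (Nat.Prime 2) := ⟨Nat.prime_two⟩
    obtain ⟨t, ht⟩ := exists_prime_orderOf_dvd_card' 2 (hev D hDq)
    have h3 : (t : G) = z := h.uniq K hK t (h2 t.2) (by rw [orderOf_coe]; exact ht)
    have h4 : z ∈ layer G := by rw [← h3]; exact hlay (hDE t.2)
    exact hne (mem_normalizer_iff_cj.1 (layer_le_normalizer_component hE h4))
  · -- `[D, K] = 1`
    have h2 : ∀ d ∈ D, ∀ k ∈ K, k * d = d * k := by
      intro d hd k hk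
      have h3 := commutator_eq_bot_iff_le_centralizer.1 h1
      have h4 : (⟨d, hDz hd⟩ : centralizer {z}) ∈ centralizer ((K.subgroupOf (centralizer {z}) :
        Subgroup (centralizer {z})) : Set (centralizer {z})) := h3 hd
      have h5 := mem_centralizer_iff.1 h4 ⟨k, h.le_centralizer hK hk⟩ hk
      exact congrArg Subtype.val h5
    have key : ∀ k ∈ K, cj k E = E ∨ cj k E = cj z E := by
      intro k hk
      by_contra hcon
      rw [not_or] at hcon
      obtain ⟨hc1, hc2⟩ := hcon
      have hF := isComponent_cj hE k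
      have hzE := isComponent_cj hE z
      have hF' : IsComponent (cj k (cj z E)) := isComponent_cj hzE k
      have hc3 : cj k (cj z E) ≠ E := by
        intro h3
        rw [hcz k hk] at h3
        apply hc2
        rw [← hzz (cj k E), h3]
      have hc4 : cj k (cj z E) ≠ cj z E := by
        intro h3
        rw [hcz k hk] at h3
        exact hc1 (cj_inj.1 h3)
      -- elements of `D` commute with `F ⊔ F'`
      have h3 : ∀ d ∈ D, ∀ x ∈ cj k E ⊔ cj k (cj z E), d * x = x * d := by
        intro d hd x hx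
        obtain ⟨a, ha, b, hb, rfl⟩ := mem_sup_comm
          (fun x hx y hy => comm_of_ne hE hzE (Ne.symm hne) hx hy) (hDE hd)
        obtain ⟨u, hu, w, hw, rfl⟩ := mem_sup_comm
          (fun x hx y hy => comm_of_ne hF hF' (fun h4 => hne (cj_inj.1 h4.symm)) hx hy) hx
        have e1 : a * u = u * a := comm_of_ne hE hF (Ne.symm hc1) ha hu
        have e2 : a * w = w * a := comm_of_ne hE hF' (Ne.symm hc3) ha hw
        have e3 : b * u = u * b := comm_of_ne hzE hF (Ne.symm hc2) hb hu
        have e4 : b * w = w * b := comm_of_ne hzE hF' (Ne.symm hc4) hb hw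
        calc a * b * (u * w) = a * (b * u) * w := by group
          _ = (a * u) * (b * w) := by rw [e3]; group
          _ = u * (a * w) * b := by rw [e1, e4]; group
          _ = u * w * (a * b) := by rw [e2]; group
      apply quasisimple_not_isMulCommutative hDq
      refine ⟨⟨fun a b => Subtype.ext ?_⟩⟩
      have h4 : (b : G) ∈ cj k E ⊔ cj k (cj z E) := by
        have h5 : (k * b * k⁻¹ : G) = b := by rw [h2 b b.2 k hk]; group
        rw [← h5, ← cj_sup]
        exact conj_mem_cj (hDE b.2)
      exact h3 a a.2 b h4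
    have key2 : ∀ k ∈ K, cj (k * k) E = E := by
      intro k hk
      rw [cj_mul]
      rcases key k hk with h3 | h3
      · rw [h3, h3]
      · rw [h3, hcz k hk, h3, hzz]
    obtain ⟨Q, hQ⟩ := Hyp.exists_syl K
    obtain ⟨c, v, n, hq⟩ := h.exists_gq hK hQ
    have h3 := key2 v (hQ.1 hq.v_mem)
    rw [hq.v_sq] at h3
    exact hne h3

/-- **LEMMA N (ii)**: a component centralised by `zz K` lies in `K` or commutes with `K` -/
theorem le_or_commutator_of_le_centralizer [Finite G] {Om : Set (Subgroup G)} (h : Hyp Om)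
    {K E : Subgroup G} (hK : K ∈ Om) (hE : IsComponent E) (hEz : E ≤ centralizer {zz K}) :
    E ≤ K ∨ ⁅E, K⁆ = ⊥ := by
  rcases component_le_or_commutator_eq_bot (isComponent_subgroupOf hEz hE) (h.sub K hK) with h1 | h1
  · left
    exact fun x hx => h1 (show (⟨x, hEz hx⟩ : centralizer {zz K}) ∈ _ from hx)
  · right
    have h2 := congrArg (Subgroup.map (centralizer {zz K}).subtype) h1
    rwa [map_commutator, map_subgroupOf_eq_of_le hEz, map_subgroupOf_eq_of_le
      (h.le_centralizer hK), Subgroup.map_bot] at h2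

/-- elementwise form -/
theorem le_or_comm_of_le_centralizer [Finite G] {Om : Set (Subgroup G)} (h : Hyp Om)
    {K E : Subgroup G} (hK : K ∈ Om) (hE : IsComponent E) (hEz : E ≤ centralizer {zz K}) :
    E ≤ K ∨ ∀ x ∈ E, ∀ y ∈ K, x * y = y * x := by
  refine (le_or_commutator_of_le_centralizer h hK hE hEz).imp id fun h1 x hx y hy => ?_
  rw [commutator_eq_bot_iff_le_centralizer] at h1
  exact (mem_centralizer_iff.1 (h1 hx) y hy).symm

end Cfsg.Agent.Cit.Comp
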