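import Mathlib
set_option linter.all false

/-!
# Closing of the classical involution theorem: an elementary closing argument

bb R18 #8757, THEOREM CLOSE-A. `G` acts transitively on `Ω`, at least two points, `z` an involution with
exactly one fixed point, `D` the class of `z`; `Bad Ω v` : `v` has two fixed points.

`Act.isConj_of` : suppose that `d e` is not bad for commuting `d ≠ e` in `D`. If `v` is an involution which is not
bad and commutes with some element of `D`, and `v d₁` is not bad for all `d₁ ∈ D ∩ C(v)`, then `v ∈ D`.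
-/

set_option autoImplicit false

namespace Cfsg.Agent.Cit.CloEven

open Subgroup

section dihedral

variable {G : Type*} [Group G]

theorem mul_pow_comm {a b : G} (ha : a * a = 1) (hb : b * b = 1) (n : ℕ) :
    a * (a * b) ^ n = ((a * b) ^ n)⁻¹ * a := by
  have hs : SemiconjBy a (a * b) (a * b)⁻¹ := by
    show a * (a * b) = (a * b)⁻¹ * a
    rw [mul_inv_rev, inv_eq_of_mul_eq_one_right ha, inv_eq_of_mul_eq_one_right hb, ← mul_assoc, ha, mul_assoc, ha]
    simp
  have h := (hs.pow_right n).eq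
  rwa [inv_pow] at h

theorem pow_mul_comm' {a b : G} (ha : a * a = 1) (hb : b * b = 1) (n : ℕ) :
    (a * b) ^ n * a = a * ((a * b) ^ n)⁻¹ := by
  have h := mul_pow_comm ha hb n
  calc (a * b) ^ n * a = a * a * ((a * b) ^ n * a) := by rw [ha, one_mul]
    _ = a * (a * (a * b) ^ n) * a := by group
    _ = a * (((a * b) ^ n)⁻¹ * a) * a := by rw [h]
    _ = a * ((a * b) ^ n)⁻¹ * (a * a) := by group
    _ = a * ((a * b) ^ n)⁻¹ := by rw [ha, mul_one]

/-- two involutions with a product of odd order: an involution conjugate to both exchanges them -/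
theorem exists_swap_of_odd {a b : G} (ha : a * a = 1) (hb : b * b = 1) (h : Odd (orderOf (a * b))) :
    ∃ x, IsConj a x ∧ x * a * x⁻¹ = b := by
  obtain ⟨j, hj⟩ := h
  set r := a * b with hr
  have h1 : r ^ (2 * j + 1) = 1 := by rw [← hj]; exact pow_orderOf_eq_one r
  have h2 : r ^ (j * (j + 1) + j * (j + 1)) = r ^ j := by
    have : j * (j + 1) + j * (j + 1) = (2 * j + 1) * j + j := by ring
    rw [this, pow_add, pow_mul, h1, one_pow, one_mul]
  have hxa : ∀ n, r ^ n * a * (r ^ n)⁻¹ = r ^ (n + n) * a := by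
    intro n
    have h3 := mul_pow_comm ha hb n
    rw [← hr] at h3
    calc r ^ n * a * (r ^ n)⁻¹ = r ^ n * (a * r ^ n) * (r ^ n)⁻¹ * (r ^ n)⁻¹ := by group
      _ = r ^ n * ((r ^ n)⁻¹ * a) * (r ^ n)⁻¹ * (r ^ n)⁻¹ := by rw [h3]
      _ = a * (r ^ n)⁻¹ * (r ^ n)⁻¹ := by group
      _ = (r ^ n * a) * (r ^ n)⁻¹ := by
          have h4 := pow_mul_comm' ha hb n
          rw [← hr] at h4
          rw [h4]
      _ = r ^ (n + n) * a := by
          have h4 := pow_mul_comm' ha hb (n + n)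
          have h5 := pow_mul_comm' ha hb n
          rw [← hr] at h4 h5
          rw [h4, h5, pow_add]; group
  refine ⟨r ^ (j * (j + 1)) * a * (r ^ (j * (j + 1)))⁻¹, isConj_iff.2 ⟨_, rfl⟩, ?_⟩
  rw [hxa, h2]
  have hai : a⁻¹ = a := inv_eq_of_mul_eq_one_right ha
  rw [mul_inv_rev, hai]
  have h3 : r ^ (j + j) = r⁻¹ := by
    rw [eq_inv_iff_mul_eq_one, ← pow_succ, ← two_mul]; exact h1
  calc r ^ j * a * a * (a * (r ^ j)⁻¹) = r ^ j * (a * a) * (a * (r ^ j)⁻¹) := by group
    _ = r ^ j * a * (r ^ j)⁻¹ := by rw [ha]; group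
    _ = r ^ (j + j) * a := hxa j
    _ = r⁻¹ * a := by rw [h3]
    _ = b := by
        rw [hr, mul_inv_rev, hai, inv_eq_of_mul_eq_one_right hb, mul_assoc, ha, mul_one]

/-- two involutions with a product of even order -/
theorem exists_mid {a b : G} (ha : a * a = 1) (hb : b * b = 1) (hpos : 0 < orderOf (a * b))
    (h : ¬ Odd (orderOf (a * b))) :
    ∃ w ∈ zpowers (a * b), w * w = 1 ∧ w ≠ 1 ∧ w * a = a * w ∧ w * b = b * w ∧
      ((IsConj a (a * w) ∧ IsConj b (b * w)) ∨ (IsConj b (a * w) ∧ IsConj a (b * w))) := by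
  rw [Nat.not_odd_iff_even] at h
  obtain ⟨k, hk⟩ := h
  set r := a * b with hr
  have hai : a⁻¹ = a := inv_eq_of_mul_eq_one_right ha
  have hbi : b⁻¹ = b := inv_eq_of_mul_eq_one_right hb
  have hkpos : 0 < k := by omega
  have hww : r ^ k * r ^ k = 1 := by rw [← pow_add, ← hk]; exact pow_orderOf_eq_one r
  have hw1 : r ^ k ≠ 1 := by
    intro h1
    have h2 := orderOf_dvd_of_pow_eq_one h1
    have := Nat.le_of_dvd hkpos h2
    omega
  have hwi : (r ^ k)⁻¹ = r ^ k := inv_eq_of_mul_eq_one_right hww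
  have h1 : ∀ n, a * r ^ n = (r ^ n)⁻¹ * a := fun n => by
    have := mul_pow_comm ha hb n
    rwa [← hr] at this
  have h2 : ∀ n, r ^ n * a = a * (r ^ n)⁻¹ := fun n => by
    have := pow_mul_comm' ha hb n
    rwa [← hr] at this
  have hab : b = a * r := by rw [hr, ← mul_assoc, ha, one_mul]
  have h3 : ∀ n, r ^ n * b = b * (r ^ n)⁻¹ := by
    intro n
    rw [hab, ← mul_assoc, h2]
    rw [mul_assoc, mul_assoc]
    congr 1
    have : Commute (r ^ n)⁻¹ r := ((Commute.refl r).pow_left n).inv_left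
    exact this.eq
  have hca : r ^ k * a = a * r ^ k := by rw [h2, hwi]
  have hcb : r ^ k * b = b * r ^ k := by rw [h3, hwi]
  refine ⟨r ^ k, Subgroup.npow_mem_zpowers r k, hww, hw1, hca, hcb, ?_⟩
  have hconj : ∀ (c : G), (∀ n, r ^ n * c = c * (r ^ n)⁻¹) → ∀ n, (r ^ n)⁻¹ * c * r ^ n = c * r ^ (n + n) := by
    intro c hc n
    have h5 : (r ^ n)⁻¹ * c = c * r ^ n := by
      have := hc n
      calc (r ^ n)⁻¹ * c = (r ^ n)⁻¹ * (c * (r ^ n)⁻¹) * r ^ n := by group
        _ = (r ^ n)⁻¹ * (r ^ n * c) * r ^ n := by rw [this]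
        _ = c * r ^ n := by group
    rw [h5, pow_add]; group
  rcases Nat.even_or_odd' k with ⟨j, hj | hj⟩
  · left
    constructor
    · rw [isConj_iff]
      refine ⟨(r ^ j)⁻¹, ?_⟩
      rw [inv_inv, hconj a h2 j, hj, two_mul]
    · rw [isConj_iff]
      refine ⟨(r ^ j)⁻¹, ?_⟩
      rw [inv_inv, hconj b h3 j, hj, two_mul]
  · right
    constructor
    · -- `a r ^ (2j+1) = b r ^ (2j)`
      rw [isConj_iff]
      refine ⟨(r ^ j)⁻¹, ?_⟩
      rw [inv_inv, hconj b h3 j, hj, two_mul, pow_succ', hab]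
      group
    · rw [isConj_iff]
      refine ⟨(r ^ (j + 1))⁻¹, ?_⟩
      rw [inv_inv, hconj a h2 (j + 1), hj, hab]
      have h6 : j + 1 + (j + 1) = (2 * j + 1) + 1 := by ring
      rw [h6, pow_succ']; group

end dihedral


section action

variable {G : Type*} [Group G] (Ω : Type*) [MulAction G Ω]

/-- `v` has at least two fixed points -/
def Bad (v : G) : Prop := ∃ a b : Ω, a ≠ b ∧ v • a = a ∧ v • b = b

/-- see the head of the file -/
structure Act (z : G) : Prop where
  sq : z * z = 1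
  ne : z ≠ 1
  trans : ∀ a b : Ω, ∃ g : G, g • a = b
  two : ∃ a b : Ω, a ≠ b
  pt : ∃ a : Ω, z • a = a ∧ ∀ b : Ω, z • b = b → b = a
  p1 : ∀ d e : G, IsConj z d → IsConj z e → d * e = e * d → d ≠ e → ¬ Bad Ω (d * e)

variable {Ω}

theorem Bad.conj {v g : G} (h : Bad Ω v) : Bad Ω (g * v * g⁻¹) := by
  obtain ⟨a, b, hab, ha, hb⟩ := h
  refine ⟨g • a, g • b, fun hh => hab (smul_left_cancel g hh), ?_, ?_⟩
  · rw [← mul_smul, inv_mul_cancel_right, mul_smul, ha]
  · rw [← mul_smul, inv_mul_cancel_right, mul_smul, hb]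

theorem smul_comm_fix {v w : G} {a : Ω} (h : v * w = w * v) (hv : v • a = a)
    (hu : ∀ b : Ω, v • b = b → b = a) : w • a = a := by
  apply hu
  rw [← mul_smul, h, mul_smul, hv]

namespace Act

variable {z : G} (h : Act Ω z)
include h

theorem dsq {d : G} (hd : IsConj z d) : d * d = 1 := by
  obtain ⟨g, rfl⟩ := isConj_iff.1 hd
  calc g * z * g⁻¹ * (g * z * g⁻¹) = g * (z * z) * g⁻¹ := by group
    _ = 1 := by rw [h.sq]; group

theorem dne {d : G} (hd : IsConj z d) : d ≠ 1 := by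
  rintro rfl
  exact h.ne (isConj_one_left.1 hd)

theorem dpt {d : G} (hd : IsConj z d) : ∃ a : Ω, d • a = a ∧ ∀ b : Ω, d • b = b → b = a := by
  obtain ⟨g, rfl⟩ := isConj_iff.1 hd
  obtain ⟨a, ha, hu⟩ := h.pt
  refine ⟨g • a, ?_, ?_⟩
  · rw [← mul_smul, inv_mul_cancel_right, mul_smul, ha]
  · intro b hb
    have h1 : z • (g⁻¹ • b) = g⁻¹ • b := by
      have h2 : g⁻¹ • ((g * z * g⁻¹) • b) = g⁻¹ • b := by rw [hb]
      rw [← mul_smul] at h2
      rw [← mul_smul, ← h2]
      congr 1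
      group
    rw [← hu _ h1, ← mul_smul, mul_inv_cancel, one_smul]

theorem duniq {d : G} (hd : IsConj z d) {a b : Ω} (ha : d • a = a) (hb : d • b = b) : a = b := by
  obtain ⟨c, -, hu⟩ := h.dpt hd
  rw [hu a ha, hu b hb]

theorem dcomm {d v : G} (hd : IsConj z d) (hc : d * v = v * d) {a : Ω} (ha : d • a = a) : v • a = a :=
  smul_comm_fix hc ha (fun _ hb => (h.duniq hd ha hb).symm)

theorem exists_at (a : Ω) : ∃ d, IsConj z d ∧ d • a = a := by
  obtain ⟨b, hb, -⟩ := h.pt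
  obtain ⟨g, rfl⟩ := h.trans b a
  refine ⟨g * z * g⁻¹, isConj_iff.2 ⟨g, rfl⟩, ?_⟩
  rw [← mul_smul, inv_mul_cancel_right, mul_smul, hb]

/-- (1) -/
theorem odd [Finite G] {d e : G} (hd : IsConj z d) (he : IsConj z e) {a b : Ω} (hab : a ≠ b) (ha : d • a = a)
    (hb : e • b = b) : Odd (orderOf (d * e)) := by
  by_contra hodd
  obtain ⟨w, -, hww, hw1, hwd, hwe, hor⟩ := exists_mid (h.dsq hd) (h.dsq he) (orderOf_pos _) hodd
  have h1 : IsConj z (d * w) := by
    rcases hor with h2 | h2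
    · exact hd.trans h2.1
    · exact he.trans h2.1
  have h3 : d * (d * w) = d * w * d := by
    rw [mul_assoc d w d, hwd]
  have h4 : d ≠ d * w := by
    intro h5
    exact hw1 (by simpa using h5.symm)
  have h5 := h.p1 d (d * w) hd h1 h3 h4
  rw [← mul_assoc, h.dsq hd, one_mul] at h5
  exact h5 ⟨a, b, hab, h.dcomm hd hwd.symm ha, h.dcomm he hwe.symm hb⟩

/-- **THEOREM CLOSE-A** : an involution `v` with exactly one fixed point, commuting with some element of `D`, such
that `v d` (`d ∈ D` commuting with `v`) is never bad, is in `D`. -/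
theorem isConj_of [Finite G] {v d : G} (hv2 : v * v = 1) (hd : IsConj z d) (hvd : v * d = d * v)
    (hB : ¬ Bad Ω v) (hP : ∀ d₁, IsConj z d₁ → d₁ * v = v * d₁ → d₁ ≠ v → ¬ Bad Ω (v * d₁)) : IsConj z v := by
  by_contra hvD
  obtain ⟨a, hda, -⟩ := h.dpt hd
  have hva : v • a = a := h.dcomm hd hvd.symm hda
  have hvu : ∀ b' : Ω, v • b' = b' → b' = a := by
    intro b' hb'
    by_contra hne
    exact hB ⟨b', a, hne, hb', hva⟩
  obtain ⟨b, hab⟩ : ∃ b : Ω, a ≠ b := by
    by_contra hcon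
    push Not at hcon
    obtain ⟨x, y, hxy⟩ := h.two
    exact hxy ((hcon x).symm.trans (hcon y))
  obtain ⟨e, he, heb⟩ := h.exists_at b
  have hodd : ¬ Odd (orderOf (v * e)) := by
    intro ho
    obtain ⟨y, hy, hye⟩ := exists_swap_of_odd hv2 (h.dsq he) ho
    exact hvD (he.trans (isConj_iff.2 ⟨y, hye⟩).symm)
  obtain ⟨w, -, hw2, hw1, hwv, hwe, hor⟩ := exists_mid hv2 (h.dsq he) (orderOf_pos _) hodd
  have hwBad : Bad Ω w := ⟨a, b, hab, smul_comm_fix hwv.symm hva hvu, h.dcomm he hwe.symm heb⟩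
  rcases hor with ⟨-, h5⟩ | ⟨h5, -⟩
  · -- `e ~ e w`
    have h7 := h.p1 e (e * w) he (he.trans h5) (by rw [mul_assoc e w e, hwe]) (by
      intro h8
      exact hw1 (by simpa using h8.symm))
    rw [← mul_assoc, h.dsq he, one_mul] at h7
    exact h7 hwBad
  · have h7 := hP (v * w) (he.trans h5) (by rw [mul_assoc v w v, hwv]) (by
      intro h8
      exact hw1 (by simpa using h8))
    rw [← mul_assoc, hv2, one_mul] at h7
    exact h7 hwBad

end Act

end action


end Cfsg.Agent.Cit.CloEven
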