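import Cfsg.Agent.S0215
import Cfsg.Agent.Cit.Defs
set_option linter.all false

/-!
# The parabolic lemma for long root subgroups

`K` is a subgroup of a finite group `G` (in the application `K = SL(2, q)`, `q` odd), `z` its only
involution, `X` a Sylow `p`-subgroup of `K`, `p ∣ q`. The structure `Long K X z` lists the facts used.
With the `Z*`-theorem one gets, for the normalizer and the centralizer of `X`:

* `isolated`: the involution `z` commutes with no other conjugate of `z` under `N(X)`;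
* `normalizer_eq`: `N(X) = R N_{N(X)}(K)`, `centralizer_eq`: `C(X) = R C(K)`, where `R` is the largest normal
  subgroup of odd order of `C(X)`;
* `cj_of_le`: the conjugates of `K` containing `X` form one orbit under `R`;
* `mem_core_of_commute`: `C_R(z) = X (R ∩ C(K))`, and `R ∩ C(K)` lies in the odd core of `C(K)`.
-/

set_option autoImplicit false

namespace Cfsg.Agent.Cit.Parab

open Subgroup Cfsg

variable {G : Type*} [Group G]

/-! ### Conjugates of a subgroup -/

/-- In a finite group a subgroup carried into itself is normalized. -/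
theorem cj_eq_of_le [Finite G] {g : G} {K : Subgroup G} (h : cj g K ≤ K) : cj g K = K :=
  Subgroup.eq_of_le_of_card_ge h (card_cj g K).ge

theorem cj_eq_of_conj_mem [Finite G] {g : G} {K : Subgroup G} (h : ∀ k ∈ K, g * k * g⁻¹ ∈ K) :
    cj g K = K := by
  refine cj_eq_of_le ?_
  rintro _ ⟨k, hk, rfl⟩
  exact h k hk

theorem conj_mem_of_cj_eq {g : G} {K : Subgroup G} (h : cj g K = K) {k : G} (hk : k ∈ K) : g * k * g⁻¹ ∈ K := by
  have h1 := conj_mem_cj (g := g) hk
  rwa [h] at h1

theorem cj_eq_of_mem {g : G} {K : Subgroup G} (hg : g ∈ K) : cj g K = K := by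
  ext y
  rw [mem_cj]
  constructor
  · intro h
    have h1 := K.mul_mem (K.mul_mem hg h) (K.inv_mem hg)
    have h2 : g * (g⁻¹ * y * g) * g⁻¹ = y := by group
    rwa [h2] at h1
  · intro h
    exact K.mul_mem (K.mul_mem (K.inv_mem hg) h) hg

/-! ### Involutions and elements of odd order -/

/-- Two involutions with a product of odd order are conjugate by a power of the product. -/
theorem exists_conj_of_odd {z t : G} (hz : z * z = 1) (ht : t * t = 1) (ho : Odd (orderOf (z * t))) :
    ∃ n ∈ zpowers (z * t), n * z * n⁻¹ = t := by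
  obtain ⟨k, hk⟩ := ho
  have hzi : z⁻¹ = z := inv_eq_of_mul_eq_one_left hz
  have hti : t⁻¹ = t := inv_eq_of_mul_eq_one_left ht
  set x := z * t with hx
  have hxi : x⁻¹ = t * z := by rw [hx, mul_inv_rev, hzi, hti]
  have hzx : z * x * z⁻¹ = x⁻¹ := by
    rw [hxi, hx, hzi, ← mul_assoc, hz, one_mul]
  -- `x ^ (k + 1)` is a square root of `x`
  have hsq : x ^ (k + 1) * x ^ (k + 1) = x := by
    rw [← pow_add, show k + 1 + (k + 1) = (2 * k + 1) + 1 by ring, pow_succ, ← hk, pow_orderOf_eq_one, one_mul]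
  have hzy : z * x ^ (k + 1) * z⁻¹ = (x ^ (k + 1))⁻¹ := by
    rw [← conj_pow, hzx, inv_pow]
  refine ⟨(x ^ (k + 1))⁻¹, inv_mem (pow_mem (mem_zpowers x) _), ?_⟩
  rw [inv_inv]
  have h1 : z * x ^ (k + 1) = (x ^ (k + 1))⁻¹ * z := by
    rw [← hzy]; group
  rw [← h1, mul_assoc, hsq, hx, ← mul_assoc, hz, one_mul]

theorem exists_conj_of_mem [Finite G] {N : Subgroup G} (hN : Odd (Nat.card N)) {z t : G} (hz : z * z = 1)
    (ht : t * t = 1) (hzt : z * t ∈ N) : ∃ n ∈ N, n * z * n⁻¹ = t := by
  have ho : Odd (orderOf (z * t)) := by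
    have h1 : orderOf (z * t) ∣ Nat.card N := by
      have h2 := orderOf_dvd_natCard (⟨z * t, hzt⟩ : N)
      rwa [← Subgroup.orderOf_coe] at h2
    exact hN.of_dvd_nat h1
  obtain ⟨n, hn, h⟩ := exists_conj_of_odd hz ht ho
  exact ⟨n, (zpowers_le.2 hzt) hn, h⟩

/-! ### The `Z*`-theorem for an involution commuting with no other conjugate -/

/-- **`Z*`-theorem**: an involution commuting with none of its other conjugates is central modulo a normal
subgroup of odd order. -/
theorem zstar {H : Type*} [Group H] [Finite H] {z : H} (hz : orderOf z = 2)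
    (hiso : ∀ g : H, g * z * g⁻¹ * z = z * (g * z * g⁻¹) → g * z * g⁻¹ = z) :
    ∃ N : Subgroup H, N.Normal ∧ Odd (Nat.card N) ∧ ∀ g : H, z * g * z⁻¹ * g⁻¹ ∈ N := by
  have : Fact (Nat.Prime 2) := ⟨Nat.prime_two⟩
  have hzp : IsPGroup 2 (Subgroup.zpowers z) := IsPGroup.of_card (n := 1) (by rw [Nat.card_zpowers, hz, pow_one])
  obtain ⟨P, hP⟩ := hzp.exists_le_sylow
  have hzP : z ∈ P := hP (Subgroup.mem_zpowers z)
  have hcen : ∀ x ∈ P, x * z = z * x := by
    by_contra hx
    push Not at hx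
    set C : Subgroup P := Subgroup.centralizer {(⟨z, hzP⟩ : P)} with hC
    have hCtop : C ≠ ⊤ := by
      intro h
      obtain ⟨x, hxP, hxz⟩ := hx
      have h1 : (⟨x, hxP⟩ : P) ∈ C := by rw [h]; trivial
      exact hxz (congrArg Subtype.val (Subgroup.mem_centralizer_singleton_iff.1 h1))
    have hnil : Group.IsNilpotent P := P.2.isNilpotent
    have hlt : C < Subgroup.normalizer (C : Set P) :=
      Group.normalizerCondition_of_isNilpotent C (lt_top_iff_ne_top.2 hCtop)
    obtain ⟨y, hy, hyC⟩ := Set.exists_of_ssubset hlt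
    have h1 : y * ⟨z, hzP⟩ * y⁻¹ ∈ C := (Subgroup.mem_normalizer_iff.1 hy _).1
      (Subgroup.mem_centralizer_singleton_iff.2 rfl)
    have h2 := Subgroup.mem_centralizer_singleton_iff.1 h1
    have h3 : (y : H) * z * (y : H)⁻¹ * z = z * (y * z * (y : H)⁻¹) := congrArg Subtype.val h2
    have h4 := hiso y h3
    apply hyC
    refine Subgroup.mem_centralizer_singleton_iff.2 (Subtype.ext ?_)
    rwa [mul_inv_eq_iff_eq_mul] at h4
  exact Cfsg.Agent.S0215.result P z hz hzP fun g hg => hiso g (hcen _ hg)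

/-! ### Long root subgroups -/

/-- The hypotheses on `K`, its Sylow `p`-subgroup `X` and its involution `z`. -/
structure Long (K X : Subgroup G) (z : G) : Prop where
  zK : z ∈ K
  zsq : z * z = 1
  zne : z ≠ 1
  uniq : ∀ t ∈ K, t * t = 1 → t ≠ 1 → t = z
  alt : ∀ c : G, c * z = z * c → cj c K = K ∨ ∀ k ∈ K, ∀ l ∈ cj c K, k * l = l * k
  XK : X ≤ K
  Xodd : Odd (Nat.card X)
  Xcomm : ∀ x ∈ X, ∀ y ∈ X, x * y = y * x
  gen : ∀ L : Subgroup G, X ≤ L → (∀ k ∈ K, ∀ l ∈ L, k * l * k⁻¹ ∈ L) → K ≤ L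
  inner : ∀ c : G, cj c K = K → (∀ x ∈ X, c * x = x * c) → ∃ x ∈ X, ∀ k ∈ K, x⁻¹ * c * k = k * (x⁻¹ * c)

namespace Long

variable {K X : Subgroup G} {z : G}

theorem central (h : Long K X z) {k : G} (hk : k ∈ K) : k * z = z * k := by
  have h1 : k * z * k⁻¹ = z := by
    apply h.uniq
    · exact K.mul_mem (K.mul_mem hk h.zK) (K.inv_mem hk)
    · have h2 : k * z * k⁻¹ * (k * z * k⁻¹) = k * (z * z) * k⁻¹ := by group
      rw [h2, h.zsq]; group
    · intro h2
      apply h.zne
      have h3 : z = k⁻¹ * (k * z * k⁻¹) * k := by group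
      rw [h3, h2]; group
  rwa [mul_inv_eq_iff_eq_mul] at h1

theorem not_central (h : Long K X z) : ∃ k ∈ K, ∃ x ∈ X, k * x ≠ x * k := by
  by_contra hcon
  push Not at hcon
  have h1 : K ≤ X := by
    refine h.gen X le_rfl ?_
    intro k hk x hx
    rw [hcon k hk x hx]
    have h2 : x * k * k⁻¹ = x := by group
    rwa [h2]
  have h2 : z ∈ X := h1 h.zK
  have h3 : orderOf z = 2 := orderOf_eq_prime (by rw [pow_two]; exact h.zsq) h.zne
  have h4 : orderOf z ∣ Nat.card X := by
    have h5 := orderOf_dvd_natCard (⟨z, h2⟩ : X)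
    rwa [← Subgroup.orderOf_coe] at h5
  rw [h3] at h4
  have h6 := h.Xodd
  rw [← Nat.not_even_iff_odd] at h6
  exact h6 (even_iff_two_dvd.2 h4)

theorem orderOf_z (h : Long K X z) : orderOf z = 2 :=
  orderOf_eq_prime (by rw [pow_two]; exact h.zsq) h.zne

/-- A conjugate of `K` by an element of `C(z)` which contains `X` is `K`. -/
theorem cj_eq (h : Long K X z) {c : G} (hc : c * z = z * c) (hX : X ≤ cj c K) : cj c K = K := by
  rcases h.alt c hc with h1 | h1
  · exact h1
  · obtain ⟨k, hk, x, hx, hne⟩ := h.not_central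
    exact absurd (h1 k hk x (hX hx)) hne

/-- `C(z) ∩ N(X)` normalizes `K`. -/
theorem cj_eq_of_normalizes (h : Long K X z) {c : G} (hc : c * z = z * c) (hX : cj c X = X) : cj c K = K := by
  refine h.cj_eq hc ?_
  rw [← hX]
  exact cj_mono _ h.XK

/-- (i) `C(z) ∩ C(X) = X C(K)`. -/
theorem exists_of_commute (h : Long K X z) {c : G} (hc : c * z = z * c) (hX : ∀ x ∈ X, c * x = x * c) :
    ∃ x ∈ X, ∀ k ∈ K, x⁻¹ * c * k = k * (x⁻¹ * c) := by
  refine h.inner c (h.cj_eq_of_normalizes hc ?_) hX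
  ext y
  rw [mem_cj]
  constructor
  · intro hy
    have h1 := hX _ hy
    have h2 : c * (c⁻¹ * y * c) = y * c := by group
    rw [h2] at h1
    have h3 := mul_right_cancel h1
    rw [h3]; exact hy
  · intro hy
    have h1 := hX _ hy
    have h2 : c⁻¹ * y * c = y := by
      rw [mul_assoc, ← h1]; group
    rwa [h2]

/-- The conjugate situation. -/
theorem conj (h : Long K X z) (g : G) : Long (cj g K) (cj g X) (g * z * g⁻¹) where
  zK := conj_mem_cj h.zK
  zsq := by
    have h2 : g * z * g⁻¹ * (g * z * g⁻¹) = g * (z * z) * g⁻¹ := by group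
    rw [h2, h.zsq]; group
  zne := by
    intro h2
    apply h.zne
    have h3 : z = g⁻¹ * (g * z * g⁻¹) * g := by group
    rw [h3, h2]; group
  uniq := by
    intro t ht htt htne
    rw [mem_cj] at ht
    have h1 := h.uniq _ ht (by
      have h2 : g⁻¹ * t * g * (g⁻¹ * t * g) = g⁻¹ * (t * t) * g := by group
      rw [h2, htt]; group) (by
      intro h2
      apply htne
      have h3 : t = g * (g⁻¹ * t * g) * g⁻¹ := by group
      rw [h3, h2]; group)
    rw [← h1]; group
  alt := by
    intro c hc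
    have h1 : g⁻¹ * c * g * z = z * (g⁻¹ * c * g) := by
      have h2 : g⁻¹ * c * g * z = g⁻¹ * (c * (g * z * g⁻¹)) * g := by group
      rw [h2, hc]; group
    rcases h.alt _ h1 with h2 | h2
    · left
      have h3 : cj c (cj g K) = cj g (cj (g⁻¹ * c * g) K) := by
        rw [← cj_mul, ← cj_mul]; congr 1; group
      rw [h3, h2]
    · right
      intro k hk l hl
      rw [mem_cj] at hk
      rw [mem_cj, mem_cj] at hl
      have h3 := h2 _ hk (g⁻¹ * l * g) (by
        rw [mem_cj]
        have h4 : (g⁻¹ * c * g)⁻¹ * (g⁻¹ * l * g) * (g⁻¹ * c * g) = g⁻¹ * (c⁻¹ * l * c) * g := by group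
        rwa [h4])
      have h5 : k * l = g * (g⁻¹ * k * g * (g⁻¹ * l * g)) * g⁻¹ := by group
      rw [h5, h3]; group
  XK := cj_mono _ h.XK
  Xodd := by rw [card_cj]; exact h.Xodd
  Xcomm := by
    intro x hx y hy
    rw [mem_cj] at hx hy
    have h3 := h.Xcomm _ hx _ hy
    have h5 : x * y = g * (g⁻¹ * x * g * (g⁻¹ * y * g)) * g⁻¹ := by group
    rw [h5, h3]; group
  gen := by
    intro L hL hinv
    have h1 : K ≤ cj g⁻¹ L := by
      refine h.gen _ ?_ ?_
      · intro x hx
        rw [mem_cj, inv_inv]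
        exact hL (conj_mem_cj hx)
      · intro k hk l hl
        rw [mem_cj, inv_inv] at hl ⊢
        have h2 := hinv (g * k * g⁻¹) (conj_mem_cj hk) _ hl
        have h3 : g * (k * l * k⁻¹) * g⁻¹ = g * k * g⁻¹ * (g * l * g⁻¹) * (g * k * g⁻¹)⁻¹ := by group
        rwa [h3]
    intro y hy
    rw [mem_cj] at hy
    have h2 := h1 hy
    rw [mem_cj, inv_inv] at h2
    have h3 : g * (g⁻¹ * y * g) * g⁻¹ = y := by group
    rwa [h3] at h2
  inner := by
    intro c hc hX
    have h1 : cj (g⁻¹ * c * g) K = K := by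
      rw [cj_mul, cj_mul, hc, cj_inv_cj]
    obtain ⟨x, hx, h2⟩ := h.inner _ h1 (by
      intro x hx
      have h3 := hX _ (conj_mem_cj hx)
      have h4 : g⁻¹ * c * g * x = g⁻¹ * (c * (g * x * g⁻¹)) * g := by group
      rw [h4, h3]; group)
    refine ⟨g * x * g⁻¹, conj_mem_cj hx, ?_⟩
    intro k hk
    rw [mem_cj] at hk
    have h3 := h2 _ hk
    have h4 : (g * x * g⁻¹)⁻¹ * c * k = g * (x⁻¹ * (g⁻¹ * c * g) * (g⁻¹ * k * g)) * g⁻¹ := by group
    rw [h4, h3]; group

/-- `K` and a conjugate containing `X` with commuting involutions centralize each other's involution. -/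
theorem commute_of_commute (h : Long K X z) {t : G} (ht : t * t = 1) (htz : t * z = z * t)
    (htX : ∀ x ∈ X, t * x = x * t) : ∀ k ∈ K, t * k = k * t := by
  obtain ⟨x, hx, hc⟩ := h.exists_of_commute htz htX
  -- `t = x c` with `c ∈ C(K)`
  set c := x⁻¹ * t with hcdef
  have htxc : t = x * c := by rw [hcdef]; group
  have hxc : Commute x c := (hc x (h.XK hx)).symm
  set m := orderOf x with hm
  have hmodd : Odd m := by
    have h5 := orderOf_dvd_natCard (⟨x, hx⟩ : X)
    rw [← Subgroup.orderOf_coe] at h5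
    exact h.Xodd.of_dvd_nat h5
  have h1 : t ^ m = c ^ m := by
    rw [htxc, hxc.mul_pow, hm, pow_orderOf_eq_one, one_mul]
  have h2 : t ^ m = t := by
    obtain ⟨j, hj⟩ := hmodd
    rw [hj, pow_succ, pow_mul, pow_two, ht, one_pow, one_mul]
  intro k hk
  have h3 : Commute c k := hc k hk
  rw [← h2, h1]
  exact (h3.pow_left m).eq

/-- (ii) `z` commutes with no other conjugate of `z` under `N(X)`: the conjugate of `K` is then `K`. -/
theorem isolated_aux (h : Long K X z) {g : G} (hg : cj g X = X)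
    (hc : g * z * g⁻¹ * z = z * (g * z * g⁻¹)) : cj g K ≤ K ∧ K ≤ cj g K := by
  have h' : Long (cj g K) X (g * z * g⁻¹) := by
    have := h.conj g
    rwa [hg] at this
  set K' := cj g K with hK'
  set z' := g * z * g⁻¹ with hz'
  -- each involution centralizes the other group
  have hz'K : ∀ k ∈ K, z' * k = k * z' := h.commute_of_commute h'.zsq hc fun x hx =>
    (h'.central (h'.XK hx)).symm
  have hzK' : ∀ k ∈ K', z * k = k * z := h'.commute_of_commute h.zsq hc.symm fun x hx =>
    (h.central (h.XK hx)).symm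
  -- normalization, stated symmetrically
  have key : ∀ {A B : Subgroup G} {a b : G}, Long A X a → Long B X b → (∀ k ∈ A, b * k = k * b) →
      ∀ k ∈ A, cj k B = B := by
    intro A B a b hA hB hbA
    -- the kernel of the action of `C(b)` on the conjugates of `B`
    let L : Subgroup G :=
      { carrier := {l | ∀ c : G, c * b = b * c → cj l (cj c B) = cj c B}
        one_mem' := fun c _ => cj_one _
        mul_mem' := by
          intro l m hl hm c hc
          rw [cj_mul, hm c hc, hl c hc]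
        inv_mem' := by
          intro l hl c hc
          conv_lhs => rw [← hl c hc]
          exact cj_inv_cj _ _ }
    have hL : ∀ l, l ∈ L ↔ ∀ c : G, c * b = b * c → cj l (cj c B) = cj c B := fun _ => Iff.rfl
    have hXL : X ≤ L := by
      intro x hx
      rw [hL]
      intro c hc
      rcases hB.alt c hc with h1 | h1
      · rw [h1]; exact cj_eq_of_mem (hB.XK hx)
      · ext y
        rw [mem_cj]
        constructor
        · intro hy
          have h2 := h1 x (hB.XK hx) _ hy
          have h3 : x * (x⁻¹ * y * x) = y * x := by group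
          rw [h3] at h2
          have h4 := mul_right_cancel h2
          rw [h4]; exact hy
        · intro hy
          have h2 := h1 x (hB.XK hx) _ hy
          have h3 : x⁻¹ * y * x = y := by rw [mul_assoc, ← h2]; group
          rwa [h3]
    have hAL : A ≤ L := by
      refine hA.gen L hXL ?_
      intro k hk l hl
      rw [hL] at hl ⊢
      intro c hc
      have hbk : k⁻¹ * b = b * k⁻¹ := (hbA _ (A.inv_mem hk)).symm
      have h1 := hl (k⁻¹ * c) (by rw [mul_assoc, hc, ← mul_assoc, hbk, mul_assoc])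
      have h2 : cj (k * l * k⁻¹) (cj c B) = cj k (cj l (cj (k⁻¹ * c) B)) := by
        rw [← cj_mul, ← cj_mul, ← cj_mul]; congr 1; group
      rw [h2, h1, ← cj_mul]; congr 1; group
    intro k hk
    have h1 := (hL k).1 (hAL hk) 1 (by simp)
    rwa [cj_one] at h1
  have h1 : ∀ k ∈ K, cj k K' = K' := key h h' hz'K
  have h2 : ∀ k ∈ K', cj k K = K := key h' h hzK'
  refine ⟨?_, ?_⟩
  · refine h'.gen K h.XK ?_
    intro k hk l hl
    exact conj_mem_of_cj_eq (h2 k hk) hl
  · refine h.gen K' h'.XK ?_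
    intro k hk l hl
    exact conj_mem_of_cj_eq (h1 k hk) hl

theorem isolated (h : Long K X z) {g : G} (hg : cj g X = X)
    (hc : g * z * g⁻¹ * z = z * (g * z * g⁻¹)) : g * z * g⁻¹ = z := by
  have h1 := (h.isolated_aux hg hc).1
  have h2 := h.conj g
  exact h.uniq _ (h1 h2.zK) h2.zsq h2.zne

theorem isolated_group (h : Long K X z) {g : G} (hg : cj g X = X)
    (hc : g * z * g⁻¹ * z = z * (g * z * g⁻¹)) : cj g K = K :=
  le_antisymm (h.isolated_aux hg hc).1 (h.isolated_aux hg hc).2

/-! ### The consequences of the `Z*`-theorem -/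

variable [Finite G]

/-- There is a normal subgroup `N` of `N(X)` of odd order, inside `C(X)`, with `[z, N(X)] ≤ N`. -/
theorem exists_core (h : Long K X z) : ∃ N : Subgroup G, Odd (Nat.card N) ∧ (∀ g : G, cj g X = X → cj g N = N) ∧
    N ≤ centralizer (X : Set G) ∧ ∀ g : G, cj g X = X → z * (g * z * g⁻¹) ∈ N := by
  set H := normalizer (X : Set G) with hH
  have hzX : cj z X = X := by
    refine cj_eq_of_conj_mem fun x hx => ?_
    rw [← h.central (h.XK hx)]
    have h1 : x * z * z⁻¹ = x := by group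
    rwa [h1]
  have hzH : z ∈ H := mem_normalizer_iff_cj.2 hzX
  have hzo : orderOf (⟨z, hzH⟩ : H) = 2 := by
    rw [← Subgroup.orderOf_coe]; exact h.orderOf_z
  obtain ⟨N, hN, hNodd, hNz⟩ := zstar hzo (by
    rintro ⟨g, hg⟩ hc
    have h1 : g * z * g⁻¹ * z = z * (g * z * g⁻¹) := congrArg Subtype.val hc
    exact Subtype.ext (h.isolated (mem_normalizer_iff_cj.1 hg) h1))
  refine ⟨N.map H.subtype ⊓ centralizer (X : Set G), ?_, ?_, inf_le_right, ?_⟩
  · have h1 : Nat.card (N.map H.subtype) = Nat.card N :=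
      (Nat.card_congr (N.equivMapOfInjective _ H.subtype_injective).toEquiv).symm
    refine Odd.of_dvd_nat ?_ (Subgroup.card_dvd_of_le (inf_le_left :
      N.map H.subtype ⊓ centralizer (X : Set G) ≤ N.map H.subtype))
    rw [h1]; exact hNodd
  · intro g hg
    refine cj_eq_of_conj_mem ?_
    rintro y ⟨⟨n, hn, rfl⟩, hy⟩
    have hgH : g ∈ H := mem_normalizer_iff_cj.2 hg
    refine ⟨⟨⟨g, hgH⟩ * n * ⟨g, hgH⟩⁻¹, hN.conj_mem n hn _, rfl⟩, ?_⟩
    intro x hx
    have hx' : g⁻¹ * x * g ∈ X := by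
      have h2 : x ∈ cj g X := by rw [hg]; exact hx
      exact mem_cj.1 h2
    have h3 := hy _ hx'
    have h4 : x * (g * (H.subtype n) * g⁻¹) = g * (g⁻¹ * x * g * (H.subtype n)) * g⁻¹ := by group
    have h5 : g * (H.subtype n) * g⁻¹ * x = g * ((H.subtype n) * (g⁻¹ * x * g)) * g⁻¹ := by group
    show x * (g * (H.subtype n) * g⁻¹) = g * (H.subtype n) * g⁻¹ * x
    rw [h4, h5, h3]
  · intro g hg
    have hgH : g ∈ H := mem_normalizer_iff_cj.2 hg
    have hzi : z⁻¹ = z := inv_eq_of_mul_eq_one_left h.zsq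
    refine ⟨⟨_, hNz ⟨g, hgH⟩, ?_⟩, ?_⟩
    · show z * g * z⁻¹ * g⁻¹ = z * (g * z * g⁻¹)
      rw [hzi]; group
    · intro x hx
      have hx' : g⁻¹ * x * g ∈ X := by
        have h2 : x ∈ cj g X := by rw [hg]; exact hx
        exact mem_cj.1 h2
      have h3 := h.central (h.XK hx')
      have h4 := h.central (h.XK hx)
      have h5 : g * z * g⁻¹ * x = g * (z * (g⁻¹ * x * g)) * g⁻¹ := by group
      have h6 : g * z * g⁻¹ * x = x * (g * z * g⁻¹) := by
        rw [h5, ← h3]; group
      show x * (z * (g * z * g⁻¹)) = z * (g * z * g⁻¹) * x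
      rw [mul_assoc z, h6, ← mul_assoc, h4, mul_assoc]

end Long

/-! ### The odd core of a centralizer -/

/-- The odd core of `C(X)`, as a subgroup of `G`. -/
noncomputable def core (X : Subgroup G) : Subgroup G :=
  (oddCore ↥(centralizer (X : Set G))).map (centralizer (X : Set G)).subtype

theorem core_le (X : Subgroup G) : core X ≤ centralizer (X : Set G) := map_subtype_le _

theorem core_commute {X : Subgroup G} {r x : G} (hr : r ∈ core X) (hx : x ∈ X) : r * x = x * r :=
  (mem_centralizer_iff.1 (core_le X hr) x hx).symm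

theorem odd_core [Finite G] (X : Subgroup G) : Odd (Nat.card (core X)) := by
  have h1 : Nat.card (core X) = Nat.card (oddCore ↥(centralizer (X : Set G))) :=
    (Nat.card_congr ((oddCore ↥(centralizer (X : Set G))).equivMapOfInjective _
      (centralizer (X : Set G)).subtype_injective).toEquiv).symm
  rw [h1]
  exact Nat.coprime_two_right.1 (Lib.Cores.pPrimeCore_coprime (G := ↥(centralizer (X : Set G))) 2)

theorem le_core {X N : Subgroup G} (hN : Odd (Nat.card N)) (hNX : N ≤ centralizer (X : Set G))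
    (hinv : ∀ c ∈ centralizer (X : Set G), ∀ n ∈ N, c * n * c⁻¹ ∈ N) : N ≤ core X := by
  have h1 : N.subgroupOf (centralizer (X : Set G)) ≤ oddCore ↥(centralizer (X : Set G)) := by
    refine Lib.Cores.le_pPrimeCore ?_ ?_
    · refine ⟨?_⟩
      rintro ⟨n, hn⟩ hn' ⟨c, hc⟩
      exact hinv c hc n hn'
    · have h2 : Nat.card (N.subgroupOf (centralizer (X : Set G))) = Nat.card N :=
        Nat.card_congr (subgroupOfEquivOfLe hNX).toEquiv
      rw [h2]
      exact Nat.coprime_two_right.2 hN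
  have h2 := Subgroup.map_mono (f := (centralizer (X : Set G)).subtype) h1
  rwa [subgroupOf_map_subtype, inf_eq_left.2 hNX] at h2

theorem mem_centralizer_cj {g : G} {X : Subgroup G} (hg : cj g X = X) {c : G}
    (hc : c ∈ centralizer (X : Set G)) : g * c * g⁻¹ ∈ centralizer (X : Set G) := by
  rw [mem_centralizer_iff] at hc ⊢
  intro x hx
  have hx' : g⁻¹ * x * g ∈ X := by
    have h2 : x ∈ cj g X := by rw [hg]; exact hx
    exact mem_cj.1 h2
  have h3 := hc _ hx'
  have h4 : x * (g * c * g⁻¹) = g * (g⁻¹ * x * g * c) * g⁻¹ := by group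
  rw [h4, h3]; group

theorem core_conj_mem {X : Subgroup G} {c r : G} (hc : c ∈ centralizer (X : Set G)) (hr : r ∈ core X) :
    c * r * c⁻¹ ∈ core X := by
  obtain ⟨r, hr, rfl⟩ := hr
  exact ⟨⟨c, hc⟩ * r * ⟨c, hc⟩⁻¹, (Lib.Cores.pPrimeCore_normal 2).conj_mem r hr _, rfl⟩

theorem cj_inv_eq {g : G} {X : Subgroup G} (hg : cj g X = X) : cj g⁻¹ X = X := by
  conv_lhs => rw [← hg]
  exact cj_inv_cj _ _

theorem cj_core [Finite G] {g : G} {X : Subgroup G} (hg : cj g X = X) : cj g (core X) = core X := by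
  refine cj_eq_of_le ?_
  refine le_core ?_ ?_ ?_
  · rw [card_cj]; exact odd_core X
  · intro y hy
    rw [mem_cj] at hy
    have h1 := mem_centralizer_cj hg (core_le X hy)
    have h2 : g * (g⁻¹ * y * g) * g⁻¹ = y := by group
    rwa [h2] at h1
  · intro c hc n hn
    rw [mem_cj] at hn ⊢
    have h1 := mem_centralizer_cj (cj_inv_eq hg) hc
    rw [inv_inv] at h1
    have h2 := core_conj_mem h1 hn
    have h3 : g⁻¹ * (c * n * c⁻¹) * g = g⁻¹ * c * g * (g⁻¹ * n * g) * (g⁻¹ * c * g)⁻¹ := by group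
    rwa [h3]

namespace Long

variable {K X : Subgroup G} {z : G}

theorem X_le_core (h : Long K X z) : X ≤ core X := by
  refine le_core h.Xodd ?_ ?_
  · intro x hx
    rw [mem_centralizer_iff]
    intro y hy
    exact h.Xcomm y hy x hx
  · intro c hc x hx
    rw [mem_centralizer_iff] at hc
    have h1 : c * x * c⁻¹ = x := by
      rw [← hc x hx]; group
    rwa [h1]

variable [Finite G]

/-- (iii) `N(X) = R (N(X) ∩ N(K))`, the second factor centralizing `z`. -/
theorem exists_of_normalizes (h : Long K X z) {g : G} (hg : cj g X = X) :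
    ∃ r ∈ core X, ∃ c : G, cj c X = X ∧ cj c K = K ∧ c * z = z * c ∧ g = r * c := by
  obtain ⟨N, hNodd, hNn, hNX, hN⟩ := h.exists_core
  have hNR : N ≤ core X := by
    refine le_core hNodd hNX ?_
    intro c hc n hn
    refine conj_mem_of_cj_eq (hNn c ?_) hn
    refine cj_eq_of_conj_mem ?_
    intro x hx
    have h1 : c * x * c⁻¹ = x := by
      rw [← mem_centralizer_iff.1 hc x hx]; group
    rwa [h1]
  have h1 : g * z * g⁻¹ * (g * z * g⁻¹) = 1 := (h.conj g).zsq
  obtain ⟨n, hn, h2⟩ := exists_conj_of_mem hNodd h.zsq h1 (hN g hg)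
  have hnX : cj n X = X := by
    refine cj_eq_of_conj_mem fun x hx => ?_
    have h1 : n * x * n⁻¹ = x := by
      rw [← mem_centralizer_iff.1 (hNX hn) x hx]; group
    rwa [h1]
  have hcX : cj (n⁻¹ * g) X = X := by
    rw [cj_mul, hg]; exact cj_inv_eq hnX
  have hcz : n⁻¹ * g * z = z * (n⁻¹ * g) := by
    have h3 : n⁻¹ * g * z = n⁻¹ * (g * z * g⁻¹) * g := by group
    rw [h3, ← h2]; group
  exact ⟨n, hNR hn, n⁻¹ * g, hcX, h.cj_eq_of_normalizes hcz hcX, hcz, by group⟩

/-- (iii) `C(X) = R C(K)`. -/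
theorem exists_of_centralizes (h : Long K X z) {g : G} (hg : ∀ x ∈ X, g * x = x * g) :
    ∃ r ∈ core X, ∃ c : G, (∀ k ∈ K, c * k = k * c) ∧ g = r * c := by
  have hgX : cj g X = X := by
    refine cj_eq_of_conj_mem fun x hx => ?_
    have h1 : g * x * g⁻¹ = x := by rw [hg x hx]; group
    rwa [h1]
  obtain ⟨r, hr, c, hcX, hcK, hcz, rfl⟩ := h.exists_of_normalizes hgX
  have hc : ∀ x ∈ X, c * x = x * c := by
    intro x hx
    have h1 := hg x hx
    have h2 := core_commute (core X |>.inv_mem hr) hx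
    have h3 : c * x = r⁻¹ * (r * c * x) := by group
    rw [h3, h1, ← mul_assoc, h2]; group
  obtain ⟨x, hx, h1⟩ := h.exists_of_commute hcz hc
  refine ⟨r * x, (core X).mul_mem hr (h.X_le_core hx), x⁻¹ * c, h1, by group⟩

/-- (iv) The conjugates of `K` containing `X` form one orbit under `R`. -/
theorem exists_cj_eq (h : Long K X z) (hsyl : ∀ Y : Subgroup G, Y ≤ K → Nat.card Y = Nat.card X →
    ∃ k ∈ K, cj k Y = X) {g : G} (hX : X ≤ cj g K) : ∃ r ∈ core X, cj g K = cj r K := by
  -- `X` and `g X g⁻¹` are conjugate in `g K g⁻¹`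
  obtain ⟨k, hk, h1⟩ := hsyl (cj g⁻¹ X) (by
    have := cj_mono g⁻¹ hX
    rwa [cj_inv_cj] at this) (card_cj _ _)
  have h2 : cj (g * k⁻¹) X = X := by
    have h3 : cj (g * k⁻¹) (cj k (cj g⁻¹ X)) = X := by
      rw [cj_mul, cj_inv_cj, cj_cj_inv]
    rwa [h1] at h3
  obtain ⟨r, hr, c, -, hcK, -, hrc⟩ := h.exists_of_normalizes h2
  refine ⟨r, hr, ?_⟩
  have h3 : cj g K = cj (g * k⁻¹) K := by
    rw [cj_mul, cj_eq_of_mem (K.inv_mem hk)]
  rw [h3, hrc, cj_mul, hcK]

omit [Finite G] in
/-- (v) `C_R(z) = X (R ∩ C(K))`. -/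
theorem mem_core_of_commute (h : Long K X z) {r : G} (hr : r ∈ core X) (hz : r * z = z * r) :
    ∃ x ∈ X, ∃ d ∈ core X, (∀ k ∈ K, d * k = k * d) ∧ r = x * d := by
  obtain ⟨x, hx, h1⟩ := h.exists_of_commute hz fun x hx => core_commute hr hx
  exact ⟨x, hx, x⁻¹ * r, (core X).mul_mem ((core X).inv_mem (h.X_le_core hx)) hr, h1, by group⟩

/-- (v) `R ∩ C(K)` lies in the odd core of `C(K)`. -/
theorem core_inf_le (h : Long K X z) : core X ⊓ centralizer (K : Set G) ≤ core K := by
  refine le_core ?_ inf_le_right ?_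
  · exact Odd.of_dvd_nat (odd_core X) (Subgroup.card_dvd_of_le inf_le_left)
  · rintro c hc n ⟨hn1, hn2⟩
    refine ⟨core_conj_mem ?_ hn1, (centralizer (K : Set G)).mul_mem ((centralizer (K : Set G)).mul_mem hc hn2)
      ((centralizer (K : Set G)).inv_mem hc)⟩
    rw [mem_centralizer_iff] at hc ⊢
    exact fun x hx => hc x (h.XK hx)

end Long

end Cfsg.Agent.Cit.Parab
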