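import Cfsg.Agent.Cit.WeakCl
import Cfsg.Agent.Cit.ParabSL2Opp
import Cfsg.Agent.Cit.FrameSign
set_option linter.all false

/-!
# (FC): the normaliser of a member of a frame normalises `G₀`

Let `F = Om(S)`, `S` Sylow in `G`. (helper124, bb #6771.)

* `exists_cj_mem` : if `F ≤ H` then every member of `Om` contained in `H` is `H`-conjugate into `F`;
* `exists_cj_frame` : `K ∈ F`, `g ∈ N(K)`, `Δ` a `g`-invariant subgroup centralising `K` and containing the
  other members of `F`: some `d ∈ Δ` has `(d g) F = F`;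
* `exists_signed` : then some `x ∈ G₀` has `x g` permuting the signed frame `(K i, X i, X' i)`;
* `normalizer_le_normalizer` : if `G₀` is generated by the sign groups `⨅ i, Q i (e i)` then
  `N(K) ≤ N(G₀)` for every `K ∈ Om`, `K ≤ G₀`;
* `frame_close` : the same for helper126's `Frame`, members `K i ≅ SL(2,q)`, `Q i s = X i s [C(X i s), z i]`,
  `Δ i = delta Om (K i)`.
-/

set_option autoImplicit false
set_option linter.style.haveILetI false
set_option linter.unusedSectionVars false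

namespace Cfsg.Agent.Cit.FrameClose

open Subgroup Cfsg Cfsg.Agent.Cit

variable {G : Type*} [Group G] [Finite G] {Om : Set (Subgroup G)}

/-! ### 2-subgroups of a subgroup -/

/-- two 2-subgroups of `H`: a conjugate of the second one lies in a Sylow 2-subgroup of `H` containing the first -/
theorem exists_sylow_cj {H A B : Subgroup G} (hA : IsPGroup 2 A) (hB : IsPGroup 2 B) (hAH : A ≤ H) (hBH : B ≤ H) :
    ∃ T : Subgroup G, T ≤ H ∧ IsPGroup 2 T ∧ A ≤ T ∧ ∃ d ∈ H, cj d B ≤ T := by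
  haveI : Fact (Nat.Prime 2) := ⟨Nat.prime_two⟩
  have hA' : IsPGroup 2 (A.subgroupOf H) := hA.comap_subtype
  have hB' : IsPGroup 2 (B.subgroupOf H) := hB.comap_subtype
  obtain ⟨S, hS⟩ := hA'.exists_le_sylow
  obtain ⟨R, hR⟩ := hB'.exists_le_sylow
  obtain ⟨d, hd⟩ := MulAction.exists_smul_eq H R S
  refine ⟨(S : Subgroup H).map H.subtype, map_subtype_le _, S.isPGroup'.map _, ?_, d, d.2, ?_⟩
  · rw [← map_subgroupOf_eq_of_le hAH]
    exact Subgroup.map_mono hS
  · rintro _ ⟨b, hb, rfl⟩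
    have h1 : (⟨b, hBH hb⟩ : H) ∈ (R : Subgroup H) := hR (mem_subgroupOf.2 hb)
    have h2 : d * ⟨b, hBH hb⟩ * d⁻¹ ∈ (S : Subgroup H) := by
      rw [← hd]
      have h3 := Subgroup.smul_mem_pointwise_smul (⟨b, hBH hb⟩ : H) (MulAut.conj d) (R : Subgroup H) h1
      exact h3
    exact ⟨_, h2, rfl⟩

/-- `(om_conj)` for any subgroup containing the frame -/
theorem exists_cj_mem (h : Hyp Om) (S : Sylow 2 G) {H : Subgroup G}
    (hF : ∀ L ∈ OmS Om (S : Subgroup G), L ≤ H) {K : Subgroup G} (hK : K ∈ Om) (hKH : K ≤ H) :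
    ∃ g ∈ H, cj g K ∈ OmS Om (S : Subgroup G) := by
  obtain ⟨Q, hQ⟩ := Hyp.exists_syl K
  have hD : DD Om (S : Subgroup G) ≤ H := DD_le_iff.2 fun L hL => inf_le_left.trans (hF L hL)
  obtain ⟨T, -, hT, hDT, d, hd, hdT⟩ := exists_sylow_cj (S.isPGroup'.to_le DD_le) hQ.2.1 hD (hQ.1.trans hKH)
  refine ⟨d, hd, ?_⟩
  rw [← OmS_eq_of_sylow h.conj S hT hDT]
  exact mem_OmS_of_le (h.conj K hK d) (hQ.cj d) hdT

omit [Finite G] in
theorem cj_eq_self {a : G} {Y : Subgroup G} (h : ∀ y ∈ Y, a * y = y * a) : cj a Y = Y := by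
  ext x
  rw [mem_cj]
  constructor
  · intro hx
    have h1 := h _ hx
    have h2 : x = a * (a⁻¹ * x * a) * a⁻¹ := by group
    rw [h2, h1, mul_assoc, mul_inv_cancel, mul_one]
    exact hx
  · intro hx
    have h2 : a⁻¹ * x * a = x := by rw [mul_assoc, ← h x hx]; group
    rwa [h2]

/-- a subgroup of a product of two commuting 2-groups is a 2-group -/
theorem isPGroup_sup {A B : Subgroup G} (hA : IsPGroup 2 A) (hB : IsPGroup 2 B)
    (hc : ∀ a ∈ A, ∀ b ∈ B, a * b = b * a) : IsPGroup 2 (A ⊔ B : Subgroup G) := by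
  refine IsPGroup.to_sup_of_normal_right' hA hB ?_
  intro a ha
  rw [mem_normalizer_iff_cj]
  exact cj_eq_self (hc a ha)

/-- frames of `Δ` are conjugate -/
theorem exists_cj_frame (h : Hyp Om) (S : Sylow 2 G) {K : Subgroup G} (hK : K ∈ OmS Om (S : Subgroup G))
    {Δ : Subgroup G} (hΔ : ∀ L ∈ OmS Om (S : Subgroup G), L ≠ K → L ≤ Δ)
    (hΔK : ∀ d ∈ Δ, ∀ k ∈ K, d * k = k * d) {g : G} (hg : cj g K = K) (hgΔ : cj g Δ = Δ) :
    ∃ d ∈ Δ, ∀ L ∈ OmS Om (S : Subgroup G), cj (d * g) L ∈ OmS Om (S : Subgroup G) := by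
  set F := OmS Om (S : Subgroup G) with hF
  -- the 2-group generated by the `L ⊓ S`, `L ∈ F`, `L ≠ K`
  set D₁ : Subgroup G := ⨆ L ∈ {L | L ∈ F ∧ L ≠ K}, L ⊓ (S : Subgroup G) with hD₁
  have hD₁S : D₁ ≤ (S : Subgroup G) := iSup₂_le fun _ _ => inf_le_right
  have hD₁Δ : D₁ ≤ Δ := iSup₂_le fun L hL => inf_le_left.trans (hΔ L hL.1 hL.2)
  have hD₁p : IsPGroup 2 D₁ := S.isPGroup'.to_le hD₁S
  have hgD : cj g D₁ ≤ Δ := by rw [← hgΔ]; exact cj_mono g hD₁Δ
  obtain ⟨T, hTΔ, hT, hD₁T, d, hd, hdT⟩ := exists_sylow_cj hD₁p (isPGroup_cj hD₁p) hD₁Δ hgD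
  -- `T (K ⊓ S)` is a 2-group containing `D(S)`
  have hTK : IsPGroup 2 (T ⊔ (K ⊓ (S : Subgroup G)) : Subgroup G) :=
    isPGroup_sup hT (S.isPGroup'.to_le inf_le_right) fun a ha b hb => hΔK a (hTΔ ha) b hb.1
  have hDD : DD Om (S : Subgroup G) ≤ T ⊔ (K ⊓ (S : Subgroup G)) := by
    rw [DD_le_iff]
    intro L hL
    by_cases hLK : L = K
    · rw [hLK]; exact le_sup_right
    · refine le_trans ?_ (hD₁T.trans le_sup_left)
      rw [hD₁]
      exact le_iSup₂_of_le L ⟨hL, hLK⟩ le_rfl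
  have hT2 := OmS_eq_of_sylow h.conj S hTK hDD
  refine ⟨d, hd, fun L hL => ?_⟩
  by_cases hLK : L = K
  · rw [hLK, cj_mul, hg]
    have h1 : cj d K = K := cj_eq_self (hΔK d hd)
    rw [h1]
    exact hK
  · rw [hF, ← hT2]
    have h1 : Syl (cj (d * g) (L ⊓ (S : Subgroup G))) (cj (d * g) L) :=
      (syl_inf S.isPGroup' hL).cj (d * g)
    refine mem_OmS_of_le (h.conj L hL.1 (d * g)) h1 ?_
    refine le_trans ?_ (hdT.trans le_sup_left)
    rw [cj_mul]
    refine cj_mono d (cj_mono g ?_)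
    rw [hD₁]
    exact le_iSup₂_of_le L ⟨hL, hLK⟩ le_rfl

/-! ### Signed frames -/

/-- `SL(2,F)` is transitive on the ordered pairs of different Sylow `p`-subgroups. -/
theorem exists_cj_pair {F : Type*} [Field F] [Fintype F] {K : Subgroup G}
    (e : Matrix.SpecialLinearGroup (Fin 2) F ≃* K) {X Y X' Y' : Subgroup G} (hX : X ≤ K) (hY : Y ≤ K)
    (hX' : X' ≤ K) (hY' : Y' ≤ K) (cX : Nat.card X = Fintype.card F) (cY : Nat.card Y = Fintype.card F)
    (cX' : Nat.card X' = Fintype.card F) (cY' : Nat.card Y' = Fintype.card F) (hne : X ≠ Y) (hne' : X' ≠ Y') :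
    ∃ k ∈ K, cj k X = X' ∧ cj k Y = Y' := by
  obtain ⟨k, hk, h1⟩ := ParabSL2.exists_conj e hX' cX' hX (cX.trans cX'.symm)
  have hkY : cj k Y ≤ K := by
    have h2 : cj k K = K := mem_normalizer_iff_cj.1 (le_normalizer hk)
    rw [← h2]; exact cj_mono k hY
  have hkc : Nat.card (cj k Y : Subgroup G) = Fintype.card F := by rw [card_cj, cY]
  have hkn : cj k Y ≠ X' := by
    rw [← h1]
    exact fun h3 => hne (cj_inj.1 h3).symm
  obtain ⟨x, hx, h3⟩ := ParabSL2.exists_cj_of_ne e hX' cX' hkY hkc hkn hY' cY' hne'.symm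
  refine ⟨x * k, K.mul_mem (hX' hx) hk, ?_, ?_⟩
  · rw [cj_mul, h1]
    exact mem_normalizer_iff_cj.1 (le_normalizer hx)
  · rw [cj_mul, h3]

variable {ι : Type*} [Finite ι]

/-- an element permuting the frame can be corrected by an element of `G₀` so that it permutes the signed frame -/
theorem exists_signed {K X X' : ι → Subgroup G} {G₀ : Subgroup G} (hKG : ∀ i, K i ≤ G₀)
    (hcomm : ∀ i j, i ≠ j → ∀ a ∈ K i, ∀ b ∈ K j, a * b = b * a)
    (hX : ∀ i, X i ≤ K i) (hX' : ∀ i, X' i ≤ K i)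
    (htr : ∀ i j g, cj g (K i) = K j → ∃ k ∈ K j, cj k (cj g (X i)) = X j ∧ cj k (cj g (X' i)) = X' j)
    {π : ι → ι} (hπ : Function.Injective π) {g : G} (hg : ∀ i, cj g (K i) = K (π i)) :
    ∃ x ∈ G₀, ∀ i, cj (x * g) (K i) = K (π i) ∧ cj (x * g) (X i) = X (π i) ∧ cj (x * g) (X' i) = X' (π i) := by
  classical
  have hfix : ∀ i j, i ≠ j → ∀ a ∈ K i, ∀ Y, Y ≤ K j → cj a Y = Y :=
    fun i j hij a ha Y hY => cj_eq_self fun y hy => hcomm i j hij a ha y (hY hy)
  have key : ∀ T : Set ι, T.Finite → ∃ x ∈ G₀, (∀ i, cj (x * g) (K i) = K (π i)) ∧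
      ∀ i ∈ T, cj (x * g) (X i) = X (π i) ∧ cj (x * g) (X' i) = X' (π i) := by
    intro T hT
    induction T, hT using Set.Finite.induction_on with
    | empty => exact ⟨1, G₀.one_mem, fun i => by rw [one_mul]; exact hg i, fun i hi => absurd hi (by simp)⟩
    | @insert j T hj hT ih =>
      obtain ⟨x, hx, h1, h2⟩ := ih
      obtain ⟨k, hk, h3, h4⟩ := htr j (π j) (x * g) (h1 j)
      have hkK : ∀ i, cj k (K i) = K i := by
        intro i
        by_cases hi : i = π j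
        · subst hi; exact mem_normalizer_iff_cj.1 (le_normalizer hk)
        · exact hfix (π j) i (Ne.symm hi) k hk _ le_rfl
      refine ⟨k * x, G₀.mul_mem (hKG _ hk) hx, fun i => ?_, fun i hi => ?_⟩
      · rw [mul_assoc, cj_mul, h1, hkK]
      · by_cases hij : i = j
        · subst hij
          rw [mul_assoc, cj_mul, cj_mul k]
          exact ⟨h3, h4⟩
        · have hiT : i ∈ T := hi.resolve_left hij
          have hne : π j ≠ π i := fun h => hij (hπ h).symm
          rw [mul_assoc, cj_mul, cj_mul k, (h2 i hiT).1, (h2 i hiT).2]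
          exact ⟨hfix (π j) (π i) hne k hk _ (hX _), hfix (π j) (π i) hne k hk _ (hX' _)⟩
  obtain ⟨x, hx, h1, h2⟩ := key Set.univ Set.finite_univ
  exact ⟨x, hx, fun i => ⟨h1 i, h2 i (Set.mem_univ i)⟩⟩

omit [Finite G] in
theorem cj_iInf {κ : Sort*} [Nonempty κ] (g : G) (f : κ → Subgroup G) : cj g (⨅ i, f i) = ⨅ i, cj g (f i) := by
  ext x
  simp only [mem_cj, mem_iInf]

omit [Finite G] in
theorem cj_iSup {κ : Sort*} (g : G) (f : κ → Subgroup G) : cj g (⨆ i, f i) = ⨆ i, cj g (f i) :=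
  Subgroup.map_iSup _ _

/-- an element permuting the signed frame normalises the group generated by the sign groups -/
theorem mem_normalizer_of_perm_of [Nonempty ι] {Q : ι → SignType → Subgroup G} {G₀ : Subgroup G}
    {P : (ι → SignType) → Prop} (hP : ∀ (σ : Equiv.Perm ι) (e : ι → SignType), P e → P fun i => e (σ i))
    (hG₀ : G₀ = ⨆ e : {e : ι → SignType // P e}, ⨅ i, Q i (e.1 i))
    {π : ι → ι} (hπ : Function.Injective π) {g : G} (hg : ∀ i s, cj g (Q i s) = Q (π i) s) :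
    g ∈ normalizer (G₀ : Set G) := by
  classical
  have hbij : Function.Bijective π := Finite.injective_iff_bijective.1 hπ
  let σ : Equiv.Perm ι := Equiv.ofBijective π hbij
  have hle : cj g G₀ ≤ G₀ := by
    conv_lhs => rw [hG₀]
    rw [cj_iSup]
    refine iSup_le fun e => ?_
    rw [cj_iInf]
    have h1 : (⨅ i, cj g (Q i (e.1 i))) = ⨅ i, Q i (e.1 (σ.symm i)) := by
      have h2 : (⨅ i, cj g (Q i (e.1 i))) = ⨅ i, Q (σ i) (e.1 (σ.symm (σ i))) := by
        refine iInf_congr fun i => ?_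
        rw [hg, Equiv.symm_apply_apply]
        rfl
      rw [h2]
      exact σ.surjective.iInf_comp (fun i => Q i (e.1 (σ.symm i)))
    rw [h1, hG₀]
    exact le_iSup_of_le (⟨fun i => e.1 (σ.symm i), hP σ.symm e.1 e.2⟩ : {e : ι → SignType // P e}) le_rfl
  rw [mem_normalizer_iff_cj]
  exact Subgroup.eq_of_le_of_card_ge hle (card_cj g G₀).ge

omit [Finite G] [Finite ι] in
theorem ne_zero_perm (σ : Equiv.Perm ι) (e : ι → SignType) (he : e ≠ 0) : (fun i => e (σ i)) ≠ 0 := by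
  intro h
  refine he ?_
  ext i
  have h3 := congrFun h (σ.symm i)
  simp only [Equiv.apply_symm_apply] at h3
  rw [h3]
  rfl

theorem mem_normalizer_of_perm [Nonempty ι] {Q : ι → SignType → Subgroup G} {G₀ : Subgroup G}
    (hG₀ : G₀ = ⨆ e : {e : ι → SignType // e ≠ 0}, ⨅ i, Q i (e.1 i))
    {π : ι → ι} (hπ : Function.Injective π) {g : G} (hg : ∀ i s, cj g (Q i s) = Q (π i) s) :
    g ∈ normalizer (G₀ : Set G) :=
  mem_normalizer_of_perm_of ne_zero_perm hG₀ hπ hg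

/-- **(FC)**. `K` is the frame `Om(S)`, `Q` the family of the groups `Q i s` (`s = ±1`), `Q i 0 = C(K i)`;
`Δ i` is a canonical subgroup centralising `K i` and containing the other `K j`. -/
theorem normalizer_le_normalizer_of [Nonempty ι] (h : Hyp Om) (S : Sylow 2 G) {K X X' : ι → Subgroup G}
    {Q : ι → SignType → Subgroup G} {G₀ : Subgroup G}
    {P : (ι → SignType) → Prop} (hP : ∀ (σ : Equiv.Perm ι) (e : ι → SignType), P e → P fun i => e (σ i))
    (hF : Set.range K = OmS Om (S : Subgroup G)) (hinj : Function.Injective K)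
    (hcomm : ∀ i j, i ≠ j → ∀ a ∈ K i, ∀ b ∈ K j, a * b = b * a)
    (hX : ∀ i, X i ≤ K i) (hX' : ∀ i, X' i ≤ K i)
    (htr : ∀ i j g, cj g (K i) = K j → ∃ k ∈ K j, cj k (cj g (X i)) = X j ∧ cj k (cj g (X' i)) = X' j)
    (hQ₀ : ∀ i, Q i 0 = centralizer (K i : Set G))
    (hQ₁ : ∀ i j g, cj g (K i) = K j → cj g (X i) = X j → cj g (Q i 1) = Q j 1)
    (hQ₂ : ∀ i j g, cj g (K i) = K j → cj g (X' i) = X' j → cj g (Q i (-1)) = Q j (-1))
    {Δ : ι → Subgroup G} (hΔc : ∀ i g, cj g (K i) = K i → cj g (Δ i) = Δ i)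
    (hΔK : ∀ i, ∀ d ∈ Δ i, ∀ k ∈ K i, d * k = k * d) (hΔ : ∀ i j, j ≠ i → K j ≤ Δ i)
    (hΔG : ∀ i, Δ i ≤ G₀) (hKG : ∀ i, K i ≤ G₀)
    (hG₀ : G₀ = ⨆ e : {e : ι → SignType // P e}, ⨅ i, Q i (e.1 i)) :
    ∀ L ∈ Om, L ≤ G₀ → normalizer (L : Set G) ≤ normalizer (G₀ : Set G) := by
  classical
  -- first for the members of the frame
  have key : ∀ i, normalizer (K i : Set G) ≤ normalizer (G₀ : Set G) := by
    intro i g hg
    have hgK : cj g (K i) = K i := mem_normalizer_iff_cj.1 hg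
    obtain ⟨d, hd, h1⟩ := exists_cj_frame h S (K := K i) (by rw [← hF]; exact ⟨i, rfl⟩) (Δ := Δ i)
      (by
        intro L hL hLK
        rw [← hF] at hL
        obtain ⟨j, rfl⟩ := hL
        exact hΔ i j fun h => hLK (by rw [h]))
      (hΔK i) hgK (hΔc i g hgK)
    have h2 : ∀ j, ∃ k, cj (d * g) (K j) = K k := by
      intro j
      have h3 := h1 (K j) (by rw [← hF]; exact ⟨j, rfl⟩)
      rw [← hF] at h3
      obtain ⟨k, hk⟩ := h3
      exact ⟨k, hk.symm⟩
    choose π hπ using h2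
    have hπi : Function.Injective π := fun j k hjk => hinj (cj_inj.1 ((hπ j).trans (hjk ▸ (hπ k).symm)))
    obtain ⟨x, hx, h4⟩ := exists_signed hKG hcomm hX hX' htr hπi hπ
    have h5 : x * (d * g) ∈ normalizer (G₀ : Set G) := by
      refine mem_normalizer_of_perm_of hP hG₀ hπi fun j s => ?_
      obtain ⟨a, b, c⟩ := h4 j
      cases s
      · change cj (x * (d * g)) (Q j 0) = Q (π j) 0
        rw [hQ₀, hQ₀, ← a]
        ext y
        rw [mem_cj, mem_centralizer_iff, mem_centralizer_iff]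
        constructor
        · rintro hy _ ⟨k, hk, rfl⟩
          have h6 := hy k hk
          simp only [MulEquiv.coe_toMonoidHom, MulAut.conj_apply]
          have h7 := congrArg (fun t => (x * (d * g)) * t * (x * (d * g))⁻¹) h6
          have h8 : (x * (d * g)) * (k * ((x * (d * g))⁻¹ * y * (x * (d * g)))) * (x * (d * g))⁻¹ =
              (x * (d * g)) * k * (x * (d * g))⁻¹ * y := by group
          have h9 : (x * (d * g)) * ((x * (d * g))⁻¹ * y * (x * (d * g)) * k) * (x * (d * g))⁻¹ =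
              y * ((x * (d * g)) * k * (x * (d * g))⁻¹) := by group
          simp only [h8, h9] at h7
          exact h7
        · intro hy k hk
          have h6 := hy _ (conj_mem_cj (g := x * (d * g)) hk)
          have h7 := congrArg (fun t => (x * (d * g))⁻¹ * t * (x * (d * g))) h6
          have h8 : (x * (d * g))⁻¹ * ((x * (d * g)) * k * (x * (d * g))⁻¹ * y) * (x * (d * g)) =
              k * ((x * (d * g))⁻¹ * y * (x * (d * g))) := by group
          have h9 : (x * (d * g))⁻¹ * (y * ((x * (d * g)) * k * (x * (d * g))⁻¹)) * (x * (d * g)) =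
              (x * (d * g))⁻¹ * y * (x * (d * g)) * k := by group
          simp only [h8, h9] at h7
          exact h7
      · exact hQ₂ j (π j) _ a c
      · exact hQ₁ j (π j) _ a b
    have h6 : x * d ∈ normalizer (G₀ : Set G) := le_normalizer (G₀.mul_mem hx (hΔG i hd))
    have h7 : g = (x * d)⁻¹ * (x * (d * g)) := by group
    rw [h7]
    exact mul_mem (inv_mem h6) h5
  intro L hL hLG g hg
  obtain ⟨c, hc, h1⟩ := exists_cj_mem h S (H := G₀) (by
    intro M hM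
    rw [← hF] at hM
    obtain ⟨j, rfl⟩ := hM
    exact hKG j) hL hLG
  rw [← hF] at h1
  obtain ⟨i, hi⟩ := h1
  have hg1 : cj g L = L := mem_normalizer_iff_cj.1 hg
  have h2 : c * g * c⁻¹ ∈ normalizer (K i : Set G) := by
    rw [mem_normalizer_iff_cj, hi, ← cj_mul]
    have h3 : c * g * c⁻¹ * c = c * g := by group
    rw [h3, cj_mul, hg1]
  have h3 := key i h2
  have h4 : c ∈ normalizer (G₀ : Set G) := le_normalizer hc
  have h5 : g = c⁻¹ * (c * g * c⁻¹) * c := by group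
  rw [h5]
  exact mul_mem (mul_mem (inv_mem h4) h3) h4

/-- `normalizer_le_normalizer_of` with all nonzero sign vectors -/
theorem normalizer_le_normalizer [Nonempty ι] (h : Hyp Om) (S : Sylow 2 G) {K X X' : ι → Subgroup G}
    {Q : ι → SignType → Subgroup G} {G₀ : Subgroup G}
    (hF : Set.range K = OmS Om (S : Subgroup G)) (hinj : Function.Injective K)
    (hcomm : ∀ i j, i ≠ j → ∀ a ∈ K i, ∀ b ∈ K j, a * b = b * a)
    (hX : ∀ i, X i ≤ K i) (hX' : ∀ i, X' i ≤ K i)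
    (htr : ∀ i j g, cj g (K i) = K j → ∃ k ∈ K j, cj k (cj g (X i)) = X j ∧ cj k (cj g (X' i)) = X' j)
    (hQ₀ : ∀ i, Q i 0 = centralizer (K i : Set G))
    (hQ₁ : ∀ i j g, cj g (K i) = K j → cj g (X i) = X j → cj g (Q i 1) = Q j 1)
    (hQ₂ : ∀ i j g, cj g (K i) = K j → cj g (X' i) = X' j → cj g (Q i (-1)) = Q j (-1))
    {Δ : ι → Subgroup G} (hΔc : ∀ i g, cj g (K i) = K i → cj g (Δ i) = Δ i)
    (hΔK : ∀ i, ∀ d ∈ Δ i, ∀ k ∈ K i, d * k = k * d) (hΔ : ∀ i j, j ≠ i → K j ≤ Δ i)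
    (hΔG : ∀ i, Δ i ≤ G₀) (hKG : ∀ i, K i ≤ G₀)
    (hG₀ : G₀ = ⨆ e : {e : ι → SignType // e ≠ 0}, ⨅ i, Q i (e.1 i)) :
    ∀ L ∈ Om, L ≤ G₀ → normalizer (L : Set G) ≤ normalizer (G₀ : Set G) :=
  normalizer_le_normalizer_of h S ne_zero_perm hF hinj hcomm hX hX' htr hQ₀ hQ₁ hQ₂ hΔc hΔK hΔ hΔG hKG hG₀

/-! ### The form for `Frame` -/

/-- `Δ_K`: the group generated by the members of `Om` different from `K` and commuting with `K` -/
def delta (Om : Set (Subgroup G)) (K : Subgroup G) : Subgroup G :=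
  ⨆ L ∈ {L | L ∈ Om ∧ L ≠ K ∧ ∀ a ∈ L, ∀ b ∈ K, a * b = b * a}, L

omit [Finite G] in
theorem le_delta {K L : Subgroup G} (hL : L ∈ Om) (hne : L ≠ K) (hc : ∀ a ∈ L, ∀ b ∈ K, a * b = b * a) :
    L ≤ delta Om K := le_iSup₂_of_le (f := fun (L : Subgroup G)
      (_ : L ∈ {L | L ∈ Om ∧ L ≠ K ∧ ∀ a ∈ L, ∀ b ∈ K, a * b = b * a}) => L) L ⟨hL, hne, hc⟩ le_rfl

omit [Finite G] in
theorem delta_comm {K : Subgroup G} : ∀ d ∈ delta Om K, ∀ k ∈ K, d * k = k * d := by
  have h1 : delta Om K ≤ centralizer (K : Set G) := by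
    refine iSup₂_le fun L hL a ha => ?_
    rw [mem_centralizer_iff]
    exact fun k hk => (hL.2.2 a ha k hk).symm
  intro d hd k hk
  exact (mem_centralizer_iff.1 (h1 hd) k hk).symm

omit [Finite G] in
theorem cj_delta (hO : ∀ K ∈ Om, ∀ g, cj g K ∈ Om) (g : G) (K : Subgroup G) :
    cj g (delta Om K) = delta Om (cj g K) := by
  have key : ∀ (g : G) (K : Subgroup G), cj g (delta Om K) ≤ delta Om (cj g K) := by
    intro g K
    rw [cj_le_iff]
    refine iSup₂_le fun L hL => ?_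
    rw [← cj_le_iff]
    refine le_delta (hO L hL.1 g) (fun h => hL.2.1 (cj_inj.1 h)) ?_
    rintro _ ⟨a, ha, rfl⟩ _ ⟨b, hb, rfl⟩
    have h1 := congrArg (fun t => g * t * g⁻¹) (hL.2.2 a ha b hb)
    simp only [MulEquiv.coe_toMonoidHom, MulAut.conj_apply]
    have h2 : g * (a * b) * g⁻¹ = g * a * g⁻¹ * (g * b * g⁻¹) := by group
    have h3 : g * (b * a) * g⁻¹ = g * b * g⁻¹ * (g * a * g⁻¹) := by group
    simp only [h2, h3] at h1
    exact h1
  apply le_antisymm (key g K)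
  have h1 := key g⁻¹ (cj g K)
  rw [cj_inv_cj] at h1
  have h2 := cj_mono g h1
  rwa [cj_cj_inv] at h2

theorem zz_cj (h : Hyp Om) {K : Subgroup G} (hK : K ∈ Om) (g : G) : g * zz K * g⁻¹ = zz (cj g K) := by
  have h1 := h.zz_spec hK
  refine h.uniq _ (h.conj K hK g) _ (conj_mem_cj h1.1) ?_
  have h2 : g * zz K * g⁻¹ = MulAut.conj g (zz K) := rfl
  rw [h2, MulEquiv.orderOf_eq]
  exact h1.2

/-- transport of an ordered pair of different Sylow subgroups by an element conjugating `K` to `K'` -/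
theorem exists_cj_of_sl {F : Type*} [Field F] [Fintype F] {K K' : Subgroup G}
    (e : Matrix.SpecialLinearGroup (Fin 2) F ≃* K) {g : G} (hg : cj g K = K') {X Y X' Y' : Subgroup G}
    (hX : X ≤ K) (hY : Y ≤ K) (hX' : X' ≤ K') (hY' : Y' ≤ K') (cX : Nat.card X = Fintype.card F)
    (cY : Nat.card Y = Fintype.card F) (cX' : Nat.card X' = Fintype.card F)
    (cY' : Nat.card Y' = Fintype.card F) (hne : X ≠ Y) (hne' : X' ≠ Y') :
    ∃ k ∈ K', cj k (cj g X) = X' ∧ cj k (cj g Y) = Y' := by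
  subst hg
  exact exists_cj_pair (e.trans (cjEquiv g K)) (cj_mono g hX) (cj_mono g hY) hX' hY' (by rw [card_cj, cX])
    (by rw [card_cj, cY]) cX' cY' (fun h => hne (cj_inj.1 h)) hne'

/-- **(FC)** for a `Frame` consisting of the members of `Om(S)`; `G₀` is generated by the `XX Q e`, `P e`,
`P` any set of sign vectors stable under permutations of the indices. -/
theorem frame_close_of [Nonempty ι] (h : Hyp Om) (S : Sylow 2 G) {K : ι → Subgroup G} {z : ι → G}
    {X Q : ι → SignType → Subgroup G} (Fr : FrameSign.Frame K z X Q)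
    (hF : Set.range K = OmS Om (S : Subgroup G)) (hinj : Function.Injective K) (hz : ∀ i, z i = zz (K i))
    {q : ℕ} (hsl : ∀ i, ∃ (F : Type) (_ : Field F) (_ : Fintype F), Fintype.card F = q ∧
      Nonempty (Matrix.SpecialLinearGroup (Fin 2) F ≃* K i))
    (hcard : ∀ i s, s ≠ 0 → Nat.card (X i s) = q)
    (hQ : ∀ i s, s ≠ 0 → Q i s = X i s ⊔ Parab.QX (X i s) (z i))
    {P : (ι → SignType) → Prop} (hP : ∀ (σ : Equiv.Perm ι) (e : ι → SignType), P e → P fun i => e (σ i))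
    {G₀ : Subgroup G} (hG₀ : G₀ = ⨆ e : {e : ι → SignType // P e}, FrameSign.XX Q e.1)
    (hKG : ∀ i, K i ≤ G₀) (hΔG : ∀ i, delta Om (K i) ≤ G₀) :
    ∀ L ∈ Om, L ≤ G₀ → normalizer (L : Set G) ≤ normalizer (G₀ : Set G) := by
  have hmem : ∀ i, K i ∈ Om := fun i => by
    have h1 : K i ∈ OmS Om (S : Subgroup G) := by rw [← hF]; exact ⟨i, rfl⟩
    exact h1.1
  have hXne : ∀ i, X i 1 ≠ X i (-1) := by
    intro i h1
    have h2 : K i = X i 1 := by rw [Fr.K_eq i, ← h1, sup_idem]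
    have h3 : z i = 1 := Fr.X_center i 1 (by decide) (z i) (by rw [← h2]; exact Fr.z_mem i) (Fr.z_cent i)
    have h4 := h.orderOf_zz (hmem i)
    rw [← hz, h3, orderOf_one] at h4
    omega
  have htr : ∀ i j g, cj g (K i) = K j →
      ∃ k ∈ K j, cj k (cj g (X i 1)) = X j 1 ∧ cj k (cj g (X i (-1))) = X j (-1) := by
    intro i j g hg
    obtain ⟨F, _, _, hFq, ⟨e⟩⟩ := hsl i
    exact exists_cj_of_sl e hg (Fr.X_le_K i (by decide)) (Fr.X_le_K i (by decide)) (Fr.X_le_K j (by decide))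
      (Fr.X_le_K j (by decide)) (by rw [hcard i 1 (by decide), hFq]) (by rw [hcard i (-1) (by decide), hFq])
      (by rw [hcard j 1 (by decide), hFq]) (by rw [hcard j (-1) (by decide), hFq]) (hXne i) (hXne j)
  have hQ' : ∀ i j g s, s ≠ 0 → cj g (K i) = K j → cj g (X i s) = X j s → cj g (Q i s) = Q j s := by
    intro i j g s hs h1 h2
    have h3 : g * z i * g⁻¹ = z j := by rw [hz, hz, zz_cj h (hmem i), h1]
    rw [hQ i s hs, hQ j s hs, cj_sup, ← Parab.QX_cj, h2, h3]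
  refine normalizer_le_normalizer_of h S hP (K := K) (X := fun i => X i 1) (X' := fun i => X i (-1)) (Q := Q)
    (Δ := fun i => delta Om (K i)) hF hinj Fr.comm (fun i => Fr.X_le_K i (by decide))
    (fun i => Fr.X_le_K i (by decide)) htr Fr.Q_zero
    (fun i j g h1 h2 => hQ' i j g 1 (by decide) h1 h2) (fun i j g h1 h2 => hQ' i j g (-1) (by decide) h1 h2)
    (fun i g h1 => by rw [cj_delta h.conj, h1]) (fun i => delta_comm)
    (fun i j hij => le_delta (hmem j) (fun h1 => hij (hinj h1)) (fun a ha b hb => Fr.comm j i hij a ha b hb))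
    hΔG hKG hG₀

/-- **(FC)** for a `Frame` consisting of the members of `Om(S)`. -/
theorem frame_close [Nonempty ι] (h : Hyp Om) (S : Sylow 2 G) {K : ι → Subgroup G} {z : ι → G}
    {X Q : ι → SignType → Subgroup G} (Fr : FrameSign.Frame K z X Q)
    (hF : Set.range K = OmS Om (S : Subgroup G)) (hinj : Function.Injective K) (hz : ∀ i, z i = zz (K i))
    {q : ℕ} (hsl : ∀ i, ∃ (F : Type) (_ : Field F) (_ : Fintype F), Fintype.card F = q ∧
      Nonempty (Matrix.SpecialLinearGroup (Fin 2) F ≃* K i))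
    (hcard : ∀ i s, s ≠ 0 → Nat.card (X i s) = q)
    (hQ : ∀ i s, s ≠ 0 → Q i s = X i s ⊔ Parab.QX (X i s) (z i))
    {G₀ : Subgroup G} (hG₀ : G₀ = ⨆ e : {e : ι → SignType // e ≠ 0}, FrameSign.XX Q e.1)
    (hKG : ∀ i, K i ≤ G₀) (hΔG : ∀ i, delta Om (K i) ≤ G₀) :
    ∀ L ∈ Om, L ≤ G₀ → normalizer (L : Set G) ≤ normalizer (G₀ : Set G) :=
  frame_close_of h S Fr hF hinj hz hsl hcard hQ ne_zero_perm hG₀ hKG hΔG

/-- **(FC)** with the nonzero sign vectors without full support -/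
theorem frame_close_partial [Nonempty ι] (h : Hyp Om) (S : Sylow 2 G) {K : ι → Subgroup G} {z : ι → G}
    {X Q : ι → SignType → Subgroup G} (Fr : FrameSign.Frame K z X Q)
    (hF : Set.range K = OmS Om (S : Subgroup G)) (hinj : Function.Injective K) (hz : ∀ i, z i = zz (K i))
    {q : ℕ} (hsl : ∀ i, ∃ (F : Type) (_ : Field F) (_ : Fintype F), Fintype.card F = q ∧
      Nonempty (Matrix.SpecialLinearGroup (Fin 2) F ≃* K i))
    (hcard : ∀ i s, s ≠ 0 → Nat.card (X i s) = q)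
    (hQ : ∀ i s, s ≠ 0 → Q i s = X i s ⊔ Parab.QX (X i s) (z i))
    {G₀ : Subgroup G}
    (hG₀ : G₀ = ⨆ e : {e : ι → SignType // e ≠ 0 ∧ ∃ i, e i = 0}, FrameSign.XX Q e.1)
    (hKG : ∀ i, K i ≤ G₀) (hΔG : ∀ i, delta Om (K i) ≤ G₀) :
    ∀ L ∈ Om, L ≤ G₀ → normalizer (L : Set G) ≤ normalizer (G₀ : Set G) :=
  frame_close_of h S Fr hF hinj hz hsl hcard hQ
    (P := fun e : ι → SignType => e ≠ 0 ∧ ∃ i, e i = 0)
    (fun σ e he => ⟨ne_zero_perm σ e he.1, by
      obtain ⟨i, hi⟩ := he.2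
      exact ⟨σ.symm i, by simpa using hi⟩⟩) hG₀ hKG hΔG

end Cfsg.Agent.Cit.FrameClose
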