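import Cfsg.Agent.Cit.TPieces
import Cfsg.Agent.Cit.CorTwo
import Cfsg.Agent.Cit.Nil.RFour.SClosed
import Cfsg.Agent.Cit.LongConj
import Cfsg.Agent.ClassicalGeometry.PSL2Basic
import Cfsg.Agent.Nodes.ChartTypeC
import Cfsg.Agent.Nodes.ChartTypeA
import Cfsg.Agent.Nodes.WittBlock
import Cfsg.Agent.FastGrp
import Cfsg.Agent.Prune
set_option linter.all false

section
prune_inst 0x7f00000000000000000000000000000000000000000000000000000000000000000000000000000000000000000000000000000000000000000000000000000000000000000000000000000000000000003fffffffffffffffffffffffffffbeffbdffffffff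

-- part: Cit/Branches
section
set_option linter.all false
open scoped Cfsg.Agent.FastGrp

/-!
# The branches of the core case of THEOREM T (project CIT, S1310)

`MinS Om` (`G` simple, `Om` one class, THEOREM T for smaller groups) is split by the number `|Om(S)|`, `S` a Sylow
2-subgroup of `G`, and for `|Om(S)| = 2` by `z_K ≠ z_L` / `z_K = z_L`.  `core_of_branches` : the six branches give
`MinS Om → HasPieces Om` for all `G`, `Om`.
-/

set_option autoImplicit false
set_option linter.style.haveILetI false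

namespace Cfsg.Agent.Cit.Branches

open Subgroup Cfsg

universe u

variable {G : Type*} [Group G]

/-- `|Om(S)| = n` for every Sylow 2-subgroup `S` -/
def Card (Om : Set (Subgroup G)) (n : ℕ) : Prop := ∀ S : Sylow 2 G, (OmS Om (S : Subgroup G)).ncard = n

theorem ncard_eq [Finite G] {Om : Set (Subgroup G)} (h : Hyp Om) (S S' : Sylow 2 G) :
    (OmS Om (S : Subgroup G)).ncard = (OmS Om (S' : Subgroup G)).ncard := by
  obtain ⟨g, hg⟩ := exists_cj_sylow S S'
  rw [← hg, ncard_OmS_cj h.conj]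

theorem card_of [Finite G] {Om : Set (Subgroup G)} (h : Hyp Om) (S : Sylow 2 G) :
    Card Om (OmS Om (S : Subgroup G)).ncard := fun S' => ncard_eq h S' S

theorem Card.pos [Finite G] {Om : Set (Subgroup G)} (h : Hyp Om) (hne : Om.Nonempty) {n : ℕ} (hc : Card Om n) :
    0 < n := by
  obtain ⟨S⟩ : Nonempty (Sylow 2 G) := inferInstance
  rw [← hc S, Set.ncard_pos (Set.toFinite _)]
  exact h.OmS_nonempty S hne

/-- every 2-subgroup is contained in a Sylow 2-subgroup -/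
theorem exists_ge {S : Subgroup G} (hS : IsPGroup 2 ↥S) : ∃ S' : Sylow 2 G, S ≤ (S' : Subgroup G) :=
  hS.exists_le_sylow

theorem one_of_card [Finite G] {Om : Set (Subgroup G)} (h : Hyp Om) (hc : Card Om 1) : One Om := by
  refine ⟨h, fun S hS K hK L hL => ?_⟩
  obtain ⟨S', hS'⟩ := exists_ge hS
  obtain ⟨M, hM⟩ := Set.ncard_eq_one.1 (hc S')
  have h1 := OmS_mono hS' hK
  have h2 := OmS_mono hS' hL
  rw [hM] at h1 h2
  rw [Set.mem_singleton_iff.1 h1, Set.mem_singleton_iff.1 h2]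

theorem Card.unique [Finite G] {Om : Set (Subgroup G)} {m n : ℕ} (h : Card Om m) (h' : Card Om n) : m = n := by
  obtain ⟨S⟩ : Nonempty (Sylow 2 G) := inferInstance
  rw [← h S, ← h' S]

/-- all members of every `Om(S)` have the same involution -/
def AllEq (Om : Set (Subgroup G)) : Prop :=
  ∀ S : Sylow 2 G, ∀ K ∈ OmS Om (S : Subgroup G), ∀ L ∈ OmS Om (S : Subgroup G), zz K = zz L

/-- `|Om(S)| = 2`: either different members have different involutions or `AllEq` -/
theorem two_cases [Finite G] {Om : Set (Subgroup G)} (h : Hyp Om) (hc : Card Om 2) :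
    (∀ K ∈ Om, ∀ L ∈ Om, zz K = zz L → K = L) ∨ AllEq Om := by
  by_contra hcon
  push Not at hcon
  obtain ⟨⟨K, hK, L, hL, hz, hne⟩, h2⟩ := hcon
  apply h2
  obtain ⟨S₀, hKS, -⟩ := h.exists_sylow hK
  have hLS := h.mem_OmS_of_zz_eq S₀ hKS hL hz.symm
  -- `Om(S₀) = {K, L}`
  have hS₀ : ∀ M ∈ OmS Om (S₀ : Subgroup G), M = K ∨ M = L := by
    intro M hM
    by_contra hM2
    push Not at hM2
    have h3 : ({K, L, M} : Set (Subgroup G)) ⊆ OmS Om (S₀ : Subgroup G) := by
      rintro x (rfl | rfl | rfl) <;> assumption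
    have h4 := Set.ncard_le_ncard h3 (Set.toFinite _)
    have h5 : ({K, L, M} : Set (Subgroup G)).ncard = 3 := by
      rw [Set.ncard_eq_three]
      exact ⟨K, L, M, hne, fun e => hM2.1 e.symm, fun e => hM2.2 e.symm, rfl⟩
    rw [h5, hc S₀] at h4
    omega
  have hS₀z : ∀ M ∈ OmS Om (S₀ : Subgroup G), zz M = zz K := by
    intro M hM
    rcases hS₀ M hM with rfl | rfl
    · rfl
    · exact hz.symm
  intro S A hA B hB
  obtain ⟨g, hg⟩ := exists_cj_sylow S S₀
  have hA' : cj g A ∈ OmS Om (S₀ : Subgroup G) := by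
    rw [← hg]; exact cj_mem_OmS h.conj g hA
  have hB' : cj g B ∈ OmS Om (S₀ : Subgroup G) := by
    rw [← hg]; exact cj_mem_OmS h.conj g hB
  have h6 := (hS₀z _ hA').trans (hS₀z _ hB').symm
  rw [h.zz_cj hA.1, h.zz_cj hB.1] at h6
  have h7 : g * zz A * g⁻¹ = g * zz B * g⁻¹ := h6
  exact mul_left_cancel (mul_right_cancel h7)

/-! ### The branches -/

/-- rows C of the master list: `|Om(S)| = 1` -/
def CoreOne : Prop := ∀ (G : Type u) [Group G] [Finite G] (Om : Set (Subgroup G)), MinS Om → One Om → HasPieces Om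

/-- rows D1-D4: `|Om(S)| = 2`, different members have different involutions -/
def CoreTwoNe : Prop := ∀ (G : Type u) [Group G] [Finite G] (Om : Set (Subgroup G)), MinS Om → Two Om → HasPieces Om

/-- rows D5-D8: `|Om(S)| = 2`, the two members of `Om(S)` have the same involution -/
def CoreTwoEq : Prop := ∀ (G : Type u) [Group G] [Finite G] (Om : Set (Subgroup G)), MinS Om → Card Om 2 → AllEq Om →
  HasPieces Om

/-- rows E: `|Om(S)| = 3` -/
def CoreThree : Prop := ∀ (G : Type u) [Group G] [Finite G] (Om : Set (Subgroup G)), MinS Om → Card Om 3 → HasPieces Om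

/-- rows F: `|Om(S)| = 4` -/
def CoreFour : Prop := ∀ (G : Type u) [Group G] [Finite G] (Om : Set (Subgroup G)), MinS Om → Card Om 4 → HasPieces Om

/-- rows G: `|Om(S)| ≥ 5` -/
def CoreMany : Prop := ∀ (G : Type u) [Group G] [Finite G] (Om : Set (Subgroup G)), MinS Om →
  ∀ n, 5 ≤ n → Card Om n → HasPieces Om

/-- **the core case of THEOREM T from the branches** -/
theorem core_of_branches (h1 : CoreOne.{u}) (h2 : CoreTwoNe.{u}) (h2' : CoreTwoEq.{u}) (h3 : CoreThree.{u})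
    (h4 : CoreFour.{u}) (h5 : CoreMany.{u}) (G : Type u) [Group G] [Finite G] (Om : Set (Subgroup G))
    (h : MinS Om) : HasPieces Om := by
  obtain ⟨S⟩ : Nonempty (Sylow 2 G) := inferInstance
  have hc := card_of h.hyp S
  generalize (OmS Om (S : Subgroup G)).ncard = n at hc
  have hpos := hc.pos h.hyp h.ne
  rcases Nat.lt_or_ge n 5 with hn | hn
  · interval_cases n
    · exact h1 G Om h (one_of_card h.hyp hc)
    · rcases two_cases h.hyp hc with h6 | h6
      · exact h2 G Om h ⟨h.hyp, fun K hK L hL => by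
          obtain ⟨g, hg⟩ := h.cls K hK L hL
          exact ⟨g, hg.symm⟩, hc, h6⟩
      · exact h2' G Om h hc h6
    · exact h3 G Om h hc
    · exact h4 G Om h hc
  · exact h5 G Om h n hn hc

end Cfsg.Agent.Cit.Branches
end

-- part: Cit/LongLeaf
section
set_option linter.all false
open scoped Cfsg.Agent.FastGrp

/-!
# Base leaves of THEOREM T for matrix groups, part 1

`Leaf R F₁`: the data of `F(L)` for `L = Γ ⧸ Z(Γ)`.  For `Om` with `Hyp Om`, `Ty`, every member `K` with `zz K`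
conjugate to `z₀` is conjugate to `D₁` (`Leaf.exists_cj`), so `O(K) = 1`.

`hasPieces_of_chart`: a simple group with one class `Om`, one member without odd core, and a chart of the whole
group, has pieces.  `hasPieces_congr`: transport along an isomorphism.
-/

set_option autoImplicit false

namespace Cfsg.Agent.Cit.LongLeaf

open Subgroup Cfsg Matrix Cfsg.Agent.Cit.LongAbs Cfsg.Agent.Cit.LongBlock Cfsg.Agent.Cit.LongQuot
  Cfsg.Agent.Cit.LongMain Cfsg.Agent.Cit.LongModel Cfsg.Agent.Cit.LongInst Cfsg.Agent.Cit.LongTwo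
  Cfsg.Agent.Cit.LongFinal Cfsg.Agent.Cit.LongConj Cfsg.Agent.Nodes.Chart
open scoped commutatorElement

/-! ### `2.A₇` is not `SL₂(F)` -/

theorem card_seven {X : Type*} [Group X] (h : IsNonsplitDoubleCover X ↥(alternatingGroup (Fin 7))) :
    Nat.card X = 5040 := by
  obtain ⟨h1, ⟨e⟩, -⟩ := h
  rw [Subgroup.card_eq_card_quotient_mul_card_subgroup (center X), h1, Nat.card_congr e.toEquiv,
    nat_card_alternatingGroup]
  simp [Nat.factorial]

theorem not_seven {F : Type*} [Field F] [Fintype F] {X : Type*} [Group X]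
    (h : IsNonsplitDoubleCover X ↥(alternatingGroup (Fin 7))) :
    ¬ Nonempty (X ≃* SpecialLinearGroup (Fin 2) F) := by
  rintro ⟨e⟩
  have h1 := card_seven h
  rw [Nat.card_congr e.toEquiv, ClassicalGeometry.PSL2Basic.card_SL2] at h1
  generalize Fintype.card F = q at h1
  rcases Nat.lt_or_ge q 18 with h2 | h2
  · interval_cases q <;> omega
  · have h3 : 18 * (18 ^ 2 - 1) ≤ q * (q ^ 2 - 1) :=
      Nat.mul_le_mul h2 (Nat.sub_le_sub_right (Nat.pow_le_pow_left h2 2) 1)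
    omega

theorem card_three_of_le {F : Type*} [Field F] [Fintype F] (ho : Odd (Fintype.card F))
    (h : Nat.card (SpecialLinearGroup (Fin 2) F) ≤ 24) : Fintype.card F = 3 := by
  rw [ClassicalGeometry.PSL2Basic.card_SL2] at h
  have h0 : 1 < Fintype.card F := Fintype.one_lt_card
  generalize Fintype.card F = q at *
  rcases Nat.lt_or_ge q 4 with h2 | h2
  · obtain ⟨k, hk⟩ := ho
    omega
  · exfalso
    have h3 : 4 * (4 ^ 2 - 1) ≤ q * (q ^ 2 - 1) :=
      Nat.mul_le_mul h2 (Nat.sub_le_sub_right (Nat.pow_le_pow_left h2 2) 1)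
    omega

/-! ### `O(SL₂(F)) = 1` -/

theorem oddCore_eq_bot_of_good {X : Type*} [Group X] [Finite X] (h : Ty.Good X) : oddCore X = ⊥ := by
  rw [eq_bot_iff]
  intro x hx
  rw [mem_bot]
  have hodd : ∀ y ∈ oddCore X, y * y = 1 → y = 1 := fun y hy hyy =>
    Cfsg.Agent.Cit.LongCore.eq_one_of_sq hy hyy
  obtain ⟨z, hz, -⟩ := h.uniq
  rcases h.one (oddCore X) (Lib.Cores.pPrimeCore_normal 2) with h1 | h1
  · exfalso
    have h2 : Odd (Nat.card X) := by
      rw [← Subgroup.card_mul_index (oddCore X)]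
      exact (Nat.coprime_two_right.1 (Lib.Cores.pPrimeCore_coprime 2)).mul h1
    have h3 := orderOf_dvd_natCard z
    rw [hz] at h3
    exact (Nat.not_even_iff_odd.2 h2) (even_iff_two_dvd.2 h3)
  · rcases h1 x hx with h2 | h2
    · exact h2
    · exact hodd x hx (by rw [← pow_two, ← h2, pow_orderOf_eq_one])

theorem oddCore_eq_bot {F : Type} [Field F] [Fintype F] (ho : Odd (Fintype.card F)) {X : Type*} [Group X]
    [Finite X] (e : X ≃* SpecialLinearGroup (Fin 2) F) : oddCore X = ⊥ :=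
  oddCore_eq_bot_of_good (IsTy.good (Or.inl ⟨F, inferInstance, inferInstance, ho, ⟨e⟩⟩))

/-! ### the data -/

section Leaf

variable {Γ : Type*} [Group Γ] {F : Type*} [Field F] {κ : Type*} [Fintype κ] [DecidableEq κ]

/-- the data of `F(L)` -/
structure Leaf (R : Rep Γ F κ) (F1 : Type) [Field F1] [Fintype F1] : Prop where
  good : Good R F1
  swap : Swap R F1
  eight : Fintype.card F1 = 3 → ∀ a : F, a ≠ 0 → a ^ 8 = 1

variable {R : Rep Γ F κ} {F1 : Type} [Field F1] [Fintype F1]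

theorem OO_D1 [Finite Γ] (h : Leaf R F1) : OO (D1 R) = ⊥ := by
  have := h.good.ne
  obtain ⟨e⟩ := h.good.e1
  rw [OO, oddCore_eq_bot h.good.odd ((D1Equiv R).symm.trans e), Subgroup.map_bot]

theorem OC_comm [Finite Γ] (h : Leaf R F1) {x y : Γ ⧸ center Γ} (hx : x ∈ D1 R ⊔ D2 R) (hy : y ∈ OC R) :
    x * y = y * x := by
  obtain ⟨y, hy, rfl⟩ := hy
  have hxC : x ∈ CC R := (sup_le D1_le_CC D2_le_CC) hx
  refine congrArg Subtype.val (h.good.setup.core_comm (x := ⟨x, hxC⟩) ?_ hy)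
  rw [subgroupOf_sup _ _ _ D1_le_CC D2_le_CC]
  exact hx

theorem OC_le_centralizer [Finite Γ] (h : Leaf R F1) :
    OC R ≤ centralizer ((D1 R ⊔ D2 R : Subgroup (Γ ⧸ center Γ)) : Set (Γ ⧸ center Γ)) := by
  intro y hy
  rw [mem_centralizer_iff]
  intro x hx
  exact OC_comm h hx hy

theorem OC_abelian [Finite Γ] (h : Leaf R F1) {x y : Γ ⧸ center Γ} (hx : x ∈ OC R) (hy : y ∈ OC R) :
    x * y = y * x :=
  h.good.big.comm R (OC_le_centralizer h hx) (OC_le_centralizer h hy)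

/-- `O(C(z₀)) = 1` for `|F₁| = 3` -/
theorem OC_eq_bot [Finite Γ] (h : Leaf R F1) (h3 : Fintype.card F1 = 3) : OC R = ⊥ := by
  rw [eq_bot_iff]
  intro x hx
  rw [mem_bot]
  obtain ⟨g, hg, a, b, hab⟩ := h.good.big.centralizer R (OC_le_centralizer h hx)
  have hne := h.good.ne
  obtain ⟨P', S', h', h5, h6, h7, h8⟩ := R.blocks_inv hab
  have ha : a ≠ 0 := by
    rintro rfl
    have := congrFun (congrFun h5 0) 0
    simp at this
  have hb : b ≠ 0 := by
    rintro rfl
    obtain ⟨k⟩ := hne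
    have := congrFun (congrFun h7 k) k
    simp at this
  have hpow : ∀ n : ℕ, R.ρ (g ^ n) = fromBlocks (a ^ n • 1) 0 0 (b ^ n • 1) := by
    intro n
    induction n with
    | zero => simp
    | succ n ih =>
      rw [pow_succ, map_mul, ih, hab, fromBlocks_multiply]
      simp [smul_smul, pow_succ, mul_comm]
  have h9 : g ^ 8 = 1 := by
    apply R.inj
    rw [hpow, h.eight h3 a ha, h.eight h3 b hb, map_one, one_smul, one_smul, fromBlocks_one]
  have h10 : x ^ 8 = 1 := by rw [← hg, ← map_pow, h9, map_one]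
  obtain ⟨y, hy, hyx⟩ := hx
  have hsq : ∀ w ∈ oddCore (CC R), w * w = 1 → w = 1 := fun w hw hww =>
    Cfsg.Agent.Cit.LongCore.eq_one_of_sq hw hww
  have h11 : y ^ 8 = 1 := by
    apply Subtype.ext
    have : ((y ^ 8 : CC R) : Γ ⧸ center Γ) = ((CC R).subtype y) ^ 8 := rfl
    rw [this, hyx, h10]; rfl
  have h12 : y ^ 4 = 1 := hsq _ (pow_mem hy 4) (by rw [← pow_add]; exact h11)
  have h13 : y ^ 2 = 1 := hsq _ (pow_mem hy 2) (by rw [← pow_add]; exact h12)
  have h14 : y = 1 := hsq _ hy (by rw [← pow_two]; exact h13)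
  rw [← hyx, h14, map_one]

/-- a perfect subgroup between `D₁` and `D₁ O(C(z₀))` is `D₁` -/
theorem eq_D1_of_perfect [Finite Γ] (h : Leaf R F1) {K : Subgroup (Γ ⧸ center Γ)} (h1 : D1 R ≤ K)
    (h2 : K ≤ D1 R ⊔ OC R) (hp : ⁅K, K⁆ = K) : K = D1 R := by
  refine le_antisymm ?_ h1
  rw [← hp, commutator_le]
  have key : ∀ x ∈ D1 R ⊔ OC R, ∃ a ∈ D1 R, ∃ b ∈ OC R, x = a * b := fun x hx =>
    LongAbs.mem_sup_comm (fun a ha b hb => OC_comm h (mem_sup_left ha) hb) hx
  intro x hx y hy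
  obtain ⟨a, ha, b, hb, rfl⟩ := key x (h2 hx)
  obtain ⟨c, hc, d, hd, rfl⟩ := key y (h2 hy)
  have e1 : b * c = c * b := (OC_comm h (mem_sup_left hc) hb).symm
  have e2 : a * d = d * a := OC_comm h (mem_sup_left ha) hd
  have e3 : b * d = d * b := OC_abelian h hb hd
  have e4 : a * b = b * a := OC_comm h (mem_sup_left ha) hb
  have e5 : c * d = d * c := OC_comm h (mem_sup_left hc) hd
  have e6 : ⁅a * b, c * d⁆ = ⁅a, c⁆ := by
    rw [commutatorElement_def, commutatorElement_def]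
    have h3 : (a * b) * (c * d) = (a * c) * (b * d) := by
      calc (a * b) * (c * d) = a * (b * c) * d := by group
        _ = a * (c * b) * d := by rw [e1]
        _ = (a * c) * (b * d) := by group
    have h4 : (c * d) * (a * b) = (c * a) * (b * d) := by
      calc (c * d) * (a * b) = c * (d * a) * b := by group
        _ = c * (a * d) * b := by rw [e2]
        _ = (c * a) * (d * b) := by group
        _ = (c * a) * (b * d) := by rw [e3]
    calc a * b * (c * d) * (a * b)⁻¹ * (c * d)⁻¹ = ((a * b) * (c * d)) * ((c * d) * (a * b))⁻¹ := by group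
      _ = (a * c) * (b * d) * ((c * a) * (b * d))⁻¹ := by rw [h3, h4]
      _ = a * c * a⁻¹ * c⁻¹ := by group
  rw [e6]
  exact (D1 R).mul_mem ((D1 R).mul_mem ((D1 R).mul_mem ha hc) ((D1 R).inv_mem ha)) ((D1 R).inv_mem hc)

theorem card_F1 [Finite Γ] (h : Leaf R F1) {K : Subgroup (Γ ⧸ center Γ)} (h1 : D1 R ≤ K)
    (e : Nonempty (↥K ⧸ oddCore ↥K ≃* SolvTwo.X)) : Fintype.card F1 = 3 := by
  apply card_three_of_le h.good.odd
  have := h.good.ne
  obtain ⟨e1⟩ := h.good.e1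
  obtain ⟨e⟩ := e
  rw [← Nat.card_congr ((D1Equiv R).symm.trans e1).toEquiv]
  have : (oddCore ↥K).Normal := Lib.Cores.pPrimeCore_normal 2
  let f : ↥(D1 R) →* ↥K ⧸ oddCore ↥K := (QuotientGroup.mk' (oddCore ↥K)).comp (Subgroup.inclusion h1)
  have hf : Function.Injective f := by
    rw [injective_iff_map_eq_one]
    intro x hx
    have h2 : x ∈ (oddCore ↥K).comap (Subgroup.inclusion h1) := by
      rw [mem_comap]
      exact (QuotientGroup.eq_one_iff _).1 hx
    have h3 : (oddCore ↥K).comap (Subgroup.inclusion h1) ≤ oddCore ↥(D1 R) := by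
      refine le_oddCore (Normal.comap inferInstance _) ?_
      refine not_two_dvd_comap _ (not_two_dvd_ker_of_injective _ (Subgroup.inclusion_injective h1)) ?_
      exact fun hd => not_two_dvd_oddCore ↥K (hd.trans (card_dvd_of_le inf_le_left))
    have h4 := h3 h2
    rwa [oddCore_eq_bot h.good.odd ((D1Equiv R).symm.trans e1), mem_bot] at h4
  have h5 := Nat.card_le_card_of_injective f hf
  have h6 : Nat.card (↥K ⧸ oddCore ↥K) = 24 := by
    rw [Nat.card_congr e.toEquiv, ClassicalGeometry.PSL2Basic.card_SL2, ZMod.card]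
    norm_num
  rwa [h6] at h5

/-- **every member over a conjugate of `z₀` is conjugate to `D₁`** -/
theorem Leaf.exists_cj [Finite Γ] (h : Leaf R F1) {Om : Set (Subgroup (Γ ⧸ center Γ))} (hOm : Hyp Om)
    {K : Subgroup (Γ ⧸ center Γ)} (hK : K ∈ Om) (hT : Cit.Ty K) {g : Γ ⧸ center Γ}
    (hg : g * zz K * g⁻¹ = z0 R) : ∃ g, cj g K = D1 R := by
  have hKc := hOm.le_centralizer hK
  have hsn := hOm.sub K hK
  have hz := hOm.zz_mem hK
  rcases hT with hT | ⟨⟨F', i1, i2, ho', e⟩ | h7, hp⟩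
  · have ho' : Odd (Fintype.card (ZMod 3)) := by rw [ZMod.card]; decide
    obtain ⟨g, hg, h1, h2⟩ := conj_main h.good h.swap hg hKc hsn hz ho' hT
    have h3 : Fintype.card F1 = 3 := by
      refine card_F1 h h1 ?_
      obtain ⟨e⟩ := hT
      exact ⟨(QuotientGroup.congr _ _ (cjEquiv g K) (Lib.Cores.map_equiv_pPrimeCore _ 2)).symm.trans e⟩
    refine ⟨g, le_antisymm ?_ h1⟩
    rw [OC_eq_bot h h3, sup_bot_eq] at h2
    exact h2
  · obtain ⟨g, hg, h1, h2⟩ := conj_main h.good h.swap hg hKc hsn hz ho' e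
    refine ⟨g, eq_D1_of_perfect h h1 h2 ?_⟩
    rw [← cj_commutator, hp]
  · exfalso
    exact conj_false h.good hg hKc hsn hz (Seven.IsBig.quasisimple (Or.inr h7)) (not_seven h7)

end Leaf

/-! ### pieces -/

theorem hasPieces_congr {G L : Type*} [Group G] [Group L] [Finite G] {Om : Set (Subgroup G)} (hOm : Hyp Om)
    (e : G ≃* L) (h : HasPieces (Cit.img e.toMonoidHom Om)) : HasPieces Om := by
  have : Finite L := Finite.of_equiv _ e.toEquiv
  have h1 : Hyp (Cit.img e.toMonoidHom Om) :=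
    hOm.img e.surjective (not_two_dvd_ker_of_injective _ e.injective)
  have h2 := h.img_of_injective h1 e.symm.toMonoidHom e.symm.injective
  rw [img_img] at h2
  have h3 : e.symm.toMonoidHom.comp e.toMonoidHom = MonoidHom.id G := by
    ext x; simp
  rwa [h3, img_id] at h2

variable {G : Type*} [Group G] [Finite G] {Om : Set (Subgroup G)}

/-- a simple group with a member is not abelian -/
theorem exists_comm_ne (hOm : Hyp Om) {K : Subgroup G} (hK : K ∈ Om) : ∃ a b : G, a * b ≠ b * a := by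
  by_contra hcon
  push Not at hcon
  exact hOm.not_le_centralizer_self hK fun x _ y _ => hcon y x

theorem center_eq_bot (hs : IsSimpleGroup G) (hOm : Hyp Om) {K : Subgroup G} (hK : K ∈ Om) :
    center G = ⊥ := by
  rcases hs.eq_bot_or_eq_top_of_normal (center G) inferInstance with h | h
  · exact h
  · exfalso
    obtain ⟨a, b, hab⟩ := exists_comm_ne hOm hK
    have h1 : b ∈ center G := by rw [h]; exact mem_top b
    exact hab (mem_center_iff.1 h1 a)

/-- **a simple group with a chart has pieces** -/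
theorem hasPieces_of_chart (hOm : Hyp Om) (hne : Om.Nonempty) (hcore : ∀ K ∈ Om, OO K = ⊥)
    (hs : IsSimpleGroup G) {p : ℕ} (c : Chart Om p (⊤ : Subgroup G)) (τ : Nodes.Chart.Ty) (kind : c.IsTy τ)
    (ok : KindOk τ) (small : Fintype.card c.I ≤ 2 → IsLieTypeChar p G)
    (sl : ∃ (F : Type) (_ : Field F) (_ : Fintype F), CharP F p ∧
      ∀ K ∈ Om, Nonempty (SpecialLinearGroup (Fin 2) F ≃* ↥K))
    (zx : (∀ r ∈ c.R, c.Z r = c.X r) ∨ ∃ n, τ = .C n) : HasPieces Om := by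
  obtain ⟨K, hK⟩ := hne
  have hcen := center_eq_bot hs hOm hK
  obtain ⟨a, b, hab⟩ := exists_comm_ne hOm hK
  have e : G ≃* ↥(⊤ : Subgroup G) := Subgroup.topEquiv.symm
  have hct : center ↥(⊤ : Subgroup G) = ⊥ := center_eq_bot_congr e hcen
  refine ⟨hcore, {⊤}, ?_, ?_, ?_⟩
  · rintro D rfl
    obtain ⟨F, i1, i2, h1, h2⟩ := sl
    refine Piece.chart ?_ ?_ ?_ p c τ kind ok (fun hI => ?_)
      ⟨F, i1, i2, h1, fun r hr => h2 _ (c.om r hr)⟩ zx
    · intro htop
      have h1 : zz (⊤ : Subgroup G) ∈ center G := by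
        rw [mem_center_iff]
        intro g
        exact mem_centralizer_singleton_iff.1 (hOm.le_centralizer htop (mem_top g))
      rw [hcen, mem_bot] at h1
      exact hOm.zz_ne htop h1
    · exact SignalizersComponents.LayerBasic.quasisimple_congr e
        (SignalizersComponents.IntrinsicDiag.quasisimple_of_simple hs
          fun h => hab (h.is_comm.comm a b))
    · rw [hct]; exact IsPGroup.of_bot
    · refine OddHalf.Known.isLieTypeChar_congr ?_ (small hI)
      exact e.trans ((QuotientGroup.quotientMulEquivOfEq hct).trans QuotientGroup.quotientBot).symm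
  · rintro D rfl E rfl h
    exact absurd rfl h
  · intro J _
    exact ⟨⊤, rfl, le_top⟩

end Cfsg.Agent.Cit.LongLeaf
end

-- part: Cit/LongLeafEnd
section
set_option linter.all false
open scoped Cfsg.Agent.FastGrp

-- part: Cit/LongLeafCh
section
/-!
# Base leaves of THEOREM T for matrix groups, part 2: the charts

* `chartA_isTy`, `chartC_isTy` : the types of the charts of `Nodes/ChartTypeA`, `Nodes/ChartTypeC`;
* `D1_sl`, `KC_su`, `KC_sp` : the classical subgroup of the chart is `D₁`;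
* `Leaf.hasPieces` : from a member over a conjugate of `z₀` and a chart to `HasPieces`.
-/

set_option autoImplicit false

namespace Cfsg.Agent.Cit.LongLeafCh

open Subgroup Cfsg Matrix Cfsg.Agent.Cit.LongAbs Cfsg.Agent.Cit.LongBlock Cfsg.Agent.Cit.LongQuot
  Cfsg.Agent.Cit.LongMain Cfsg.Agent.Cit.LongModel Cfsg.Agent.Cit.LongInst Cfsg.Agent.Cit.LongTwo
  Cfsg.Agent.Cit.LongFinal Cfsg.Agent.Cit.LongConj Cfsg.Agent.Cit.LongLeaf Cfsg.Agent.Nodes.Chart

/-! ### types of the charts -/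

section Types

open Cfsg.Agent.Nodes Cfsg.Agent.Nodes.TypeC Cfsg.Agent.Nodes.ClsWitt
open Cfsg.Agent.ChevalleyStructure.CoxeterGeom Cfsg.Agent.Tits.Roots

theorem sr_mem_LR {n : ℕ} (i : Fin n) : sr i ∈ LR n ↔ (i : ℕ) + 1 = n := by
  constructor
  · rintro ⟨a, ha⟩
    rw [ee_sr, bt] at ha
    by_contra hne
    have hlt : (i : ℕ) + 1 < n := by have := i.2; omega
    have hnx : nx i = (⟨i + 1, hlt⟩, false) := dif_pos hlt
    rcases wt_add_eq (ok_nx i) (Or.inr rfl) ha with ⟨h1, h2⟩ | ⟨h1, h2⟩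
    · rw [← h1, hnx] at h2
      exact absurd (congrArg Prod.snd h2) (by simp)
    · rw [← h1, hnx] at h2
      exact absurd (congrArg Prod.snd h2) (by simp)
  · intro h
    refine ⟨(i, true), ?_⟩
    have hnx : nx i = (i, true) := dif_neg (by omega)
    rw [ee_sr, bt, hnx]

end Types

/-! ### existence of the charts -/

theorem exists_char {F : Type*} [Field F] [Fintype F] (ho : Odd (Fintype.card F)) :
    ∃ p : ℕ, p.Prime ∧ p ≠ 2 ∧ CharP F p := by
  obtain ⟨p, hp⟩ := CharP.exists F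
  have h1 : p.Prime := CharP.char_is_prime F p
  refine ⟨p, h1, ?_, hp⟩
  rintro rfl
  apply SignalizersComponents.SLQuasisimple.two_ne_zero_of_odd ho
  have := CharP.cast_eq_zero F 2
  exact_mod_cast this

section Linear

open Cfsg.Agent.Nodes.ChartTypeA

/-- chart of an image of `SL_{n+1}(F)` -/
theorem exists_chart_sl {n : ℕ} (hn : 1 ≤ n) {F : Type*} [Field F] [Fintype F] (ho : Odd (Fintype.card F))
    {G : Type*} [Group G] (f : SpecialLinearGroup (Fin (n + 1)) F →* G) (hs : Function.Surjective f)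
    (hf : f.ker ≤ center (SpecialLinearGroup (Fin (n + 1)) F)) (Om : Set (Subgroup G))
    (hcj : ∀ K ∈ Om, ∀ g, cj g K ∈ Om) (a b : Fin (n + 1)) (hab : a ≠ b) (hJ : (blk F a b).map f ∈ Om)
    (hOm : ∀ K ∈ Om, ∃ g, K = cj g ((blk F a b).map f)) :
    ∃ (p : ℕ) (_ : CharP F p) (c : Chart Om p (⊤ : Subgroup G)), c.IsTy (.A n) ∧ ∀ r ∈ c.R, c.Z r = c.X r := by
  obtain ⟨p, hp, h2, hch⟩ := exists_char ho
  have : Fact p.Prime := ⟨hp⟩
  refine ⟨p, hch, chartA h2 hn f hs hf Om hcj a b hab hJ hOm, ⟨Equiv.refl _, fun i j => rfl, fun i => ?_⟩,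
    fun r _ => rfl⟩
  exact ⟨fun _ => trivial, fun _ => Cfsg.Agent.Tits.Roots.isRoot_sr _ _ i⟩

end Linear

section Unitary

open Cfsg.Agent.Nodes.ChartTypeC Cfsg.Agent.Nodes.WittU Cfsg.Agent.Nodes.TypeC Cfsg.Agent.Nodes.ClsWitt
open Cfsg.Agent.TitsThree Cfsg.Agent.TitsThree.Siegel Cfsg.Agent.TitsThree.WittFrame
  Cfsg.Agent.TitsThree.WittWeyl Cfsg.Agent.TitsThree.FrameCN
open Cfsg.Agent.TitsThree.SiegelGen Cfsg.Agent.TitsThree.WBridge Cfsg.Agent.TitsThree.KSideU
  Cfsg.Agent.TitsThree.KSideUDesc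

/-- chart of `PSU_N(q)` -/
theorem exists_chart_su {F : Type*} [Field F] [Fintype F] (ho : Odd (Fintype.card F)) {q N m : ℕ}
    (hF : Fintype.card F = q ^ 2) (hN : 3 ≤ N) (hm : 0 < m) (hNm : N = 2 * m ∨ N = 2 * m + 1)
    (Om : Set (Subgroup (PSU N F q))) (hcj : ∀ K ∈ Om, ∀ g, cj g K ∈ Om) {r s : Fin N} (hr : (r : ℕ) = 0)
    (hs : (s : ℕ) = 1)
    (hJ : (Cfsg.Agent.Nodes.WittBlock.blkU F q N r s).map
      (QuotientGroup.mk' (center (SU N F q))) ∈ Om)
    (hOm : ∀ K ∈ Om, ∃ g, K = cj g ((Cfsg.Agent.Nodes.WittBlock.blkU F q N r s).map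
      (QuotientGroup.mk' (center (SU N F q))))) :
    ∃ (p : ℕ) (_ : CharP F p) (c : Chart Om p (⊤ : Subgroup (PSU N F q))), c.IsTy (.C m) := by
  obtain ⟨p, hp, h2, hch⟩ := exists_char ho
  have : Fact p.Prime := ⟨hp⟩
  obtain ⟨W, hW⟩ := exists_wframe hF hNm
  obtain ⟨x, hx⟩ := exists_long (CoxeterMatrix.B m).toCoxeterSystem ((⟨0, hm⟩ : Fin m), true)
  have hKC : KC (KInstU.model hF hN W) ((⟨0, hm⟩ : Fin m), true) =
      (Cfsg.Agent.Nodes.WittBlock.blkU F q N r s).map (QuotientGroup.mk' (center (SU N F q))) :=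
    (ZM_sup (KInstU.model hF hN W) (amb_U hF W) hx).symm.trans
      (Cfsg.Agent.Nodes.WittBlock.sup_ZM_U hF hN W hW
        (SignalizersComponents.SLQuasisimple.two_ne_zero_of_odd ho) (⟨0, hm⟩ : Fin m)
        (by simpa using hr) (by simpa using hs) hx)
  refine ⟨p, hch, chartU hF hN hm W h2 (MonoidHom.id (PSU N F q)) Function.surjective_id
    (by rw [MonoidHom.ker_id]; exact bot_le) Om hcj ((⟨0, hm⟩ : Fin m), true)
    (by rw [Subgroup.map_id, hKC]; exact hJ) (by rw [Subgroup.map_id, hKC]; exact hOm),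
    Equiv.refl _, fun i j => rfl, fun i => sr_mem_LR i⟩

/-- chart of `PSp_{2m}(F)` -/
theorem exists_chart_sp {F : Type*} [Field F] [Fintype F] (ho : Odd (Fintype.card F)) {m : ℕ} (i : Fin m)
    (Om : Set (Subgroup (PSp m F))) (hcj : ∀ K ∈ Om, ∀ g, cj g K ∈ Om)
    (hJ : (Cfsg.Agent.Nodes.WittBlock.blkSp F i).map
      (QuotientGroup.mk' (center (symplecticGroup (Fin m) F))) ∈ Om)
    (hOm : ∀ K ∈ Om, ∃ g, K = cj g ((Cfsg.Agent.Nodes.WittBlock.blkSp F i).map
      (QuotientGroup.mk' (center (symplecticGroup (Fin m) F))))) :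
    ∃ (p : ℕ) (_ : CharP F p) (c : Chart Om p (⊤ : Subgroup (PSp m F))), c.IsTy (.C m) := by
  obtain ⟨p, hp, h2, hch⟩ := exists_char ho
  have : Fact p.Prime := ⟨hp⟩
  obtain ⟨x, hx⟩ := exists_long (CoxeterMatrix.B m).toCoxeterSystem (i, true)
  have hm : 0 < m := by have := i.2; omega
  have hKC : KC (KInstSp.model m F) (i, true) =
      (Cfsg.Agent.Nodes.WittBlock.blkSp F i).map (QuotientGroup.mk' (center (symplecticGroup (Fin m) F))) :=
    (ZM_sup (KInstSp.model m F) amb_Sp hx).symm.trans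
      (Cfsg.Agent.Nodes.WittBlock.sup_ZM_Sp
        (SignalizersComponents.SLQuasisimple.two_ne_zero_of_odd ho) i hx)
  refine ⟨p, hch, chartSp hm h2 (MonoidHom.id (PSp m F)) Function.surjective_id
    (by rw [MonoidHom.ker_id]; exact bot_le) Om hcj (i, true)
    (by rw [Subgroup.map_id, hKC]; exact hJ) (by rw [Subgroup.map_id, hKC]; exact hOm),
    Equiv.refl _, fun i j => rfl, fun i => sr_mem_LR i⟩

end Unitary

end Cfsg.Agent.Cit.LongLeafCh
end

-- part: Cit/LongLeafEnd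
section
/-!
# Base leaves of THEOREM T for matrix groups, part 3: the results

`Base Om`: `Hyp`, `Ty`, one class, `G` simple.  For `G ≃* PSL₃, PSL₄, PSL₅, PSU₃, PSU₄, PSU₅, PSp₄` over a field of odd
order: `HasPieces Om`, under the condition `TwoCen Om` (some `zz K` is 2-central) for the groups of dimension 3 and 4,
`SqCen Om` (some `zz K` commutes with all squares of a Sylow 2-subgroup) in dimension 5.
`TwoCen`, `SqCen` from `|Om(S)| ≤ 2`.
-/

set_option autoImplicit false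

namespace Cfsg.Agent.Cit.LongLeafEnd

open Subgroup Cfsg Matrix Cfsg.Agent.Cit.LongAbs Cfsg.Agent.Cit.LongBlock Cfsg.Agent.Cit.LongQuot
  Cfsg.Agent.Cit.LongMain Cfsg.Agent.Cit.LongModel Cfsg.Agent.Cit.LongInst Cfsg.Agent.Cit.LongTwo
  Cfsg.Agent.Cit.LongFinal Cfsg.Agent.Cit.LongConj Cfsg.Agent.Cit.LongLeaf Cfsg.Agent.Cit.LongLeafCh
  Cfsg.Agent.Nodes.Chart

/-! ### the hypotheses -/

section Base

/-- simple group, one class of members -/
structure Base {G : Type*} [Group G] (Om : Set (Subgroup G)) : Prop where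
  hyp : Hyp Om
  ty : ∀ K ∈ Om, Cit.Ty K
  ne : Om.Nonempty
  cls : ∀ K ∈ Om, ∀ J ∈ Om, ∃ g, J = cj g K
  simple : IsSimpleGroup G

theorem base_of_minS {G : Type*} [Group G] {Om : Set (Subgroup G)} (h : MinS Om) : Base Om :=
  ⟨h.hyp, h.ty, h.ne, h.cls, h.simple⟩

/-- some `zz K` is 2-central -/
def TwoCen {G : Type*} [Group G] (Om : Set (Subgroup G)) : Prop :=
  ∃ K ∈ Om, ∃ S : Sylow 2 G, ∀ s ∈ S, s * zz K = zz K * s

/-- some `zz K` commutes with the squares of a Sylow 2-subgroup -/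
def SqCen {G : Type*} [Group G] (Om : Set (Subgroup G)) : Prop :=
  ∃ K ∈ Om, ∃ S : Sylow 2 G, ∀ s ∈ S, (s * s) * zz K = zz K * (s * s)

variable {G L : Type*} [Group G] [Group L] [Finite G] {Om : Set (Subgroup G)}

theorem Base.map (h : Base Om) (e : G ≃* L) : Base (Cit.img e.toMonoidHom Om) where
  hyp := h.hyp.img e.surjective (not_two_dvd_ker_of_injective _ e.injective)
  ty := Cit.Ty.img h.ty _ (not_two_dvd_ker_of_injective _ e.injective)
  ne := h.ne.image _
  cls := by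
    rintro _ ⟨K, hK, rfl⟩ _ ⟨J, hJ, rfl⟩
    obtain ⟨g, hg⟩ := h.cls K hK J hJ
    refine ⟨e g, ?_⟩
    rw [hg, cj_map]
    rfl
  simple := (MulEquiv.isSimpleGroup_congr e).1 h.simple

theorem TwoCen.map (h : Base Om) (ht : TwoCen Om) (e : G ≃* L) : TwoCen (Cit.img e.toMonoidHom Om) := by
  obtain ⟨K, hK, S, hS⟩ := ht
  refine ⟨K.map e.toMonoidHom, ⟨K, hK, rfl⟩, S.mapSurjective (f := e.toMonoidHom) e.surjective, ?_⟩
  rintro _ ⟨s, hs, rfl⟩
  rw [zz_map_of_injective h.hyp hK e.toMonoidHom e.injective, ← map_mul, hS s hs, map_mul]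

theorem SqCen.map (h : Base Om) (ht : SqCen Om) (e : G ≃* L) : SqCen (Cit.img e.toMonoidHom Om) := by
  obtain ⟨K, hK, S, hS⟩ := ht
  refine ⟨K.map e.toMonoidHom, ⟨K, hK, rfl⟩, S.mapSurjective (f := e.toMonoidHom) e.surjective, ?_⟩
  rintro _ ⟨s, hs, rfl⟩
  rw [zz_map_of_injective h.hyp hK e.toMonoidHom e.injective, ← map_mul, ← map_mul, hS s hs, map_mul]

/-- equal involutions on `Om(S)` -/
theorem twoCen_of_eq (hOm : Hyp Om) (S : Sylow 2 G) {K : Subgroup G} (hK : K ∈ OmS Om (S : Subgroup G))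
    (heq : ∀ J ∈ OmS Om (S : Subgroup G), zz J = zz K) : TwoCen Om := by
  refine ⟨K, hK.1, S, fun s hs => ?_⟩
  have h1 := heq _ (cj_mem_OmS' hOm.conj (le_normalizer hs) hK)
  rw [hOm.zz_cj hK.1] at h1
  calc s * zz K = (s * zz K * s⁻¹) * s := by group
    _ = zz K * s := by rw [h1]

/-- `|Om(S)| ≤ 2` -/
theorem sqCen_of_two (hOm : Hyp Om) (S : Sylow 2 G) {K : Subgroup G} (hK : K ∈ OmS Om (S : Subgroup G))
    (h2 : (OmS Om (S : Subgroup G)).ncard ≤ 2) : SqCen Om := by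
  refine ⟨K, hK.1, S, fun s hs => ?_⟩
  have hs1 := cj_mem_OmS' hOm.conj (le_normalizer hs) hK
  have hs2 := cj_mem_OmS' hOm.conj (le_normalizer hs) hs1
  have key : cj s (cj s K) = K := by
    by_contra hne
    have h3 : cj s K ≠ K := fun h => hne (by rw [h, h])
    have h4 : cj s (cj s K) ≠ cj s K := fun h => h3 (cj_inj.1 h)
    have h5 : ({K, cj s K, cj s (cj s K)} : Set (Subgroup G)).ncard = 3 :=
      Set.ncard_eq_three.2 ⟨K, cj s K, cj s (cj s K), h3.symm, fun h => hne h.symm, h4.symm, rfl⟩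
    have h6 : ({K, cj s K, cj s (cj s K)} : Set (Subgroup G)) ⊆ OmS Om (S : Subgroup G) := by
      rintro J (rfl | rfl | rfl)
      · exact hK
      · exact hs1
      · exact hs2
    have h7 := Set.ncard_le_ncard h6 (Set.toFinite _)
    omega
  rw [← cj_mul] at key
  exact hOm.comm_zz hK.1 (mem_normalizer_iff_cj.2 key)

end Base

/-! ### the general leaf -/

section Leaf

variable {Γ : Type*} [Group Γ] [Finite Γ] {F : Type*} [Field F] {κ : Type*} [Fintype κ] [DecidableEq κ]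
  {R : Rep Γ F κ} {F1 : Type} [Field F1] [Fintype F1]

theorem leaf_hasPieces (h : Leaf R F1) (f : F1 →+* F) {Om : Set (Subgroup (Γ ⧸ center Γ))} (B : Base Om)
    (hz : ∃ K ∈ Om, ∃ g, g * zz K * g⁻¹ = z0 R)
    (hch : D1 R ∈ Om → (∀ K ∈ Om, ∃ g, K = cj g (D1 R)) → ∃ (p : ℕ) (_ : CharP F p)
      (c : Chart Om p (⊤ : Subgroup (Γ ⧸ center Γ))) (τ : Nodes.Chart.Ty), c.IsTy τ ∧ KindOk τ ∧
        (τ.rk ≤ 2 → IsLieTypeChar p (Γ ⧸ center Γ)) ∧ ((∀ r ∈ c.R, c.Z r = c.X r) ∨ ∃ n, τ = .C n)) :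
    HasPieces Om := by
  obtain ⟨K, hK, g, hg⟩ := hz
  obtain ⟨g, hg⟩ := h.exists_cj B.hyp hK (B.ty K hK) hg
  have h1 : D1 R ∈ Om := by rw [← hg]; exact B.hyp.conj K hK g
  have h2 : ∀ J ∈ Om, ∃ g, J = cj g (D1 R) := fun J hJ => B.cls _ h1 J hJ
  obtain ⟨p, hp, c, τ, kind, ok, small, zx⟩ := hch h1 h2
  have hp1 : CharP F1 p := (RingHom.charP_iff f f.injective p).2 hp
  refine hasPieces_of_chart B.hyp B.ne ?_ B.simple c τ kind ok (fun hI => small ?_)
    ⟨F1, inferInstance, inferInstance, hp1, fun J hJ => ?_⟩ zx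
  · intro J hJ
    obtain ⟨x, rfl⟩ := h2 J hJ
    rw [OO_cj, OO_D1 h, cj, Subgroup.map_bot]
  · rwa [kind.card] at hI
  · obtain ⟨x, rfl⟩ := h2 J hJ
    have := h.good.ne
    obtain ⟨e⟩ := h.good.e1
    exact ⟨(e.symm.trans (D1Equiv R)).trans (cjEquiv x (D1 R))⟩

end Leaf

/-! ### the data -/

section Data

variable {F : Type} [Field F] [Fintype F] (ho : Odd (Fintype.card F))

omit [Field F] in
theorem eight_of_three [Field F] (h : Fintype.card F = 3) (a : F) (ha : a ≠ 0) : a ^ 8 = 1 := by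
  have h1 := FiniteField.pow_card_sub_one_eq_one a ha
  rw [h] at h1
  calc a ^ 8 = (a ^ (3 - 1)) ^ 4 := by ring
    _ = 1 := by rw [h1, one_pow]

include ho

theorem sl_leaf1 : Leaf (slRep F 1) F := ⟨sl_good1 ho, sl_swap1, eight_of_three⟩
theorem sl_leaf2 : Leaf (slRep F 2) F := ⟨sl_good2 ho, sl_swap2, eight_of_three⟩
theorem sl_leaf3 : Leaf (slRep F 3) F := ⟨sl_good3 ho, sl_swap3 ho, eight_of_three⟩
theorem sp_leaf : Leaf (LongSp.spRep F) F := ⟨LongSp.sp_good ho, sp_swap', eight_of_three⟩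

variable {q : ℕ} (hF : Fintype.card F = q ^ 2)

omit ho in
theorem eight_su (h : Fintype.card (KK hF) = 3) (a : F) (ha : a ≠ 0) : a ^ 8 = 1 := by
  rw [card_KK] at h
  have h1 := FiniteField.pow_card_sub_one_eq_one a ha
  rw [hF, h] at h1
  exact h1

theorem su_leaf1 : Leaf (suRep hF 1 le_rfl) (KK hF) := ⟨su_good1 hF ho, su_swap1 hF, eight_su hF⟩
theorem su_leaf2 : Leaf (suRep hF 2 (by norm_num)) (KK hF) := ⟨su_good2 hF ho, su_swap2 hF, eight_su hF⟩
theorem su_leaf3 : Leaf (suRep hF 3 (by norm_num)) (KK hF) := ⟨su_good3 hF ho, su_swap3 ho hF, eight_su hF⟩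

end Data

/-! ### `D₁` as block subgroup -/

section D1

open Cfsg.Agent.Nodes.ChartTypeA

theorem D1_sl (F : Type*) [Field F] (k : ℕ) : D1 (slRep F k) =
    (blk F ((ee k).symm (Sum.inl 0)) ((ee k).symm (Sum.inl 1))).map (pr (SpecialLinearGroup (Fin (2 + k)) F)) := by
  rw [D1]
  congr 1
  ext g
  exact (blk_iff_fromBlocks (ee k).symm).symm

theorem D1_su {F : Type*} [Field F] [Fintype F] {q : ℕ} (hF : Fintype.card F = q ^ 2) (k : ℕ) (hk : 1 ≤ k) :
    D1 (suRep hF k hk) = (Cfsg.Agent.Nodes.WittBlock.blkU F q (2 + k) ((ee k).symm (Sum.inl 0))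
      ((ee k).symm (Sum.inl 1))).map (pr (SU (2 + k) F q)) := by
  rw [D1]
  congr 1
  ext g
  exact (blk_iff_fromBlocks (ee k).symm).symm

theorem D1_sp (F : Type*) [Field F] : D1 (LongSp.spRep F) =
    (Cfsg.Agent.Nodes.WittBlock.blkSp F (0 : Fin 2)).map (pr (symplecticGroup (Fin 2) F)) := by
  rw [D1]
  congr 1
  ext g
  exact (blk_iff_fromBlocks LongSp.e4).symm

end D1

/-! ### types -/

theorem oneInv_of_ty {G : Type*} [Group G] {K : Subgroup G} (h : Cit.Ty K) : OneInv (↥K ⧸ oddCore ↥K) := by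
  obtain ⟨z, -, hz⟩ := h.isType.good.uniq
  intro x y hx hy hxx hyy
  rw [hz x (orderOf_eq_prime (by rw [pow_two]; exact hxx) hx),
    hz y (orderOf_eq_prime (by rw [pow_two]; exact hyy) hy)]

theorem nonComm_of_ty {G : Type*} [Group G] {K : Subgroup G} (h : Cit.Ty K) : NonComm (↥K ⧸ oddCore ↥K) := by
  rcases Ty.IsTy.cases h.isType with h1 | ⟨⟨e⟩⟩
  · intro hc
    have h2 := h1.quasisimple
    have := h2.2.toNontrivial
    have h3 : center (↥K ⧸ oddCore ↥K) = ⊤ := by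
      rw [eq_top_iff]
      intro x _
      rw [mem_center_iff]
      exact fun y => hc y x
    have h4 : Subsingleton ((↥K ⧸ oddCore ↥K) ⧸ center (↥K ⧸ oddCore ↥K)) := by
      rw [h3]; exact QuotientGroup.subsingleton_quotient_top
    exact not_subsingleton _ h4
  · exact (nonComm_SL2 (ZMod 3)).congr e.symm

/-! ### Lie type -/

section LieType

variable {F : Type} [Field F] [Fintype F] (ho : Odd (Fintype.card F)) {p : ℕ} (hp : CharP F p)
include hp

theorem lie_psl3 : IsLieTypeChar p (ProjectiveSpecialLinearGroup (Fin 3) F) :=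
  Or.inl ⟨F, inferInstance, inferInstance, hp, 3, by norm_num, by norm_num, ⟨MulEquiv.refl _⟩⟩

include ho

theorem lie_psp4 : IsLieTypeChar p (PSp 2 F) := by
  refine Or.inr (Or.inl ⟨F, inferInstance, inferInstance, hp, 2, le_rfl, fun _ => ?_, ⟨MulEquiv.refl _⟩⟩)
  have h1 : 1 < Fintype.card F := Fintype.one_lt_card
  obtain ⟨k, hk⟩ := ho
  omega

theorem lie_psu {q n : ℕ} (hF : Fintype.card F = q ^ 2) (hn : 3 ≤ n) : IsLieTypeChar p (PSU n F q) := by
  refine Or.inr (Or.inr (Or.inl ⟨F, inferInstance, inferInstance, hp, n, q, hF, hn, ?_, ⟨MulEquiv.refl _⟩⟩))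
  rintro ⟨-, rfl⟩
  exact absurd (odd_q hF ho) (by decide)

end LieType

/-! ### the groups -/

section Final

variable {F : Type} [Field F] [Fintype F] (ho : Odd (Fintype.card F))
variable {G : Type*} [Group G] [Finite G] {Om : Set (Subgroup G)}
include ho

theorem psl3 (B : Base Om) (hc : TwoCen Om) (e : G ≃* ProjectiveSpecialLinearGroup (Fin 3) F) :
    HasPieces Om := by
  have B' := B.map e
  obtain ⟨K, hK, S, hS⟩ := hc.map B e
  refine hasPieces_congr B.hyp e ?_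
  obtain ⟨g, hg⟩ := sl3_two_central ho S (B'.hyp.zz_mul hK) (B'.hyp.zz_ne hK) hS
  refine leaf_hasPieces (sl_leaf1 ho) (RingHom.id F) B' ⟨K, hK, g, hg⟩ fun h1 h2 => ?_
  rw [D1_sl] at h1
  simp only [D1_sl] at h2
  obtain ⟨p, hp, c, hc, hzx⟩ := exists_chart_sl (n := 2) (by norm_num) ho (pr (SpecialLinearGroup (Fin 3) F))
    (QuotientGroup.mk'_surjective _) (by rw [QuotientGroup.ker_mk']) _ B'.hyp.conj
    ((ee 1).symm (Sum.inl 0)) ((ee 1).symm (Sum.inl 1)) (by simp) h1 h2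
  exact ⟨p, hp, c, .A 2, hc, le_rfl, fun _ => lie_psl3 hp, Or.inl hzx⟩

theorem psl4 (B : Base Om) (hc : TwoCen Om) (e : G ≃* ProjectiveSpecialLinearGroup (Fin 4) F) :
    HasPieces Om := by
  have B' := B.map e
  obtain ⟨K, hK, S, hS⟩ := hc.map B e
  refine hasPieces_congr B.hyp e ?_
  obtain ⟨g, hg⟩ := sl4_two_central ho S (B'.hyp.zz_mul hK) (B'.hyp.zz_ne hK) hS
  refine leaf_hasPieces (sl_leaf2 ho) (RingHom.id F) B' ⟨K, hK, g, hg⟩ fun h1 h2 => ?_
  rw [D1_sl] at h1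
  simp only [D1_sl] at h2
  obtain ⟨p, hp, c, hc, hzx⟩ := exists_chart_sl (n := 3) (by norm_num) ho (pr (SpecialLinearGroup (Fin 4) F))
    (QuotientGroup.mk'_surjective _) (by rw [QuotientGroup.ker_mk']) _ B'.hyp.conj
    ((ee 2).symm (Sum.inl 0)) ((ee 2).symm (Sum.inl 1)) (by simp) h1 h2
  exact ⟨p, hp, c, .A 3, hc, (by show 2 ≤ 3; norm_num), fun h => absurd h (by show ¬ (3 ≤ 2); norm_num),
    Or.inl hzx⟩

theorem psl5 (B : Base Om) (hc : SqCen Om) (e : G ≃* ProjectiveSpecialLinearGroup (Fin 5) F) :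
    HasPieces Om := by
  have B' := B.map e
  obtain ⟨K, hK, S, hS⟩ := hc.map B e
  refine hasPieces_congr B.hyp e ?_
  obtain ⟨g, hg⟩ := sl5_conj ho S (B'.hyp.zz_mul hK) (B'.hyp.zz_ne hK) hS (B'.hyp.le_centralizer hK)
    (B'.hyp.sub K hK) (oneInv_of_ty (B'.ty K hK)) (nonComm_of_ty (B'.ty K hK))
  refine leaf_hasPieces (sl_leaf3 ho) (RingHom.id F) B' ⟨K, hK, g, hg⟩ fun h1 h2 => ?_
  rw [D1_sl] at h1
  simp only [D1_sl] at h2
  obtain ⟨p, hp, c, hc, hzx⟩ := exists_chart_sl (n := 4) (by norm_num) ho (pr (SpecialLinearGroup (Fin 5) F))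
    (QuotientGroup.mk'_surjective _) (by rw [QuotientGroup.ker_mk']) _ B'.hyp.conj
    ((ee 3).symm (Sum.inl 0)) ((ee 3).symm (Sum.inl 1)) (by simp) h1 h2
  exact ⟨p, hp, c, .A 4, hc, (by show 2 ≤ 4; norm_num), fun h => absurd h (by show ¬ (4 ≤ 2); norm_num),
    Or.inl hzx⟩

theorem psp4 (B : Base Om) (hc : TwoCen Om) (e : G ≃* PSp 2 F) : HasPieces Om := by
  have B' := B.map e
  obtain ⟨K, hK, S, hS⟩ := hc.map B e
  refine hasPieces_congr B.hyp e ?_
  obtain ⟨g, hg⟩ := sp4_two_central ho S (B'.hyp.zz_mul hK) (B'.hyp.zz_ne hK) hS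
  refine leaf_hasPieces (sp_leaf ho) (RingHom.id F) B' ⟨K, hK, g, hg⟩ fun h1 h2 => ?_
  rw [D1_sp] at h1
  simp only [D1_sp] at h2
  obtain ⟨p, hp, c, hc⟩ := exists_chart_sp ho (0 : Fin 2) _ B'.hyp.conj h1 h2
  exact ⟨p, hp, c, .C 2, hc, (by show 1 ≤ 2; norm_num), fun _ => lie_psp4 ho hp, Or.inr ⟨2, rfl⟩⟩

variable {q : ℕ} (hF : Fintype.card F = q ^ 2)
include hF

theorem psu3 (B : Base Om) (hc : TwoCen Om) (e : G ≃* PSU 3 F q) : HasPieces Om := by
  have B' := B.map e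
  obtain ⟨K, hK, S, hS⟩ := hc.map B e
  refine hasPieces_congr B.hyp e ?_
  obtain ⟨g, hg⟩ := su3_two_central ho hF S (B'.hyp.zz_mul hK) (B'.hyp.zz_ne hK) hS
  refine leaf_hasPieces (su_leaf1 ho hF) (KK hF).subtype B' ⟨K, hK, g, hg⟩ fun h1 h2 => ?_
  rw [D1_su] at h1
  simp only [D1_su] at h2
  obtain ⟨p, hp, c, hc⟩ := exists_chart_su ho hF (N := 3) (m := 1) le_rfl one_pos (Or.inr rfl) _
    B'.hyp.conj (r := (ee 1).symm (Sum.inl 0)) (s := (ee 1).symm (Sum.inl 1)) rfl rfl h1 h2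
  exact ⟨p, hp, c, .C 1, hc, le_rfl, fun _ => lie_psu ho hp hF le_rfl, Or.inr ⟨1, rfl⟩⟩

theorem psu4 (B : Base Om) (hc : TwoCen Om) (e : G ≃* PSU 4 F q) : HasPieces Om := by
  have B' := B.map e
  obtain ⟨K, hK, S, hS⟩ := hc.map B e
  refine hasPieces_congr B.hyp e ?_
  obtain ⟨g, hg⟩ := su4_two_central ho hF S (B'.hyp.zz_mul hK) (B'.hyp.zz_ne hK) hS
  refine leaf_hasPieces (su_leaf2 ho hF) (KK hF).subtype B' ⟨K, hK, g, hg⟩ fun h1 h2 => ?_
  rw [D1_su] at h1
  simp only [D1_su] at h2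
  obtain ⟨p, hp, c, hc⟩ := exists_chart_su ho hF (N := 4) (m := 2) (by norm_num) (by norm_num)
    (Or.inl rfl) _ B'.hyp.conj (r := (ee 2).symm (Sum.inl 0)) (s := (ee 2).symm (Sum.inl 1)) rfl rfl h1 h2
  exact ⟨p, hp, c, .C 2, hc, (by show 1 ≤ 2; norm_num), 
    fun _ => lie_psu ho hp hF (by norm_num), Or.inr ⟨2, rfl⟩⟩

theorem psu5 (B : Base Om) (hc : SqCen Om) (e : G ≃* PSU 5 F q) : HasPieces Om := by
  have B' := B.map e
  obtain ⟨K, hK, S, hS⟩ := hc.map B e
  refine hasPieces_congr B.hyp e ?_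
  obtain ⟨g, hg⟩ := su5_conj ho hF S (B'.hyp.zz_mul hK) (B'.hyp.zz_ne hK) hS (B'.hyp.le_centralizer hK)
    (B'.hyp.sub K hK) (oneInv_of_ty (B'.ty K hK)) (nonComm_of_ty (B'.ty K hK))
  refine leaf_hasPieces (su_leaf3 ho hF) (KK hF).subtype B' ⟨K, hK, g, hg⟩ fun h1 h2 => ?_
  rw [D1_su] at h1
  simp only [D1_su] at h2
  obtain ⟨p, hp, c, hc⟩ := exists_chart_su ho hF (N := 5) (m := 2) (by norm_num) (by norm_num)
    (Or.inr rfl) _ B'.hyp.conj (r := (ee 3).symm (Sum.inl 0)) (s := (ee 3).symm (Sum.inl 1)) rfl rfl h1 h2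
  exact ⟨p, hp, c, .C 2, hc, (by show 1 ≤ 2; norm_num), 
    fun _ => lie_psu ho hp hF (by norm_num), Or.inr ⟨2, rfl⟩⟩

end Final

/-! ### forms for the branches -/

section Branches

variable {G : Type*} [Group G] [Finite G] {Om : Set (Subgroup G)}

theorem twoCen_of_one (h : One Om) (hne : Om.Nonempty) : TwoCen Om := by
  obtain ⟨K, hK⟩ := hne
  obtain ⟨S, hKS, -⟩ := h.hyp.exists_sylow hK
  exact twoCen_of_eq h.hyp S hKS fun J hJ => by rw [h.one _ S.isPGroup' J hJ K hKS]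

theorem sqCen_of_card (hOm : Hyp Om) (hne : Om.Nonempty) (h : Branches.Card Om 2) : SqCen Om := by
  obtain ⟨K, hK⟩ := hne
  obtain ⟨S, hKS, -⟩ := hOm.exists_sylow hK
  exact sqCen_of_two hOm S hKS (h S).le

variable {F : Type} [Field F] [Fintype F] (ho : Odd (Fintype.card F)) {q : ℕ}
include ho

/-- **`|Om(S)| = 2`**, `PSL₅` -/
theorem two_psl5 (h : MinS Om) (h1 : Branches.Card Om 2) (e : G ≃* ProjectiveSpecialLinearGroup (Fin 5) F) :
    HasPieces Om :=
  psl5 ho (base_of_minS h) (sqCen_of_card h.hyp h.ne h1) e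

/-- **`|Om(S)| = 2`**, `PSU₅` -/
theorem two_psu5 (h : MinS Om) (h1 : Branches.Card Om 2) (hF : Fintype.card F = q ^ 2) (e : G ≃* PSU 5 F q) :
    HasPieces Om :=
  psu5 ho hF (base_of_minS h) (sqCen_of_card h.hyp h.ne h1) e

end Branches

end Cfsg.Agent.Cit.LongLeafEnd
end

private theorem dce_a646fde9cf1f : _root_.True := by
  try have : _root_.True := by simp only [_root_.Cfsg.Agent.Cit.LongInst.suRep.congr_simp]
  exact _root_.True.intro
end
end
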