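import Cfsg.Agent.Cit.WeakCl
import Cfsg.Agent.SignalizersComponents.CoprimeBasic
import Cfsg.Agent.SignalizersComponents.CoprimeGen
import Cfsg.Agent.SignalizersComponents.SolFunctorTwo
import Cfsg.Agent.Cit.LemmaB
import Cfsg.Agent.Cit.OneBasic
import Cfsg.Agent.Cit.OneEndSD_m3
import Cfsg.Agent.Lib.KleinGen
import Cfsg.Agent.Cit.OneComp_m3
import Cfsg.Agent.Lib.NormalAbelian
import Cfsg.Agent.Lib.SylowNormalInf
import Cfsg.Agent.Cit.TyTrans_m3
import Cfsg.Agent.Cit.Commute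
import Mathlib
import Cfsg.Agent.Lib.CoprimeCommutator
import Cfsg.Agent.Lib.CoprimeAbelian
import Cfsg.Agent.SignalizersComponents.CoprimeFix
import Cfsg.Agent.SignalizersComponents.GoldschmidtGen
import Cfsg.Agent.SignalizersComponents.MinCounterBasic
import Cfsg.Agent.FastGrp
import Cfsg.Agent.Prune
set_option linter.all false

section
prune_inst 0x7ffcfefaaffc8ddfffff7e7ffefddffe18d4dfffffdffb43fffde9ffcfdf03eb3be5fb8f9de458ff8ef7e2b630b87813f97eca3fef6bdc7ffffd5ff41ffbee1fe5ffb78911d498341ffc6fff9bf17fffffffffffffffffffffffffffffffffffffffffffffff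

-- part: Cit/CoresClose
section
prune_inst 0x101000130000000018001020001e5292000002004b8000216003020e804c41a0470621b870071001108cf4603e8048131000090230000020008e00411801a0048366e2b27cbc0031000640e800000000000000000000000000000000000000000000000
set_option linter.all false
open scoped Cfsg.Agent.FastGrp

/-!
# Closing the signalizer argument for the cores (COROLLARY E)

`XX a = O(C(a))`, `Del B = ⋂ XX b` (`b ∈ B`, `b ≠ 1`), `EE Om S = ⟨z_K : K ∈ Om(S)⟩`,
`DE E = ⟨Del B, ⁅XX b, E⁆⟩` (`B ≤ E` a four-group, `b ∈ E`, `b ≠ 1`).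

`FOut A D`: the output of THEOREM F for the elementary abelian 2-group `A`.
-/

set_option autoImplicit false
set_option linter.style.haveILetI false

namespace Cfsg.Agent.Cit

open Subgroup Cfsg

variable {G : Type*} [Group G]

/-! ### Generalities on `cj` -/

theorem cj_closure (g : G) (s : Set G) :
    cj g (closure s) = closure ((fun x => g * x * g⁻¹) '' s) := by
  rw [cj_def, MonoidHom.map_closure]; rfl

theorem cj_iSup {ι : Sort*} (g : G) (F : ι → Subgroup G) : cj g (⨆ i, F i) = ⨆ i, cj g (F i) :=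
  Subgroup.map_iSup _ _

theorem cj_le_of_mem_normalizer {g : G} {D : Subgroup G} (h : g ∈ normalizer (D : Set G)) : cj g D = D :=
  mem_normalizer_iff_cj.1 h

/-! ### `X_a` -/

/-- `X_a = O(C_G(a))` -/
def XX (a : G) : Subgroup G := OO (centralizer {a})

theorem XX_le (a : G) : XX a ≤ centralizer {a} := OO_le _

theorem cj_XX (g a : G) : cj g (XX a) = XX (g * a * g⁻¹) := by
  rw [XX, XX, ← cj_centralizer, OO_cj]

theorem odd_XX [Finite G] (a : G) : ¬ 2 ∣ Nat.card (XX a) := odd_OO _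

theorem centralizer_le_normalizer_XX (a : G) : centralizer {a} ≤ normalizer (XX a : Set G) :=
  le_normalizer_OO _

/-! ### `Δ_B` and `D(E)` -/

/-- `Δ_B = ⋂ X_b`, `b ∈ B`, `b ≠ 1` -/
def Del (B : Subgroup G) : Subgroup G := ⨅ (b : G) (_ : b ∈ B ∧ b ≠ 1), XX b

theorem mem_Del {B : Subgroup G} {x : G} : x ∈ Del B ↔ ∀ b ∈ B, b ≠ 1 → x ∈ XX b := by
  simp only [Del, mem_iInf, and_imp]

theorem Del_le {B : Subgroup G} {b : G} (hb : b ∈ B) (h1 : b ≠ 1) : Del B ≤ XX b :=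
  fun _ hx => mem_Del.1 hx b hb h1

theorem conj_ne_one {g b : G} (h : b ≠ 1) : g * b * g⁻¹ ≠ 1 := fun h1 => h (conj_eq_one_iff.1 h1)

theorem cj_Del (g : G) (B : Subgroup G) : cj g (Del B) = Del (cj g B) := by
  ext x
  rw [mem_cj, mem_Del, mem_Del]
  constructor
  · intro h b hb hb1
    have h2 := h _ (mem_cj.1 hb) (by simpa using conj_ne_one (g := g⁻¹) hb1)
    have h3 : b = g * (g⁻¹ * b * g) * g⁻¹ := by group
    rw [h3, ← cj_XX, mem_cj]
    exact h2
  · intro h b hb hb1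
    have h2 := h _ (conj_mem_cj (g := g) hb) (conj_ne_one hb1)
    rw [← cj_XX, mem_cj] at h2
    exact h2

/-- `D(E)` in terms of `E` -/
def DE (E : Subgroup G) : Subgroup G :=
  (⨆ (B : Subgroup G) (_ : B ≤ E ∧ Nat.card B = 4), Del B) ⊔ ⨆ (b : G) (_ : b ∈ E ∧ b ≠ 1), ⁅XX b, E⁆

theorem Del_le_DE {E B : Subgroup G} (h : B ≤ E) (h4 : Nat.card B = 4) : Del B ≤ DE E :=
  le_sup_of_le_left (le_iSup₂ (f := fun (B : Subgroup G) (_ : B ≤ E ∧ Nat.card B = 4) => Del B) B ⟨h, h4⟩)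

theorem commutator_le_DE {E : Subgroup G} {b : G} (hb : b ∈ E) (h1 : b ≠ 1) : ⁅XX b, E⁆ ≤ DE E :=
  le_sup_of_le_right (le_iSup₂ (f := fun (b : G) (_ : b ∈ E ∧ b ≠ 1) => ⁅XX b, E⁆) b ⟨hb, h1⟩)

theorem DE_le_iff {E H : Subgroup G} : DE E ≤ H ↔
    (∀ B ≤ E, Nat.card B = 4 → Del B ≤ H) ∧ ∀ b ∈ E, b ≠ 1 → ⁅XX b, E⁆ ≤ H := by
  rw [DE, sup_le_iff, iSup₂_le_iff, iSup₂_le_iff]
  constructor
  · exact fun h => ⟨fun B hB h4 => h.1 B ⟨hB, h4⟩, fun b hb h1 => h.2 b ⟨hb, h1⟩⟩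
  · exact fun h => ⟨fun B hB => h.1 B hB.1 hB.2, fun b hb => h.2 b hb.1 hb.2⟩

theorem cj_DE (g : G) (E : Subgroup G) : cj g (DE E) = DE (cj g E) := by
  have key : ∀ (g : G) (E : Subgroup G), DE (cj g E) ≤ cj g (DE E) := by
    intro g E
    rw [DE_le_iff]
    constructor
    · intro B hB h4
      have h1 : cj g⁻¹ B ≤ E := by
        have := cj_mono g⁻¹ hB
        rwa [cj_inv_cj] at this
      have h2 := cj_mono g (Del_le_DE h1 (by rw [card_cj, h4]))
      rwa [cj_Del, cj_cj_inv] at h2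
    · intro b hb hb1
      have h2 := cj_mono g (commutator_le_DE (mem_cj.1 hb) (by simpa using conj_ne_one (g := g⁻¹) hb1))
      rw [cj_commutator, cj_XX] at h2
      have h3 : g * (g⁻¹ * b * g) * g⁻¹ = b := by group
      rwa [h3] at h2
  refine le_antisymm ?_ (key g E)
  have h1 := cj_mono g (key g⁻¹ (cj g E))
  rwa [cj_cj_inv, cj_inv_cj] at h1

theorem normalizer_le_normalizer_DE (E : Subgroup G) :
    normalizer (E : Set G) ≤ normalizer (DE E : Set G) := by
  intro g hg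
  rw [mem_normalizer_iff_cj, cj_DE, mem_normalizer_iff_cj.1 hg]

/-! ### The output of THEOREM F -/

/-- the output of THEOREM F -/
structure FOut (A D : Subgroup G) : Prop where
  odd : ¬ 2 ∣ Nat.card D
  del_le : ∀ B ≤ A, Nat.card B = 4 → Del B ≤ D
  comm_le : ∀ a ∈ A, a ≠ 1 → ⁅XX a, A⁆ ≤ D
  gen : ∀ B ≤ A, Nat.card B = 4 → D ≤ Del B ⊔ ⨆ (b : G) (_ : b ∈ B ∧ b ≠ 1), ⁅XX b, B⁆
  nor : ∀ a ∈ A, a ≠ 1 → XX a ≤ normalizer (D : Set G)

namespace FOut

variable {A D E : Subgroup G}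

/-- `D` is determined by every subgroup `E ≤ A` containing a four-group -/
theorem eq_DE (h : FOut A D) (hE : E ≤ A) {B : Subgroup G} (hB : B ≤ E) (h4 : Nat.card B = 4) : D = DE E := by
  apply le_antisymm
  · refine (h.gen B (hB.trans hE) h4).trans (sup_le (Del_le_DE hB h4) (iSup₂_le ?_))
    rintro b ⟨hb, hb1⟩
    exact (commutator_mono le_rfl hB).trans (commutator_le_DE (hB hb) hb1)
  · rw [DE_le_iff]
    exact ⟨fun B' hB' h4' => h.del_le B' (hB'.trans hE) h4', fun b hb hb1 =>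
      (commutator_mono le_rfl hE).trans (h.comm_le b (hE hb) hb1)⟩

/-- normalisers of subgroups containing a four-group -/
theorem normalizer_le (h : FOut A D) (hE : E ≤ A) {B : Subgroup G} (hB : B ≤ E) (h4 : Nat.card B = 4) :
    normalizer (E : Set G) ≤ normalizer (D : Set G) := by
  have h1 := h.eq_DE hE hB h4
  rw [h1]
  exact normalizer_le_normalizer_DE E

end FOut

/-! ### The four-group generated by two commuting involutions -/

/-- the four-group `{1, s, b, s b}` -/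
def four (s b : G) (hs : s * s = 1) (hb : b * b = 1) (hc : s * b = b * s) : Subgroup G where
  carrier := {x | x = 1 ∨ x = s ∨ x = b ∨ x = s * b}
  one_mem' := Or.inl rfl
  mul_mem' := by
    have h1 : s * (s * b) = b := by rw [← mul_assoc, hs, one_mul]
    have h2 : b * (s * b) = s := by rw [hc, ← mul_assoc, hb, one_mul]
    have h3 : s * b * s = b := by rw [hc, mul_assoc, hs, mul_one]
    have h4 : s * b * b = s := by rw [mul_assoc, hb, mul_one]
    have h5 : s * b * (s * b) = 1 := by rw [← mul_assoc, h3, hb]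
    rintro x y (rfl | rfl | rfl | rfl) (rfl | rfl | rfl | rfl) <;>
      simp [hs, hb, h1, h2, h3, h4, h5, hc.symm]
  inv_mem' := by
    have h1 : s⁻¹ = s := inv_eq_of_mul_eq_one_right hs
    have h2 : b⁻¹ = b := inv_eq_of_mul_eq_one_right hb
    have h3 : (s * b)⁻¹ = s * b := by rw [mul_inv_rev, h1, h2, hc]
    rintro x (rfl | rfl | rfl | rfl)
    · simp
    · simp [h1]
    · simp [h2]
    · show (s * b)⁻¹ = 1 ∨ _; rw [h3]; simp

theorem mem_four {s b x : G} {hs : s * s = 1} {hb : b * b = 1} {hc : s * b = b * s} :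
    x ∈ four s b hs hb hc ↔ x = 1 ∨ x = s ∨ x = b ∨ x = s * b := Iff.rfl

theorem card_four {s b : G} {hs : s * s = 1} {hb : b * b = 1} {hc : s * b = b * s}
    (hs1 : s ≠ 1) (hb1 : b ≠ 1) (hsb : b ≠ s) : Nat.card (four s b hs hb hc) = 4 := by
  classical
  have h1 : (four s b hs hb hc : Set G) = (({1, s, b, s * b} : Finset G) : Set G) := by
    ext x
    simp only [SetLike.mem_coe, mem_four, Finset.coe_insert, Finset.coe_singleton, Set.mem_insert_iff,
      Set.mem_singleton_iff]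
  have h2 : s * b ≠ 1 := fun h => hsb (by
    have : b = s⁻¹ := eq_inv_of_mul_eq_one_right h
    rw [this]; exact inv_eq_of_mul_eq_one_right hs)
  have h3 : s * b ≠ s := fun h => hb1 (mul_eq_left.1 h)
  have h4 : s * b ≠ b := fun h => hs1 (mul_eq_right.1 h)
  have h5 : Nat.card (four s b hs hb hc) = ({1, s, b, s * b} : Finset G).card := by
    rw [← Set.ncard_coe_finset, ← h1]; rfl
  rw [h5, Finset.card_insert_of_notMem, Finset.card_insert_of_notMem, Finset.card_insert_of_notMem,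
    Finset.card_singleton]
  · simpa using h4.symm
  · simp only [Finset.mem_insert, Finset.mem_singleton, not_or]
    exact ⟨hsb.symm, h3.symm⟩
  · simp only [Finset.mem_insert, Finset.mem_singleton, not_or]
    exact ⟨hs1.symm, hb1.symm, h2.symm⟩

namespace FOut

variable {A D E : Subgroup G}

/-- two commuting involutions of `A` : the intersection of the centralisers normalises `D` -/
theorem centralizer_le (h : FOut A D) (hA2 : ∀ a ∈ A, a * a = 1) (hAc : ∀ a ∈ A, ∀ b ∈ A, a * b = b * a)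
    {s b : G} (hs : s ∈ A) (hb : b ∈ A) (hs1 : s ≠ 1) (hb1 : b ≠ 1) (hsb : b ≠ s) :
    centralizer {s} ⊓ centralizer {b} ≤ normalizer (D : Set G) := by
  have h4 := card_four (hs := hA2 s hs) (hb := hA2 b hb) (hc := hAc s hs b hb) hs1 hb1 hsb
  have hle : four s b (hA2 s hs) (hA2 b hb) (hAc s hs b hb) ≤ A := by
    rintro x (rfl | rfl | rfl | rfl)
    · exact A.one_mem
    · exact hs
    · exact hb
    · exact A.mul_mem hs hb
  refine le_trans ?_ (h.normalizer_le hle le_rfl h4)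
  rintro g ⟨hg1, hg2⟩
  have e1 := mem_centralizer_singleton_iff.1 hg1
  have e2 := mem_centralizer_singleton_iff.1 hg2
  rw [mem_normalizer_iff_cj]
  have key : ∀ x ∈ four s b (hA2 s hs) (hA2 b hb) (hAc s hs b hb), g * x = x * g := by
    rintro x (rfl | rfl | rfl | rfl)
    · simp
    · exact e1
    · exact e2
    · rw [← mul_assoc, e1, mul_assoc, e2, mul_assoc]
  ext x
  rw [mem_cj]
  constructor
  · intro hx
    have h5 := key _ hx
    have h6 : x = g⁻¹ * x * g := by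
      have h7 : x * g = g * (g⁻¹ * x * g) := by group
      rw [h5] at h7
      exact mul_right_cancel h7
    rw [h6]; exact hx
  · intro hx
    have h5 := key _ hx
    have h6 : g⁻¹ * x * g = x := by rw [mul_assoc, ← h5]; group
    rw [h6]; exact hx

end FOut

/-! ### `E(S)` -/

section ES

variable {Om : Set (Subgroup G)} {S T : Subgroup G}

/-- `E(S) = ⟨z_K : K ∈ Om(S)⟩` -/
def ES (Om : Set (Subgroup G)) (S : Subgroup G) : Subgroup G := closure (zz '' OmS Om S)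

theorem zz_mem_ES {K : Subgroup G} (hK : K ∈ OmS Om S) : zz K ∈ ES Om S :=
  subset_closure ⟨K, hK, rfl⟩

theorem ES_le_iff {H : Subgroup G} : ES Om S ≤ H ↔ ∀ K ∈ OmS Om S, zz K ∈ H := by
  rw [ES, closure_le, Set.image_subset_iff]; rfl

theorem ES_eq_of_OmS_eq (h : OmS Om T = OmS Om S) : ES Om T = ES Om S := by rw [ES, ES, h]

theorem ES_le_DD [Finite G] (h : Hyp Om) (hS : IsPGroup 2 S) : ES Om S ≤ DD Om S :=
  ES_le_iff.2 fun _ hK => inf_le_DD hK (h.zz_mem_inf hS hK)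

theorem ES_le [Finite G] (h : Hyp Om) (hS : IsPGroup 2 S) : ES Om S ≤ S := (ES_le_DD h hS).trans DD_le

theorem cj_ES [Finite G] (h : Hyp Om) (g : G) : cj g (ES Om S) = ES Om (cj g S) := by
  have key : ∀ (g : G) (S : Subgroup G), ES Om (cj g S) ≤ cj g (ES Om S) := by
    intro g S
    rw [ES_le_iff]
    intro K hK
    have h1 : cj g⁻¹ K ∈ OmS Om S := by
      have := cj_mem_OmS h.conj g⁻¹ hK
      rwa [cj_inv_cj] at this
    rw [mem_cj]
    have h2 := zz_mem_ES h1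
    rwa [h.zz_cj hK.1, inv_inv] at h2
  refine le_antisymm ?_ (key g S)
  have h1 := cj_mono g (key g⁻¹ (cj g S))
  rwa [cj_cj_inv, cj_inv_cj] at h1

/-- `E(S)` is central in `D(S)` -/
theorem DD_le_centralizer_ES [Finite G] (h : Hyp Om) (hS : IsPGroup 2 S) :
    DD Om S ≤ centralizer (ES Om S : Set G) := by
  rw [le_centralizer_iff, ES_le_iff]
  intro K hK
  rw [mem_centralizer_iff]
  intro x hx
  exact mem_centralizer_singleton_iff.1 (h.DD_le_centralizer hS hK hx)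

theorem ES_comm [Finite G] (h : Hyp Om) (hS : IsPGroup 2 S) {a b : G} (ha : a ∈ ES Om S)
    (hb : b ∈ ES Om S) : a * b = b * a :=
  ((mem_centralizer_iff.1 (DD_le_centralizer_ES h hS (ES_le_DD h hS ha))) b hb).symm

theorem ES_sq [Finite G] (h : Hyp Om) (hS : IsPGroup 2 S) {a : G} (ha : a ∈ ES Om S) : a * a = 1 := by
  have key : ES Om S ≤ ⟨⟨⟨{x | x ∈ ES Om S ∧ x * x = 1}, by
      rintro x y ⟨hx, hx2⟩ ⟨hy, hy2⟩
      refine ⟨mul_mem hx hy, ?_⟩
      calc x * y * (x * y) = x * (y * x) * y := by group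
        _ = x * (x * y) * y := by rw [ES_comm h hS hy hx]
        _ = (x * x) * (y * y) := by group
        _ = 1 := by rw [hx2, hy2, one_mul]⟩, ⟨one_mem _, one_mul 1⟩⟩, by
      rintro x ⟨hx, hx2⟩
      refine ⟨inv_mem hx, ?_⟩
      rw [← mul_inv_rev, hx2, inv_one]⟩ := by
    rw [ES_le_iff]
    intro K hK
    exact ⟨zz_mem_ES hK, h.zz_mul hK.1⟩
  exact (key ha).2

/-- the normaliser of `D(S)` normalises `E(S)` -/
theorem normalizer_DD_le [Finite G] (h : Hyp Om) (hS : IsPGroup 2 S) :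
    normalizer (DD Om S : Set G) ≤ normalizer (ES Om S : Set G) := by
  intro g hg
  rw [mem_normalizer_iff_cj] at hg ⊢
  rw [← ES_eq_of_OmS_eq (OmS_DD hS), cj_ES h, hg]

end ES

/-! ### Frattini -/

/-- Frattini argument for the weakly closed subgroup `D(S)` -/
theorem frattini_DD [Finite G] {Om : Set (Subgroup G)} (h : Hyp Om) (S : Sylow 2 G) {C L : Subgroup G}
    (hn : C ≤ normalizer (L : Set G)) (hD : DD Om (S : Subgroup G) ≤ L) {g : G} (hg : g ∈ C) :
    ∃ l ∈ L, l * g ∈ normalizer (DD Om (S : Subgroup G) : Set G) := by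
  have hD2 : IsPGroup 2 (DD Om (S : Subgroup G)) := S.isPGroup'.to_le DD_le
  obtain ⟨T, hT, hDT⟩ := exists_syl_ge hD2 hD
  have h1 : Syl (cj g T) L := by
    have := hT.cj g
    rwa [mem_normalizer_iff_cj.1 (hn hg)] at this
  obtain ⟨l, hl, hlT⟩ := h1.exists_conj hT
  refine ⟨l, hl, ?_⟩
  rw [mem_normalizer_iff_cj]
  have h2 : DD Om T = DD Om (S : Subgroup G) := h.DD_eq S hT.2.1 hDT
  rw [← h2, cj_DD h.conj, cj_mul, hlT]

/-! ### The closing theorem -/

/-- adjacency in the commuting graph of `Om` -/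
def Adj (Om : Set (Subgroup G)) (K L : Subgroup G) : Prop :=
  ∃ S : Sylow 2 G, K ∈ OmS Om (S : Subgroup G) ∧ L ∈ OmS Om (S : Subgroup G)

/-- **generation of `C(s)` inside `N(D)`** -/
theorem FOut.centralizer_le_of_gen [Finite G] {Om : Set (Subgroup G)} (h : Hyp Om) (S : Sylow 2 G)
    {A D : Subgroup G} (hF : FOut A D) (hA2 : ∀ a ∈ A, a * a = 1)
    (hAc : ∀ a ∈ A, ∀ b ∈ A, a * b = b * a)
    (hN : normalizer (DD Om (S : Subgroup G) : Set G) ≤ normalizer (D : Set G))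
    {s : G} (hs : s ∈ A) (hs1 : s ≠ 1) {L : Subgroup G}
    (hn : centralizer {s} ≤ normalizer (L : Set G)) (hD : DD Om (S : Subgroup G) ≤ L)
    (hL : L ≤ XX s ⊔ ⨆ (b : G) (_ : b ∈ A ∧ b ≠ 1 ∧ b ≠ s), centralizer {s} ⊓ centralizer {b}) :
    centralizer {s} ≤ normalizer (D : Set G) := by
  have h1 : L ≤ normalizer (D : Set G) := by
    refine hL.trans (sup_le (hF.nor s hs hs1) (iSup₂_le ?_))
    rintro b ⟨hb, hb1, hbs⟩
    exact hF.centralizer_le hA2 hAc hs hb hs1 hb1 hbs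
  intro g hg
  obtain ⟨l, hl, hlg⟩ := frattini_DD h S hn hD hg
  have h2 : g = l⁻¹ * (l * g) := by group
  rw [h2]
  exact mul_mem (inv_mem (h1 hl)) (hN hlg)

/-- **constancy on the components of the commuting graph**: `F` a function on Sylow subgroups (given as a
function on all subgroups), compatible with conjugation, with `C(z_K) ≤ N(F S)` for `K ∈ Om(S)`, depending only on
`D(S)` -/
theorem const_of_adj [Finite G] {Om : Set (Subgroup G)} (h : Hyp Om) (F : Subgroup G → Subgroup G)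
    (hF : ∀ (g : G) (S : Sylow 2 G), F (cj g (DD Om (S : Subgroup G))) = cj g (F (DD Om (S : Subgroup G))))
    (hC : ∀ (S : Sylow 2 G), ∀ K ∈ OmS Om (S : Subgroup G),
      centralizer {zz K} ≤ normalizer (F (DD Om (S : Subgroup G)) : Set G))
    (S S' : Sylow 2 G) {K : Subgroup G} (hK : K ∈ OmS Om (S : Subgroup G)) (hK' : K ∈ OmS Om (S' : Subgroup G)) :
    F (DD Om (S : Subgroup G)) = F (DD Om (S' : Subgroup G)) := by
  obtain ⟨x, hx, hx2⟩ := DD_conj_of_common h S S' hK hK'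
  rw [← hx2, hF, mem_normalizer_iff_cj.1 (hC S K hK hx)]

/-- if the commuting graph is connected, `F(S)` is the same for all `S` -/
theorem const_of_connected [Finite G] {Om : Set (Subgroup G)} (h : Hyp Om) (F : Subgroup G → Subgroup G)
    (hF : ∀ (g : G) (S : Sylow 2 G), F (cj g (DD Om (S : Subgroup G))) = cj g (F (DD Om (S : Subgroup G))))
    (hC : ∀ (S : Sylow 2 G), ∀ K ∈ OmS Om (S : Subgroup G),
      centralizer {zz K} ≤ normalizer (F (DD Om (S : Subgroup G)) : Set G))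
    (hne : Om.Nonempty) (hcon : ∀ K ∈ Om, ∀ L ∈ Om, Relation.ReflTransGen (Adj Om) K L) (S S' : Sylow 2 G) :
    F (DD Om (S : Subgroup G)) = F (DD Om (S' : Subgroup G)) := by
  obtain ⟨K, hK⟩ := h.OmS_nonempty S hne
  obtain ⟨L, hL⟩ := h.OmS_nonempty S' hne
  have key : ∀ L, Relation.ReflTransGen (Adj Om) K L → ∀ S' : Sylow 2 G, L ∈ OmS Om (S' : Subgroup G) →
      F (DD Om (S : Subgroup G)) = F (DD Om (S' : Subgroup G)) := by
    intro L hKL
    induction hKL with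
    | refl => exact fun S' hS' => const_of_adj h F hF hC S S' hK hS'
    | tail _ hadj ih =>
      intro S' hS'
      obtain ⟨S₁, h1, h2⟩ := hadj
      exact (ih S₁ h1).trans (const_of_adj h F hF hC S₁ S' h2 hS')
  exact key L (hcon K hK.1 L hL.1) S' hL

/-- if the commuting graph is connected, `F(S)` is normal in `G` -/
theorem normal_of_connected [Finite G] {Om : Set (Subgroup G)} (h : Hyp Om) (F : Subgroup G → Subgroup G)
    (hF : ∀ (g : G) (S : Sylow 2 G), F (cj g (DD Om (S : Subgroup G))) = cj g (F (DD Om (S : Subgroup G))))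
    (hC : ∀ (S : Sylow 2 G), ∀ K ∈ OmS Om (S : Subgroup G),
      centralizer {zz K} ≤ normalizer (F (DD Om (S : Subgroup G)) : Set G))
    (hne : Om.Nonempty) (hcon : ∀ K ∈ Om, ∀ L ∈ Om, Relation.ReflTransGen (Adj Om) K L) (S : Sylow 2 G) :
    (F (DD Om (S : Subgroup G))).Normal := by
  rw [← normalizer_eq_top_iff, eq_top_iff]
  intro g _
  rw [mem_normalizer_iff_cj, ← hF]
  haveI : Fact (Nat.Prime 2) := ⟨Nat.prime_two⟩
  have h1 : cj g (DD Om (S : Subgroup G)) = DD Om ((g • S : Sylow 2 G) : Subgroup G) := cj_DD h.conj g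
  rw [h1]
  exact (const_of_connected h F hF hC hne hcon S (g • S)).symm

/-- the data of COROLLARY E for a Sylow 2-subgroup `S`: `E(S) ≤ A`, `|E(S)| ≥ 4`, the output `D` of THEOREM F for
`A`, and the generation of `C(z_K)` -/
structure CData (Om : Set (Subgroup G)) (S A D : Subgroup G) : Prop where
  out : FOut A D
  sq : ∀ a ∈ A, a * a = 1
  comm : ∀ a ∈ A, ∀ b ∈ A, a * b = b * a
  le : ES Om S ≤ A
  four : ∃ B ≤ ES Om S, Nat.card B = 4
  gen : ∀ K ∈ OmS Om S, ∃ L : Subgroup G, centralizer {zz K} ≤ normalizer (L : Set G) ∧ DD Om S ≤ L ∧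
    L ≤ XX (zz K) ⊔ ⨆ (b : G) (_ : b ∈ A ∧ b ≠ 1 ∧ b ≠ zz K), centralizer {zz K} ⊓ centralizer {b}

theorem CData.eq_DE {Om : Set (Subgroup G)} {S A D : Subgroup G} (d : CData Om S A D) : D = DE (ES Om S) := by
  obtain ⟨B, hB, h4⟩ := d.four
  exact d.out.eq_DE d.le hB h4

theorem CData.normalizer_le [Finite G] {Om : Set (Subgroup G)} (h : Hyp Om) (S : Sylow 2 G) {A D : Subgroup G}
    (d : CData Om (S : Subgroup G) A D) :
    normalizer (DD Om (S : Subgroup G) : Set G) ≤ normalizer (D : Set G) := by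
  obtain ⟨B, hB, h4⟩ := d.four
  exact (normalizer_DD_le h S.isPGroup').trans (d.out.normalizer_le d.le hB h4)

theorem CData.centralizer_le [Finite G] {Om : Set (Subgroup G)} (h : Hyp Om) (S : Sylow 2 G) {A D : Subgroup G}
    (d : CData Om (S : Subgroup G) A D) {K : Subgroup G} (hK : K ∈ OmS Om (S : Subgroup G)) :
    centralizer {zz K} ≤ normalizer (D : Set G) := by
  obtain ⟨L, h1, h2, h3⟩ := d.gen K hK
  exact d.out.centralizer_le_of_gen h S d.sq d.comm (d.normalizer_le h S) (d.le (zz_mem_ES hK))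
    (h.zz_ne hK.1) h1 h2 h3

/-- **COROLLARY E, closing**: if the commuting graph of `Om` is connected and `G` has no non-trivial normal
subgroups of odd order then `D = 1` -/
theorem CData.eq_bot [Finite G] {Om : Set (Subgroup G)} (h : Hyp Om) (hne : Om.Nonempty)
    (hcon : ∀ K ∈ Om, ∀ L ∈ Om, Relation.ReflTransGen (Adj Om) K L)
    (hO : ∀ N : Subgroup G, N.Normal → ¬ 2 ∣ Nat.card N → N = ⊥)
    (A D : Sylow 2 G → Subgroup G) (d : ∀ S : Sylow 2 G, CData Om (S : Subgroup G) (A S) (D S))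
    (S : Sylow 2 G) : D S = ⊥ := by
  have hES : ∀ S : Sylow 2 G, ES Om (DD Om (S : Subgroup G)) = ES Om (S : Subgroup G) := fun S =>
    ES_eq_of_OmS_eq (OmS_DD S.isPGroup')
  have hD : ∀ S : Sylow 2 G, DE (ES Om (DD Om (S : Subgroup G))) = D S := fun S => by
    rw [hES, ← (d S).eq_DE]
  refine hO _ ?_ (d S).out.odd
  have h1 := normal_of_connected h (fun P => DE (ES Om P)) (fun g S => by
    show DE (ES Om (cj g _)) = _
    rw [← cj_ES h, cj_DE]) (fun S K hK => by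
    show _ ≤ normalizer ((DE (ES Om (DD Om (S : Subgroup G))) : Subgroup G) : Set G)
    rw [hD]
    exact (d S).centralizer_le h S hK) hne hcon S
  rwa [hD] at h1

end Cfsg.Agent.Cit

private theorem dce_c5a697c96c2d : _root_.True := by
  try have : _root_.True := by simp only [_root_.Cfsg.Agent.Cit.DE.eq_1]
  try have : _root_.True := by simp only [_root_.Cfsg.Agent.Cit.Del.eq_1]
  try have : _root_.True := by simp only [_root_.Cfsg.Agent.Cit.XX.eq_1]
  try have : _root_.True := by simp only [_root_.Cfsg.Agent.Cit.four.congr_simp]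
  try have : _root_.True := by simp only [_root_.Cfsg.Agent.Cit.ES.eq_1]
  exact _root_.True.intro
end

-- part: Cit/TorFunctor
section
prune_inst 0x10000322000000000010000002301000000000408000216003020a004040800200000800051000008880000400081200000000100000000004000000012000824600b27c0c00200006002000000000000000000000000000000000000000000000000
set_option linter.all false
open scoped Cfsg.Agent.FastGrp

/-!
# THEOREM F (helper533, bb #5967): balance modulo a torus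

`XX a = O(C_G(a))`, `Del B = ⨅ b ∈ B#, XX b`. For an elementary abelian 2-subgroup `A` of order at least 8
with

* (TOR) `⁅XX a ⊓ C(b), A⁆ ≤ XX b` for `a, b ∈ A#`,
* (2B) `Del B ⊓ C(A) ≤ XX s` for every four-group `B ≤ A` and `s ∈ A#`,

the group `DF A` generated by the `Del B`, `B` a four-subgroup of `A`, has odd order, `C_D(B) = Del B`,
`C_D(a) = ⁅XX a, B⁆ Del B ≤ XX a` for `a ∈ B#`, it is normalised by the normalisers of all four-subgroups of
`A` and by all `XX a`, and contains `⁅XX a, A⁆`.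
-/

set_option autoImplicit false
set_option linter.style.haveILetI false

namespace Cfsg.Agent.Cit.TorFunctor

open Subgroup Cfsg
open scoped commutatorElement
open Cfsg.Agent.Lib.CoprimeCommutator
open Cfsg.Agent.SignalizersComponents.CoprimeGen
open Cfsg.Agent.SignalizersComponents.CoprimeBasic (mem_sup_iff card_sup_dvd)
open Cfsg.Agent.SignalizersComponents.GoldschmidtGen (le_normalizer_of_conj_mem
  conj_mem_of_le_normalizer le_normalizer_commutator le_normalizer_inf_centralizer le_normalizer_sup)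

variable {G : Type*} [Group G]

/-! ### General tools -/

theorem commutator_mono_left {X Y Z : Subgroup G} (h : X ≤ Y) : ⁅X, Z⁆ ≤ ⁅Y, Z⁆ := commutator_mono h le_rfl

theorem centralizer_le_singleton {A : Subgroup G} {a : G} (ha : a ∈ A) :
    centralizer (A : Set G) ≤ centralizer {a} :=
  centralizer_le (Set.singleton_subset_iff.2 ha)

theorem not_two_dvd_of_le [Finite G] {X Y : Subgroup G} (h : X ≤ Y) (hY : ¬ 2 ∣ Nat.card Y) :
    ¬ 2 ∣ Nat.card X := fun h2 => hY (h2.trans (card_dvd_of_le h))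

/-- `X = ⁅X, E⁆ C_X(E)` for a 2-group `E` acting on a group `X` of odd order. -/
theorem le_commutator_sup [Finite G] {E X : Subgroup G} (hE : IsPGroup 2 E) (hX : ¬ 2 ∣ Nat.card X)
    (hn : E ≤ normalizer (X : Set G)) : X ≤ ⁅X, E⁆ ⊔ (X ⊓ centralizer (E : Set G)) := by
  haveI : Fact (Nat.Prime 2) := ⟨Nat.prime_two⟩
  intro x hx
  obtain ⟨m, hm, c, hc, rfl⟩ := exists_commutator_mul_fixed_of_isPGroup 2 E X hE hn hX x hx
  exact mul_mem (mem_sup_left hm) (mem_sup_right hc)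

theorem coprime_of_isPGroup [Finite G] {E X : Subgroup G} (hE : IsPGroup 2 E) (hX : ¬ 2 ∣ Nat.card X) :
    (Nat.card E).Coprime (Nat.card X) := by
  haveI : Fact (Nat.Prime 2) := ⟨Nat.prime_two⟩
  obtain ⟨k, hk⟩ := IsPGroup.iff_card.1 hE
  rw [hk]
  exact Nat.Coprime.pow_left k ((Nat.Prime.coprime_iff_not_dvd Nat.prime_two).2 hX)

/-- Dedekind's law. -/
theorem sup_inf_le {X U C : Subgroup G} (hn : U ≤ normalizer (X : Set G)) (hU : U ≤ C) :
    (X ⊔ U) ⊓ C ≤ (X ⊓ C) ⊔ U := by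
  rintro _ ⟨hg, hC⟩
  obtain ⟨x, hx, u, hu, rfl⟩ := (mem_sup_iff hn _).1 hg
  refine mul_mem (mem_sup_left ⟨hx, ?_⟩) (mem_sup_right hu)
  have := C.mul_mem hC (C.inv_mem (hU hu))
  simpa using this

/-- `⁅X U, A⁆ ≤ X` if `U` normalises `X` and centralises `A`, `A` normalises `X`. -/
theorem commutator_sup_le {X U A : Subgroup G} (hn : U ≤ normalizer (X : Set G))
    (hA : A ≤ normalizer (X : Set G)) (hU : U ≤ centralizer (A : Set G)) : ⁅X ⊔ U, A⁆ ≤ X := by
  rw [commutator_le]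
  intro g hg a ha
  obtain ⟨x, hx, u, hu, rfl⟩ := (mem_sup_iff hn _).1 hg
  have h1 : a * u = u * a := mem_centralizer_iff.1 (hU hu) a ha
  have h2 : ⁅x * u, a⁆ = x * (a * x⁻¹ * a⁻¹) := by
    calc ⁅x * u, a⁆ = x * (u * a) * u⁻¹ * x⁻¹ * a⁻¹ := by rw [commutatorElement_def]; group
      _ = x * (a * u) * u⁻¹ * x⁻¹ * a⁻¹ := by rw [h1]
      _ = x * (a * x⁻¹ * a⁻¹) := by group
  rw [h2]
  exact X.mul_mem hx (conj_mem_of_le_normalizer hA ha (X.inv_mem hx))

/-! ### The subgroups `Del B` -/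

theorem Dl_le_XX {B : Subgroup G} {b : G} (hb : b ∈ B) (hb1 : b ≠ 1) : Del B ≤ XX b := Del_le hb hb1

theorem le_Dl {B X : Subgroup G} (h : ∀ b ∈ B, b ≠ 1 → X ≤ XX b) : X ≤ Del B :=
  fun _ hx => mem_Del.2 fun b hb hb1 => h b hb hb1 hx

theorem Dl_anti {B C : Subgroup G} (h : B ≤ C) : Del C ≤ Del B :=
  le_Dl fun _ hb hb1 => Dl_le_XX (h hb) hb1

theorem Dl_le_centralizer (B : Subgroup G) : Del B ≤ centralizer (B : Set G) := by
  intro x hx
  rw [mem_centralizer_iff]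
  intro b hb
  by_cases hb1 : b = 1
  · subst hb1; simp
  · exact (mem_centralizer_singleton_iff.1 (XX_le b (Dl_le_XX hb hb1 hx))).symm

theorem normalizer_inf_le {A X Y : Subgroup G} (h : A ≤ normalizer (X : Set G))
    (h' : A ≤ normalizer (Y : Set G)) : A ≤ normalizer ((X ⊓ Y : Subgroup G) : Set G) := by
  apply le_normalizer_of_conj_mem
  intro a ha x hx
  exact ⟨conj_mem_of_le_normalizer h ha hx.1, conj_mem_of_le_normalizer h' ha hx.2⟩

/-- `C(B)` normalises `Del B`. -/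
theorem centralizer_le_normalizer_Dl (B : Subgroup G) :
    centralizer (B : Set G) ≤ normalizer (Del B : Set G) := by
  apply le_normalizer_of_conj_mem
  intro c hc x hx
  exact mem_Del.2 fun b hb hb1 => conj_mem_of_le_normalizer (centralizer_le_normalizer_XX b)
      (centralizer_le_singleton hb hc) (Dl_le_XX hb hb1 hx)

/-- the group `D(A)` of THEOREM F: generated by the `Del B`, `B ≤ A` a four-group -/
def DF (A : Subgroup G) : Subgroup G := ⨆ B : {B : Subgroup G // B ≤ A ∧ Nat.card B = 4}, Del B.1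

theorem Dl_le_DF' {A B : Subgroup G} (hB : B ≤ A) (h4 : Nat.card B = 4) : Del B ≤ DF A :=
  le_iSup (fun B : {B : Subgroup G // B ≤ A ∧ Nat.card B = 4} => Del B.1) ⟨B, hB, h4⟩

/-! ### The four-group generated by two commuting involutions -/

/-- the four-group `{1, s, t, st}` -/
def kl (s t : G) (hs : s * s = 1) (ht : t * t = 1) (hst : s * t = t * s) : Subgroup G where
  carrier := {x | x = 1 ∨ x = s ∨ x = t ∨ x = s * t}
  one_mem' := Or.inl rfl
  mul_mem' := by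
    have e1 : s * (s * t) = t := by rw [← mul_assoc, hs, one_mul]
    have e2 : t * (s * t) = s := by rw [hst, ← mul_assoc, ht, one_mul]
    have e3 : s * t * s = t := by rw [hst, mul_assoc, hs, mul_one]
    have e4 : s * t * t = s := by rw [mul_assoc, ht, mul_one]
    have e5 : s * t * (s * t) = 1 := by rw [mul_assoc, e2, hs]
    rintro a b (rfl | rfl | rfl | rfl) (rfl | rfl | rfl | rfl)
    · left; exact mul_one _
    · right; left; exact one_mul _
    · right; right; left; exact one_mul _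
    · right; right; right; exact one_mul _
    · right; left; exact mul_one _
    · left; exact hs
    · right; right; right; rfl
    · right; right; left; exact e1
    · right; right; left; exact mul_one _
    · right; right; right; exact hst.symm
    · left; exact ht
    · right; left; exact e2
    · right; right; right; exact mul_one _
    · right; right; left; exact e3
    · right; left; exact e4
    · left; exact e5
  inv_mem' := by
    have e5 : (s * t)⁻¹ = s * t := by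
      rw [inv_eq_iff_mul_eq_one]
      calc s * t * (s * t) = s * (t * s) * t := by group
        _ = s * (s * t) * t := by rw [hst]
        _ = (s * s) * (t * t) := by group
        _ = 1 := by rw [hs, ht, one_mul]
    rintro a (rfl | rfl | rfl | rfl)
    · left; exact inv_one
    · right; left; exact inv_eq_of_mul_eq_one_left hs
    · right; right; left; exact inv_eq_of_mul_eq_one_left ht
    · right; right; right; exact e5

theorem mem_kl {s t : G} {hs : s * s = 1} {ht : t * t = 1} {hst : s * t = t * s} {x : G} :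
    x ∈ kl s t hs ht hst ↔ x = 1 ∨ x = s ∨ x = t ∨ x = s * t := Iff.rfl

theorem card_kl {s t : G} (hs : s * s = 1) (ht : t * t = 1) (hst : s * t = t * s)
    (hs1 : s ≠ 1) (ht1 : t ≠ 1) (hne : s ≠ t) : Nat.card (kl s t hs ht hst) = 4 := by
  classical
  have h1 : ((kl s t hs ht hst : Subgroup G) : Set G) = (({1, s, t, s * t} : Finset G) : Set G) := by
    ext x
    simp only [mem_kl, _root_.SetLike.mem_coe, _root_.Finset.coe_insert, _root_.Finset.coe_singleton, _root_.Set.mem_insert_iff, _root_.Set.mem_singleton_iff]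
  have h2 : Nat.card (kl s t hs ht hst) = Set.ncard ((kl s t hs ht hst : Subgroup G) : Set G) := rfl
  have hst1 : s * t ≠ 1 := by
    intro h
    apply hne
    have : s⁻¹ = s := inv_eq_of_mul_eq_one_left hs
    rw [← this]
    exact (eq_inv_of_mul_eq_one_right h).symm
  have hst2 : s * t ≠ s := fun h => ht1 (mul_eq_left.1 h)
  have hst3 : s * t ≠ t := fun h => hs1 (mul_eq_right.1 h)
  rw [h2, h1, Set.ncard_coe_finset, Finset.card_insert_of_notMem, Finset.card_insert_of_notMem,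
    Finset.card_insert_of_notMem, Finset.card_singleton]
  · rw [Finset.mem_singleton]
    exact fun h => hst3 h.symm
  · simp only [Finset.mem_insert, Finset.mem_singleton, not_or]
    exact ⟨hne, fun h => hst2 h.symm⟩
  · simp only [Finset.mem_insert, Finset.mem_singleton, not_or]
    exact ⟨hs1.symm, ht1.symm, hst1.symm⟩

/-- The hypotheses of THEOREM F. -/
structure Tor (A : Subgroup G) : Prop where
  solv : ∀ X : Subgroup G, ¬ 2 ∣ Nat.card X → Group.IsSolvable X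
  comm : ∀ a ∈ A, ∀ b ∈ A, a * b = b * a
  sq : ∀ a ∈ A, a ^ 2 = 1
  card : 8 ≤ Nat.card A
  tor : ∀ a ∈ A, a ≠ 1 → ∀ b ∈ A, b ≠ 1 → ⁅XX a ⊓ centralizer {b}, A⁆ ≤ XX b
  two : ∀ B : Subgroup G, B ≤ A → Nat.card B = 4 → ∀ s ∈ A, s ≠ 1 →
    Del B ⊓ centralizer (A : Set G) ≤ XX s

namespace Tor

variable {A : Subgroup G}

theorem elem (h : Tor A) : IsElementaryAbelian 2 A :=
  ⟨⟨⟨fun x y => Subtype.ext (h.comm x x.2 y y.2)⟩⟩, h.sq⟩

theorem isPGroup (h : Tor A) : IsPGroup 2 A := isPGroup_of_isElementaryAbelian h.elem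

theorem le_centralizer (h : Tor A) {a : G} (ha : a ∈ A) : A ≤ centralizer {a} := fun b hb =>
  mem_centralizer_singleton_iff.2 (h.comm b hb a ha)

theorem le_centralizer_self (h : Tor A) : A ≤ centralizer (A : Set G) := fun b hb =>
  mem_centralizer_iff.2 fun a ha => h.comm a ha b hb

theorem le_normalizer_XX (h : Tor A) {a : G} (ha : a ∈ A) : A ≤ normalizer (XX a : Set G) :=
  (h.le_centralizer ha).trans (centralizer_le_normalizer_XX a)

theorem ne_bot (h : Tor A) : A ≠ ⊥ := by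
  rintro rfl
  have := h.card
  rw [card_bot] at this
  omega

theorem exists_ne_one (h : Tor A) : ∃ a ∈ A, a ≠ 1 := A.bot_or_exists_ne_one.resolve_left h.ne_bot

/-- a subgroup of order at least 4 contains a four-group -/
theorem exists_four [Finite G] (h : Tor A) {B : Subgroup G} (hB : B ≤ A) (h4 : 4 ≤ Nat.card B) :
    ∃ C : Subgroup G, C ≤ B ∧ Nat.card C = 4 := by
  haveI : Fact (Nat.Prime 2) := ⟨Nat.prime_two⟩
  obtain ⟨k, hk⟩ := IsPGroup.iff_card.1 (h.isPGroup.to_le hB)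
  have hk2 : 2 ≤ k := by
    by_contra hlt
    have : k ≤ 1 := by omega
    have h5 : 2 ^ k ≤ 2 ^ 1 := Nat.pow_le_pow_right (by norm_num) this
    omega
  have h6 : 2 ^ 2 ∣ Nat.card B := by rw [hk]; exact pow_dvd_pow 2 hk2
  obtain ⟨C, hC⟩ := Sylow.exists_subgroup_card_pow_prime (G := B) 2 h6
  refine ⟨C.map B.subtype, map_subtype_le _, ?_⟩
  rw [card_map_of_injective B.subtype_injective, hC]
  norm_num

/-! ### The functor -/

/-- `U = O(C_G(A))` -/
theorem inf_centralizer_le_OO [Finite G] (a : G) (ha : a ∈ A) :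
    XX a ⊓ centralizer (A : Set G) ≤ OO (centralizer (A : Set G)) := by
  refine le_OO inf_le_right ?_ (not_two_dvd_of_le inf_le_left (odd_XX a))
  exact normalizer_inf_le ((centralizer_le_singleton ha).trans (centralizer_le_normalizer_XX a))
    le_normalizer

/-- `ψ(a) = X_a U` -/
def psi (A : Subgroup G) (a : G) : Subgroup G := XX a ⊔ OO (centralizer (A : Set G))

theorem OO_le_normalizer {a : G} (ha : a ∈ A) :
    OO (centralizer (A : Set G)) ≤ normalizer (XX a : Set G) :=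
  (OO_le _).trans ((centralizer_le_singleton ha).trans (centralizer_le_normalizer_XX a))

theorem psi_le_centralizer {a : G} (ha : a ∈ A) : psi A a ≤ centralizer {a} :=
  sup_le (XX_le a) ((OO_le _).trans (centralizer_le_singleton ha))

theorem odd_psi [Finite G] {a : G} (ha : a ∈ A) : ¬ 2 ∣ Nat.card (psi A a) := by
  intro h2
  have h3 := h2.trans (card_sup_dvd (OO_le_normalizer ha))
  rcases (Nat.Prime.dvd_mul Nat.prime_two).1 h3 with h4 | h4
  · exact odd_XX a h4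
  · exact odd_OO _ h4

theorem commutator_psi_le (h : Tor A) {a : G} (ha : a ∈ A) : ⁅psi A a, A⁆ ≤ XX a :=
  commutator_sup_le (OO_le_normalizer ha) (h.le_normalizer_XX ha) (OO_le _)

theorem balance [Finite G] (h : Tor A) {a b : G} (ha : a ∈ A) (ha1 : a ≠ 1) (hb : b ∈ A) (hb1 : b ≠ 1) :
    psi A a ⊓ centralizer {b} ≤ psi A b := by
  refine (sup_inf_le (OO_le_normalizer ha) ((OO_le _).trans (centralizer_le_singleton hb))).trans
    (sup_le ?_ le_sup_right)
  have hn : A ≤ normalizer ((XX a ⊓ centralizer {b} : Subgroup G) : Set G) :=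
    normalizer_inf_le (h.le_normalizer_XX ha) ((h.le_centralizer hb).trans le_normalizer)
  refine (le_commutator_sup h.isPGroup (not_two_dvd_of_le inf_le_left (odd_XX a)) hn).trans
    (sup_le ((h.tor a ha ha1 b hb hb1).trans le_sup_left) ?_)
  exact (inf_le_inf_right _ inf_le_left).trans ((inf_centralizer_le_OO a ha).trans le_sup_right)

/-- `W`, the closure of the functor `ψ` -/
def W (A : Subgroup G) : Subgroup G := ⨆ a : {a : G // a ∈ A ∧ a ≠ 1}, psi A a

theorem psi_le_W {a : G} (ha : a ∈ A) (ha1 : a ≠ 1) : psi A a ≤ W A :=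
  le_iSup (fun a : {a : G // a ∈ A ∧ a ≠ 1} => psi A a) ⟨a, ha, ha1⟩

theorem XX_le_W {a : G} (ha : a ∈ A) (ha1 : a ≠ 1) : XX a ≤ W A := le_sup_left.trans (psi_le_W ha ha1)

theorem functor [Finite G] (h : Tor A) : ¬ 2 ∣ Nat.card (W A) ∧
    (∀ a ∈ A, a ≠ 1 → W A ⊓ centralizer {a} = psi A a) := by
  have h1 := Cfsg.Agent.SignalizersComponents.SolFunctorTwo.solvable_signalizer_functor_two A h.comm h.sq
    (by have := h.card; norm_num only [_root_.ge_iff_le]; exact this) (psi A) (fun a ha _ => psi_le_centralizer ha)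
    (fun a ha _ => odd_psi ha) (fun a ha _ b hb x hx => ?_) (fun a ha _ => ?_)
    (fun a ha ha1 b hb hb1 => h.balance ha ha1 hb hb1)
  · exact ⟨h1.1, h1.2.1⟩
  · refine conj_mem_of_le_normalizer (le_normalizer_sup (h.le_normalizer_XX ha) ?_) hb hx
    exact h.le_centralizer_self.trans (le_normalizer_OO _)
  · exact h.solv _ (odd_psi ha)

theorem odd_W [Finite G] (h : Tor A) : ¬ 2 ∣ Nat.card (W A) := h.functor.1

theorem W_inf [Finite G] (h : Tor A) {a : G} (ha : a ∈ A) (ha1 : a ≠ 1) :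
    W A ⊓ centralizer {a} = psi A a := h.functor.2 a ha ha1

theorem solvable_of_le_W [Finite G] (h : Tor A) {X : Subgroup G} (hX : X ≤ W A) : Group.IsSolvable X :=
  h.solv _ (not_two_dvd_of_le hX h.odd_W)

theorem le_normalizer_W (h : Tor A) : A ≤ normalizer (W A : Set G) := by
  apply le_normalizer_of_conj_mem
  intro b hb x hx
  have h1 : W A ≤ cj b⁻¹ (W A) := by
    refine iSup_le fun a => ?_
    rw [← cj_le_cj (g := b), cj_cj_inv]
    refine le_trans ?_ (psi_le_W a.2.1 a.2.2)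
    rintro _ ⟨y, hy, rfl⟩
    exact conj_mem_of_le_normalizer (le_normalizer_sup (h.le_normalizer_XX a.2.1)
      (h.le_centralizer_self.trans (le_normalizer_OO _))) hb hy
  have h2 := mem_cj.1 (h1 hx)
  simpa only [_root_.inv_inv] using h2

/-- Step 1 -/
theorem commutator_W_inf_le [Finite G] (h : Tor A) {B : Subgroup G} (hB : B ≤ A) :
    ⁅W A ⊓ centralizer (B : Set G), A⁆ ≤ Del B := by
  apply le_Dl
  intro b hb hb1
  refine le_trans (commutator_mono_left ?_) (h.commutator_psi_le (hB hb))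
  rw [← h.W_inf (hB hb) hb1]
  exact inf_le_inf_left _ (centralizer_le_singleton hb)

/-- a subgroup with cyclic quotient has order at least 4 -/
theorem four_le_of_isCyclic [Finite G] (h : Tor A) {B : Subgroup G} (hB : B ≤ A)
    (hc : ∀ [(B.subgroupOf A).Normal], IsCyclic (↥A ⧸ B.subgroupOf A)) : 4 ≤ Nat.card B := by
  haveI hn : (B.subgroupOf A).Normal := by
    refine ⟨fun x hx g => ?_⟩
    have : g * x * g⁻¹ = x := by
      apply Subtype.ext
      have := h.comm g g.2 x x.2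
      simp only [Subgroup.coe_mul, Subgroup.coe_inv, this]
      group
    rwa [this]
  haveI := hc
  obtain ⟨g, hg⟩ := IsCyclic.exists_generator (α := ↥A ⧸ B.subgroupOf A)
  have h1 : g ^ 2 = 1 := by
    obtain ⟨x, rfl⟩ := QuotientGroup.mk_surjective g
    rw [← QuotientGroup.mk_pow]
    have : x ^ 2 = 1 := Subtype.ext (by simpa only [_root_.SubmonoidClass.coe_pow, _root_.OneMemClass.coe_one] using h.sq x x.2)
    rw [this, QuotientGroup.mk_one]
  have h2 : Nat.card (↥A ⧸ B.subgroupOf A) ≤ 2 := by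
    have h3 : Nat.card (zpowers g) = Nat.card (↥A ⧸ B.subgroupOf A) := by
      rw [(eq_top_iff' (zpowers g)).2 hg, card_top]
    rw [← h3, Nat.card_zpowers]
    exact Nat.le_of_dvd (by norm_num) (orderOf_dvd_of_pow_eq_one h1)
  have h3 : Nat.card B * (B.subgroupOf A).index = Nat.card A := by
    have := (B.subgroupOf A).card_mul_index
    rwa [Nat.card_congr (subgroupOfEquivOfLe hB).toEquiv] at this
  have h4 : (B.subgroupOf A).index ≤ 2 := h2
  have h5 := h.card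
  nlinarith

/-- `R = ⁅W, A⁆` -/
def RR (A : Subgroup G) : Subgroup G := ⁅W A, A⁆

theorem RR_le_W (h : Tor A) : RR A ≤ W A := _root_.Cfsg.Agent.Lib.CoprimeCommutator.commutator_le_left h.le_normalizer_W

theorem le_normalizer_RR (_h : Tor A) : A ≤ normalizer (RR A : Set G) :=
  right_le_normalizer_commutator _ _

theorem W_le_normalizer_RR : W A ≤ normalizer (RR A : Set G) := left_le_normalizer_commutator _ _

theorem commutator_RR [Finite G] (h : Tor A) : ⁅RR A, A⁆ = RR A :=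
  commutator_commutator_eq A (W A) h.le_normalizer_W (coprime_of_isPGroup h.isPGroup h.odd_W)

/-- Step 2 -/
theorem RR_inf_centralizer_le [Finite G] (h : Tor A) : RR A ⊓ centralizer (A : Set G) ≤ Del A := by
  apply le_Dl
  intro s hs hs1
  haveI : Fact (Nat.Prime 2) := ⟨Nat.prime_two⟩
  have h1 := Cfsg.Agent.SignalizersComponents.GoldschmidtGen.inf_centralizer_eq (p := 2) (A := A) (B := A)
    (Y := RR A) h.isPGroup h.comm le_rfl (h.solvable_of_le_W h.RR_le_W)
    (not_two_dvd_of_le h.RR_le_W h.odd_W) h.le_normalizer_RR h.commutator_RR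
  rw [h1]
  refine iSup_le fun B₀ => ?_
  obtain ⟨B, hBB, hB4⟩ := h.exists_four B₀.2.1 (h.four_le_of_isCyclic B₀.2.1 B₀.2.2)
  refine le_trans ?_ (h.two B (hBB.trans B₀.2.1) hB4 s hs hs1)
  refine le_inf (inf_le_right.trans ?_) (inf_le_left.trans inf_le_right)
  refine le_trans (commutator_mono_left ?_) (h.commutator_W_inf_le (hBB.trans B₀.2.1))
  exact inf_le_inf h.RR_le_W (centralizer_le hBB)

theorem odd_Dl [Finite G] {B : Subgroup G} {b : G} (hb : b ∈ B) (hb1 : b ≠ 1) :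
    ¬ 2 ∣ Nat.card (Del B) := not_two_dvd_of_le (Dl_le_XX hb hb1) (odd_XX b)

theorem exists_ne_one_of_card {B : Subgroup G} (h4 : Nat.card B = 4) : ∃ b ∈ B, b ≠ 1 := by
  refine B.bot_or_exists_ne_one.resolve_left ?_
  rintro rfl
  rw [card_bot] at h4
  omega

theorem Dl_le_W {B : Subgroup G} (hB : B ≤ A) {b : G} (hb : b ∈ B) (hb1 : b ≠ 1) :
    Del B ≤ W A := (Dl_le_XX hb hb1).trans (XX_le_W (hB hb) hb1)

theorem le_normalizer_Dl (h : Tor A) {B : Subgroup G} (hB : B ≤ A) : A ≤ normalizer (Del B : Set G) :=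
  (h.le_centralizer_self.trans (centralizer_le hB)).trans (centralizer_le_normalizer_Dl B)

/-- an `A`-invariant subgroup `Y` of `W` centralising `B` with `C_Y(A) ≤ Δ_A` lies in `Δ_B` -/
theorem le_Dl_of [Finite G] (h : Tor A) {B Y : Subgroup G} (hB : B ≤ A) (hY : Y ≤ W A)
    (hYB : Y ≤ centralizer (B : Set G)) (hn : A ≤ normalizer (Y : Set G))
    (hYA : Y ⊓ centralizer (A : Set G) ≤ Del A) : Y ≤ Del B := by
  refine (le_commutator_sup h.isPGroup (not_two_dvd_of_le hY h.odd_W) hn).trans (sup_le ?_ ?_)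
  · exact (commutator_mono_left (le_inf hY hYB)).trans (h.commutator_W_inf_le hB)
  · exact hYA.trans (Dl_anti hB)

theorem four_le_of_relIndex [Finite G] (h : Tor A) {B : Subgroup G} (hB : B ≤ A)
    (hi : B.relIndex A = 2) : 4 ≤ Nat.card B := by
  have h1 := relIndex_mul_relIndex ⊥ B A bot_le hB
  rw [relIndex_bot_left, relIndex_bot_left, hi] at h1
  have := h.card
  omega

theorem RR_le_DF [Finite G] (h : Tor A) : RR A ≤ DF A := by
  haveI : Fact (Nat.Prime 2) := ⟨Nat.prime_two⟩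
  rw [← Cfsg.Agent.Lib.CoprimeHyperplane.iSup_centralizer_hyperplane h.elem h.ne_bot
    (not_two_dvd_of_le h.RR_le_W h.odd_W) h.le_normalizer_RR]
  refine iSup_le fun B₀ => ?_
  obtain ⟨B, hBB, hB4⟩ := h.exists_four B₀.2.1 (h.four_le_of_relIndex B₀.2.1 B₀.2.2)
  have hBA : B ≤ A := hBB.trans B₀.2.1
  refine le_trans ?_ (Dl_le_DF' hBA hB4)
  refine h.le_Dl_of hBA (inf_le_left.trans h.RR_le_W) (inf_le_right.trans (centralizer_le hBB)) ?_ ?_
  · exact normalizer_inf_le h.le_normalizer_RR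
      ((h.le_centralizer_self.trans (centralizer_le B₀.2.1)).trans le_normalizer)
  · exact (inf_le_inf_right _ inf_le_left).trans h.RR_inf_centralizer_le

theorem exists_four_le [Finite G] (h : Tor A) : ∃ B : Subgroup G, B ≤ A ∧ Nat.card B = 4 :=
  h.exists_four le_rfl (by have := h.card; omega)

theorem Dl_self_le_DF [Finite G] (h : Tor A) : Del A ≤ DF A := by
  obtain ⟨B, hB, h4⟩ := h.exists_four_le
  exact (Dl_anti hB).trans (Dl_le_DF' hB h4)

/-- Step 3 -/
theorem DF_eq_sup [Finite G] (h : Tor A) : DF A = RR A ⊔ Del A := by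
  apply le_antisymm
  · refine iSup_le fun B => ?_
    obtain ⟨b, hb, hb1⟩ := exists_ne_one_of_card B.2.2
    refine (le_commutator_sup h.isPGroup (odd_Dl hb hb1) (h.le_normalizer_Dl B.2.1)).trans
      (sup_le (le_sup_of_le_left (commutator_mono_left (Dl_le_W B.2.1 hb hb1))) (le_sup_of_le_right ?_))
    exact le_Dl fun s hs hs1 => h.two B.1 B.2.1 B.2.2 s hs hs1
  · exact sup_le h.RR_le_DF h.Dl_self_le_DF

theorem DF_le_W [Finite G] (h : Tor A) : DF A ≤ W A := by
  rw [h.DF_eq_sup]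
  obtain ⟨a, ha, ha1⟩ := h.exists_ne_one
  exact sup_le h.RR_le_W (Dl_le_W le_rfl ha ha1)

/-- **D has odd order.** -/
theorem odd [Finite G] (h : Tor A) : ¬ 2 ∣ Nat.card (DF A) := not_two_dvd_of_le h.DF_le_W h.odd_W

theorem W_le_normalizer_DF [Finite G] (h : Tor A) : W A ≤ normalizer (DF A : Set G) := by
  refine (le_commutator_sup h.isPGroup h.odd_W h.le_normalizer_W).trans (sup_le ?_ ?_)
  · exact h.RR_le_DF.trans le_normalizer
  · rw [h.DF_eq_sup]
    refine le_normalizer_sup (inf_le_left.trans W_le_normalizer_RR) ?_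
    exact inf_le_right.trans (centralizer_le_normalizer_Dl A)

theorem le_normalizer_DF [Finite G] (h : Tor A) : A ≤ normalizer (DF A : Set G) := by
  rw [h.DF_eq_sup]
  exact le_normalizer_sup h.le_normalizer_RR (h.le_normalizer_Dl le_rfl)

/-- `X_a` normalises `D` -/
theorem XX_le_normalizer_DF [Finite G] (h : Tor A) {a : G} (ha : a ∈ A) (ha1 : a ≠ 1) :
    XX a ≤ normalizer (DF A : Set G) := (XX_le_W ha ha1).trans h.W_le_normalizer_DF

/-- `⁅X_a, A⁆ ≤ D` -/
theorem commutator_XX_le [Finite G] (h : Tor A) {a : G} (ha : a ∈ A) (ha1 : a ≠ 1) :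
    ⁅XX a, A⁆ ≤ DF A := (commutator_mono_left (XX_le_W ha ha1)).trans h.RR_le_DF

theorem DF_inf_centralizer_self [Finite G] (h : Tor A) : DF A ⊓ centralizer (A : Set G) = Del A := by
  apply le_antisymm
  · rw [h.DF_eq_sup]
    obtain ⟨a, ha, ha1⟩ := h.exists_ne_one
    refine (sup_inf_le ((Dl_le_W le_rfl ha ha1).trans W_le_normalizer_RR) (Dl_le_centralizer A)).trans
      (sup_le h.RR_inf_centralizer_le le_rfl)
  · exact le_inf h.Dl_self_le_DF (Dl_le_centralizer A)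

theorem DF_inf_le_Dl [Finite G] (h : Tor A) {B : Subgroup G} (hB : B ≤ A) :
    DF A ⊓ centralizer (B : Set G) ≤ Del B := by
  refine h.le_Dl_of hB (inf_le_left.trans h.DF_le_W) inf_le_right ?_ ?_
  · exact normalizer_inf_le h.le_normalizer_DF
      ((h.le_centralizer_self.trans (centralizer_le hB)).trans le_normalizer)
  · rw [← h.DF_inf_centralizer_self]
    exact inf_le_inf_right _ inf_le_left

/-- `C_D(a) ≤ X_a` -/
theorem DF_inf_le_XX [Finite G] (h : Tor A) {a : G} (ha : a ∈ A) (ha1 : a ≠ 1) :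
    DF A ⊓ centralizer {a} ≤ XX a := by
  have h1 := h.DF_inf_le_Dl (B := zpowers a) (by rwa [zpowers_le])
  rw [centralizer_zpowers] at h1
  exact h1.trans (Dl_le_XX (mem_zpowers a) ha1)

/-- `Δ_B ≤ D` if `|B| ≥ 4`. -/
theorem Dl_le_DF [Finite G] (h : Tor A) {B : Subgroup G} (hB : B ≤ A) (h4 : 4 ≤ Nat.card B) :
    Del B ≤ DF A := by
  obtain ⟨C, hC, hC4⟩ := h.exists_four hB h4
  exact (Dl_anti hC).trans (Dl_le_DF' (hC.trans hB) hC4)

/-- `C_D(B) = Δ_B` for `B ≤ A`, `|B| ≥ 4`. -/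
theorem DF_inf_eq_Dl [Finite G] (h : Tor A) {B : Subgroup G} (hB : B ≤ A) (h4 : 4 ≤ Nat.card B) :
    DF A ⊓ centralizer (B : Set G) = Del B :=
  le_antisymm (h.DF_inf_le_Dl hB) (le_inf (h.Dl_le_DF hB h4) (Dl_le_centralizer B))

/-- Step 4: `C_D(a) = ⁅X_a, B⁆ Δ_B` for `a ∈ B#`, `B ≤ A`, `|B| ≥ 4`. -/
theorem DF_inf_eq [Finite G] (h : Tor A) {B : Subgroup G} (hB : B ≤ A) (h4 : 4 ≤ Nat.card B)
    {a : G} (ha : a ∈ B) (ha1 : a ≠ 1) : DF A ⊓ centralizer {a} = ⁅XX a, B⁆ ⊔ Del B := by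
  apply le_antisymm
  · have hn : B ≤ normalizer ((DF A ⊓ centralizer {a} : Subgroup G) : Set G) :=
      normalizer_inf_le (hB.trans h.le_normalizer_DF)
        ((hB.trans (h.le_centralizer (hB ha))).trans le_normalizer)
    refine (le_commutator_sup (h.isPGroup.to_le hB) (not_two_dvd_of_le inf_le_left h.odd) hn).trans
      (sup_le_sup (commutator_mono_left (h.DF_inf_le_XX (hB ha) ha1)) ?_)
    rw [← h.DF_inf_eq_Dl hB h4]
    exact inf_le_inf_right _ inf_le_left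
  · refine sup_le (le_inf ?_ ?_) (le_inf (h.Dl_le_DF hB h4) ((Dl_le_XX ha ha1).trans (XX_le a)))
    · exact (commutator_mono le_rfl hB).trans (h.commutator_XX_le (hB ha) ha1)
    · exact (_root_.Cfsg.Agent.Lib.CoprimeCommutator.commutator_le_left (hB.trans (h.le_normalizer_XX (hB ha)))).trans (XX_le a)

/-- `D = ⟨⁅X_b, B⁆, Δ_B : b ∈ B#⟩` -/
theorem DF_eq [Finite G] (h : Tor A) {B : Subgroup G} (hB : B ≤ A) (h4 : 4 ≤ Nat.card B) :
    DF A = ⨆ b : {b : G // b ∈ B ∧ b ≠ 1}, ⁅XX b.1, B⁆ ⊔ Del B := by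
  haveI : Fact (Nat.Prime 2) := ⟨Nat.prime_two⟩
  apply le_antisymm
  · refine (le_iSup_centralizer_ne_one (p := 2) (isElementaryAbelian_mono h.elem hB)
      (by norm_num only []; exact h4) h.odd (hB.trans h.le_normalizer_DF)).trans ?_
    exact iSup_mono fun b => (h.DF_inf_eq hB h4 b.2.1 b.2.2).le
  · refine iSup_le fun b => ?_
    rw [← h.DF_inf_eq hB h4 b.2.1 b.2.2]
    exact inf_le_left

/-- **`N_G(B) ≤ N_G(D)`** for every `B ≤ A` with `|B| ≥ 4`. -/
theorem normalizer_le [Finite G] (h : Tor A) {B : Subgroup G} (hB : B ≤ A) (h4 : 4 ≤ Nat.card B) :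
    normalizer (B : Set G) ≤ normalizer (DF A : Set G) := by
  apply le_normalizer_of_conj_mem
  intro g hg x hx
  have hgB : cj g B = B := mem_normalizer_iff_cj.1 hg
  have h1 : cj g (DF A) ≤ DF A := by
    conv_lhs => rw [h.DF_eq hB h4]
    rw [cj, Subgroup.map_iSup]
    refine iSup_le fun b => ?_
    change cj g (⁅XX b.1, B⁆ ⊔ Del B) ≤ DF A
    rw [cj_sup, cj_commutator, cj_XX, cj_Del, hgB, ← h.DF_inf_eq hB h4 (a := g * b.1 * g⁻¹)]
    · exact inf_le_left
    · have := conj_mem_cj (g := g) b.2.1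
      rwa [hgB] at this
    · intro h2
      apply b.2.2
      have h3 : b.1 = g⁻¹ * (g * b.1 * g⁻¹) * g := by group
      rw [h3, h2]; simp
  exact h1 (conj_mem_cj hx)

/-- the centraliser of `B ≤ A`, `|B| ≥ 4`, normalises `D` -/
theorem centralizer_le [Finite G] (h : Tor A) {B : Subgroup G} (hB : B ≤ A) (h4 : 4 ≤ Nat.card B) :
    centralizer (B : Set G) ≤ normalizer (DF A : Set G) :=
  (centralizer_le_normalizer (B : Set G)).trans (h.normalizer_le hB h4)

theorem mul_self (h : Tor A) {a : G} (ha : a ∈ A) : a * a = 1 := by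
  have := h.sq a ha
  rwa [pow_two] at this

/-- `X_a ∩ X_b ∩ X_{ab} ≤ D`. -/
theorem inf_le_DF [Finite G] (_h : Tor A) {a b : G} (hs : a * a = 1) (ht : b * b = 1)
    (hst : a * b = b * a) (ha : a ∈ A) (hb : b ∈ A) (ha1 : a ≠ 1) (hb1 : b ≠ 1) (hab : a ≠ b) {X : Subgroup G}
    (h1 : X ≤ XX a) (h2 : X ≤ XX b) (h3 : X ≤ XX (a * b)) : X ≤ DF A := by
  have hle : kl a b hs ht hst ≤ A := by
    rintro x (rfl | rfl | rfl | rfl)
    exacts [A.one_mem, ha, hb, A.mul_mem ha hb]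
  refine le_trans (le_Dl ?_) (Dl_le_DF' hle (card_kl hs ht hst ha1 hb1 hab))
  rintro x (rfl | rfl | rfl | rfl) hx1
  exacts [absurd rfl hx1, h1, h2, h3]

/-- a subgroup of order at least 4 contains an element different from `1` and `a` -/
theorem exists_ne [Finite G] {B : Subgroup G} (h4 : 4 ≤ Nat.card B) {a : G} (ha : a * a = 1) :
    ∃ b ∈ B, b ≠ 1 ∧ b ≠ a := by
  by_contra hcon
  push Not at hcon
  have h1 : B ≤ zpowers a := by
    intro b hb
    by_cases hb1 : b = 1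
    · subst hb1; exact one_mem _
    · rw [hcon b hb hb1]; exact mem_zpowers a
  have h2 : Nat.card B ≤ Nat.card (zpowers a) := card_le_of_le h1
  rw [Nat.card_zpowers] at h2
  have h3 : orderOf a ∣ 2 := orderOf_dvd_of_pow_eq_one (by rw [pow_two, ha])
  have := Nat.le_of_dvd (by norm_num) h3
  omega

/-- **Step 5**: `⁅X_a, Q⁆ ≤ D` for a 2-group `Q` commuting with `A` such that
`⁅X_a ∩ C(b), Q⁆ ≤ X_b` for `a, b ∈ A#`. -/
theorem commutator_Q_le [Finite G] (h : Tor A) {Q : Subgroup G} (hQ : IsPGroup 2 Q)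
    (hQA : ∀ q ∈ Q, ∀ a ∈ A, q * a = a * q)
    (hT : ∀ a ∈ A, a ≠ 1 → ∀ b ∈ A, b ≠ 1 → ⁅XX a ⊓ centralizer {b}, Q⁆ ≤ XX b)
    {a : G} (ha : a ∈ A) (ha1 : a ≠ 1) : ⁅XX a, Q⁆ ≤ DF A := by
  haveI : Fact (Nat.Prime 2) := ⟨Nat.prime_two⟩
  rw [commutator_le]
  intro x hx q hq
  have hqz : zpowers q ≤ Q := by rwa [zpowers_le]
  have hcomm : ∀ u ∈ A ⊔ zpowers q, ∀ v ∈ A ⊔ zpowers q, u * v = v * u := by
    have h1 : A ⊔ zpowers q ≤ centralizer ((A ⊔ zpowers q : Subgroup G) : Set G) := by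
      have hA : A ≤ centralizer (A : Set G) := h.le_centralizer_self
      have hz : zpowers q ≤ centralizer (A : Set G) := by
        rw [zpowers_le, mem_centralizer_iff]
        exact fun b hb => (hQA q hq b hb).symm
      have hz2 : zpowers q ≤ centralizer ((zpowers q : Subgroup G) : Set G) := by
        rw [zpowers_le, centralizer_zpowers]
        exact mem_centralizer_singleton_iff.2 rfl
      refine sup_le ?_ ?_
      · rw [le_centralizer_iff]
        exact sup_le hA hz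
      · rw [le_centralizer_iff]
        refine sup_le ?_ hz2
        rw [← le_centralizer_iff]
        exact hz
    intro u hu v hv
    exact (mem_centralizer_iff.1 (h1 hu) v hv).symm
  have hqp : IsPGroup 2 (zpowers q) := hQ.to_le hqz
  have hP : IsPGroup 2 ↥(A ⊔ zpowers q) := by
    refine IsPGroup.to_sup_of_normal_right' h.isPGroup hqp ?_
    refine le_trans ?_ (centralizer_le_normalizer ((zpowers q : Subgroup G) : Set G))
    intro v hv
    exact mem_centralizer_iff.2 fun b hb => hcomm b (mem_sup_right hb) v (mem_sup_left hv)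
  have hsol : Group.IsSolvable (XX a) := h.solv _ (odd_XX a)
  have hqn : A ⊔ zpowers q ≤ normalizer (XX a : Set G) := by
    refine le_trans ?_ (centralizer_le_normalizer_XX a)
    intro v hv
    exact mem_centralizer_singleton_iff.2 (hcomm v hv a (mem_sup_left ha))
  have key := le_iSup_commutator (p := 2) (A := A ⊔ zpowers q) (K := XX a) (L := zpowers q)
    {B | B ≤ A ∧ B.relIndex A = 2} hP hcomm le_sup_right hsol (odd_XX a) hqn
    (fun B hB => hB.1.trans le_sup_left) (fun Z hZ hAZ =>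
      (Cfsg.Agent.Lib.CoprimeHyperplane.iSup_centralizer_hyperplane h.elem h.ne_bot
        (not_two_dvd_of_le hZ (odd_XX a)) (le_sup_left.trans hAZ)).ge)
  refine (key.trans (iSup_le fun B => ?_)) (commutator_mem_commutator hx (mem_zpowers q))
  obtain ⟨B, hB, hi⟩ := B
  obtain ⟨b, hb, hb1, hba⟩ := exists_ne (h.four_le_of_relIndex hB hi) (h.mul_self ha)
  have hbA : b ∈ A := hB hb
  have h1 : XX a ⊓ centralizer (B : Set G) ≤ XX a ⊓ centralizer {b} :=
    inf_le_inf_left _ (centralizer_le_singleton hb)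
  refine h.inf_le_DF (h.mul_self ha) (h.mul_self hbA) (h.comm a ha b hbA) ha hbA ha1 hb1 hba.symm ?_ ?_ ?_
  · refine (commutator_mono inf_le_left le_rfl).trans (_root_.Cfsg.Agent.Lib.CoprimeCommutator.commutator_le_left ?_)
    exact le_sup_right.trans hqn
  · exact (commutator_mono h1 hqz).trans (hT a ha ha1 b hbA hb1)
  · have hab1 : a * b ≠ 1 := by
      intro he
      apply hba
      have h2 := h.mul_self ha
      rw [← h2] at he
      exact mul_left_cancel he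
    refine (commutator_mono (h1.trans ?_) hqz).trans (hT a ha ha1 (a * b) (A.mul_mem ha hbA) hab1)
    refine le_inf inf_le_left ?_
    rintro y ⟨hy, hyb⟩
    have h2 := mem_centralizer_singleton_iff.1 (XX_le a hy)
    have h3 := mem_centralizer_singleton_iff.1 hyb
    rw [mem_centralizer_singleton_iff]
    calc y * (a * b) = (y * a) * b := by group
      _ = a * (y * b) := by rw [h2]; group
      _ = a * b * y := by rw [h3]; group

/-- **THEOREM F** in the form used in `CoresClose`. -/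
theorem fout [Finite G] (h : Tor A) : FOut A (DF A) where
  odd := h.odd
  del_le B hB h4 := Dl_le_DF' hB h4
  comm_le a ha ha1 := h.commutator_XX_le ha ha1
  gen B hB h4 := by
    conv_lhs => rw [h.DF_eq hB h4.ge]
    refine iSup_le fun b => sup_le ?_ le_sup_left
    exact le_sup_of_le_right (le_iSup₂ (f := fun (b : G) (_ : b ∈ B ∧ b ≠ 1) => ⁅XX b, B⁆) b.1 b.2)
  nor a ha ha1 := h.XX_le_normalizer_DF ha ha1

end Tor

end Cfsg.Agent.Cit.TorFunctor

private theorem dce_598548f681cd : _root_.True := by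
  try have : _root_.True := by simp only [_root_.Cfsg.Agent.Cit.TorFunctor.kl.congr_simp]
  exact _root_.True.intro
end

-- part: Cit/CloseFus
section
prune_inst 0x1400032200000000001000001a5292000002004b80002120030207804c4080020620882005100000080400340068125c00004010000000000400011801a0008244003200a000200006002000000000000000000000000000000000000000000000000
set_option linter.all false
open scoped Cfsg.Agent.FastGrp

/-!
# (H2z) and (H2): the closing step for classical involutions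

`Hyp Om`, `S` Sylow, `E = E(S)`, `|E| ≥ 8`, `M` a subgroup containing `N(E)` and `C(e)` for all `e ∈ E`, `e ≠ 1`
(`Clo Om S M`), all members of `Om` generated by their elements of odd order (`TyTwo`).

* `Four T' M z a b` : `T'` Sylow in `C_M(z)`, `a, b ∈ T'` commuting involutions, `C(a), C(b), C(ab) ≤ M`.
  `Four.core` (`z = zz K`): some `L ∈ Om` with `zz L = z` has a Sylow 2-subgroup in `M`, or there is
  `w ∈ T' ∩ K`, `w² = z`, inverted by `a` or `b`. `Four.zz_mem`: `zz L ∈ M` for `L ∈ Om(T)`, `T ≥ T'` a 2-group.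
* `Clo.exists_mem` (H2z): `K ∈ Om`, `zz K ∈ M` implies `zz K ∈ cj m E` for some `m ∈ M`.
* `Clo.mem_of_conj` (H2): `e ∈ E`, `e ≠ 1`, `g e g⁻¹ ∈ M` implies `g ∈ M`.
-/

set_option autoImplicit false
set_option linter.style.haveILetI false
set_option linter.unusedSectionVars false

namespace Cfsg.Agent.Cit.CloseFus

open Subgroup Cfsg Cfsg.Agent.Cit Cfsg.Agent.Cit.OneBasic

variable {G : Type*} [Group G]

/-! ### Elementary tools -/

theorem inv_eq_self {f : G} (hf : f * f = 1) : f⁻¹ = f := inv_eq_of_mul_eq_one_right hf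

/-- an involution acting on an element modulo a normalised subgroup of odd order: correct the element to be fixed -/
theorem exists_mul_comm [Finite G] {X : Subgroup G} (hX : ¬ 2 ∣ Nat.card X) {f y : G} (hf : f * f = 1)
    (hy : y⁻¹ * (f * y * f⁻¹) ∈ X) : ∃ k ∈ X, (y * k) * f = f * (y * k) := by
  have hodd : Odd (Nat.card X) := by
    rw [← Nat.not_even_iff_odd, even_iff_two_dvd]; exact hX
  obtain ⟨n, hn⟩ := Lib.KleinGen.exists_sqrt_exponent X hodd
  have hfi := inv_eq_self hf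
  obtain ⟨w, hw⟩ : ∃ w, w = y⁻¹ * (f * y * f⁻¹) := ⟨_, rfl⟩
  rw [← hw] at hy
  -- `f w f⁻¹ = w⁻¹`
  have h1 : f * w * f⁻¹ = w⁻¹ := by
    rw [hw, hfi, mul_inv_rev, mul_inv_rev, mul_inv_rev, inv_inv, hfi]
    calc f * (y⁻¹ * (f * y * f)) * f = f * y⁻¹ * f * y * (f * f) := by group
      _ = f * (y⁻¹ * f) * y := by rw [hf]; group
  obtain ⟨k, hk⟩ : ∃ k, k = w ^ n := ⟨_, rfl⟩
  have hkX : k ∈ X := by rw [hk]; exact X.pow_mem hy n
  have hkk : k * k = w := by rw [hk]; exact (hn w hy).1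
  have hfk : f * k * f⁻¹ = k⁻¹ := by
    rw [hk, ← conj_pow, h1, inv_pow]
  refine ⟨k, hkX, ?_⟩
  -- `f (y k) f⁻¹ = y w k⁻¹ = y k`
  have h2 : f * (y * k) * f⁻¹ = y * k := by
    calc f * (y * k) * f⁻¹ = y * (y⁻¹ * (f * y * f⁻¹)) * (f * k * f⁻¹) := by group
      _ = y * w * k⁻¹ := by rw [← hw, hfk]
      _ = y * (k * k) * k⁻¹ := by rw [hkk]
      _ = y * k := by group
  rw [mul_inv_eq_iff_eq_mul] at h2
  exact h2.symm

/-- commutators modulo a normal subgroup -/
theorem comm_mem_of_mod {C X H : Subgroup G} (hn : C ≤ normalizer (X : Set G)) (hXH : X ≤ H)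
    {l l' n n' : G} (hl : l ∈ C) (hnC : n ∈ C) (h1 : l * l' ∈ H) (h2 : n * n' ∈ H)
    (c1 : l' * n * l'⁻¹ * n⁻¹ ∈ X) (c2 : l' * n' * l'⁻¹ * n'⁻¹ ∈ X) (c3 : l * n' * l⁻¹ * n'⁻¹ ∈ X) :
    l * n * l⁻¹ * n⁻¹ ∈ H := by
  obtain ⟨x1, e1⟩ : ∃ x, x = l' * n * l'⁻¹ * n⁻¹ := ⟨_, rfl⟩
  obtain ⟨x2, e2⟩ : ∃ x, x = l' * n' * l'⁻¹ * n'⁻¹ := ⟨_, rfl⟩
  obtain ⟨x3, e3⟩ : ∃ x, x = l * n' * l⁻¹ * n'⁻¹ := ⟨_, rfl⟩
  rw [← e1] at c1
  rw [← e2] at c2
  rw [← e3] at c3
  have cj' : ∀ c ∈ C, ∀ x ∈ X, c * x * c⁻¹ ∈ X := fun c hc x hx => (mem_normalizer_iff.1 (hn hc) x).1 hx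
  have hu : (l * l') * (n * n') * (l * l')⁻¹ * (n * n')⁻¹ ∈ H :=
    H.mul_mem (H.mul_mem (H.mul_mem h1 h2) (H.inv_mem h1)) (H.inv_mem h2)
  have key : (l * l') * (n * n') * (l * l')⁻¹ * (n * n')⁻¹ =
      (l * x1 * l⁻¹) * ((l * n) * x2 * (l * n)⁻¹) * (l * n * l⁻¹ * n⁻¹) * (n * x3 * n⁻¹) := by
    have a1 : l' * n = x1 * n * l' := by rw [e1]; group
    have a2 : l' * n' * l'⁻¹ = x2 * n' := by rw [e2]; group
    have a3 : n' * l⁻¹ * n'⁻¹ = l⁻¹ * x3 := by rw [e3]; group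
    calc (l * l') * (n * n') * (l * l')⁻¹ * (n * n')⁻¹
        = l * (l' * n) * (n' * l'⁻¹ * l⁻¹ * n'⁻¹) * n⁻¹ := by group
      _ = l * x1 * n * (l' * n' * l'⁻¹) * l⁻¹ * n'⁻¹ * n⁻¹ := by rw [a1]; group
      _ = l * x1 * n * x2 * (n' * l⁻¹ * n'⁻¹) * n⁻¹ := by rw [a2]; group
      _ = _ := by rw [a3]; group
  rw [key] at hu
  have b1 : l * x1 * l⁻¹ ∈ H := hXH (cj' l hl x1 c1)
  have b2 : (l * n) * x2 * (l * n)⁻¹ ∈ H := hXH (cj' _ (C.mul_mem hl hnC) x2 c2)
  have b3 : n * x3 * n⁻¹ ∈ H := hXH (cj' n hnC x3 c3)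
  have hu2 := H.mul_mem (H.inv_mem (H.mul_mem b1 b2)) (H.mul_mem hu (H.inv_mem b3))
  have e : ((l * x1 * l⁻¹) * ((l * n) * x2 * (l * n)⁻¹))⁻¹ *
      ((l * x1 * l⁻¹) * ((l * n) * x2 * (l * n)⁻¹) * (l * n * l⁻¹ * n⁻¹) * (n * x3 * n⁻¹) *
        (n * x3 * n⁻¹)⁻¹) = l * n * l⁻¹ * n⁻¹ := by group
  rwa [e] at hu2

section TyTwo

variable [Finite G] {Om : Set (Subgroup G)} {L Q H : Subgroup G}

/-- a Sylow 2-subgroup of a member is contained in every subgroup containing the elements of square `zz L` -/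
theorem le_of_sq (h : Hyp Om) (hL : L ∈ Om) (hQ : Syl Q L) (hH : ∀ y ∈ L, y * y = zz L → y ∈ H) : Q ≤ H := by
  obtain ⟨c, v, n, hc⟩ := h.exists_gq hL hQ
  exact hc.le_of_four fun y hy hy4 => hH y (hQ.1 hy) (h.sq_of_orderOf hL (hQ.1 hy) hy4)

/-- if `H` contains the commutators of `L` it contains the Sylow 2-subgroups of `L` -/
theorem le_of_comm (h : Hyp Om) (hL : L ∈ Om) (hT : TyTwo L) (hH : ∀ l ∈ L, ∀ n ∈ L, l * n * l⁻¹ * n⁻¹ ∈ H)
    (hQ : Syl Q L) : Q ≤ H := by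
  obtain ⟨c, v, n, hc⟩ := h.exists_gq hL hQ
  obtain ⟨q₁, hq₁, q₂, hq₂, h1, h2, h12, -⟩ := hc.exists_pair
  have s1 := h.sq_of_orderOf hL (hQ.1 hq₁) h1
  have s2 := h.sq_of_orderOf hL (hQ.1 hq₂) h2
  have s12 := h.sq_of_orderOf hL (L.mul_mem (hQ.1 hq₁) (hQ.1 hq₂)) h12
  obtain ⟨k, hk, hkq⟩ := h.conj_four' hL hT (hQ.1 hq₂) (L.mul_mem (hQ.1 hq₁) (hQ.1 hq₂)) s2 s12
  refine le_of_sq h hL hQ fun y hy hy2 => ?_
  obtain ⟨l, hl, hly⟩ := h.conj_four' hL hT (hQ.1 hq₁) hy s1 hy2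
  have e1 : q₁ = k * q₂ * k⁻¹ * q₂⁻¹ := by rw [hkq]; group
  have e2 : y = (l * k * l⁻¹) * (l * q₂ * l⁻¹) * (l * k * l⁻¹)⁻¹ * (l * q₂ * l⁻¹)⁻¹ := by
    rw [← hly, e1]
    group
  rw [e2]
  exact hH _ (L.mul_mem (L.mul_mem hl hk) (L.inv_mem hl)) _
    (L.mul_mem (L.mul_mem hl (hQ.1 hq₂)) (L.inv_mem hl))

/-- a non-trivial element `e` of a Sylow 2-subgroup of `L` with `e * e ≠ 1` has a power of square `zz L` -/
theorem exists_pow_sq (h : Hyp Om) (hL : L ∈ Om) (hQ : Syl Q L) {e : G} (he : e ∈ Q) (he2 : e * e ≠ 1) :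
    ∃ g ∈ zpowers e, g * g = zz L := by
  obtain ⟨j, hj⟩ := mem_zpowers_iff.1 (AutQuat.IsQ.mem_zpowers (h.isGQ hL hQ)
    (fun t ht ht2 => h.uniq L hL t (hQ.1 ht) ht2) (Q.mul_mem he he) he2)
  refine ⟨e ^ j, zpow_mem (mem_zpowers e) j, ?_⟩
  rw [← hj, (Commute.refl e).mul_zpow]

/-- **Lemma Com** -/
theorem exists_syl_com (h : Hyp Om) (hL : L ∈ Om) (hT : TyTwo L) {f : G} (hf : f * f = 1)
    (hfL : f ∈ normalizer (L : Set G)) (hH : ∀ l ∈ L, l⁻¹ * (f * l * f⁻¹) ∈ H) :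
    ∃ Q, Syl Q L ∧ (Q ≤ centralizer {f} ∨ Q ≤ H) := by
  have hfi := inv_eq_self hf
  have hf2 : IsPGroup 2 (zpowers f) := by
    rintro ⟨x, hx⟩
    obtain ⟨k, rfl⟩ := mem_zpowers_iff.1 hx
    refine ⟨1, Subtype.ext ?_⟩
    change (f ^ k) ^ 2 ^ 1 = 1
    rw [pow_one, pow_two, ← (Commute.refl f).mul_zpow, hf, one_zpow]
  obtain ⟨Q, hQ, hfQ⟩ := exists_syl_normalized hf2 (zpowers_le.2 hfL)
  have hfQ' : f ∈ normalizer (Q : Set G) := hfQ (mem_zpowers f)
  refine ⟨Q, hQ, ?_⟩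
  by_cases hc : Q ≤ centralizer {f}
  · exact Or.inl hc
  right
  -- the commutator subgroup `N = [L, f]`
  obtain ⟨N, hN⟩ : ∃ N : Subgroup G, N = closure {x | ∃ l ∈ L, x = l⁻¹ * (f * l * f⁻¹)} := ⟨_, rfl⟩
  have hNm : ∀ l ∈ L, l⁻¹ * (f * l * f⁻¹) ∈ N := fun l hl => by
    rw [hN]; exact subset_closure ⟨l, hl, rfl⟩
  have hNH : N ≤ H := by
    rw [hN, closure_le]
    rintro _ ⟨l, hl, rfl⟩
    exact hH l hl
  have hNL : N ≤ L := by
    rw [hN, closure_le]
    rintro _ ⟨l, hl, rfl⟩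
    exact L.mul_mem (L.inv_mem hl) ((mem_normalizer_iff.1 hfL l).1 hl)
  have hNn : ∀ k ∈ L, ∀ x ∈ N, k⁻¹ * x * k ∈ N := by
    intro k hk x hx
    rw [hN] at hx
    induction hx using closure_induction with
    | mem x hx =>
      obtain ⟨l, hl, rfl⟩ := hx
      have e : k⁻¹ * (l⁻¹ * (f * l * f⁻¹)) * k =
          ((l * k)⁻¹ * (f * (l * k) * f⁻¹)) * (k⁻¹ * (f * k * f⁻¹))⁻¹ := by group
      rw [e]
      exact N.mul_mem (hNm _ (L.mul_mem hl hk)) (N.inv_mem (hNm k hk))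
    | one => simp
    | mul x y _ _ hx hy =>
      have e : k⁻¹ * (x * y) * k = (k⁻¹ * x * k) * (k⁻¹ * y * k) := by group
      rw [e]; exact N.mul_mem hx hy
    | inv x _ hx =>
      have e : k⁻¹ * x⁻¹ * k = (k⁻¹ * x * k)⁻¹ := by group
      rw [e]; exact N.inv_mem hx
  -- it is enough to find an element of square `z` in `N`
  suffices hs : ∃ g ∈ N, g * g = zz L by
    obtain ⟨g, hg, hg2⟩ := hs
    refine le_of_sq h hL hQ fun y hy hy2 => hNH ?_
    obtain ⟨k, hk, hky⟩ := h.conj_four' hL hT (hNL hg) hy hg2 hy2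
    have e := hNn k⁻¹ (L.inv_mem hk) g hg
    rw [inv_inv, hky] at e
    exact e
  obtain ⟨c, v, n, hgq⟩ := h.exists_gq hL hQ
  obtain ⟨x, hx, hx4, hxf⟩ : ∃ x ∈ Q, orderOf x = 4 ∧ x * f ≠ f * x := by
    by_contra hcon
    push Not at hcon
    exact hc (hgq.le_of_four fun y hy hy4 => mem_centralizer_singleton_iff.2 (hcon y hy hy4))
  have hz := h.zz_mul hL
  have hxx := h.sq_of_orderOf hL (hQ.1 hx) hx4
  have hconjQ : ∀ y ∈ Q, f * y * f⁻¹ ∈ Q := fun y hy => (mem_normalizer_iff.1 hfQ' y).1 hy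
  have hfz : f * zz L = zz L * f := h.comm_zz hL hfL
  -- for `y ∈ Q` either `N` contains an element of square `z`, or `y` is fixed, or `y ↦ y z`
  have tri : ∀ y ∈ Q, (∃ g ∈ N, g * g = zz L) ∨ f * y * f⁻¹ = y ∨ f * y * f⁻¹ = y * zz L := by
    intro y hy
    have he : y⁻¹ * (f * y * f⁻¹) ∈ Q := Q.mul_mem (Q.inv_mem hy) (hconjQ y hy)
    by_cases he2 : (y⁻¹ * (f * y * f⁻¹)) * (y⁻¹ * (f * y * f⁻¹)) = 1
    · right
      by_cases he1 : y⁻¹ * (f * y * f⁻¹) = 1
      · left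
        rw [inv_mul_eq_one] at he1
        exact he1.symm
      · right
        rw [← h.eq_zz hL (hQ.1 he) he2 he1]
        group
    · left
      obtain ⟨g, hg, hg2⟩ := exists_pow_sq h hL hQ he he2
      exact ⟨g, (zpowers_le.2 (hNm y (hQ.1 hy))) hg, hg2⟩
  rcases tri x hx with h1 | h1 | h1
  · exact h1
  · exact absurd (by rw [mul_inv_eq_iff_eq_mul] at h1; exact h1.symm) hxf
  have hzx : zz L * x = x * zz L := (h.comm_zz hL (le_normalizer (hQ.1 hx))).symm
  have hxi : x⁻¹ = x * zz L := by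
    rw [inv_eq_iff_mul_eq_one, ← mul_assoc, hxx, hz]
  -- an inverting element of order four fixed by `f`
  obtain ⟨y, hy, hy4, hyx⟩ := hgq.exists_inverting hx hx4
  have hyy := h.sq_of_orderOf hL (hQ.1 hy) hy4
  obtain h5 | ⟨u, hu, huf, huu, hux⟩ : (∃ g ∈ N, g * g = zz L) ∨
      ∃ u ∈ Q, f * u * f⁻¹ = u ∧ u * u = zz L ∧ u * x * u⁻¹ = x⁻¹ := by
    rcases tri y hy with h2 | h2 | h2
    · exact Or.inl h2
    · exact Or.inr ⟨y, hy, h2, hyy, hyx⟩
    · right
      refine ⟨x * y, Q.mul_mem hx hy, ?_, ?_, ?_⟩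
      · calc f * (x * y) * f⁻¹ = (f * x * f⁻¹) * (f * y * f⁻¹) := by group
          _ = x * zz L * (y * zz L) := by rw [h1, h2]
          _ = x * (zz L * y) * zz L := by group
          _ = x * (y * zz L) * zz L := by rw [h.comm_zz hL (le_normalizer (hQ.1 hy))]
          _ = x * y * (zz L * zz L) := by group
          _ = x * y := by rw [hz, mul_one]
      · calc x * y * (x * y) = x * (y * x * y⁻¹) * (y * y) := by group
          _ = zz L := by rw [hyx, hyy]; group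
      · calc x * y * x * (x * y)⁻¹ = x * (y * x * y⁻¹) * x⁻¹ := by group
          _ = x⁻¹ := by rw [hyx]; group
  · exact h5
  obtain ⟨k, hk, hkx⟩ := h.conj_four' hL hT (hQ.1 hx) (hQ.1 hu) hxx huu
  obtain ⟨g, hg⟩ : ∃ g, g = k⁻¹ * (f * k * f⁻¹) := ⟨_, rfl⟩
  have hgN : g ∈ N := by rw [hg]; exact hNm k hk
  have hfx : f⁻¹ * x⁻¹ * f = x := by
    have h2 : f * x * f⁻¹ = x⁻¹ := by rw [h1, hxi]
    rw [← h2]; group
  have hgx : g * x * g⁻¹ = x⁻¹ := by
    have h2 : g * x⁻¹ * g⁻¹ = x := by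
      calc g * x⁻¹ * g⁻¹ = k⁻¹ * (f * (k * (f⁻¹ * x⁻¹ * f) * k⁻¹) * f⁻¹) * k := by rw [hg]; group
        _ = k⁻¹ * (f * u * f⁻¹) * k := by rw [hfx, hkx]
        _ = x := by rw [huf, ← hkx]; group
    have h3 : (g * x⁻¹ * g⁻¹)⁻¹ = x⁻¹ := by rw [h2]
    rw [← h3]; group
  -- odd powers of `g` invert `x`
  have hx1 : x ≠ x⁻¹ := by
    intro h2
    have h3 : x * x = 1 := by nth_rewrite 2 [h2]; group
    exact h.zz_ne hL (by rw [← hxx, h3])
  have hpow : ∀ m : ℕ, g ^ (2 * m + 1) * x * (g ^ (2 * m + 1))⁻¹ = x⁻¹ := by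
    intro m
    induction m with
    | zero => simpa using hgx
    | succ m ih =>
      have e : g ^ (2 * (m + 1) + 1) = g * g * g ^ (2 * m + 1) := by
        rw [show 2 * (m + 1) + 1 = 2 + (2 * m + 1) by ring, pow_add, pow_two]
      rw [e]
      calc g * g * g ^ (2 * m + 1) * x * (g * g * g ^ (2 * m + 1))⁻¹
          = g * (g * (g ^ (2 * m + 1) * x * (g ^ (2 * m + 1))⁻¹) * g⁻¹) * g⁻¹ := by group
        _ = g * (g * x⁻¹ * g⁻¹) * g⁻¹ := by rw [ih]
        _ = g * (g * x * g⁻¹)⁻¹ * g⁻¹ := by group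
        _ = x⁻¹ := by rw [hgx, inv_inv, hgx]
  have hg0 : 0 < orderOf g := orderOf_pos g
  obtain ⟨i, hi | hi⟩ := Nat.even_or_odd' (orderOf g)
  swap
  · exfalso
    have h2 := hpow i
    rw [← hi, pow_orderOf_eq_one] at h2
    apply hx1
    rw [← h2]; group
  have hgi1 : g ^ i ≠ 1 := by
    intro h2
    have h3 := Nat.le_of_dvd (by omega) (orderOf_dvd_of_pow_eq_one h2)
    omega
  have hgi2 : g ^ i * g ^ i = 1 := by rw [← pow_add, ← two_mul, ← hi, pow_orderOf_eq_one]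
  have hgiz : g ^ i = zz L := h.eq_zz hL (L.pow_mem (hNL hgN) i) hgi2 hgi1
  obtain ⟨j, hj | hj⟩ := Nat.even_or_odd' i
  · refine ⟨g ^ j, N.pow_mem hgN j, ?_⟩
    rw [← pow_add, ← two_mul, ← hj, hgiz]
  · exfalso
    have h2 := hpow j
    rw [← hj, hgiz, hzx, mul_inv_cancel_right] at h2
    exact hx1 h2

end TyTwo

/-! ### Two commuting involutions of `E` centralised by an involution -/

/-- an involution acting on an elementary abelian group of order at least `8` has at least three fixed points -/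
theorem exists_two_fixed [Finite G] {E : Subgroup G} (hc : ∀ a ∈ E, ∀ b ∈ E, a * b = b * a)
    (hs : ∀ a ∈ E, a * a = 1) (h8 : 8 ≤ Nat.card E) {z : G} (hz : z * z = 1)
    (hzE : z ∈ normalizer (E : Set G)) :
    ∃ a ∈ E, ∃ b ∈ E, a ≠ 1 ∧ b ≠ 1 ∧ b ≠ a ∧ a * z = z * a ∧ b * z = z * b := by
  classical
  have hzi := inv_eq_self hz
  have hcE : ∀ e ∈ E, z * e * z⁻¹ ∈ E := fun e he => (mem_normalizer_iff.1 hzE e).1 he
  let φ : E →* E :=
    { toFun := fun e => ⟨(e : G) * (z * e * z⁻¹), E.mul_mem e.2 (hcE e e.2)⟩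
      map_one' := by apply Subtype.ext; simp
      map_mul' := by
        rintro ⟨x, hx⟩ ⟨y, hy⟩
        apply Subtype.ext
        change x * y * (z * (x * y) * z⁻¹) = x * (z * x * z⁻¹) * (y * (z * y * z⁻¹))
        calc x * y * (z * (x * y) * z⁻¹) = x * (y * (z * x * z⁻¹)) * (z * y * z⁻¹) := by group
          _ = x * ((z * x * z⁻¹) * y) * (z * y * z⁻¹) := by rw [hc y hy _ (hcE x hx)]
          _ = x * (z * x * z⁻¹) * (y * (z * y * z⁻¹)) := by group }
  set F : Subgroup G := E ⊓ centralizer {z} with hF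
  have h1 : Nat.card φ.ker ≤ Nat.card F := by
    have hle : φ.ker.map E.subtype ≤ F := by
      rintro _ ⟨⟨e, he⟩, hk, rfl⟩
      have h2 : e * (z * e * z⁻¹) = 1 := congrArg Subtype.val (MonoidHom.mem_ker.1 hk)
      refine ⟨he, mem_centralizer_singleton_iff.2 ?_⟩
      change e * z = z * e
      have h3 : z * e * z⁻¹ = e := by
        rw [← mul_right_inj e, h2, hs e he]
      rw [mul_inv_eq_iff_eq_mul] at h3
      exact h3.symm
    rw [← card_map_of_injective E.subtype_injective (K := φ.ker)]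
    exact card_le_of_le hle
  have h2 : Nat.card φ.range ≤ Nat.card F := by
    have hle : φ.range.map E.subtype ≤ F := by
      rintro _ ⟨_, ⟨⟨e, he⟩, rfl⟩, rfl⟩
      change e * (z * e * z⁻¹) ∈ F
      refine ⟨E.mul_mem he (hcE e he), mem_centralizer_singleton_iff.2 ?_⟩
      have h3 := hc e he _ (hcE e he)
      have h4 : z * (e * (z * e * z⁻¹)) * z⁻¹ = e * (z * e * z⁻¹) := by
        calc z * (e * (z * e * z⁻¹)) * z⁻¹ = (z * e * z⁻¹) * ((z * z) * e * (z * z)⁻¹) := by group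
          _ = (z * e * z⁻¹) * e := by rw [hz]; group
          _ = e * (z * e * z⁻¹) := h3.symm
      rw [mul_inv_eq_iff_eq_mul] at h4
      exact h4.symm
    rw [← card_map_of_injective E.subtype_injective (K := φ.range)]
    exact card_le_of_le hle
  have h3 : Nat.card E = Nat.card φ.range * Nat.card φ.ker := by
    rw [← Subgroup.card_mul_index φ.ker, Subgroup.index_ker, mul_comm]
  have h4 : 3 ≤ Nat.card F := by
    by_contra h5
    have h6 : Nat.card F ≤ 2 := by omega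
    have h7 : Nat.card φ.range * Nat.card φ.ker ≤ 2 * 2 :=
      Nat.mul_le_mul (h2.trans h6) (h1.trans h6)
    omega
  by_contra hcon
  push Not at hcon
  -- then `F ≤ {1, a}`
  have h5 : Nat.card F ≤ 2 := by
    by_cases hb : ∃ a ∈ F, a ≠ 1
    · obtain ⟨a, ha, ha1⟩ := hb
      have h6 : (F : Set G) ⊆ (({1, a} : Finset G) : Set G) := by
        intro b hb
        simp only [Finset.coe_insert, Finset.coe_singleton, Set.mem_insert_iff, Set.mem_singleton_iff]
        by_contra h7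
        push Not at h7
        exact hcon a ha.1 b hb.1 ha1 h7.1 h7.2 (mem_centralizer_singleton_iff.1 ha.2)
          (mem_centralizer_singleton_iff.1 hb.2)
      have h7 : Nat.card F = (F : Set G).ncard := rfl
      rw [h7]
      refine (Set.ncard_le_ncard h6).trans ?_
      rw [Set.ncard_coe_finset]
      exact Finset.card_le_two
    · push Not at hb
      have h6 : F = ⊥ := (eq_bot_iff_forall F).2 hb
      rw [h6, card_bot]
      norm_num
  omega

/-! ### The closing hypothesis -/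

/-- `M` contains `N(E(S))` and the centralisers of the non-trivial elements of `E(S)`; `|E(S)| ≥ 8` -/
structure Clo (Om : Set (Subgroup G)) (S M : Subgroup G) : Prop where
  nor : normalizer (ES Om S : Set G) ≤ M
  cen : ∀ e ∈ ES Om S, e ≠ 1 → centralizer {e} ≤ M
  card : 8 ≤ Nat.card (ES Om S)

namespace Clo

variable [Finite G] {Om : Set (Subgroup G)} {M S : Subgroup G}

theorem cj (h : Hyp Om) (hc : Clo Om S M) {m : G} (hm : m ∈ M) : Clo Om (Cit.cj m S) M := by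
  have hM : Cit.cj m M = M := mem_normalizer_iff_cj.1 (le_normalizer hm)
  have hE : ES Om (Cit.cj m S) = Cit.cj m (ES Om S) := (cj_ES h m).symm
  refine ⟨?_, ?_, ?_⟩
  · rw [hE]
    intro g hg
    have h1 : m⁻¹ * g * m ∈ normalizer (ES Om S : Set G) := by
      rw [mem_normalizer_iff_cj] at hg ⊢
      rw [cj_mul, cj_mul, hg, cj_inv_cj]
    have h2 : g = m * (m⁻¹ * g * m) * m⁻¹ := by group
    rw [h2]
    exact M.mul_mem (M.mul_mem hm (hc.nor h1)) (M.inv_mem hm)
  · intro e he he1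
    rw [hE, mem_cj] at he
    have h1 : m⁻¹ * e * m ≠ 1 := by
      intro h2
      apply he1
      have h3 : e = m * (m⁻¹ * e * m) * m⁻¹ := by group
      rw [h3, h2]; group
    have h2 := hc.cen _ he h1
    have h3 := cj_mono m h2
    rw [hM, cj_centralizer] at h3
    have h4 : m * (m⁻¹ * e * m) * m⁻¹ = e := by group
    rwa [h4] at h3
  · rw [hE, card_cj]; exact hc.card

theorem le (h : Hyp Om) (hS : IsPGroup 2 S) (hc : Clo Om S M) : S ≤ M :=
  ((le_normalizer.trans (normalizer_le_normalizer_DD h.conj)).trans (normalizer_DD_le h hS)).trans hc.nor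

theorem le_normalizer (h : Hyp Om) (hS : IsPGroup 2 S) : S ≤ normalizer (ES Om S : Set G) :=
  (Subgroup.le_normalizer.trans (normalizer_le_normalizer_DD h.conj)).trans (normalizer_DD_le h hS)

end Clo

/-! ### Members and the core `X_z` -/

section Moved

variable [Finite G] {Om : Set (Subgroup G)} {L M : Subgroup G}

/-- `O(L) ≤ O(C(z_L))` -/
theorem OO_le_XX (h : Hyp Om) (hL : L ∈ Om) : OO L ≤ XX (zz L) := by
  have hLC := h.le_centralizer hL
  refine LB.le_OO_of_subnormal ((OO_le L).trans hLC) ?_ (odd_OO L)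
  refine IsSubnormal.trans (K := L.subgroupOf (centralizer {zz L})) ?_ ?_ (h.sub L hL)
  · intro x hx
    exact OO_le L hx
  · refine Normal.isSubnormal ⟨?_⟩
    rintro ⟨⟨d, hdC⟩, hdL⟩ hd ⟨⟨a, haC⟩, haL⟩
    exact (mem_normalizer_iff.1 (le_normalizer_OO L haL) d).1 hd

/-- elements of two different members with the same involution commute modulo `X_z` -/
theorem comm_mem_XX (h : Hyp Om) {K L : Subgroup G} (hK : K ∈ Om) (hL : L ∈ Om) (hz : zz K = zz L) (hne : K ≠ L)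
    {x y : G} (hx : x ∈ K) (hy : y ∈ L) : x * y * x⁻¹ * y⁻¹ ∈ XX (zz L) := by
  rcases h.h2 K hK L hL hz with h1 | h1
  · exact absurd h1 hne
  · exact OO_le_XX h hL (h1 (commutator_mem_commutator hx hy)).2

/-- an involution `f` moving `L`: `l l^f ∈ M` -/
theorem mul_conj_mem (h : Hyp Om) {f : G} (hf : f * f = 1) (hL : L ∈ Om) (hfz : f * zz L = zz L * f)
    (hX : XX (zz L) ≤ M) (hCf : centralizer {f} ≤ M) (hmv : cj f L ≠ L) {l : G} (hl : l ∈ L) :
    l * (f * l * f⁻¹) ∈ M := by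
  have hz : zz (cj f L) = zz L := by
    rw [h.zz_cj hL, hfz, mul_inv_cancel_right]
  have hfi := inv_eq_self hf
  obtain ⟨y, hy⟩ : ∃ y, y = l * (f * l * f⁻¹) := ⟨_, rfl⟩
  have h1 : y⁻¹ * (f * y * f⁻¹) ∈ XX (zz L) := by
    have h2 := comm_mem_XX h (h.conj L hL f) hL hz hmv
      (x := (f * l * f⁻¹)⁻¹) (y := l⁻¹) (Subgroup.inv_mem _ (conj_mem_cj hl)) (L.inv_mem hl)
    have h3 : y⁻¹ * (f * y * f⁻¹) = (f * l * f⁻¹)⁻¹ * l⁻¹ * (f * l * f⁻¹)⁻¹⁻¹ * l⁻¹⁻¹ := by
      rw [hy]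
      calc (l * (f * l * f⁻¹))⁻¹ * (f * (l * (f * l * f⁻¹)) * f⁻¹)
          = (f * l * f⁻¹)⁻¹ * l⁻¹ * (f * l * f⁻¹) * ((f * f) * l * (f * f)⁻¹) := by group
        _ = _ := by rw [hf]; group
    rw [h3]; exact h2
  obtain ⟨k, hk, hkf⟩ := exists_mul_comm (odd_XX _) hf h1
  have h2 : y * k ∈ M := hCf (mem_centralizer_singleton_iff.2 hkf)
  have h3 := M.mul_mem h2 (M.inv_mem (hX hk))
  rw [mul_inv_cancel_right, hy] at h3
  exact h3

/-- a four-group acting regularly on a set of members with the same involution -/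
theorem comm_mem_of_regular (h : Hyp Om) {a b : G} (ha : a * a = 1) (hb : b * b = 1)
    (hL : L ∈ Om) (haz : a * zz L = zz L * a) (hbz : b * zz L = zz L * b)
    (hX : XX (zz L) ≤ M) (hCa : centralizer {a} ≤ M) (hCb : centralizer {b} ≤ M)
    (hma : cj a L ≠ L) (hmb : cj b L ≠ L) (hmab : cj (a * b) L ≠ L) {l n : G} (hl : l ∈ L) (hn : n ∈ L) :
    l * n * l⁻¹ * n⁻¹ ∈ M := by
  have hza : zz (cj a L) = zz L := by rw [h.zz_cj hL, haz, mul_inv_cancel_right]
  have hzb : zz (cj b L) = zz L := by rw [h.zz_cj hL, hbz, mul_inv_cancel_right]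
  have hne : cj a L ≠ cj b L := by
    intro h1
    apply hmab
    rw [cj_mul, ← h1, ← cj_mul, ha, cj_one]
  have hLa := h.conj L hL a
  have hLb := h.conj L hL b
  have hC := h.le_centralizer hL
  refine comm_mem_of_mod (C := centralizer {zz L}) (X := XX (zz L)) (centralizer_le_normalizer_XX _) hX
    (hC hl) (hC hn) (mul_conj_mem h ha hL haz hX hCa hma hl) (mul_conj_mem h hb hL hbz hX hCb hmb hn) ?_ ?_ ?_
  · exact comm_mem_XX h hLa hL hza hma (conj_mem_cj hl) hn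
  · rw [← hzb]
    exact comm_mem_XX h hLa hLb (hza.trans hzb.symm) hne (conj_mem_cj hl) (conj_mem_cj hn)
  · rw [← hzb]
    exact comm_mem_XX h hL hLb hzb.symm (Ne.symm hmb) hl (conj_mem_cj hn)

/-- two commuting involutions, one moving `L`, one fixing `L` -/
theorem exists_of_moved_fixed (h : Hyp Om) {f f0 : G} (hf : f * f = 1) (hf0 : f0 * f0 = 1) (hff : f0 * f = f * f0)
    (hL : L ∈ Om) (hT : TyTwo (cj f L)) (hfz : f * zz L = zz L * f) (hfz0 : f0 * zz L = zz L * f0)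
    (hX : XX (zz L) ≤ M) (hCf : centralizer {f} ≤ M) (hCf0 : centralizer {f0} ≤ M)
    (hCff : centralizer {f0 * f} ≤ M)
    (hmf : cj f L ≠ L) (hf0L : cj f0 L = L) : ∃ Q, Syl Q (cj f L) ∧ Q ≤ M := by
  have hff2 : f0 * f * (f0 * f) = 1 := by
    calc f0 * f * (f0 * f) = f0 * (f * f0) * f := by group
      _ = f0 * (f0 * f) * f := by rw [hff]
      _ = (f0 * f0) * (f * f) := by group
      _ = 1 := by rw [hf, hf0, one_mul]
  have hffz : f0 * f * zz L = zz L * (f0 * f) := by rw [mul_assoc, hfz, ← mul_assoc, hfz0, mul_assoc]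
  have hffL : cj (f0 * f) L = cj f L := by rw [hff, cj_mul, hf0L]
  have h1 : ∀ l' ∈ cj f L, l'⁻¹ * (f0 * l' * f0⁻¹) ∈ M := by
    rintro l' hl'
    rw [mem_cj] at hl'
    obtain ⟨l, hl⟩ : ∃ l, l = f⁻¹ * l' * f := ⟨_, rfl⟩
    rw [← hl] at hl'
    have hl'' : l' = f * l * f⁻¹ := by rw [hl]; group
    have a1 := mul_conj_mem h hf hL hfz hX hCf hmf hl'
    have a2 := mul_conj_mem h hff2 hL hffz hX hCff (by rw [hffL]; exact hmf) hl'
    have a3 := M.mul_mem (M.inv_mem a1) a2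
    have e : (l * (f * l * f⁻¹))⁻¹ * (l * (f0 * f * l * (f0 * f)⁻¹)) = l'⁻¹ * (f0 * l' * f0⁻¹) := by
      rw [hl'']; group
    rwa [e] at a3
  have hf0L' : f0 ∈ normalizer (cj f L : Set G) := by
    rw [mem_normalizer_iff_cj, ← cj_mul, hffL]
  obtain ⟨Q, hQ, hQ2⟩ := exists_syl_com h (h.conj L hL f) hT hf0 hf0L' h1
  exact ⟨Q, hQ, hQ2.elim (fun h2 => h2.trans hCf0) id⟩

end Moved

/-! ### A four-group commuting with an involution -/

/-- `T'` Sylow in `C_M(z)`, `a, b ∈ T'` commuting involutions, `C(a), C(b), C(ab) ≤ M` -/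
structure Four (T' M : Subgroup G) (z a b : G) : Prop where
  syl : Syl T' (M ⊓ centralizer {z})
  a_T : a ∈ T'
  b_T : b ∈ T'
  aa : a * a = 1
  bb : b * b = 1
  comm : a * b = b * a
  Ca : centralizer {a} ≤ M
  Cb : centralizer {b} ≤ M
  Cab : centralizer {a * b} ≤ M

namespace Four

variable [Finite G] {Om : Set (Subgroup G)} {M T' : Subgroup G} {z a b : G}

theorem az (fr : Four T' M z a b) : a * z = z * a := mem_centralizer_singleton_iff.1 (fr.syl.1 fr.a_T).2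
theorem bz (fr : Four T' M z a b) : b * z = z * b := mem_centralizer_singleton_iff.1 (fr.syl.1 fr.b_T).2
theorem abz (fr : Four T' M z a b) : a * b * z = z * (a * b) := by
  rw [mul_assoc, fr.bz, ← mul_assoc, fr.az, mul_assoc]

/-- `X_z ≤ M` -/
theorem XX_le (fr : Four T' M z a b) : XX z ≤ M := by
  have hodd : Odd (Nat.card (XX z)) := by
    rw [← Nat.not_even_iff_odd, even_iff_two_dvd]; exact odd_XX z
  have hn : ∀ f : G, f * z = z * f → ∀ x ∈ XX z, f * x * f⁻¹ ∈ XX z := fun f hf x hx =>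
    (mem_normalizer_iff.1 (centralizer_le_normalizer_XX z (mem_centralizer_singleton_iff.2 hf)) x).1 hx
  exact Lib.KleinGen.le_of_klein (XX z) M hodd a b fr.aa fr.bb fr.comm
    (hn a fr.az) (hn b fr.bz) (inf_le_right.trans fr.Ca) (inf_le_right.trans fr.Cb)
    (inf_le_right.trans fr.Cab)

/-- elements moved by `a`, `b` only by `z` are in `M` -/
theorem mem_of_two (fr : Four T' M z a b) (hz2 : z * z = 1)
    {v : G} (h1 : a * v * a⁻¹ = v ∨ a * v * a⁻¹ = z * v) (h2 : b * v * b⁻¹ = v ∨ b * v * b⁻¹ = z * v) : v ∈ M := by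
  rcases h1 with h1 | h1
  · exact fr.Ca (mem_centralizer_singleton_iff.2 (mul_inv_eq_iff_eq_mul.1 h1).symm)
  rcases h2 with h2 | h2
  · exact fr.Cb (mem_centralizer_singleton_iff.2 (mul_inv_eq_iff_eq_mul.1 h2).symm)
  refine fr.Cab (mem_centralizer_singleton_iff.2 ?_)
  have h3 : a * b * v * (a * b)⁻¹ = v := by
    calc a * b * v * (a * b)⁻¹ = a * (b * v * b⁻¹) * a⁻¹ := by group
      _ = a * z * v * a⁻¹ := by rw [h2]; group
      _ = z * (a * v * a⁻¹) := by rw [fr.az]; group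
      _ = (z * z) * v := by rw [h1]; group
      _ = v := by rw [hz2, one_mul]
  exact (mul_inv_eq_iff_eq_mul.1 h3).symm

/-- the exceptional outcome: `w ∈ K ∩ T'`, `w² = z_K`, `w` inverted by `a` or `b` -/
def Exc (T' K : Subgroup G) (a b : G) : Prop :=
  ∃ w ∈ T', w ∈ K ∧ w * w = zz K ∧ ∃ f, (f = a ∨ f = b) ∧ f * w * f⁻¹ = zz K * w

/-- case (C): `a` and `b` normalise the member `K` with involution `z` -/
theorem of_fixed {K : Subgroup G} (fr : Four T' M (zz K) a b) (h : Hyp Om) (hK : K ∈ Om) (haK : cj a K = K)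
    (hbK : cj b K = K) : (∃ Q, Syl Q K ∧ Q ≤ M) ∨ Exc T' K a b := by
  have hz2 := h.zz_mul hK
  obtain ⟨T0, hT0, hT'0⟩ := Cit.exists_syl_ge fr.syl.2.1 (fr.syl.1.trans inf_le_right)
  have hTM : T0 ⊓ M ≤ T' := by
    rw [← fr.syl.eq_of_le (le_inf hT'0 (fr.syl.1.trans inf_le_left))
      (le_inf inf_le_right (inf_le_left.trans hT0.1)) (hT0.2.1.to_le inf_le_left)]
  obtain ⟨Q0, hQ0⟩ : ∃ Q0, Q0 = K ⊓ T0 := ⟨_, rfl⟩
  have hQ : Syl Q0 K := by
    rw [hQ0]; exact syl_inf hT0.2.1 (h.mem_OmS_of_syl hK hT0)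
  obtain ⟨P, hP⟩ : ∃ P, P = T0 ⊓ normalizer (K : Set G) := ⟨_, rfl⟩
  have hPQ : P ≤ normalizer (Q0 : Set G) := by
    intro t ht
    rw [hP] at ht
    rw [mem_normalizer_iff_cj, hQ0, cj_inf, mem_normalizer_iff_cj.1 ht.2,
      mem_normalizer_iff_cj.1 (le_normalizer ht.1)]
  have haP : a ∈ P := by rw [hP]; exact ⟨hT'0 fr.a_T, mem_normalizer_iff_cj.2 haK⟩
  have hbP : b ∈ P := by rw [hP]; exact ⟨hT'0 fr.b_T, mem_normalizer_iff_cj.2 hbK⟩
  have hIsQ : AutQuat.IsQ Q0 := h.isGQ hK hQ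
  obtain ⟨x, hx, hx4, hxc, hxP⟩ := hIsQ.exists_cyclic (P := P)
    (hT0.2.1.to_le (by rw [hP]; exact inf_le_left)) hPQ
  have hxQ : zpowers x ≤ Q0 := zpowers_le.2 hx
  have hconj : ∀ f ∈ P, ∀ y ∈ zpowers x, f * y * f⁻¹ ∈ zpowers x := by
    intro f hf y hy
    obtain ⟨k, rfl⟩ := mem_zpowers_iff.1 hy
    rw [← conj_zpow]
    exact zpow_mem (hxP f hf) k
  have hcom : ∀ y ∈ zpowers x, ∀ y' ∈ zpowers x, y * y' = y' * y := by
    intro y hy y' hy'
    obtain ⟨k, rfl⟩ := mem_zpowers_iff.1 hy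
    obtain ⟨k', rfl⟩ := mem_zpowers_iff.1 hy'
    rw [← zpow_add, ← zpow_add, add_comm]
  have hx2 : x * x ≠ 1 := by
    intro h1
    have h2 := Nat.le_of_dvd (by norm_num) (orderOf_dvd_of_pow_eq_one (by rw [pow_two]; exact h1 : x ^ 2 = 1))
    omega
  obtain ⟨w, hw, hww⟩ := exists_pow_sq h hK hQ hx hx2
  have hwQ : w ∈ Q0 := hxQ hw
  have hone : ∀ e ∈ Q0, e * e = 1 → e = 1 ∨ e = zz K := by
    intro e he he2
    by_cases h1 : e = 1
    · exact Or.inl h1
    · exact Or.inr (h.eq_zz hK (hQ.1 he) he2 h1)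
  -- two elements of `⟨x⟩` of square `z`
  have hsq : ∀ g ∈ zpowers x, g * g = zz K → g = w ∨ g = zz K * w := by
    intro g hg hgg
    have h1 : g * w⁻¹ * (g * w⁻¹) = 1 := by
      have h2 := hcom w⁻¹ (inv_mem hw) g hg
      calc g * w⁻¹ * (g * w⁻¹) = g * (w⁻¹ * g) * w⁻¹ := by group
        _ = (g * g) * (w * w)⁻¹ := by rw [h2]; group
        _ = 1 := by rw [hgg, hww, mul_inv_cancel]
    rcases hone _ (mul_mem (hxQ hg) (inv_mem hwQ)) h1 with h2 | h2
    · left
      exact mul_inv_eq_one.1 h2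
    · right
      exact mul_inv_eq_iff_eq_mul.1 h2
  have hPz : ∀ f ∈ P, f * zz K = zz K * f := by
    intro f hf
    rw [hP] at hf
    exact h.comm_zz hK hf.2
  have hA : ∀ f ∈ P, f * w * f⁻¹ = w ∨ f * w * f⁻¹ = zz K * w := by
    intro f hf
    refine hsq _ (hconj f hf w hw) ?_
    calc f * w * f⁻¹ * (f * w * f⁻¹) = f * (w * w) * f⁻¹ := by group
      _ = zz K := by rw [hww, hPz f hf, mul_inv_cancel_right]
  -- `w ∈ M`, so `w` is in `T'`
  have hwM : w ∈ M := fr.mem_of_two hz2 (hA a haP) (hA b hbP)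
  have hwT0 : w ∈ T0 := by
    rw [hQ0] at hwQ; exact hwQ.2
  have hwT' : w ∈ T' := hTM ⟨hwT0, hwM⟩
  rcases hA a haP with haw | haw
  swap
  · exact Or.inr ⟨w, hwT', hQ.1 hwQ, hww, a, Or.inl rfl, haw⟩
  rcases hA b hbP with hbw | hbw
  swap
  · exact Or.inr ⟨w, hwT', hQ.1 hwQ, hww, b, Or.inr rfl, hbw⟩
  left
  -- elements of `⟨x⟩` inverted by `f`
  have hB : ∀ f ∈ P, f * w * f⁻¹ = w → ∀ d ∈ zpowers x, f * d * f⁻¹ = d⁻¹ → d = 1 ∨ d = zz K := by
    intro f hf hfw d hd hfd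
    by_cases h1 : d * d = 1
    · exact hone d (hxQ hd) h1
    · exfalso
      obtain ⟨g, hg, hgg⟩ := exists_pow_sq h hK hQ (hxQ hd) h1
      have hgx : g ∈ zpowers x := (zpowers_le.2 hd) hg
      have h2 : f * g * f⁻¹ = g⁻¹ := by
        obtain ⟨j, rfl⟩ := mem_zpowers_iff.1 hg
        rw [← conj_zpow, hfd, inv_zpow]
      have h3 : f * g * f⁻¹ = g := by
        rcases hsq g hgx hgg with h4 | h4
        · rw [h4, hfw]
        · rw [h4]
          calc f * (zz K * w) * f⁻¹ = (f * zz K) * w * f⁻¹ := by group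
            _ = zz K * (f * w * f⁻¹) := by rw [hPz f hf]; group
            _ = zz K * w := by rw [hfw]
      have h4 : g * g = 1 := by
        nth_rewrite 2 [← h3]
        rw [h2, mul_inv_cancel]
      exact h.zz_ne hK (by rw [← hgg, h4])
  have hidx : ((zpowers x).subgroupOf Q0).index = 2 := by
    have h1 := Subgroup.card_mul_index ((zpowers x).subgroupOf Q0)
    rw [Nat.card_congr (subgroupOfEquivOfLe hxQ).toEquiv, Nat.card_zpowers, ← hxc] at h1
    have h2 : orderOf x * ((zpowers x).subgroupOf Q0).index = orderOf x * 2 := by rw [h1]; ring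
    exact Nat.eq_of_mul_eq_mul_left (by omega) h2
  have hC : ∀ f ∈ P, f * f = 1 → f * w * f⁻¹ = w → ∀ v ∈ Q0, f * v * f⁻¹ = v ∨ f * v * f⁻¹ = zz K * v := by
    intro f hf hff hfw v hv
    have hfv : f * v * f⁻¹ ∈ Q0 := (mem_normalizer_iff.1 (hPQ hf) v).1 hv
    have hfi := inv_eq_self hff
    obtain ⟨d, hd⟩ : ∃ d, d = f * v * f⁻¹ * v⁻¹ := ⟨_, rfl⟩
    have hdx : d ∈ zpowers x := by
      have h1 := (Subgroup.mul_mem_iff_of_index_two hidx (a := (⟨f * v * f⁻¹, hfv⟩ : Q0))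
        (b := (⟨v, hv⟩ : Q0)⁻¹)).2 (by
          rw [inv_mem_iff, mem_subgroupOf, mem_subgroupOf]
          change f * v * f⁻¹ ∈ zpowers x ↔ v ∈ zpowers x
          constructor
          · intro h2
            have h3 := hconj f hf _ h2
            have h4 : f * (f * v * f⁻¹) * f⁻¹ = (f * f) * v * (f * f)⁻¹ := by group
            rw [h4, hff] at h3
            simpa using h3
          · exact hconj f hf v)
      rw [hd]
      exact h1
    have hdi : f * d * f⁻¹ = d⁻¹ := by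
      rw [hd]
      calc f * (f * v * f⁻¹ * v⁻¹) * f⁻¹ = (f * f) * v * f⁻¹ * v⁻¹ * f⁻¹ := by group
        _ = v * f⁻¹ * v⁻¹ * f⁻¹ := by rw [hff, one_mul]
        _ = v * f * v⁻¹ * f⁻¹ := by rw [hfi]
        _ = (f * v * f⁻¹ * v⁻¹)⁻¹ := by group
    rcases hB f hf hfw d hdx hdi with h1 | h1
    · left
      rw [hd] at h1
      exact mul_inv_eq_one.1 h1
    · right
      rw [hd] at h1
      exact mul_inv_eq_iff_eq_mul.1 h1
  exact ⟨Q0, hQ, fun v hv => fr.mem_of_two hz2 (hC a haP fr.aa haw v hv)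
    (hC b hbP fr.bb hbw v hv)⟩

/-- `X_z ≤ M`, `z` the involution of a member: some member with the same involution has a Sylow 2-subgroup in `M`,
or the exceptional outcome holds -/
theorem core {K : Subgroup G} (fr : Four T' M (zz K) a b) (h : Hyp Om) (hT : ∀ K ∈ Om, TyTwo K) (hK : K ∈ Om) :
    (∃ L ∈ Om, zz L = zz K ∧ ∃ Q, Syl Q L ∧ Q ≤ M) ∨ Exc T' K a b := by
  have hX := fr.XX_le
  have ha := fr.aa
  have hb := fr.bb
  have hab := fr.comm
  have hab2 : a * b * (a * b) = 1 := by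
    calc a * b * (a * b) = a * (b * a) * b := by group
      _ = (a * a) * (b * b) := by rw [← hab]; group
      _ = 1 := by rw [ha, hb, one_mul]
  have hzf : ∀ f : G, f * zz K = zz K * f → zz (cj f K) = zz K := by
    intro f hf
    rw [h.zz_cj hK, hf, mul_inv_cancel_right]
  -- a general step: `f` moves, `f0` fixes
  have step : ∀ f f0 : G, f * f = 1 → f0 * f0 = 1 → f0 * f = f * f0 → f * zz K = zz K * f →
      f0 * zz K = zz K * f0 → centralizer {f} ≤ M → centralizer {f0} ≤ M → centralizer {f0 * f} ≤ M →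
      cj f K ≠ K → cj f0 K = K → (∃ L ∈ Om, zz L = zz K ∧ ∃ Q, Syl Q L ∧ Q ≤ M) ∨ Exc T' K a b := by
    intro f f0 h1 h2 h3 h4 h5 h6 h7 h8 h9 h10
    left
    exact ⟨cj f K, h.conj K hK f, hzf f h4,
      exists_of_moved_fixed h h1 h2 h3 hK (hT _ (h.conj K hK f)) h4 h5 hX h6 h7 h8 h9 h10⟩
  have Ca := fr.Ca
  have Cb := fr.Cb
  have Cab := fr.Cab
  have e1 : a * (a * b) = b := by rw [← mul_assoc, ha, one_mul]
  have e2 : b * (a * b) = a := by rw [hab, ← mul_assoc, hb, one_mul]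
  by_cases hma : cj a K = K
  · by_cases hmb : cj b K = K
    · rcases fr.of_fixed h hK hma hmb with h1 | h1
      · exact Or.inl ⟨K, hK, rfl, h1⟩
      · exact Or.inr h1
    · exact step b a hb ha hab fr.bz fr.az Cb Ca Cab hmb hma
  · by_cases hmb : cj b K = K
    · exact step a b ha hb hab.symm fr.az fr.bz Ca Cb (by rw [← hab]; exact Cab) hma hmb
    · by_cases hmab : cj (a * b) K = K
      · refine step a (a * b) ha hab2 ?_ fr.az fr.abz Ca Cab ?_ hma hmab
        · rw [e1, hab, mul_assoc, ha, mul_one]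
        · rw [hab, mul_assoc, ha, mul_one]
          exact Cb
      · left
        obtain ⟨Q, hQ⟩ := Hyp.exists_syl K
        exact ⟨K, hK, rfl, Q, hQ, le_of_comm h hK (hT K hK) (fun l hl n hn =>
          comm_mem_of_regular h ha hb hK fr.az fr.bz hX Ca Cb hma hmb hmab hl hn) hQ⟩

/-- the exceptional outcome, for a subgroup `N` normalised by `T'` -/
theorem Exc.mem {K N : Subgroup G} (he : Exc T' K a b) (ha : a ∈ N) (hb : b ∈ N)
    (hN : T' ≤ normalizer (N : Set G)) : zz K ∈ N := by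
  obtain ⟨w, hwT, -, -, f, hf, h1⟩ := he
  have hf' : f ∈ N := by
    rcases hf with rfl | rfl
    · exact ha
    · exact hb
  have h2 : zz K = f * (w * f⁻¹ * w⁻¹) := by
    calc zz K = (zz K * w) * w⁻¹ := by group
      _ = (f * w * f⁻¹) * w⁻¹ := by rw [h1]
      _ = f * (w * f⁻¹ * w⁻¹) := by group
  rw [h2]
  exact mul_mem hf' ((mem_normalizer_iff.1 (hN hwT) _).1 (inv_mem hf'))

/-- `a, b ∈ N`, `N` normalised by `T'` : some member with involution `z_K` has a Sylow 2-subgroup in `M`, or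
`z_K ∈ N` -/
theorem mem_or {K N : Subgroup G} (fr : Four T' M (zz K) a b) (h : Hyp Om) (hT : ∀ K ∈ Om, TyTwo K) (hK : K ∈ Om)
    (ha : a ∈ N) (hb : b ∈ N) (hN : T' ≤ normalizer (N : Set G)) :
    (∃ L ∈ Om, zz L = zz K ∧ ∃ Q, Syl Q L ∧ Q ≤ M) ∨ zz K ∈ N :=
  (fr.core h hT hK).imp_right fun he => he.mem ha hb hN

/-- for a 2-subgroup `T ≥ T'` and `L ∈ Om(T)` the involution `z_L` is in `M` -/
theorem zz_mem (fr : Four T' M z a b) (h : Hyp Om) {T : Subgroup G} (hT : IsPGroup 2 T) (hT' : T' ≤ T)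
    {L : Subgroup G} (hL : L ∈ OmS Om T) : zz L ∈ M := by
  have ha := fr.aa
  have hb := fr.bb
  have hab := fr.comm
  have fix : ∀ f : G, centralizer {f} ≤ M → cj f L = L → zz L ∈ M := by
    intro f hf hfL
    exact hf (mem_centralizer_singleton_iff.2 (h.comm_zz hL.1 (mem_normalizer_iff_cj.2 hfL)).symm)
  by_cases hma : cj a L = L
  · exact fix a fr.Ca hma
  by_cases hmb : cj b L = L
  · exact fix b fr.Cb hmb
  by_cases hmab : cj (a * b) L = L
  · exact fix (a * b) fr.Cab hmab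
  have hne : cj a L ≠ cj b L := by
    intro h1
    apply hmab
    rw [cj_mul, ← h1, ← cj_mul, ha, cj_one]
  have haT : a ∈ normalizer (T : Set G) := le_normalizer (hT' fr.a_T)
  have hbT : b ∈ normalizer (T : Set G) := le_normalizer (hT' fr.b_T)
  have hLa : cj a L ∈ OmS Om T := cj_mem_OmS' h.conj haT hL
  have hLb : cj b L ∈ OmS Om T := cj_mem_OmS' h.conj hbT hL
  obtain ⟨c, v, n, hgq⟩ := h.exists_gq hL.1 (syl_inf hT hL)
  obtain ⟨q, hq, r, hr, -, -, -, hqr⟩ := hgq.exists_pair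
  have hqa : a * q * a⁻¹ ∈ cj a L ⊓ T := ⟨conj_mem_cj hq.1, (mem_normalizer_iff.1 haT q).1 hq.2⟩
  have hrb : b * r * b⁻¹ ∈ cj b L ⊓ T := ⟨conj_mem_cj hr.1, (mem_normalizer_iff.1 hbT r).1 hr.2⟩
  -- `q q^a ∈ C(a)`
  have fixed : ∀ f q : G, f * f = 1 → q * (f * q * f⁻¹) = (f * q * f⁻¹) * q → centralizer {f} ≤ M →
      q * (f * q * f⁻¹) ∈ M := by
    intro f q hf hq hC
    refine hC (mem_centralizer_singleton_iff.2 ?_)
    have h1 : f * (q * (f * q * f⁻¹)) * f⁻¹ = q * (f * q * f⁻¹) := by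
      calc f * (q * (f * q * f⁻¹)) * f⁻¹ = (f * q * f⁻¹) * ((f * f) * q * (f * f)⁻¹) := by group
        _ = (f * q * f⁻¹) * q := by rw [hf]; group
        _ = q * (f * q * f⁻¹) := hq.symm
    exact (mul_inv_eq_iff_eq_mul.1 h1).symm
  have h1 := fixed a q ha (h.comm hT hL hLa (Ne.symm hma) hq hqa) fr.Ca
  have h2 := fixed b r hb (h.comm hT hL hLb (Ne.symm hmb) hr hrb) fr.Cb
  have h3 : q * r * q⁻¹ * r⁻¹ ∈ M := by
    have tr : ∀ x y : G, x * y = y * x → x * y * x⁻¹ * y⁻¹ ∈ (⊥ : Subgroup G) := by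
      intro x y hxy
      rw [mem_bot, hxy]; group
    refine comm_mem_of_mod (C := ⊤) (X := ⊥) (H := M) ?_ bot_le (mem_top q) (mem_top r) h1 h2 ?_ ?_ ?_
    · rw [normalizer_eq_top]
    · exact tr _ _ (h.comm hT hLa hL hma hqa hr)
    · exact tr _ _ (h.comm hT hLa hLb hne hqa hrb)
    · exact tr _ _ (h.comm hT hL hLb (Ne.symm hmb) hq hrb)
  have h4 : q * r * q⁻¹ * r⁻¹ = zz L := by
    have h5 : q * r * zz L = zz L * (q * r) := h.comm_zz hL.1 (le_normalizer (L.mul_mem hq.1 hr.1))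
    calc q * r * q⁻¹ * r⁻¹ = q * r * (r * q)⁻¹ := by group
      _ = q * r * (q * r * zz L)⁻¹ := by rw [hqr]
      _ = (zz L)⁻¹ := by rw [h5]; group
      _ = zz L := h.zz_inv hL.1
  rwa [h4] at h3

end Four

/-! ### The frame of an involution of `M` -/

/-- the frame: `T'` Sylow in `C_M(z)`, `z ∈ T' ≤ S`, `a, b ∈ E(S)` commuting with `z` -/
structure Fr (Om : Set (Subgroup G)) (S T' M : Subgroup G) (z a b : G) : Prop where
  four : Four T' M z a b
  le : T' ≤ S
  mem : z ∈ T'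
  a_mem : a ∈ ES Om S
  b_mem : b ∈ ES Om S

section Frame

variable [Finite G] {Om : Set (Subgroup G)} {M : Subgroup G}

/-- Sylow's theorem in `M ≥ S` -/
theorem exists_le_cj_of_le (S : Sylow 2 G) (hSM : (S : Subgroup G) ≤ M) {R : Subgroup G} (hR : IsPGroup 2 R)
    (hRM : R ≤ M) : ∃ m ∈ M, R ≤ cj m S := by
  haveI : Fact (Nat.Prime 2) := ⟨Nat.prime_two⟩
  have h1 : Syl (S : Subgroup G) M :=
    ⟨hSM, S.isPGroup', fun h2 => S.not_dvd_index (h2.trans (relIndex_dvd_index_of_le hSM))⟩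
  obtain ⟨T, hT, hRT⟩ := Cit.exists_syl_ge hR hRM
  obtain ⟨m, hm, hmT⟩ := h1.exists_conj hT
  exact ⟨m, hm, by rw [hmT]; exact hRT⟩

theorem exists_fr (h : Hyp Om) (S : Sylow 2 G) (hc : Clo Om (S : Subgroup G) M) {z : G} (hz : z ∈ M)
    (hz2 : z * z = 1) : ∃ m ∈ M, ∃ T' a b, Fr Om (cj m (S : Subgroup G)) T' M z a b := by
  haveI : Fact (Nat.Prime 2) := ⟨Nat.prime_two⟩
  have hz2' : IsPGroup 2 (zpowers z) := by
    rintro ⟨x, hx⟩
    obtain ⟨k, rfl⟩ := mem_zpowers_iff.1 hx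
    refine ⟨1, Subtype.ext ?_⟩
    change (z ^ k) ^ 2 ^ 1 = 1
    rw [pow_one, pow_two, ← (Commute.refl z).mul_zpow, hz2, one_zpow]
  have hzC : zpowers z ≤ M ⊓ centralizer {z} :=
    zpowers_le.2 ⟨hz, mem_centralizer_singleton_iff.2 rfl⟩
  obtain ⟨T', hT', hzT'⟩ := Cit.exists_syl_ge hz2' hzC
  obtain ⟨m, hm, hmT'⟩ := exists_le_cj_of_le S (hc.le h S.isPGroup') hT'.2.1 (hT'.1.trans inf_le_left)
  have hS2 : IsPGroup 2 (cj m (S : Subgroup G)) := isPGroup_cj S.isPGroup'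
  have hc2 : Clo Om (cj m (S : Subgroup G)) M := hc.cj h hm
  have hzT : z ∈ T' := hzT' (mem_zpowers z)
  have hn : cj m (S : Subgroup G) ≤ normalizer (ES Om (cj m (S : Subgroup G)) : Set G) :=
    Clo.le_normalizer h hS2
  obtain ⟨a, ha, b, hb, ha1, hb1, hab, haz, hbz⟩ := exists_two_fixed (fun a ha b hb => ES_comm h hS2 ha hb)
    (fun a ha => ES_sq h hS2 ha) hc2.card hz2 (hn (hmT' hzT))
  have hF : ES Om (cj m (S : Subgroup G)) ⊓ centralizer {z} ≤ T' := by
    refine syl_le_of_normalizes hT' (hS2.to_le (inf_le_left.trans (ES_le h hS2)))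
      (inf_le_inf_right _ ((ES_le h hS2).trans (hc2.le h hS2))) ?_
    intro t ht
    rw [mem_normalizer_iff_cj, cj_inf, mem_normalizer_iff_cj.1 (hn (hmT' ht)),
      mem_normalizer_iff_cj.1 (Subgroup.le_normalizer (hT'.1 ht).2)]
  have haa := ES_sq h hS2 ha
  have hab' : a * b ≠ 1 := by
    intro h1
    apply hab
    rw [eq_inv_of_mul_eq_one_right h1, inv_eq_self haa]
  exact ⟨m, hm, T', a, b, ⟨hT', hF ⟨ha, mem_centralizer_singleton_iff.2 haz⟩,
    hF ⟨hb, mem_centralizer_singleton_iff.2 hbz⟩, haa, ES_sq h hS2 hb, ES_comm h hS2 ha hb, hc2.cen a ha ha1,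
    hc2.cen b hb hb1, hc2.cen _ (mul_mem ha hb) hab'⟩, hmT', hzT, ha, hb⟩

/-- the exceptional outcome gives `z ∈ E(S)` -/
theorem Fr.mem_of_exc {S T' : Subgroup G} {a b : G} {K : Subgroup G} (fr : Fr Om S T' M (zz K) a b) (h : Hyp Om)
    (hS : IsPGroup 2 S) (he : Four.Exc T' K a b) : zz K ∈ ES Om S := by
  exact he.mem fr.a_mem fr.b_mem (fr.le.trans (Clo.le_normalizer h hS))

end Frame

/-! ### (H2z) -/

section Main

variable [Finite G] {Om : Set (Subgroup G)} {M : Subgroup G}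

theorem coe_smul (S : Sylow 2 G) (m : G) : ((m • S : Sylow 2 G) : Subgroup G) = cj m (S : Subgroup G) := rfl

/-- **(H2z)** the involutions `z_K` in `M` are `M`-conjugate into `E(S)` -/
theorem Clo.exists_mem (h : Hyp Om) (hT : ∀ K ∈ Om, TyTwo K) (S : Sylow 2 G) (hc : Clo Om (S : Subgroup G) M)
    {K : Subgroup G} (hK : K ∈ Om) (hz : zz K ∈ M) : ∃ m ∈ M, zz K ∈ Cit.cj m (ES Om (S : Subgroup G)) := by
  obtain ⟨m, hm, T', a, b, fr⟩ := exists_fr h S hc hz (h.zz_mul hK)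
  have hS2 : IsPGroup 2 (Cit.cj m (S : Subgroup G)) := isPGroup_cj S.isPGroup'
  rcases fr.four.core h hT hK with ⟨L, hL, hLz, Q, hQ, hQM⟩ | h1
  · obtain ⟨m', hm', hQm⟩ := exists_le_cj_of_le S (hc.le h S.isPGroup') hQ.2.1 hQM
    refine ⟨m', hm', ?_⟩
    rw [cj_ES h, ← hLz]
    exact zz_mem_ES (mem_OmS_of_le hL hQ hQm)
  · exact ⟨m, hm, by rw [cj_ES h]; exact fr.mem_of_exc h hS2 h1⟩

/-! ### (H2) -/

/-- `g` conjugates a non-trivial element of `E(S)` into `E(S)`: then `g ∈ M` -/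
theorem Clo.mem_of_conj_mem (h : Hyp Om) (S : Sylow 2 G) (hc : Clo Om (S : Subgroup G) M) {e g : G}
    (he : e ∈ ES Om (S : Subgroup G)) (he1 : e ≠ 1) (hg : g * e * g⁻¹ ∈ ES Om (S : Subgroup G)) : g ∈ M := by
  have hD := DD_le_centralizer_ES h S.isPGroup'
  have key : ∀ x ∈ ES Om (S : Subgroup G), DD Om (S : Subgroup G) ≤ centralizer {x} := fun x hx =>
    hD.trans (centralizer_le (Set.singleton_subset_iff.2 hx))
  obtain ⟨c, hcc, hgc⟩ := control h.conj S (A := {e}) (g := g) (key e he) (by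
    intro x hx
    rw [Set.mem_singleton_iff] at hx
    rw [hx]
    exact key _ hg)
  have h1 := hc.nor (normalizer_DD_le h S.isPGroup' hgc)
  have h2 : g = (g * c) * c⁻¹ := by group
  rw [h2]
  exact M.mul_mem h1 (M.inv_mem (hc.cen e he he1 hcc))

/-- `g` conjugates a non-trivial element of `E(S)` into an `M`-conjugate of `E(S)`: then `g ∈ M` -/
theorem Clo.mem_of_conj_mem_cj (h : Hyp Om) (S : Sylow 2 G) (hc : Clo Om (S : Subgroup G) M) {e g m : G}
    (he : e ∈ ES Om (S : Subgroup G)) (he1 : e ≠ 1) (hm : m ∈ M)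
    (hg : g * e * g⁻¹ ∈ Cit.cj m (ES Om (S : Subgroup G))) : g ∈ M := by
  rw [mem_cj] at hg
  have h1 : m⁻¹ * (g * e * g⁻¹) * m = (m⁻¹ * g) * e * (m⁻¹ * g)⁻¹ := by group
  rw [h1] at hg
  have h2 := Clo.mem_of_conj_mem h S hc he he1 hg
  have h3 : g = m * (m⁻¹ * g) := by group
  rw [h3]
  exact M.mul_mem hm h2

/-- **(H2)** `e ∈ E(S)`, `e ≠ 1`, `g e g⁻¹ ∈ M` implies `g ∈ M` -/
theorem Clo.mem_of_conj (h : Hyp Om) (hT : ∀ K ∈ Om, TyTwo K) (S : Sylow 2 G) (hc : Clo Om (S : Subgroup G) M)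
    {e g : G} (he : e ∈ ES Om (S : Subgroup G)) (he1 : e ≠ 1) (hg : g * e * g⁻¹ ∈ M) : g ∈ M := by
  haveI : Fact (Nat.Prime 2) := ⟨Nat.prime_two⟩
  obtain ⟨t, ht⟩ : ∃ t, t = g * e * g⁻¹ := ⟨_, rfl⟩
  rw [← ht] at hg
  have he2 := ES_sq h S.isPGroup' he
  have ht2 : t * t = 1 := by
    calc t * t = g * (e * e) * g⁻¹ := by rw [ht]; group
      _ = 1 := by rw [he2]; group
  have ht1 : t ≠ 1 := by
    rw [ht]; exact conj_ne_one he1
  obtain ⟨m, hm, T', a, b, fr⟩ := exists_fr h S hc hg ht2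
  have hS2 : IsPGroup 2 (Cit.cj m (S : Subgroup G)) := isPGroup_cj S.isPGroup'
  obtain ⟨T, hTC, hT'T⟩ := Cit.exists_syl_ge fr.four.syl.2.1 (fr.four.syl.1.trans inf_le_right)
  -- a conjugate of `D(S)` in `T`
  have hD := DD_le_centralizer_ES h S.isPGroup'
  have hDe : DD Om (S : Subgroup G) ≤ centralizer {e} :=
    hD.trans (centralizer_le (Set.singleton_subset_iff.2 he))
  have hDg : Cit.cj g (DD Om (S : Subgroup G)) ≤ centralizer {t} := by
    have := cj_mono g hDe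
    rwa [cj_centralizer, ← ht] at this
  obtain ⟨T1, hT1, hDT1⟩ := Cit.exists_syl_ge (isPGroup_cj (g := g) (S.isPGroup'.to_le DD_le)) hDg
  obtain ⟨c, hcC, hcT⟩ := hT1.exists_conj hTC
  have hct : c * t = t * c := mem_centralizer_singleton_iff.1 hcC
  obtain ⟨x, hx⟩ : ∃ x, x = c * g := ⟨_, rfl⟩
  have hxT : Cit.cj x (DD Om (S : Subgroup G)) ≤ T := by
    rw [hx, cj_mul, ← hcT]
    exact cj_mono c hDT1
  have hxD : DD Om ((x • S : Sylow 2 G) : Subgroup G) ≤ T := by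
    have h1 : Cit.cj x (DD Om (S : Subgroup G)) = DD Om ((x • S : Sylow 2 G) : Subgroup G) := cj_DD h.conj x
    rwa [← h1]
  have hEx : ES Om T = Cit.cj x (ES Om (S : Subgroup G)) := by
    rw [ES_eq_of_OmS_eq (OmS_eq_of_sylow h.conj (x • S) hTC.2.1 hxD), cj_ES h]
    rfl
  have htx : t = x * e * x⁻¹ := by
    calc t = (c * t) * c⁻¹ := by rw [hct]; group
      _ = x * e * x⁻¹ := by rw [hx, ht]; group
  have htT : t ∈ ES Om T := by
    rw [hEx, htx]
    exact conj_mem_cj he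
  have hne : (OmS Om T).Nonempty := by
    by_contra h1
    rw [Set.not_nonempty_iff_eq_empty] at h1
    rw [ES, h1, Set.image_empty, Subgroup.closure_empty, mem_bot] at htT
    exact ht1 htT
  obtain ⟨L, hL⟩ := hne
  have hLM : zz L ∈ M := fr.four.zz_mem h hTC.2.1 hT'T hL
  -- `zz L = x e1 x⁻¹`, `e1 ∈ E(S)`
  have hLE : zz L ∈ Cit.cj x (ES Om (S : Subgroup G)) := by
    rw [← hEx]; exact zz_mem_ES hL
  rw [mem_cj] at hLE
  have hL1 : x⁻¹ * zz L * x ≠ 1 := by
    have := conj_ne_one (g := x⁻¹) (h.zz_ne hL.1)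
    rwa [inv_inv] at this
  obtain ⟨m', hm', hLm'⟩ := Clo.exists_mem h hT S hc hL.1 hLM
  have hxM : x ∈ M := by
    refine Clo.mem_of_conj_mem_cj h S hc hLE hL1 hm' ?_
    have h1 : x * (x⁻¹ * zz L * x) * x⁻¹ = zz L := by group
    rw [h1]
    exact hLm'
  refine Clo.mem_of_conj_mem_cj h S hc he he1 hxM ?_
  rw [← ht, htx]
  exact conj_mem_cj he

/-- a non-trivial element of `E(S)` -/
theorem Clo.exists_ne {S : Subgroup G} (hc : Clo Om S M) : ∃ e ∈ ES Om S, e ≠ 1 := by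
  by_contra hcon
  push Not at hcon
  have h1 : ES Om S = ⊥ := (eq_bot_iff_forall _).2 hcon
  have h2 := hc.card
  rw [h1, card_bot] at h2
  omega

/-- `M` is self-normalising -/
theorem Clo.normalizer_le (h : Hyp Om) (hT : ∀ K ∈ Om, TyTwo K) (S : Sylow 2 G) (hc : Clo Om (S : Subgroup G) M) :
    normalizer (M : Set G) ≤ M := by
  obtain ⟨e, he, he1⟩ := hc.exists_ne
  intro g hg
  refine Clo.mem_of_conj h hT S hc he he1 ((mem_normalizer_iff.1 hg e).1 ?_)
  exact hc.le h S.isPGroup' (ES_le h S.isPGroup' he)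

end Main

end Cfsg.Agent.Cit.CloseFus
end

-- part: Cit/CoreTools
section
prune_inst 0x30105100070000000000001000001e52a2000002004b80000120030206804c4000020620a82007000000080400340068124c00000000000000000400411c01a000824402a208a00020000600a000000000000000000000000000000000000000000000000
set_option linter.all false
open scoped Cfsg.Agent.FastGrp

/-!
# The core `O(C(a))` of the centraliser of an involution in a group with `O(G) = 1` (helper533, bb #8172)

`XX a = O(C(a))` centralises `O_2(G)` and every component moved or centralised by `a`, and normalises every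
component (`H1`). For an elementary abelian 2-group `A ∋ a` normalising the component `L` with
`|A : C_A(L)| ≤ 2`, `⁅XX a, A⁆` centralises `L` (`H3`). Reductions of `(TOR)` and `(2B)` of THEOREM F to
components.
-/

set_option autoImplicit false
set_option linter.style.haveILetI false
set_option linter.unusedSectionVars false

namespace Cfsg.Agent.Cit.CoreTools

open Subgroup Cfsg Cfsg.Agent.Cit Cfsg.Agent.Cit.Comp Cfsg.Agent.Cit.OneComp
open Cfsg.Agent.SignalizersComponents.Components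
open scoped commutatorElement

variable {G : Type*} [Group G]

/-! ### General tools -/

theorem coprime_XX [Finite G] (a : G) : (Nat.card (XX a)).Coprime 2 := by
  rw [Nat.coprime_comm]
  exact (Nat.Prime.coprime_iff_not_dvd Nat.prime_two).2 (odd_XX a)

theorem comm_of_mem_XX {a y : G} (hy : y ∈ XX a) : y * a = a * y :=
  mem_centralizer_singleton_iff.1 (XX_le a hy)

theorem conj_mem_XX {a c y : G} (hc : c * a = a * c) (hy : y ∈ XX a) : c * y * c⁻¹ ∈ XX a :=
  (mem_normalizer_iff.1 (centralizer_le_normalizer_XX a (mem_centralizer_singleton_iff.2 hc)) y).1 hy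

/-- a 2-element of `XX a` is trivial -/
theorem eq_one_of_mem_XX [Finite G] {a x : G} (hx : x ∈ XX a) {n : ℕ} (h : x ^ 2 ^ n = 1) : x = 1 := by
  have h1 : orderOf x ∣ Nat.card (XX a) := by
    rw [← Nat.card_zpowers]
    exact card_dvd_of_le (by rwa [zpowers_le])
  have h2 := Nat.dvd_gcd h1 (orderOf_dvd_of_pow_eq_one h)
  rw [Nat.Coprime.pow_right n (coprime_XX a), Nat.dvd_one, orderOf_eq_one_iff] at h2
  exact h2

/-- `y` lies in the group generated by `y * y` if `y ∈ XX a` -/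
theorem mem_zpowers_sq [Finite G] {a y : G} (hy : y ∈ XX a) : y ∈ zpowers (y * y) := by
  have h1 : Odd (orderOf y) := by
    rw [← Nat.not_even_iff_odd, even_iff_two_dvd]
    intro h
    refine odd_XX a (h.trans ?_)
    rw [← Nat.card_zpowers]
    exact card_dvd_of_le (by rwa [zpowers_le])
  obtain ⟨k, hk⟩ := h1
  refine ⟨(k : ℤ) + 1, ?_⟩
  change (y * y) ^ ((k : ℤ) + 1) = y
  have h2 : y ^ (2 * k + 1) = 1 := by rw [← hk, pow_orderOf_eq_one]
  rw [← pow_two, show ((k : ℤ) + 1) = ((k + 1 : ℕ) : ℤ) by push_cast; ring, zpow_natCast, ← pow_mul,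
    show 2 * (k + 1) = (2 * k + 1) + 1 by ring, pow_succ, h2, one_mul]

/-- an element acting trivially on `L / Z(L)`, `L` perfect, centralises `L` -/
theorem mem_centralizer_of_commutator {L : Subgroup G} (hL : ⁅L, L⁆ = L) {y : G}
    (h : ∀ e ∈ L, e⁻¹ * (y * e * y⁻¹) ∈ centralizer (L : Set G)) (h' : ∀ e ∈ L, y * e * y⁻¹ ∈ L) :
    y ∈ centralizer (L : Set G) := by
  have h1 : ⁅L, L⁆ ≤ centralizer {y} := by
    rw [commutator_le]
    intro e he f hf
    rw [mem_centralizer_singleton_iff]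
    set c := e⁻¹ * (y * e * y⁻¹) with hc
    set d := f⁻¹ * (y * f * y⁻¹) with hd
    have hce := h e he
    have hdf := h f hf
    have hcL : c ∈ L := L.mul_mem (L.inv_mem he) (h' e he)
    have h2 : y * e * y⁻¹ = e * c := by rw [hc]; group
    have h3 : y * f * y⁻¹ = f * d := by rw [hd]; group
    have k1 : ∀ l ∈ L, l * c = c * l := fun l hl => mem_centralizer_iff.1 hce l hl
    have k2 : ∀ l ∈ L, l * d = d * l := fun l hl => mem_centralizer_iff.1 hdf l hl
    have h4 : y * ⁅e, f⁆ * y⁻¹ = ⁅e, f⁆ := by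
      calc y * ⁅e, f⁆ * y⁻¹ = (y * e * y⁻¹) * (y * f * y⁻¹) * (y * e * y⁻¹)⁻¹ * (y * f * y⁻¹)⁻¹ := by
            rw [commutatorElement_def]; group
        _ = (e * c) * (f * d) * (e * c)⁻¹ * (f * d)⁻¹ := by rw [h2, h3]
        _ = e * (c * f) * d * c⁻¹ * e⁻¹ * d⁻¹ * f⁻¹ := by group
        _ = e * (f * c) * d * c⁻¹ * e⁻¹ * d⁻¹ * f⁻¹ := by rw [k1 f hf]
        _ = e * f * (c * d) * c⁻¹ * e⁻¹ * d⁻¹ * f⁻¹ := by group
        _ = e * f * (d * c) * c⁻¹ * e⁻¹ * d⁻¹ * f⁻¹ := by rw [k2 c hcL]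
        _ = e * f * (d * e⁻¹) * d⁻¹ * f⁻¹ := by group
        _ = e * f * (e⁻¹ * d) * d⁻¹ * f⁻¹ := by rw [k2 e⁻¹ (L.inv_mem he)]
        _ = ⁅e, f⁆ := by rw [commutatorElement_def]; group
    calc ⁅e, f⁆ * y = (y * ⁅e, f⁆ * y⁻¹) * y := by rw [h4]
      _ = y * ⁅e, f⁆ := by group
  rw [hL] at h1
  rw [mem_centralizer_iff]
  exact fun l hl => mem_centralizer_singleton_iff.1 (h1 hl)

theorem cj_centralizer_set (g : G) (K : Subgroup G) :
    cj g (centralizer (K : Set G)) = centralizer (cj g K : Set G) := by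
  ext x
  rw [mem_cj, mem_centralizer_iff, mem_centralizer_iff]
  constructor
  · rintro h _ ⟨k, hk, rfl⟩
    have h1 := h k hk
    change g * k * g⁻¹ * x = x * (g * k * g⁻¹)
    calc g * k * g⁻¹ * x = g * (k * (g⁻¹ * x * g)) * g⁻¹ := by group
      _ = g * ((g⁻¹ * x * g) * k) * g⁻¹ := by rw [h1]
      _ = x * (g * k * g⁻¹) := by group
  · intro h k hk
    have h1 := h (g * k * g⁻¹) (conj_mem_cj hk)
    calc k * (g⁻¹ * x * g) = g⁻¹ * (g * k * g⁻¹ * x) * g := by group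
      _ = g⁻¹ * (x * (g * k * g⁻¹)) * g := by rw [h1]
      _ = g⁻¹ * x * g * k := by group

/-- fixed points of a 2-group in a section -/
theorem exists_mem_not_mem [Finite G] {S L Z : Subgroup G} (hS : IsPGroup 2 S)
    (hSL : S ≤ normalizer (L : Set G)) (hSZ : S ≤ normalizer (Z : Set G)) (hne : ¬ S ⊓ L ≤ Z) :
    ∃ x, x ∈ S ∧ x ∈ L ∧ x ∉ Z ∧ ∀ s ∈ S, x * s * x⁻¹ * s⁻¹ ∈ Z := by
  haveI : Fact (Nat.Prime 2) := ⟨Nat.prime_two⟩
  haveI hZn : (Z.subgroupOf S).Normal := normal_subgroupOf_of_le_normalizer hSZ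
  haveI hLn : (L.subgroupOf S).Normal := normal_subgroupOf_of_le_normalizer hSL
  set f := QuotientGroup.mk' (Z.subgroupOf S) with hf
  have hQ : IsPGroup 2 (↥S ⧸ Z.subgroupOf S) := hS.to_quotient _
  haveI : Group.IsNilpotent (↥S ⧸ Z.subgroupOf S) := hQ.isNilpotent
  haveI : ((L.subgroupOf S).map f).Normal := hLn.map f (QuotientGroup.mk'_surjective _)
  have h1 : (L.subgroupOf S).map f ≠ ⊥ := by
    intro h
    rw [Subgroup.map_eq_bot_iff, hf, QuotientGroup.ker_mk'] at h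
    exact hne fun x hx => h (show (⟨x, hx.1⟩ : S) ∈ L.subgroupOf S from hx.2)
  have h2 := Lib.NormalAbelian.normal_inf_center_ne_bot _ h1
  obtain ⟨w, hw, hw1⟩ := (Subgroup.bot_or_exists_ne_one _).resolve_left h2
  obtain ⟨⟨x, hxL, rfl⟩, hwc⟩ := hw
  refine ⟨x, x.2, hxL, ?_, ?_⟩
  · intro hxZ
    apply hw1
    rw [hf, QuotientGroup.mk'_apply, QuotientGroup.eq_one_iff]
    exact hxZ
  · intro s hs
    have h3 := mem_center_iff.1 hwc (f ⟨s, hs⟩)
    have h4 : f (x * ⟨s, hs⟩ * x⁻¹ * (⟨s, hs⟩ : S)⁻¹) = 1 := by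
      rw [map_mul, map_mul, map_mul, map_inv, map_inv, ← h3]
      group
    rw [hf, QuotientGroup.mk'_apply, QuotientGroup.eq_one_iff] at h4
    exact h4

/-- for a quasisimple group of even order, `|D : Z(D)|` is even -/
theorem two_dvd_index_center {D : Type*} [Group D] [Finite D] (hq : IsQuasisimple D)
    (h2 : 2 ∣ Nat.card D) (P : Sylow 2 D) : ¬ (P : Subgroup D) ≤ center D := by
  haveI : Fact (Nat.Prime 2) := ⟨Nat.prime_two⟩
  intro hP
  have hN : normalizer ((P : Subgroup D) : Set D) ≤ centralizer ((P : Subgroup D) : Set D) := by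
    intro x _
    rw [mem_centralizer_iff]
    intro p hp
    exact (mem_center_iff.1 (hP hp) x).symm
  have hc := MonoidHom.ker_transferSylow_isComplement' P hN
  rcases quasisimple_normal hq _ (MonoidHom.normal_ker (MonoidHom.transferSylow P hN)) with h | h
  · rw [h] at hc
    have h3 := hc.card_mul_card
    rw [card_top] at h3
    have h4 : 0 < Nat.card D := Nat.card_pos
    have h5 : Nat.card (P : Subgroup D) = 1 := by
      have : Nat.card D * Nat.card (P : Subgroup D) = Nat.card D * 1 := by rw [h3, mul_one]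
      exact Nat.eq_of_mul_eq_mul_left h4 this
    have h6 := P.card_eq_multiplicity
    rw [h5] at h6
    have h7 : (Nat.card D).factorization 2 = 0 := by
      by_contra h8
      have : 1 < 2 ^ (Nat.card D).factorization 2 := Nat.one_lt_pow h8 (by norm_num)
      omega
    have h8 := (Nat.prime_two.dvd_iff_one_le_factorization Nat.card_pos.ne').1 h2
    omega
  · apply quasisimple_center_ne_top hq
    rw [eq_top_iff, ← hc.sup_eq_top]
    exact sup_le h hP

/-! ### (H1) -/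

/-- `O(C(a))` centralises `O_2(G)` -/
theorem XX_le_centralizer_pCore [Finite G] {a : G} (ha : a * a = 1) :
    XX a ≤ centralizer (pCore 2 G : Set G) := by
  haveI : Fact (Nat.Prime 2) := ⟨Nat.prime_two⟩
  haveI hPn : (pCore 2 G).Normal := Lib.Cores.pCore_normal 2
  have hP : IsPGroup 2 (pCore 2 G) := Lib.Cores.pCore_isPGroup 2
  refine SolvTwo.le_cent (z := a) ha hP (coprime_XX a) (fun w hw => comm_of_mem_XX hw) ?_
  intro x hxP hxa w hw
  have h1 : x * w * x⁻¹ * w⁻¹ = 1 := by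
    refine SolvTwo.eq_one_of_coprime hP (coprime_XX a) ?_ ?_
    · have h2 := (pCore 2 G).mul_mem hxP (hPn.conj_mem _ ((pCore 2 G).inv_mem hxP) w)
      simpa [mul_assoc] using h2
    · exact (XX a).mul_mem (conj_mem_XX hxa hw) ((XX a).inv_mem hw)
  rw [mul_inv_eq_one, mul_inv_eq_iff_eq_mul] at h1
  exact h1

/-- `O(C(a))` centralises the components of `C(a)` -/
theorem XX_le_centralizer_of_comp [Finite G] (hev : EvQ G) {a : G} {D : Subgroup G}
    (hD : D ≤ centralizer {a}) (hDc : IsComponent (D.subgroupOf (centralizer {a}))) (hDq : IsQuasisimple D) :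
    XX a ≤ centralizer (D : Set G) := by
  have hn : (pPrimeCore 2 (centralizer ({a} : Set G))).Normal := Lib.Cores.pPrimeCore_normal 2
  have hXd : XX a = (pPrimeCore 2 (centralizer ({a} : Set G))).map (centralizer ({a} : Set G)).subtype := rfl
  rcases component_le_or_commutator_eq_bot hDc hn.isSubnormal with h1 | h1
  · exfalso
    have h2 := Subgroup.map_mono (f := (centralizer ({a} : Set G)).subtype) h1
    rw [map_subgroupOf_eq_of_le hD, ← hXd] at h2
    exact odd_XX a ((hev D hDq).trans (card_dvd_of_le h2))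
  · have h2 := congrArg (Subgroup.map (centralizer ({a} : Set G)).subtype) h1
    rw [map_commutator, map_subgroupOf_eq_of_le hD, Subgroup.map_bot, commutator_comm,
      commutator_eq_bot_iff_le_centralizer] at h2
    exact h2

/-- `O(C(a))` centralises the components centralised by `a` -/
theorem XX_le_centralizer_of_cent [Finite G] (hev : EvQ G) {a : G} {L : Subgroup G} (hL : IsComponent L)
    (hLa : L ≤ centralizer {a}) : XX a ≤ centralizer (L : Set G) :=
  XX_le_centralizer_of_comp hev hLa (isComponent_subgroupOf hLa hL) hL.2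

/-- `O(C(a))` centralises the components moved by `a` -/
theorem XX_le_centralizer_of_moved [Finite G] (hev : EvQ G) {a : G} (ha : a * a = 1) {E : Subgroup G}
    (hE : IsComponent E) (hne : cj a E ≠ E) : XX a ≤ centralizer (E : Set G) := by
  obtain ⟨D, hDz, hDE, hDc, hDq, hD⟩ := exists_diag hE ha hne
  have hYD := XX_le_centralizer_of_comp hev hDz hDc hDq
  intro k hk
  have hka : k * a = a * k := comm_of_mem_XX hk
  have hcz : ∀ F : Subgroup G, cj k (cj a F) = cj a (cj k F) := by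
    intro F; rw [← cj_mul, ← cj_mul, hka]
  have hzz : ∀ F : Subgroup G, cj a (cj a F) = F := by
    intro F; rw [← cj_mul, ha, cj_one]
  have h2 : ∀ d ∈ D, k * d = d * k := fun d hd => (mem_centralizer_iff.1 (hYD hk) d hd).symm
  have hzE := isComponent_cj hE a
  have key : cj k E = E ∨ cj k E = cj a E := by
    by_contra hcon
    rw [not_or] at hcon
    obtain ⟨hc1, hc2⟩ := hcon
    have hF := isComponent_cj hE k
    have hF' : IsComponent (cj k (cj a E)) := isComponent_cj hzE k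
    have hc3 : cj k (cj a E) ≠ E := by
      intro h3
      rw [hcz E] at h3
      apply hc2
      rw [← hzz (cj k E), h3]
    have hc4 : cj k (cj a E) ≠ cj a E := by
      intro h3
      rw [hcz E] at h3
      exact hc1 (cj_inj.1 h3)
    have h3 : ∀ d ∈ D, ∀ x ∈ cj k E ⊔ cj k (cj a E), d * x = x * d := by
      intro d hd x hx
      obtain ⟨a', ha', b, hb, rfl⟩ := mem_sup_comm
        (fun x hx y hy => comm_of_ne hE hzE (Ne.symm hne) hx hy) (hDE hd)
      obtain ⟨u, hu, w, hw, rfl⟩ := mem_sup_comm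
        (fun x hx y hy => comm_of_ne hF hF' (fun h4 => hne (cj_inj.1 h4.symm)) hx hy) hx
      have e1 : a' * u = u * a' := comm_of_ne hE hF (Ne.symm hc1) ha' hu
      have e2 : a' * w = w * a' := comm_of_ne hE hF' (Ne.symm hc3) ha' hw
      have e3 : b * u = u * b := comm_of_ne hzE hF (Ne.symm hc2) hb hu
      have e4 : b * w = w * b := comm_of_ne hzE hF' (Ne.symm hc4) hb hw
      calc a' * b * (u * w) = a' * (b * u) * w := by group
        _ = (a' * u) * (b * w) := by rw [e3]; group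
        _ = u * (a' * w) * b := by rw [e1, e4]; group
        _ = u * w * (a' * b) := by rw [e2]; group
    apply quasisimple_not_isMulCommutative hDq
    refine ⟨⟨fun x y => Subtype.ext ?_⟩⟩
    have h4 : (y : G) ∈ cj k E ⊔ cj k (cj a E) := by
      have h5 : (k * y * k⁻¹ : G) = y := by rw [h2 y y.2]; group
      rw [← h5, ← cj_sup]
      exact conj_mem_cj (hDE y.2)
    exact h3 x x.2 y h4
  have hkE : cj k E = E := by
    rcases key with h3 | h3
    · exact h3
    · exfalso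
      have h4 : k * k ∈ normalizer (E : Set G) := by
        rw [mem_normalizer_iff_cj, cj_mul, h3, hcz E, h3, hzz]
      have h5 : k ∈ normalizer (E : Set G) := (zpowers_le.2 h4) (mem_zpowers_sq hk)
      rw [mem_normalizer_iff_cj, h3] at h5
      exact hne h5
  have hkE' : cj k (cj a E) = cj a E := by rw [hcz, hkE]
  refine mem_centralizer_of_commutator (component_commutator_self hE) ?_ ?_
  · intro e he
    have h3 : k * (e * (a * e * a⁻¹)) = (e * (a * e * a⁻¹)) * k := h2 _ (hD e he)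
    have h4 : e⁻¹ * (k * e * k⁻¹) = (a * e * a⁻¹) * (k * (a * e * a⁻¹) * k⁻¹)⁻¹ := by
      have h5 : (k * e * k⁻¹) * (k * (a * e * a⁻¹) * k⁻¹) = e * (a * e * a⁻¹) := by
        calc (k * e * k⁻¹) * (k * (a * e * a⁻¹) * k⁻¹) = k * (e * (a * e * a⁻¹)) * k⁻¹ := by group
          _ = e * (a * e * a⁻¹) := by rw [h3]; group
      calc e⁻¹ * (k * e * k⁻¹) = e⁻¹ * ((k * e * k⁻¹) * (k * (a * e * a⁻¹) * k⁻¹)) *
            (k * (a * e * a⁻¹) * k⁻¹)⁻¹ := by group
        _ = (a * e * a⁻¹) * (k * (a * e * a⁻¹) * k⁻¹)⁻¹ := by rw [h5]; group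
    have h5 : e⁻¹ * (k * e * k⁻¹) ∈ cj a E := by
      rw [h4]
      refine (cj a E).mul_mem (conj_mem_cj he) ((cj a E).inv_mem ?_)
      have h6 := conj_mem_cj (g := k) (conj_mem_cj (g := a) he)
      rwa [hkE'] at h6
    rw [mem_centralizer_iff]
    exact fun l hl => comm_of_ne hE hzE (Ne.symm hne) hl h5
  · intro e he
    have h3 := conj_mem_cj (g := k) he
    rwa [hkE] at h3

theorem component_le_centralizer_pCore {L : Subgroup G} [Finite G] (hL : IsComponent L) :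
    L ≤ centralizer (pCore 2 G : Set G) := by
  haveI : Fact (Nat.Prime 2) := ⟨Nat.prime_two⟩
  intro x hx
  rw [mem_centralizer_iff]
  intro p hp
  exact mem_centralizer_iff.1 ((component_le_layer hL).trans (layer_le_centralizer_fitting (G := G)) hx)
    p (Lib.Cores.pCore_le_fittingSubgroup 2 hp)

/-- the elements of `L` centralising `L` lie in `O_2(G)` -/
theorem mem_pCore_of_mem_center [Finite G] (hO : pPrimeCore 2 G = ⊥) {L : Subgroup G} (hL : IsComponent L)
    {x : G} (hxL : x ∈ L) (hx : x ∈ centralizer (L : Set G)) : x ∈ pCore 2 G := by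
  refine centralizer_genFit_le hO (mem_centralizer_genFit hO (fun F hF => ?_)
    (component_le_centralizer_pCore hL hxL))
  by_cases hne : F = L
  · rw [hne]; exact hx
  · rw [mem_centralizer_iff]
    exact fun f hf => comm_of_ne hF hL hne hf hxL

/-- `O(C(a)) = O(C(a) ∩ C(O_2(G)))` -/
theorem XX_eq_OO [Finite G] {a : G} (ha : a * a = 1) :
    XX a = OO (centralizer {a} ⊓ centralizer (pCore 2 G : Set G)) := by
  haveI hPn : (pCore 2 G).Normal := Lib.Cores.pCore_normal 2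
  apply le_antisymm
  · refine le_OO (le_inf (XX_le a) (XX_le_centralizer_pCore ha)) ?_ (odd_XX a)
    exact inf_le_left.trans (centralizer_le_normalizer_XX a)
  · refine le_OO ((OO_le _).trans inf_le_left) ?_ (odd_OO _)
    intro g hg
    rw [mem_normalizer_iff_cj, ← OO_cj, cj_inf]
    have h1 : cj g (centralizer {a}) = centralizer {a} :=
      mem_normalizer_iff_cj.1 (le_normalizer hg)
    have h2 : cj g (centralizer (pCore 2 G : Set G)) = centralizer (pCore 2 G : Set G) := by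
      rw [← mem_normalizer_iff_cj, normalizer_eq_top]; trivial
    rw [h1, h2]

/-- an element `x` of the component `L` with `[x, a] ∈ O_2(G)` normalises `O(C(a))` -/
theorem conj_mem_XX_of_mem [Finite G] {a : G} (ha : a * a = 1) {L : Subgroup G}
    (hL : IsComponent L) {x y : G} (hx : x ∈ L) (hxa : x * a * x⁻¹ * a⁻¹ ∈ pCore 2 G) (hy : y ∈ XX a) :
    x * y * x⁻¹ ∈ XX a := by
  haveI hPn : (pCore 2 G).Normal := Lib.Cores.pCore_normal 2
  have hxP := component_le_centralizer_pCore hL hx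
  have key : cj x (centralizer {a} ⊓ centralizer (pCore 2 G : Set G)) ≤
      centralizer {a} ⊓ centralizer (pCore 2 G : Set G) := by
    rintro _ ⟨g, ⟨hg1, hg2⟩, rfl⟩
    have h2 : x * g * x⁻¹ ∈ centralizer (pCore 2 G : Set G) := mul_mem (mul_mem hxP hg2) (inv_mem hxP)
    refine ⟨?_, h2⟩
    change x * g * x⁻¹ ∈ centralizer {a}
    have h3 := mem_centralizer_singleton_iff.1 hg1
    set c := x * a * x⁻¹ * a⁻¹ with hc
    have hax : a * x * a⁻¹ = c⁻¹ * x := by rw [hc]; group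
    have h5 := mem_centralizer_iff.1 h2 c hxa
    have h6 : a * g * a⁻¹ = g := by rw [← h3]; group
    have h7 : a * (x * g * x⁻¹) * a⁻¹ = x * g * x⁻¹ := by
      calc a * (x * g * x⁻¹) * a⁻¹ = (a * x * a⁻¹) * (a * g * a⁻¹) * (a * x * a⁻¹)⁻¹ := by group
        _ = c⁻¹ * ((x * g * x⁻¹) * c) := by rw [hax, h6]; group
        _ = c⁻¹ * (c * (x * g * x⁻¹)) := by rw [h5]
        _ = x * g * x⁻¹ := by group
    rw [mem_centralizer_singleton_iff]
    calc x * g * x⁻¹ * a = (a * (x * g * x⁻¹) * a⁻¹) * a := by rw [h7]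
      _ = a * (x * g * x⁻¹) := by group
  have h1 : cj x (centralizer {a} ⊓ centralizer (pCore 2 G : Set G)) =
      centralizer {a} ⊓ centralizer (pCore 2 G : Set G) :=
    eq_of_le_of_card_ge key (by rw [card_cj])
  rw [XX_eq_OO ha] at hy ⊢
  have h2 := conj_mem_cj (g := x) hy
  rwa [← OO_cj, h1] at h2

theorem syl_inf_normal [Finite G] {S A B : Subgroup G} (hS : Syl S A) (hB : B ≤ A)
    (hn : A ≤ normalizer (B : Set G)) : Syl (S ⊓ B) B := by
  haveI : Fact (Nat.Prime 2) := ⟨Nat.prime_two⟩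
  obtain ⟨P, hP⟩ := hS.exists_sylow
  haveI : (B.subgroupOf A).Normal := (normal_subgroupOf_iff_le_normalizer hB).2 hn
  have h1 := Lib.SylowNormalInf.not_dvd_relIndex P (B.subgroupOf A)
  rw [hP, relIndex_subgroupOf hB] at h1
  refine ⟨inf_le_right, hS.2.1.to_le inf_le_left, ?_⟩
  rwa [inf_relIndex_right]

/-- there is a 2-element `x ∈ L`, not central in `L`, with `[x, a]` central in `L` -/
theorem exists_almost_fixed [Finite G] (hO : pPrimeCore 2 G = ⊥) (hev : EvQ G) {a : G} (ha : a * a = 1)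
    {L : Subgroup G} (hL : IsComponent L) (haL : a ∈ normalizer (L : Set G)) :
    ∃ x ∈ L, x ∉ centralizer (L : Set G) ∧ (∃ n : ℕ, x ^ 2 ^ n = 1) ∧ x * a * x⁻¹ * a⁻¹ ∈ pCore 2 G := by
  haveI : Fact (Nat.Prime 2) := ⟨Nat.prime_two⟩
  have hpa : IsPGroup 2 (zpowers a) := by
    rintro ⟨x, k, rfl⟩
    refine ⟨1, ?_⟩
    apply Subtype.ext
    change (a ^ k) ^ (2 ^ 1) = 1
    rw [pow_one, ← zpow_natCast, ← zpow_mul, mul_comm, zpow_mul, zpow_natCast, pow_two, ha, one_zpow]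
  obtain ⟨S, hS, haS⟩ := exists_syl_ge hpa (zpowers_le.2 haL)
  have haS' : a ∈ S := haS (mem_zpowers a)
  have hSL : Syl (S ⊓ L) L := syl_inf_normal hS le_normalizer le_rfl
  have hLq := hL.2
  have hne : ¬ S ⊓ L ≤ centralizer (L : Set G) := by
    intro hle
    obtain ⟨P, hP⟩ := hSL.exists_sylow
    refine two_dvd_index_center hLq (hev L hLq) P ?_
    intro x hx
    rw [hP] at hx
    rw [mem_center_iff]
    intro g
    exact Subtype.ext (mem_centralizer_iff.1 (hle hx) g g.2)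
  have hSZ : S ≤ normalizer ((centralizer (L : Set G) : Subgroup G) : Set G) := by
    intro s hs
    have hsL := mem_normalizer_iff_cj.1 (hS.1 hs)
    rw [mem_normalizer_iff_cj, cj_centralizer_set, hsL]
  obtain ⟨x, hxS, hxL, hxZ, hx⟩ := exists_mem_not_mem (Z := centralizer (L : Set G)) hS.2.1 hS.1 hSZ hne
  refine ⟨x, hxL, hxZ, ?_, ?_⟩
  · obtain ⟨n, hn⟩ := hS.2.1 ⟨x, hxS⟩
    exact ⟨n, congrArg Subtype.val hn⟩
  · have h1 := hx a haS'
    refine mem_pCore_of_mem_center hO hL ?_ h1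
    have h2 : a * x⁻¹ * a⁻¹ ∈ L := (mem_normalizer_iff.1 haL x⁻¹).1 (L.inv_mem hxL)
    have h3 := L.mul_mem hxL h2
    have h4 : x * (a * x⁻¹ * a⁻¹) = x * a * x⁻¹ * a⁻¹ := by group
    rwa [h4] at h3

/-- **(H1)**: `O(C(a))` normalises every component -/
theorem XX_le_normalizer [Finite G] (hO : pPrimeCore 2 G = ⊥) (hev : EvQ G) {a : G} (ha : a * a = 1)
    {L : Subgroup G} (hL : IsComponent L) : XX a ≤ normalizer (L : Set G) := by
  by_cases haL : cj a L = L
  · obtain ⟨x, hxL, hxZ, ⟨n, hn⟩, hxa⟩ :=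
      exists_almost_fixed hO hev ha hL (mem_normalizer_iff_cj.2 haL)
    intro y hy
    rw [mem_normalizer_iff_cj]
    by_contra hne
    have h1 : x * y * x⁻¹ * y⁻¹ ∈ XX a := (XX a).mul_mem (conj_mem_XX_of_mem ha hL hxL hxa hy)
      ((XX a).inv_mem hy)
    have hyL := isComponent_cj hL y
    have h2 : y * x⁻¹ * y⁻¹ ∈ cj y L := conj_mem_cj (L.inv_mem hxL)
    have h3 : Commute x (y * x⁻¹ * y⁻¹) := comm_of_ne hL hyL (Ne.symm hne) hxL h2
    have h4 : (x * (y * x⁻¹ * y⁻¹)) ^ 2 ^ n = 1 := by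
      rw [h3.mul_pow, hn, one_mul, conj_pow, inv_pow, hn]; group
    have h5 : x * y * x⁻¹ * y⁻¹ = x * (y * x⁻¹ * y⁻¹) := by group
    rw [h5] at h1
    have h6 := eq_one_of_mem_XX h1 h4
    apply hxZ
    have h7 : x ∈ cj y L := by
      have h8 : x = (y * x⁻¹ * y⁻¹)⁻¹ := eq_inv_of_mul_eq_one_left h6
      rw [h8]; exact (cj y L).inv_mem h2
    rw [mem_centralizer_iff]
    exact fun l hl => comm_of_ne hL hyL (Ne.symm hne) hl h7
  · exact (XX_le_centralizer_of_moved hev ha hL haL).trans (centralizer_le_normalizer (L : Set G))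

/-! ### (H3) and the reductions in a group with `O(G) = 1` -/

theorem mem_centralizer_set_iff {L : Subgroup G} {x : G} :
    x ∈ centralizer (L : Set G) ↔ L ≤ centralizer {x} := by
  rw [mem_centralizer_iff]
  constructor
  · intro h l hl
    rw [mem_centralizer_singleton_iff]
    exact h l hl
  · intro h l hl
    exact mem_centralizer_singleton_iff.1 (h hl)

theorem conj_mem_centralizer {L : Subgroup G} {g c : G} (hg : g ∈ normalizer (L : Set G))
    (hc : c ∈ centralizer (L : Set G)) : g * c * g⁻¹ ∈ centralizer (L : Set G) := by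
  have h1 := conj_mem_cj (g := g) hc
  rwa [cj_centralizer_set, mem_normalizer_iff_cj.1 hg] at h1

/-- **(H3)**: if `a ∈ A` normalises the component `L` and `|A : C_A(L)| ≤ 2` then `⁅XX a, A⁆` centralises
`L`. -/
theorem commutator_mem_centralizer [Finite G] (hO : pPrimeCore 2 G = ⊥) (hev : EvQ G) {A : Subgroup G}
    (hcomm : ∀ x ∈ A, ∀ y ∈ A, x * y = y * x) (hsq : ∀ x ∈ A, x * x = 1) {L : Subgroup G}
    (hL : IsComponent L) (hi : (centralizer (L : Set G)).relIndex A ≤ 2) {a : G} (ha : a ∈ A)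
    {y b : G} (hy : y ∈ XX a) (hb : b ∈ A) : y * b * y⁻¹ * b⁻¹ ∈ centralizer (L : Set G) := by
  have hyb : y * b * y⁻¹ * b⁻¹ ∈ XX a := by
    have h1 := (XX a).mul_mem hy (conj_mem_XX (hcomm b hb a ha) ((XX a).inv_mem hy))
    have h2 : y * (b * y⁻¹ * b⁻¹) = y * b * y⁻¹ * b⁻¹ := by group
    rwa [h2] at h1
  by_cases hmv : cj a L = L
  swap
  · exact XX_le_centralizer_of_moved hev (hsq a ha) hL hmv hyb
  by_cases hac : a ∈ centralizer (L : Set G)
  · exact XX_le_centralizer_of_cent hev hL (mem_centralizer_set_iff.1 hac) hyb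
  · by_cases hbc : b ∈ centralizer (L : Set G)
    · have hyL := XX_le_normalizer hO hev (hsq a ha) hL hy
      exact mul_mem (conj_mem_centralizer hyL hbc) (inv_mem hbc)
    · -- `a⁻¹ b` centralises `L`
      have hne1 : (centralizer (L : Set G)).relIndex A ≠ 1 := by
        rw [Ne, relIndex_eq_one]
        exact fun h => hac (h ha)
      have hne0 : (centralizer (L : Set G)).relIndex A ≠ 0 :=
        index_ne_zero_of_finite (H := (centralizer (L : Set G)).subgroupOf A)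
      have h2 : (centralizer (L : Set G)).relIndex A = 2 := by omega
      have hcb : a * b ∈ centralizer (L : Set G) := by
        have h3 : ((centralizer (L : Set G)).subgroupOf A).index = 2 := h2
        have h4 := Subgroup.mul_mem_iff_of_index_two h3 (a := ⟨a, ha⟩) (b := ⟨b, hb⟩)
        exact h4.2 ⟨fun h => absurd h hac, fun h => absurd h hbc⟩
      have hyL := XX_le_normalizer hO hev (hsq a ha) hL hy
      have haL := mem_normalizer_iff_cj.2 hmv
      have hya : y * a = a * y := comm_of_mem_XX hy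
      have haa := hsq a ha
      have h5 : y * b * y⁻¹ * b⁻¹ = a * ((y * (a * b) * y⁻¹) * (a * b)⁻¹) * a⁻¹ := by
        have hai : a⁻¹ = a := inv_eq_of_mul_eq_one_right haa
        calc y * b * y⁻¹ * b⁻¹ = (a * a) * y * b * y⁻¹ * b⁻¹ := by rw [haa, one_mul]
          _ = a * (a * y) * b * y⁻¹ * b⁻¹ := by group
          _ = a * (y * a) * b * y⁻¹ * b⁻¹ := by rw [hya]
          _ = a * ((y * (a * b) * y⁻¹) * (a * b)⁻¹) * a⁻¹ * (a * a) := by group
          _ = a * ((y * (a * b) * y⁻¹) * (a * b)⁻¹) * a⁻¹ := by rw [haa, mul_one]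
      rw [h5]
      exact conj_mem_centralizer haL (mul_mem (conj_mem_centralizer hyL hcb) (inv_mem hcb))

/-- an element of `XX a` centralising all components is trivial -/
theorem eq_one_of_comp [Finite G] (hO : pPrimeCore 2 G = ⊥) {a : G} (ha : a * a = 1) {u : G} (hu : u ∈ XX a)
    (h : ∀ L : Subgroup G, IsComponent L → u ∈ centralizer (L : Set G)) : u = 1 := by
  have h1 := centralizer_genFit_le hO (mem_centralizer_genFit hO h (XX_le_centralizer_pCore ha hu))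
  exact SolvTwo.eq_one_of_coprime (Lib.Cores.pCore_isPGroup 2) (coprime_XX a) h1 hu

/-- **(TOR) in `H`, `O(H) = 1`**: only the components `L` with `|A : C_A(L)| > 2` normalised and not
centralised by `a` matter. -/
theorem comm_of_comp [Finite G] (hO : pPrimeCore 2 G = ⊥) (hev : EvQ G) {A : Subgroup G}
    (hcomm : ∀ x ∈ A, ∀ y ∈ A, x * y = y * x) (hsq : ∀ x ∈ A, x * x = 1) {a : G} (ha : a ∈ A)
    (hcomp : ∀ L : Subgroup G, IsComponent L → cj a L = L → a ∉ centralizer (L : Set G) →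
      2 < (centralizer (L : Set G)).relIndex A → ∀ y ∈ XX a, ∀ b ∈ A,
        y * b * y⁻¹ * b⁻¹ ∈ centralizer (L : Set G)) : ∀ y ∈ XX a, ∀ b ∈ A, y * b = b * y := by
  intro y hy b hb
  have hyb : y * b * y⁻¹ * b⁻¹ ∈ XX a := by
    have h1 := (XX a).mul_mem hy (conj_mem_XX (hcomm b hb a ha) ((XX a).inv_mem hy))
    have h2 : y * (b * y⁻¹ * b⁻¹) = y * b * y⁻¹ * b⁻¹ := by group
    rwa [h2] at h1
  have h1 : y * b * y⁻¹ * b⁻¹ = 1 := by
    refine eq_one_of_comp hO (hsq a ha) hyb fun L hL => ?_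
    by_cases hi : (centralizer (L : Set G)).relIndex A ≤ 2
    · exact commutator_mem_centralizer hO hev hcomm hsq hL hi ha hy hb
    · by_cases hmv : cj a L = L
      · by_cases hac : a ∈ centralizer (L : Set G)
        · exact XX_le_centralizer_of_cent hev hL (mem_centralizer_set_iff.1 hac) hyb
        · exact hcomp L hL hmv hac (by omega) y hy b hb
      · exact XX_le_centralizer_of_moved hev (hsq a ha) hL hmv hyb
  rw [mul_inv_eq_one, mul_inv_eq_iff_eq_mul] at h1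
  exact h1

/-- **(2B) in `H`, `O(H) = 1`**: only the components on which all `b ∈ B#` act nontrivially matter. -/
theorem eq_one_of_forall [Finite G] (hO : pPrimeCore 2 G = ⊥) (hev : EvQ G) {B : Set G}
    (hsq : ∀ x ∈ B, x * x = 1) {b₀ : G} (hb₀ : b₀ ∈ B) {u : G} (hu : ∀ b ∈ B, u ∈ XX b)
    (hcomp : ∀ L : Subgroup G, IsComponent L → (∀ b ∈ B, cj b L = L ∧ b ∉ centralizer (L : Set G)) →
      u ∈ centralizer (L : Set G)) : u = 1 := by
  refine eq_one_of_comp hO (hsq b₀ hb₀) (hu b₀ hb₀) fun L hL => ?_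
  by_cases hall : ∀ b ∈ B, cj b L = L ∧ b ∉ centralizer (L : Set G)
  · exact hcomp L hL hall
  · push Not at hall
    obtain ⟨b, hb, hbL⟩ := hall
    by_cases hmv : cj b L = L
    · exact XX_le_centralizer_of_cent hev hL (mem_centralizer_set_iff.1 (hbL hmv)) (hu b hb)
    · exact XX_le_centralizer_of_moved hev (hsq b hb) hL hmv (hu b hb)

/-! ### Transfer to `H = C(b) / O(C(b))` -/

/-- elements of `O(C(a)) ∩ M` are mapped into `O(C(f a))` by an epimorphism `f` of `M` with kernel of odd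
order -/
theorem map_mem_XX [Finite G] {H : Type*} [Group H] {M : Subgroup G} {f : M →* H}
    (hf : Function.Surjective f) (hker : ¬ 2 ∣ Nat.card f.ker) {a : M} (ha : a * a = 1) {x : M}
    (hx : (x : G) ∈ XX (a : G)) : f x ∈ XX (f a) := by
  haveI : Finite H := Finite.of_surjective f hf
  have hN1 : (XX (a : G)).subgroupOf M ≤ centralizer {a} := by
    intro y hy
    rw [mem_centralizer_singleton_iff]
    exact Subtype.ext (comm_of_mem_XX (a := (a : G)) (y := (y : G)) hy)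
  have hN2 : centralizer {a} ≤ normalizer (((XX (a : G)).subgroupOf M : Subgroup M) : Set M) := by
    intro c hc
    rw [mem_centralizer_singleton_iff] at hc
    have hc' : (c : G) * a = a * c := congrArg Subtype.val hc
    have hc2 := centralizer_le_normalizer_XX (a : G) (mem_centralizer_singleton_iff.2 hc')
    rw [mem_normalizer_iff]
    intro y
    exact mem_normalizer_iff.1 hc2 y
  have h1 : ((XX (a : G)).subgroupOf M).map f ≤ OO (centralizer {f a}) := by
    rw [← Cit.centralizer_map hf hker ha]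
    refine le_OO (Subgroup.map_mono hN1) ?_ ?_
    · rintro _ ⟨c, hc, rfl⟩
      have hc2 := hN2 hc
      rw [mem_normalizer_iff_cj] at hc2 ⊢
      rw [← cj_map, hc2]
    · intro h2
      apply odd_XX (a : G)
      refine h2.trans ((card_map_dvd _ _).trans ?_)
      have h3 := card_comap_dvd_of_injective (XX (a : G)) M.subtype M.subtype_injective
      exact h3
  exact h1 ⟨x, hx, rfl⟩

/-- the subgroup `oddCore (C(b))` maps onto `XX b` -/
theorem mem_XX_iff {b : G} {x : centralizer ({b} : Set G)} :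
    (x : G) ∈ XX b ↔ x ∈ oddCore (centralizer ({b} : Set G)) := by
  rw [XX, OO]
  constructor
  · rintro ⟨y, hy, hyx⟩
    rw [← Subtype.ext (a1 := y) (a2 := x) hyx]
    exact hy
  · exact fun h => ⟨x, h, rfl⟩

section Quot

variable [Finite G] {H : Type*} [Group H] [Finite H] {b : G} {f : centralizer ({b} : Set G) →* H}

theorem pPrimeCore_eq_bot_of_ker (hf : Function.Surjective f)
    (hker : f.ker = oddCore (centralizer ({b} : Set G))) : pPrimeCore 2 H = ⊥ := by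
  haveI : (oddCore (centralizer ({b} : Set G))).Normal := Lib.Cores.pPrimeCore_normal 2
  have e : (centralizer ({b} : Set G) ⧸ oddCore (centralizer ({b} : Set G))) ≃* H :=
    (QuotientGroup.quotientMulEquivOfEq hker.symm).trans (QuotientGroup.quotientKerEquivOfSurjective f hf)
  have h1 := Lib.Cores.map_equiv_pPrimeCore e 2
  rw [← h1]
  have h2 : pPrimeCore 2 (centralizer ({b} : Set G) ⧸ oddCore (centralizer ({b} : Set G))) = ⊥ :=
    Lib.Cores.pPrimeCore_quotient_pPrimeCore 2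
  rw [h2, Subgroup.map_bot]

theorem odd_ker (hker : f.ker = oddCore (centralizer ({b} : Set G))) : ¬ 2 ∣ Nat.card f.ker := by
  have h1 := odd_XX b
  rw [XX, OO, card_map_of_injective (centralizer ({b} : Set G)).subtype_injective] at h1
  rwa [hker]

/-- **(TOR) for `a, b`** from the components of `C(b)/O(C(b))`. -/
theorem tor_of_comp (hf : Function.Surjective f) (hker : f.ker = oddCore (centralizer ({b} : Set G)))
    (hev : EvQ H) {A : Subgroup G} (hcomm : ∀ x ∈ A, ∀ y ∈ A, x * y = y * x) (hsq : ∀ x ∈ A, x * x = 1)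
    (hA : A ≤ centralizer {b}) {a : G} (ha : a ∈ A)
    (hcomp : ∀ L : Subgroup H, IsComponent L → cj (f ⟨a, hA ha⟩) L = L →
      f ⟨a, hA ha⟩ ∉ centralizer (L : Set H) →
      2 < (centralizer (L : Set H)).relIndex ((A.subgroupOf (centralizer {b})).map f) →
      ∀ y ∈ XX (f ⟨a, hA ha⟩), ∀ c ∈ (A.subgroupOf (centralizer {b})).map f,
        y * c * y⁻¹ * c⁻¹ ∈ centralizer (L : Set H)) :
    ⁅XX a ⊓ centralizer {b}, A⁆ ≤ XX b := by
  have hO := pPrimeCore_eq_bot_of_ker hf hker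
  set A' := (A.subgroupOf (centralizer {b})).map f with hA'
  have hcomm' : ∀ x ∈ A', ∀ y ∈ A', x * y = y * x := by
    rintro _ ⟨x, hx, rfl⟩ _ ⟨y, hy, rfl⟩
    have h1 : x * y = y * x := Subtype.ext (hcomm x hx y hy)
    rw [← map_mul, h1, map_mul]
  have hsq' : ∀ x ∈ A', x * x = 1 := by
    rintro _ ⟨x, hx, rfl⟩
    have h1 : x * x = 1 := Subtype.ext (hsq x hx)
    rw [← map_mul, h1, map_one]
  have haA' : f ⟨a, hA ha⟩ ∈ A' := ⟨⟨a, hA ha⟩, ha, rfl⟩
  have key := comm_of_comp hO hev hcomm' hsq' haA' hcomp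
  rw [commutator_le]
  intro x hx c hc
  have h1 : f ⟨x, hx.2⟩ ∈ XX (f ⟨a, hA ha⟩) :=
    map_mem_XX hf (odd_ker hker) (a := ⟨a, hA ha⟩) (Subtype.ext (hsq a ha)) hx.1
  have h2 := key _ h1 (f ⟨c, hA hc⟩) ⟨⟨c, hA hc⟩, hc, rfl⟩
  have h3 : f (⟨x, hx.2⟩ * ⟨c, hA hc⟩ * (⟨x, hx.2⟩ : centralizer ({b} : Set G))⁻¹ *
      (⟨c, hA hc⟩ : centralizer ({b} : Set G))⁻¹) = 1 := by
    rw [map_mul, map_mul, map_mul, map_inv, map_inv, h2]; group
  rw [← MonoidHom.mem_ker, hker, ← mem_XX_iff] at h3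
  exact h3

/-- **(2B) for `B, s`** from the components of `C(s)/O(C(s))` (here `s` is called `b` and the four-group
`B`). -/
theorem two_of_comp (hf : Function.Surjective f) (hker : f.ker = oddCore (centralizer ({b} : Set G)))
    (hev : EvQ H) {A B : Subgroup G} (hsq : ∀ x ∈ A, x * x = 1) (hB : B ≤ A) (hB1 : B ≠ ⊥) (hb : b ∈ A)
    (hA : A ≤ centralizer {b})
    (hcomp : ∀ L : Subgroup H, IsComponent L →
      (∀ c (hc : c ∈ B), c ≠ 1 → cj (f ⟨c, hA (hB hc)⟩) L = L ∧ f ⟨c, hA (hB hc)⟩ ∉ centralizer (L : Set H)) →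
      ∀ u : H, (∀ c (hc : c ∈ A), u * f ⟨c, hA hc⟩ = f ⟨c, hA hc⟩ * u) →
        (∀ c (hc : c ∈ B), c ≠ 1 → u ∈ XX (f ⟨c, hA (hB hc)⟩)) → u ∈ centralizer (L : Set H)) :
    Del B ⊓ centralizer (A : Set G) ≤ XX b := by
  have hO := pPrimeCore_eq_bot_of_ker hf hker
  rintro u ⟨hu, huA⟩
  have hub : u ∈ centralizer ({b} : Set G) :=
    mem_centralizer_singleton_iff.2 (mem_centralizer_iff.1 huA b hb).symm
  have h1 : ∀ c (hc : c ∈ B), c ≠ 1 → f ⟨u, hub⟩ ∈ XX (f ⟨c, hA (hB hc)⟩) := fun c hc hc1 =>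
    map_mem_XX hf (odd_ker hker) (a := ⟨c, hA (hB hc)⟩) (Subtype.ext (hsq c (hB hc))) (Del_le hc hc1 hu)
  have h2 : ∀ c (hc : c ∈ A), f ⟨u, hub⟩ * f ⟨c, hA hc⟩ = f ⟨c, hA hc⟩ * f ⟨u, hub⟩ := by
    intro c hc
    have h3 : (⟨u, hub⟩ : centralizer ({b} : Set G)) * ⟨c, hA hc⟩ = ⟨c, hA hc⟩ * ⟨u, hub⟩ :=
      Subtype.ext (mem_centralizer_iff.1 huA c hc).symm
    rw [← map_mul, h3, map_mul]
  obtain ⟨c₀, hc₀, hc₀1⟩ := B.bot_or_exists_ne_one.resolve_left hB1
  have h3 : f ⟨u, hub⟩ = 1 := by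
    refine eq_one_of_forall hO hev (B := {x | ∃ c, ∃ hc : c ∈ B, c ≠ 1 ∧ x = f ⟨c, hA (hB hc)⟩}) ?_
      (b₀ := f ⟨c₀, hA (hB hc₀)⟩) ⟨c₀, hc₀, hc₀1, rfl⟩ ?_ ?_
    · rintro _ ⟨c, hc, -, rfl⟩
      have h4 : (⟨c, hA (hB hc)⟩ : centralizer ({b} : Set G)) * ⟨c, hA (hB hc)⟩ = 1 :=
        Subtype.ext (hsq c (hB hc))
      rw [← map_mul, h4, map_one]
    · rintro _ ⟨c, hc, hc1, rfl⟩
      exact h1 c hc hc1
    · intro L hL hall
      exact hcomp L hL (fun c hc hc1 => hall _ ⟨c, hc, hc1, rfl⟩) _ h2 h1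
  rw [← MonoidHom.mem_ker, hker, ← mem_XX_iff] at h3
  exact h3

end Quot

end Cfsg.Agent.Cit.CoreTools
end

-- part: Cit/CovES
section
set_option linter.all false
open scoped Cfsg.Agent.FastGrp

/-!
# The kernel of the action on `K / O(K)`, and members covered by centralisers of subgroups of `D(S)`

`ck K = {x ∈ N(K) | [K, x] ≤ O(K)}`.  For a 2-subgroup `A`: `K ∈ Om` is covered by `C(A)` iff `A ≤ ck K`
(`mem_cov_iff_le_ck`).  For `K ∈ Om(S)`: `E(S) ≤ ck K` (`ES_le_ck`), `L ⊓ S ≤ ck K` for `L ∈ Om(S)`, `L ≠ K`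
(`inf_le_ck`).  No type hypothesis, no THEOREM T.
-/

set_option autoImplicit false
set_option linter.dupNamespace false
set_option linter.style.haveILetI false
set_option linter.unusedSectionVars false

namespace Cfsg.Agent.Cit.CovES

open Subgroup Cfsg Cfsg.Agent.Cit SubCent

variable {G : Type*} [Group G] {Om : Set (Subgroup G)} {K L J S A B : Subgroup G}

/-- the normaliser of `K` normalises `O(K)` -/
theorem normalizer_le_normalizer_OO (K : Subgroup G) : normalizer (K : Set G) ≤ normalizer (OO K : Set G) := by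
  intro x hx
  rw [mem_normalizer_iff_cj] at hx ⊢
  rw [← OO_cj, hx]

/-- the kernel of the action of `N(K)` on `K / O(K)` -/
def ck (K : Subgroup G) : Subgroup G where
  carrier := {x | x ∈ normalizer (K : Set G) ∧ ∀ k ∈ K, k * x * k⁻¹ * x⁻¹ ∈ OO K}
  one_mem' := ⟨one_mem _, fun k hk => by simp⟩
  mul_mem' := by
    rintro x y ⟨hx1, hx2⟩ ⟨hy1, hy2⟩
    refine ⟨mul_mem hx1 hy1, fun k hk => ?_⟩
    have e : k * (x * y) * k⁻¹ * (x * y)⁻¹ =
        (k * x * k⁻¹ * x⁻¹) * (x * (k * y * k⁻¹ * y⁻¹) * x⁻¹) := by group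
    rw [e]
    exact mul_mem (hx2 k hk) ((mem_normalizer_iff.1 (normalizer_le_normalizer_OO K hx1) _).1 (hy2 k hk))
  inv_mem' := by
    rintro x ⟨hx1, hx2⟩
    refine ⟨inv_mem hx1, fun k hk => ?_⟩
    have e : k * x⁻¹ * k⁻¹ * x⁻¹⁻¹ = x⁻¹ * (k * x * k⁻¹ * x⁻¹)⁻¹ * x⁻¹⁻¹ := by group
    rw [e]
    exact (mem_normalizer_iff.1 (inv_mem (normalizer_le_normalizer_OO K hx1)) _).1 (inv_mem (hx2 k hk))

theorem mem_ck_def {x : G} : x ∈ ck K ↔ x ∈ normalizer (K : Set G) ∧ ∀ k ∈ K, k * x * k⁻¹ * x⁻¹ ∈ OO K := Iff.rfl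

/-- in a finite group `[K, x] ≤ O(K)` implies that `x` normalises `K` -/
theorem mem_ck [Finite G] {x : G} : x ∈ ck K ↔ ∀ k ∈ K, k * x * k⁻¹ * x⁻¹ ∈ OO K := by
  refine ⟨fun h => h.2, fun h => ⟨?_, h⟩⟩
  have h3 : ∀ k ∈ K, x * k * x⁻¹ ∈ K := by
    intro k hk
    have h4 := K.mul_mem hk (OO_le K (h _ (K.inv_mem hk)))
    have h5 : k * (k⁻¹ * x * k⁻¹⁻¹ * x⁻¹) = x * k * x⁻¹ := by group
    rwa [h5] at h4
  rw [mem_normalizer_iff_cj]
  refine eq_of_le_of_card_ge ?_ (by rw [card_cj])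
  rintro _ ⟨k, hk, rfl⟩
  exact h3 k hk

theorem le_ck_iff [Finite G] : A ≤ ck K ↔ ⁅K, A⁆ ≤ OO K := by
  rw [Subgroup.commutator_le]
  constructor
  · intro h k hk a ha
    rw [commutatorElement_def]
    exact (h ha).2 k hk
  · intro h a ha
    rw [mem_ck]
    intro k hk
    have := h k hk a ha
    rwa [commutatorElement_def] at this

/-- elements of `C(K)` are in `ck K` -/
theorem centralizer_le_ck : centralizer (K : Set G) ≤ ck K := by
  intro x hx
  refine ⟨centralizer_le_normalizer _ hx, fun k hk => ?_⟩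
  have h1 := mem_centralizer_iff.1 hx k hk
  rw [h1, mul_inv_cancel_right, mul_inv_cancel]
  exact one_mem _

section

variable [Finite G]

/-- `K` is covered by the centraliser of a 2-group `A` iff `A` acts trivially on `K / O(K)` -/
theorem mem_cov_iff_le_ck (h : Hyp Om) (hA : IsPGroup 2 A) :
    K ∈ cov Om (centralizer (A : Set G)) ↔ K ∈ Om ∧ A ≤ ck K := by
  rw [mem_cov_centralizer h hA, le_ck_iff]

/-- the case of a 2-element -/
theorem mem_cov_iff_mem_ck (h : Hyp Om) {b : G} (hb : IsPGroup 2 (zpowers b)) :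
    K ∈ cov Om (centralizer {b}) ↔ K ∈ Om ∧ b ∈ ck K := by
  rw [← PairComm.centralizer_zpowers, mem_cov_iff_le_ck h hb, zpowers_le]

theorem isPGroup_zpowers_of_mem (hS : IsPGroup 2 S) {b : G} (hb : b ∈ S) : IsPGroup 2 (zpowers b) :=
  hS.to_le (zpowers_le.2 hb)

/-- an involution -/
theorem isPGroup_zpowers_of_sq {b : G} (hb : b * b = 1) : IsPGroup 2 (zpowers b) := by
  rintro ⟨_, i, rfl⟩
  refine ⟨1, Subtype.ext ?_⟩
  change (b ^ i) ^ 2 ^ 1 = 1
  rw [← zpow_natCast, ← zpow_mul, mul_comm, zpow_mul, zpow_natCast, pow_one, pow_two, hb, one_zpow]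

theorem zz_mem_ck (h : Hyp Om) (hK : K ∈ Om) : zz K ∈ ck K := by
  refine centralizer_le_ck (mem_centralizer_iff.2 fun x hx => ?_)
  exact mem_centralizer_singleton_iff.1 (h.le_centralizer hK hx)

/-- different members of `Om(S)` act trivially on each other -/
theorem inf_le_ck (h : Hyp Om) (hS : IsPGroup 2 S) (hK : K ∈ OmS Om S) (hL : L ∈ OmS Om S) (hne : K ≠ L) :
    L ⊓ S ≤ ck K := le_ck_iff.2 (PairComm.commutator_le h hS hK hL hne)

theorem zz_mem_ck_of_ne (h : Hyp Om) (hS : IsPGroup 2 S) (hK : K ∈ OmS Om S) (hL : L ∈ OmS Om S)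
    (hne : K ≠ L) : zz L ∈ ck K := inf_le_ck h hS hK hL hne (h.zz_mem_inf hS hL)

/-- **`E(S)` acts trivially on `K / O(K)` for `K ∈ Om(S)`** -/
theorem ES_le_ck (h : Hyp Om) (hS : IsPGroup 2 S) (hK : K ∈ OmS Om S) : ES Om S ≤ ck K := by
  rw [ES_le_iff]
  intro L hL
  by_cases hne : K = L
  · subst hne; exact zz_mem_ck h hK.1
  · exact zz_mem_ck_of_ne h hS hK hL hne

/-- the members of `Om(S)` are covered by `C(E(S))` -/
theorem mem_cov_ES (h : Hyp Om) (hS : IsPGroup 2 S) (hK : K ∈ OmS Om S) :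
    K ∈ cov Om (centralizer (ES Om S : Set G)) :=
  (mem_cov_iff_le_ck h (hS.to_le (ES_le h hS))).2 ⟨hK.1, ES_le_ck h hS hK⟩

/-- the members of `Om(S)` are covered by `C(e)`, `e ∈ E(S)` -/
theorem mem_cov_of_mem_ES (h : Hyp Om) (hS : IsPGroup 2 S) (hK : K ∈ OmS Om S) {e : G} (he : e ∈ ES Om S) :
    K ∈ cov Om (centralizer {e}) :=
  cov_mono (by
    rw [← centralizer_closure {e}]
    exact centralizer_le (by
      rw [← zpowers_eq_closure]
      exact zpowers_le.2 he)) (mem_cov_ES h hS hK)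

/-- elements acting trivially on `K / O(K)` centralise `z_K` -/
theorem comm_zz_of_mem_ck (h : Hyp Om) (hK : K ∈ Om) {x : G} (hx : x ∈ ck K) : x * zz K = zz K * x := by
  have h1 := mem_centralizer_singleton_iff.1 (h.normalizer_le hK hx.1)
  exact h1

/-- the Sylow 2-subgroups of `ck K` centralise some Sylow 2-subgroup of `K`: if `A` is a 2-group acting trivially
on `K / O(K)` then `A` centralises a Sylow 2-subgroup of `K` -/
theorem exists_syl_le_centralizer (hK : K ∈ Om) (hA : IsPGroup 2 A) (hAK : A ≤ ck K) :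
    ∃ Q, Syl Q K ∧ Q ≤ centralizer (A : Set G) := by
  have h1 : K ∈ cov Om (centralizer (A : Set G)) := cov_of_comm hK hA (le_ck_iff.1 hAK)
  obtain ⟨Q, hQ⟩ := Hyp.exists_syl (K ⊓ centralizer (A : Set G))
  exact ⟨Q, syl_of_syl_inf h1 hQ, hQ.1.trans inf_le_right⟩

/-- if a 2-group `A` acts trivially on `K / O(K)` there is a common Sylow 2-subgroup: `A ≤ S`, `K ∈ Om(S)` -/
theorem exists_common (hK : K ∈ Om) (hA : IsPGroup 2 A) (hAK : A ≤ ck K) :
    ∃ S : Sylow 2 G, A ≤ S ∧ K ∈ OmS Om (S : Subgroup G) := by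
  haveI : Fact (Nat.Prime 2) := ⟨Nat.prime_two⟩
  obtain ⟨Q, hQ, hQA⟩ := exists_syl_le_centralizer hK hA hAK
  have h1 : IsPGroup 2 (Q ⊔ A : Subgroup G) := hQ.2.1.to_sup_of_normal_right' hA
    (hQA.trans (centralizer_le_normalizer _))
  obtain ⟨S, hS⟩ := h1.exists_le_sylow
  exact ⟨S, le_sup_right.trans hS, mem_OmS_of_le hK hQ (le_sup_left.trans hS)⟩

/-- adjacent members: `z_L ∈ ck K` -/
theorem zz_mem_ck_of_adj (h : Hyp Om) (hKL : Adj Om K L) : zz L ∈ ck K := by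
  obtain ⟨S, hK, hL⟩ := hKL
  by_cases hne : K = L
  · subst hne; exact zz_mem_ck h hK.1
  · exact zz_mem_ck_of_ne h S.isPGroup' hK hL hne

/-- two adjacent members covered by `C(b)` have a common 2-group in `C(b)` -/
theorem exists_common_cent (h : Hyp Om) {b : G} (hb : IsPGroup 2 (zpowers b)) (hK : K ∈ Om) (hL : L ∈ Om)
    (hbK : b ∈ ck K) (hbL : b ∈ ck L) (hKL : zz L ∈ ck K) :
    ∃ S : Subgroup G, IsPGroup 2 S ∧ S ≤ centralizer {b} ∧ K ∈ OmS Om S ∧ L ∈ OmS Om S := by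
  haveI : Fact (Nat.Prime 2) := ⟨Nat.prime_two⟩
  have hbz : b * zz L = zz L * b := comm_zz_of_mem_ck h hL hbL
  -- the 2-group `⟨b, z_L⟩`
  set A : Subgroup G := zpowers b ⊔ zpowers (zz L) with hA
  have hA2 : IsPGroup 2 A := hb.to_sup_of_normal_right' (PairComm.isPGroup_zpowers_zz h hL) (by
    rw [zpowers_le]
    refine centralizer_le_normalizer _ ?_
    rw [PairComm.centralizer_zpowers]
    exact mem_centralizer_singleton_iff.2 hbz)
  obtain ⟨Q, hQ, hQA⟩ := exists_syl_le_centralizer hK hA2 (sup_le (zpowers_le.2 hbK) (zpowers_le.2 hKL))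
  have hQz : ∀ a ∈ Q, a * zz L = zz L * a := fun a ha =>
    ((mem_centralizer_iff.1 (hQA ha)) (zz L) (mem_sup_right (mem_zpowers _))).symm
  have hQb : Q ≤ centralizer {b} := fun a ha => mem_centralizer_singleton_iff.2
    ((mem_centralizer_iff.1 (hQA ha)) b (mem_sup_left (mem_zpowers _))).symm
  -- `Q` normalises `L ⊓ C(b)`
  have hQL : Q ≤ normalizer (L : Set G) := h.le_normalizer_of_commute hK hL hQ hQz
  have hQL2 : Q ≤ normalizer ((L ⊓ centralizer {b} : Subgroup G) : Set G) := by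
    intro x hx
    rw [mem_normalizer_iff_cj, cj_inf, mem_normalizer_iff_cj.1 (hQL hx),
      mem_normalizer_iff_cj.1 (le_normalizer (hQb hx))]
  obtain ⟨S, hS, hQS, hR⟩ := LB.exists_two_sup hQ.2.1 hQL2
  have hLc : L ∈ cov Om (centralizer {b}) := (mem_cov_iff_mem_ck h hb).2 ⟨hL, hbL⟩
  refine ⟨Q ⊔ (S ⊓ (L ⊓ centralizer {b})), ?_, ?_, ?_, ?_⟩
  · exact hS.to_le (sup_le hQS inf_le_left)
  · exact sup_le hQb (inf_le_right.trans inf_le_right)
  · exact mem_OmS_of_le hK hQ le_sup_left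
  · exact mem_OmS_of_le hL (syl_of_syl_inf hLc hR) le_sup_right

end

end Cfsg.Agent.Cit.CovES
end

-- part: Cit/TwoFK/Base
section
set_option linter.all false
open scoped Cfsg.Agent.FastGrp

-- part: Cit/TwoFK/DC
section
/-!
# The diagonal conjugation lemma

`dc`: `K`, `L` two members with the same involution, interchanged by the involution `z`; if all elements of
order 4 of `K` are conjugate in `K`, then for `k, l ∈ Q` (`Q` a Sylow 2-subgroup of `K` commuting with `Q^z`)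
the elements `k k^z` and `l l^z` are conjugate under an element of `K ⊔ L` commuting with `z`.
-/

set_option autoImplicit false
set_option linter.style.haveILetI false
set_option linter.unusedSectionVars false

namespace Cfsg.Agent.Cit.TwoFK

open Subgroup Cfsg Cit OneBasic

variable {G : Type*} [Group G] [Finite G]

/-- a 2-group `A` normalising the group `N` of odd order is a Sylow 2-subgroup of `A N` -/
theorem syl_sup_odd {N A : Subgroup G} (hN : ¬ 2 ∣ Nat.card N) (hA : IsPGroup 2 A)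
    (hAN : A ≤ normalizer (N : Set G)) : Syl A (A ⊔ N) := by
  obtain ⟨T, hT, hAT⟩ := OneBasic.exists_syl_ge hA (le_sup_left : A ≤ A ⊔ N)
  have h1 : T = A := by
    refine le_antisymm ?_ hAT
    intro t ht
    obtain ⟨a, ha, n, hn, rfl⟩ := exists_mul_of_mem_sup hAN (hT.1 ht)
    have h2 : n ∈ T := by
      have := T.mul_mem (T.inv_mem (hAT ha)) ht
      rwa [inv_mul_cancel_left] at this
    rw [eq_one_of_mem_odd hT.2.1 hN h2 hn, mul_one]
    exact ha
  rwa [h1] at hT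

theorem conj_mod_odd {N A B : Subgroup G} (hN : ¬ 2 ∣ Nat.card N) (hA : IsPGroup 2 A)
    (hAN : A ≤ normalizer (N : Set G)) (hB : IsPGroup 2 B) (hBAN : B ≤ A ⊔ N) :
    ∃ n ∈ N, ∀ b ∈ B, ∀ a ∈ A, b * a⁻¹ ∈ N → n * b * n⁻¹ = a := by
  have hS := syl_sup_odd hN hA hAN
  obtain ⟨T, hT, hBT⟩ := OneBasic.exists_syl_ge hB hBAN
  obtain ⟨m, hm, hmT⟩ := hT.exists_conj hS
  obtain ⟨a0, ha0, n, hn, rfl⟩ := exists_mul_of_mem_sup hAN hm
  refine ⟨n, hn, fun b hb a ha hab => ?_⟩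
  have h1 : cj n T = A := by
    have h2 : cj a0⁻¹ (cj (a0 * n) T) = cj a0⁻¹ A := by rw [hmT]
    rw [← cj_mul, inv_mul_cancel_left, mem_normalizer_iff_cj.1 (le_normalizer (A.inv_mem ha0))] at h2
    exact h2
  have h2 : n * b * n⁻¹ ∈ A := by rw [← h1]; exact conj_mem_cj (hBT hb)
  have h3 : n * b * n⁻¹ * a⁻¹ ∈ N := by
    have h4 : a * n⁻¹ * a⁻¹ ∈ N := (mem_normalizer_iff.1 (hAN ha) _).1 (N.inv_mem hn)
    have h5 := N.mul_mem (N.mul_mem hn hab) h4
    rwa [show n * (b * a⁻¹) * (a * n⁻¹ * a⁻¹) = n * b * n⁻¹ * a⁻¹ by group] at h5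
  have h4 := eq_one_of_mem_odd hA hN (A.mul_mem h2 (A.inv_mem ha)) h3
  rwa [mul_inv_eq_one] at h4

/-- the product of two commuting 2-elements -/
theorem isP_iff {a : G} : IsPGroup 2 (zpowers a) ↔ ∃ m, a ^ 2 ^ m = 1 := by
  constructor
  · intro h
    obtain ⟨m, hm⟩ := h ⟨a, mem_zpowers a⟩
    exact ⟨m, congrArg Subtype.val hm⟩
  · rintro ⟨m, hm⟩
    haveI : Fact (Nat.Prime 2) := ⟨Nat.prime_two⟩
    rw [IsPGroup.iff_card]
    obtain ⟨k, -, hk⟩ := (Nat.dvd_prime_pow Nat.prime_two).1 (orderOf_dvd_of_pow_eq_one hm)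
    exact ⟨k, by rw [Nat.card_zpowers, hk]⟩

theorem isP_mul {a b : G} (ha : IsPGroup 2 (zpowers a)) (hb : IsPGroup 2 (zpowers b)) (hc : a * b = b * a) :
    IsPGroup 2 (zpowers (a * b)) := by
  obtain ⟨m, hm⟩ := isP_iff.1 ha
  obtain ⟨k, hk⟩ := isP_iff.1 hb
  refine isP_iff.2 ⟨m + k, ?_⟩
  rw [(show Commute a b from hc).mul_pow, pow_add, pow_mul, hm, one_pow, one_mul, mul_comm (2 ^ m), pow_mul, hk,
    one_pow]

theorem isP_of_mem {S : Subgroup G} (hS : IsPGroup 2 S) {a : G} (ha : a ∈ S) : IsPGroup 2 (zpowers a) :=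
  hS.to_le (zpowers_le.2 ha)

theorem isP_of_sq {x : G} (hx : x * x = 1) : IsPGroup 2 (zpowers x) :=
  isP_iff.2 ⟨1, by rw [pow_one, pow_two, hx]⟩

/-- **Lemma DC** -/
theorem dc {Om : Set (Subgroup G)} (h : Hyp Om) {K L Q : Subgroup G} (hK : K ∈ Om) (hL : L ∈ Om) (hne : K ≠ L)
    (hzz : zz K = zz L) (hk1 : ∀ x ∈ K, ∀ y ∈ K, orderOf x = 4 → orderOf y = 4 → ∃ k ∈ K, k * x * k⁻¹ = y)
    {z : G} (hz : z * z = 1) (hzK : cj z K = L) (hQ : Q ≤ K) (hQp : IsPGroup 2 Q)
    (hcomm : ∀ a ∈ Q, ∀ b ∈ cj z Q, a * b = b * a) {k l : G} (hk : k ∈ Q) (hl : l ∈ Q) (hk4 : orderOf k = 4)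
    (hl4 : orderOf l = 4) :
    ∃ g ∈ K ⊔ L, g * z = z * g ∧ g * (k * (z * k * z⁻¹)) * g⁻¹ = l * (z * l * z⁻¹) := by
  obtain ⟨g0, hg0, hg0k⟩ := hk1 k (hQ hk) l (hQ hl) hk4 hl4
  have hzi : z⁻¹ = z := inv_eq_of_mul_eq_one_right hz
  have hzL : cj z L = K := by rw [← hzK, ← cj_mul, hz, cj_one]
  -- the odd normal subgroup
  have hcom := (h.h2 K hK L hL hzz).resolve_left hne
  obtain ⟨N, hNdef⟩ : ∃ N, N = OO (K ⊔ L) := ⟨_, rfl⟩
  have hodd : ¬ 2 ∣ Nat.card N := by rw [hNdef]; exact odd_OO _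
  have hLK : L ≤ normalizer (OO K : Set G) := by
    intro x hx
    rw [mem_normalizer_iff_cj]
    have h1 : cj x (OO K) ≤ OO K := by
      intro y hy
      rw [mem_cj] at hy
      have h2 : x * (x⁻¹ * y * x) * x⁻¹ * (x⁻¹ * y * x)⁻¹ ∈ ⁅K, L⁆ := by
        rw [commutator_comm]
        exact commutator_mem_commutator hx (OO_le K hy)
      have h3 := (OO K).mul_mem (hcom h2).1 hy
      rwa [show x * (x⁻¹ * y * x) * x⁻¹ * (x⁻¹ * y * x)⁻¹ * (x⁻¹ * y * x) = y by group] at h3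
    exact eq_of_le_of_card_ge h1 (by rw [card_cj])
  have hOO : OO K ≤ N := by
    rw [hNdef]
    exact le_OO ((OO_le K).trans le_sup_left) (sup_le (le_normalizer_OO K) hLK) (odd_OO K)
  have hKLN : ⁅K, L⁆ ≤ N := (hcom.trans inf_le_left).trans hOO
  have hNKL : K ⊔ L ≤ normalizer (N : Set G) := by rw [hNdef]; exact le_normalizer_OO _
  have hNz : z ∈ normalizer (N : Set G) := by
    rw [mem_normalizer_iff_cj, hNdef, ← OO_cj, cj_sup, hzK, hzL, sup_comm]
  have hN' : N ≤ K ⊔ L := by rw [hNdef]; exact OO_le _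
  -- the element
  obtain ⟨g0', hg0'⟩ : ∃ g, g = z * g0 * z⁻¹ := ⟨_, rfl⟩
  obtain ⟨k', hk'⟩ : ∃ g, g = z * k * z⁻¹ := ⟨_, rfl⟩
  obtain ⟨l', hl'⟩ : ∃ g, g = z * l * z⁻¹ := ⟨_, rfl⟩
  have hg0'L : g0' ∈ L := by rw [hg0', ← hzK]; exact conj_mem_cj hg0
  have hk'Q : k' ∈ cj z Q := by rw [hk']; exact conj_mem_cj hk
  have hl'Q : l' ∈ cj z Q := by rw [hl']; exact conj_mem_cj hl
  have hl'L : l' ∈ L := by rw [← hzK]; exact cj_mono z hQ hl'Q
  have hk'L : k' ∈ L := by rw [← hzK]; exact cj_mono z hQ hk'Q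
  have e1 : g0' * k' * g0'⁻¹ = l' := by rw [hg0', hk', hl', ← hg0k]; group
  rw [← hk', ← hl']
  have hinv : ∀ u u' : G, u ∈ Q → u' = z * u * z⁻¹ → z * (u * u') = (u * u') * z := by
    intro u u' hu hu'
    have hu'Q : u' ∈ cj z Q := by rw [hu']; exact conj_mem_cj hu
    have h2 : z * u' * z⁻¹ = u := by
      rw [hu']
      calc z * (z * u * z⁻¹) * z⁻¹ = (z * z) * u * (z * z)⁻¹ := by group
        _ = u := by rw [hz]; group
    calc z * (u * u') = (z * u * z⁻¹) * (z * u' * z⁻¹) * z := by group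
      _ = (u' * u) * z := by rw [h2, ← hu']
      _ = (u * u') * z := by rw [hcomm u hu u' hu'Q]
  have hkz := hinv k k' hk hk'
  have hlz := hinv l l' hl hl'
  have hpp : ∀ u u' : G, u ∈ Q → u' ∈ cj z Q → IsPGroup 2 (zpowers (u * u')) := fun u u' hu hu' =>
    isP_mul (isP_of_mem hQp hu) (isP_of_mem (isPGroup_cj hQp) hu') (hcomm u hu u' hu')
  have hzp : IsPGroup 2 (zpowers z) := isP_of_sq hz
  have hpair : ∀ u : G, z * u = u * z → IsPGroup 2 (zpowers u) → IsPGroup 2 (zpowers z ⊔ zpowers u : Subgroup G) := by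
    intro u hu hup
    refine isPGroup_sup_of_normalizes hzp hup ?_
    rw [zpowers_le, mem_normalizer_iff_cj, cj_def, MonoidHom.map_zpowers]
    congr 1
    change z * u * z⁻¹ = u
    rw [hu, mul_inv_cancel_right]
  -- the commutators
  have hc1 : ∀ a ∈ K, ∀ b ∈ L, a * b * a⁻¹ * b⁻¹ ∈ N := fun a ha b hb =>
    hKLN (commutator_mem_commutator ha hb)
  have hKN : ∀ a ∈ K, ∀ n ∈ N, a * n * a⁻¹ ∈ N := fun a ha n hn =>
    (mem_normalizer_iff.1 (hNKL (mem_sup_left ha)) n).1 hn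
  have hz1 : (g0 * g0') * z * (g0 * g0')⁻¹ * z⁻¹ ∈ N := by
    have h1 := hc1 g0 hg0 g0' hg0'L
    have h2 : (g0 * g0') * z * (g0 * g0')⁻¹ * z⁻¹ = g0 * g0' * g0⁻¹ * g0'⁻¹ := by
      have h3 : g0' * z = z * g0 := by rw [hg0']; group
      have h4 : g0'⁻¹ = z * g0⁻¹ * z⁻¹ := by rw [hg0']; group
      calc (g0 * g0') * z * (g0 * g0')⁻¹ * z⁻¹ = g0 * (g0' * z) * g0'⁻¹ * g0⁻¹ * z⁻¹ := by group
        _ = g0 * (z * g0) * (z * g0⁻¹ * z⁻¹) * g0⁻¹ * z⁻¹ := by rw [h3, h4]
        _ = g0 * (z * g0 * z⁻¹) * (z * z) * g0⁻¹ * (z * z)⁻¹ * z * g0⁻¹ * z⁻¹ := by group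
        _ = g0 * g0' * g0⁻¹ * (z * g0⁻¹ * z⁻¹) := by rw [hz, ← hg0']; group
        _ = _ := by rw [← h4]
    rw [h2]
    exact h1
  have hk2 : (g0 * g0') * (k * k') * (g0 * g0')⁻¹ * (l * l')⁻¹ ∈ N := by
    have h1 : k * g0' * k⁻¹ * g0'⁻¹ ∈ N := hc1 k (hQ hk) g0' hg0'L
    have h2 : g0 * l' * g0⁻¹ * l'⁻¹ ∈ N := hc1 g0 hg0 l' hl'L
    have h3 : g0 * (k * g0' * k⁻¹ * g0'⁻¹)⁻¹ * g0⁻¹ ∈ N := hKN g0 hg0 _ (N.inv_mem h1)
    have h4 : l * (g0 * l' * g0⁻¹ * l'⁻¹) * l⁻¹ ∈ N := hKN l (hQ hl) _ h2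
    have h5 := N.mul_mem h3 h4
    have h6 : g0 * (k * g0' * k⁻¹ * g0'⁻¹)⁻¹ * g0⁻¹ * (l * (g0 * l' * g0⁻¹ * l'⁻¹) * l⁻¹) =
        (g0 * g0') * (k * k') * (g0 * g0')⁻¹ * (l * l')⁻¹ := by
      rw [← e1, ← hg0k]
      group
    rw [h6] at h5
    exact h5
  obtain ⟨n, hn, hn2⟩ := conj_mod_odd (N := N) (A := zpowers z ⊔ zpowers (l * l'))
    (B := cj (g0 * g0') (zpowers z ⊔ zpowers (k * k'))) hodd (hpair _ hlz (hpp l l' hl hl'Q))
    (sup_le (zpowers_le.2 hNz) (zpowers_le.2 (mul_mem (hNKL (mem_sup_left (hQ hl)))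
      (hNKL (mem_sup_right hl'L))))) (isPGroup_cj (hpair _ hkz (hpp k k' hk hk'Q))) (by
      rw [cj_def, Subgroup.map_sup, MonoidHom.map_zpowers, MonoidHom.map_zpowers]
      refine sup_le (zpowers_le.2 ?_) (zpowers_le.2 ?_)
      · change (g0 * g0') * z * (g0 * g0')⁻¹ ∈ _
        have h1 := mul_mem (mem_sup_right hz1 : _ ∈ (zpowers z ⊔ zpowers (l * l')) ⊔ N)
          (mem_sup_left (mem_sup_left (mem_zpowers z)))
        rwa [inv_mul_cancel_right] at h1
      · change (g0 * g0') * (k * k') * (g0 * g0')⁻¹ ∈ _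
        have h1 := mul_mem (mem_sup_right hk2 : _ ∈ (zpowers z ⊔ zpowers (l * l')) ⊔ N)
          (mem_sup_left (mem_sup_right (mem_zpowers (l * l'))))
        rwa [inv_mul_cancel_right] at h1)
  refine ⟨n * (g0 * g0'), mul_mem (hN' hn) (mul_mem (mem_sup_left hg0) (mem_sup_right hg0'L)), ?_, ?_⟩
  · have h1 := hn2 _ (conj_mem_cj (mem_sup_left (mem_zpowers z))) z (mem_sup_left (mem_zpowers z)) hz1
    calc n * (g0 * g0') * z = (n * ((g0 * g0') * z * (g0 * g0')⁻¹) * n⁻¹) * (n * (g0 * g0')) := by group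
      _ = z * (n * (g0 * g0')) := by rw [h1]
  · have h1 := hn2 _ (conj_mem_cj (mem_sup_right (mem_zpowers (k * k')))) (l * l')
      (mem_sup_right (mem_zpowers (l * l'))) hk2
    rw [← h1]
    group

end Cfsg.Agent.Cit.TwoFK
end

-- part: Cit/TwoFK/Base
section
/-!
# `|Om(S)| = 2` with equal involutions: the basic facts

`TwoEq Om`: one class, `|Om(S)| = 2`, the two members of `Om(S)` have the same involution.
`Mate Om K L`: the two members over one involution. `Zs Om` is the class of these involutions.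
-/

set_option autoImplicit false
set_option linter.style.haveILetI false
set_option linter.unusedSectionVars false
set_option linter.unusedVariables false

namespace Cfsg.Agent.Cit.TwoFK

open Subgroup Cfsg Cit OneBasic

variable {G : Type*} [Group G] [Finite G]

/-- `|Om(S)| = 2`, one class, equal involutions -/
structure TwoEq (Om : Set (Subgroup G)) : Prop where
  hyp : Hyp Om
  cls : ∀ K ∈ Om, ∀ L ∈ Om, ∃ g, cj g K = L
  two : ∀ S : Sylow 2 G, (OmS Om (S : Subgroup G)).ncard = 2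
  same : ∀ S : Sylow 2 G, ∀ K ∈ OmS Om (S : Subgroup G), ∀ L ∈ OmS Om (S : Subgroup G), zz K = zz L

/-- the two members over one involution -/
structure Mate (Om : Set (Subgroup G)) (K L : Subgroup G) : Prop where
  hK : K ∈ Om
  hL : L ∈ Om
  ne : K ≠ L
  zz : zz K = zz L

/-- the involutions of the members -/
def Zs (Om : Set (Subgroup G)) : Set G := {z | ∃ K ∈ Om, zz K = z}

theorem Mate.symm {Om : Set (Subgroup G)} {K L : Subgroup G} (m : Mate Om K L) : Mate Om L K :=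
  ⟨m.hL, m.hK, m.ne.symm, m.zz.symm⟩

theorem Mate.cj {Om : Set (Subgroup G)} {K L : Subgroup G} (h : Hyp Om) (m : Mate Om K L) (g : G) :
    Mate Om (Cit.cj g K) (Cit.cj g L) :=
  ⟨h.conj _ m.hK g, h.conj _ m.hL g, fun hh => m.ne (cj_inj.1 hh), by
    rw [h.zz_cj m.hK, h.zz_cj m.hL, m.zz]⟩

theorem zz_mem_Zs {Om : Set (Subgroup G)} {K : Subgroup G} (hK : K ∈ Om) : zz K ∈ Zs Om := ⟨K, hK, rfl⟩

theorem Zs_cj {Om : Set (Subgroup G)} (h : Hyp Om) {z : G} (hz : z ∈ Zs Om) (g : G) : g * z * g⁻¹ ∈ Zs Om := by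
  obtain ⟨K, hK, rfl⟩ := hz
  exact ⟨_, h.conj K hK g, h.zz_cj hK g⟩

theorem Zs_cj' {Om : Set (Subgroup G)} (h : Hyp Om) {z : G} (hz : z ∈ Zs Om) (g : G) : g⁻¹ * z * g ∈ Zs Om := by
  have := Zs_cj h hz g⁻¹
  rwa [inv_inv] at this

theorem Zs_mul {Om : Set (Subgroup G)} (h : Hyp Om) {z : G} (hz : z ∈ Zs Om) : z * z = 1 := by
  obtain ⟨K, hK, rfl⟩ := hz
  exact h.zz_mul hK

theorem Zs_inv {Om : Set (Subgroup G)} (h : Hyp Om) {z : G} (hz : z ∈ Zs Om) : z⁻¹ = z :=
  inv_eq_of_mul_eq_one_right (Zs_mul h hz)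

theorem Zs_ne {Om : Set (Subgroup G)} (h : Hyp Om) {z : G} (hz : z ∈ Zs Om) : z ≠ 1 := by
  obtain ⟨K, hK, rfl⟩ := hz
  exact h.zz_ne hK

theorem Zs_isP {Om : Set (Subgroup G)} (h : Hyp Om) {z : G} (hz : z ∈ Zs Om) : IsPGroup 2 (zpowers z) :=
  isP_of_sq (Zs_mul h hz)

/-- the members normalise each other -/
theorem Mate.le_normalizer {Om : Set (Subgroup G)} {K L : Subgroup G} (h : Hyp Om) (m : Mate Om K L) :
    K ≤ normalizer (L : Set G) := by
  have hcom := (h.h2 K m.hK L m.hL m.zz).resolve_left m.ne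
  intro x hx
  rw [mem_normalizer_iff_cj]
  have h1 : Cit.cj x L ≤ L := by
    intro y hy
    rw [mem_cj] at hy
    have h2 : x * (x⁻¹ * y * x) * x⁻¹ * (x⁻¹ * y * x)⁻¹ ∈ ⁅K, L⁆ := commutator_mem_commutator hx hy
    have h3 := L.mul_mem (OO_le L (hcom h2).2) hy
    rwa [show x * (x⁻¹ * y * x) * x⁻¹ * (x⁻¹ * y * x)⁻¹ * (x⁻¹ * y * x) = y by group] at h3
  exact eq_of_le_of_card_ge h1 (by rw [card_cj])

/-- Sylow intersections of mates commute -/
theorem Mate.comm {Om : Set (Subgroup G)} {K L R : Subgroup G} (h : Hyp Om) (m : Mate Om K L)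
    (hR : IsPGroup 2 R) {a b : G} (ha : a ∈ K) (haR : a ∈ R) (hb : b ∈ L) (hbR : b ∈ R) : a * b = b * a :=
  h.comm_of_zz_eq hR m.hK m.hL m.zz m.ne ha haR hb hbR

/-- a 2-element of `K` centralises a Sylow 2-subgroup of the mate -/
theorem Mate.exists_cent {Om : Set (Subgroup G)} {K L : Subgroup G} (h : Hyp Om) (m : Mate Om K L)
    {a : G} (ha : a ∈ K) (ha2 : IsPGroup 2 (zpowers a)) : ∃ Q, Syl Q L ∧ ∀ b ∈ Q, a * b = b * a := by
  obtain ⟨Q, hQ, haQ⟩ := exists_syl_normalized ha2 ((zpowers_le.2 (m.le_normalizer h ha)))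
  have h1 : IsPGroup 2 (zpowers a ⊔ Q : Subgroup G) := isPGroup_sup_of_normalizes ha2 hQ.2.1 haQ
  exact ⟨Q, hQ, fun b hb => m.comm h h1 ha (mem_sup_left (mem_zpowers a)) (hQ.1 hb) (mem_sup_right hb)⟩

namespace TwoEq

variable {Om : Set (Subgroup G)} {K L M : Subgroup G}

/-- `(B1)` -/
theorem exists_mate (b : TwoEq Om) (hK : K ∈ Om) :
    ∃ L, Mate Om K L ∧ ∀ M ∈ Om, zz M = zz K → M = K ∨ M = L := by
  obtain ⟨S, hKS, -⟩ := b.hyp.exists_sylow hK
  obtain ⟨A, B, hAB, hS⟩ := Set.ncard_eq_two.1 (b.two S)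
  have key : ∀ A B : Subgroup G, A ≠ B → OmS Om (S : Subgroup G) = {A, B} → K = A →
      ∃ L, Mate Om K L ∧ ∀ M ∈ Om, zz M = zz K → M = K ∨ M = L := by
    rintro A B hAB hS rfl
    have hB : B ∈ OmS Om (S : Subgroup G) := by rw [hS]; exact Or.inr rfl
    refine ⟨B, ⟨hK, hB.1, hAB, b.same S _ hKS _ hB⟩, fun M hM hMz => ?_⟩
    have h1 := b.hyp.mem_OmS_of_zz_eq S hKS hM hMz
    rw [hS] at h1
    exact h1
  rcases (by rw [← Set.mem_insert_iff.trans (or_congr_right Set.mem_singleton_iff), ← hS]; exact hKS :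
    K = A ∨ K = B) with h1 | h1
  · exact key A B hAB hS h1
  · exact key B A hAB.symm (by rw [hS, Set.pair_comm]) h1

theorem eq_or (b : TwoEq Om) (m : Mate Om K L) (hM : M ∈ Om) (hz : zz M = zz K) : M = K ∨ M = L := by
  obtain ⟨L', m', h'⟩ := b.exists_mate m.hK
  rcases h' L m.hL m.zz.symm with h1 | h1
  · exact absurd h1.symm m.ne
  · rw [h1]; exact h' M hM hz

theorem mate_unique (b : TwoEq Om) (m : Mate Om K L) (m' : Mate Om K M) : L = M :=
  ((b.eq_or m m'.hL m'.zz.symm).resolve_left m'.ne.symm).symm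

/-- the centraliser of the involution permutes the two members -/
theorem cj_or (b : TwoEq Om) (m : Mate Om K L) {g : G} (hg : g * zz K = zz K * g) :
    (cj g K = K ∧ cj g L = L) ∨ (cj g K = L ∧ cj g L = K) := by
  have hgz : g * zz K * g⁻¹ = zz K := by rw [hg, mul_inv_cancel_right]
  have h1 : zz (cj g K) = zz K := by rw [b.hyp.zz_cj m.hK, hgz]
  have h2 : zz (cj g L) = zz K := by rw [b.hyp.zz_cj m.hL, ← m.zz, hgz]
  rcases b.eq_or m (b.hyp.conj _ m.hK g) h1 with h3 | h3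
  · rcases b.eq_or m (b.hyp.conj _ m.hL g) h2 with h4 | h4
    · exact absurd (cj_inj.1 (h3.trans h4.symm)) m.ne
    · exact Or.inl ⟨h3, h4⟩
  · rcases b.eq_or m (b.hyp.conj _ m.hL g) h2 with h4 | h4
    · exact Or.inr ⟨h3, h4⟩
    · exact absurd (cj_inj.1 (h3.trans h4.symm)) m.ne

theorem mem_normalizer_mate (b : TwoEq Om) (m : Mate Om K L) {g : G} (hg : g ∈ normalizer (K : Set G)) :
    g ∈ normalizer (L : Set G) := by
  rw [mem_normalizer_iff_cj] at hg ⊢
  rcases b.cj_or m (b.hyp.comm_zz m.hK (mem_normalizer_iff_cj.2 hg)) with h1 | h1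
  · exact h1.2
  · exact absurd (hg.symm.trans h1.1) m.ne

/-- an element of the centraliser normalises the members or interchanges them -/
theorem norm_or (b : TwoEq Om) (m : Mate Om K L) {g : G} (hg : g * zz K = zz K * g) :
    g ∈ normalizer (K : Set G) ∨ cj g K = L := by
  rcases b.cj_or m hg with h1 | h1
  · exact Or.inl (mem_normalizer_iff_cj.2 h1.1)
  · exact Or.inr h1.1

theorem cj_symm (b : TwoEq Om) (m : Mate Om K L) {g : G} (hg : cj g K = L) : cj g L = K := by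
  have h1 : g * zz K = zz K * g := by
    have h2 := b.hyp.zz_cj m.hK g
    rw [hg, ← m.zz] at h2
    calc g * zz K = (g * zz K * g⁻¹) * g := by group
      _ = zz K * g := by rw [← h2]
  rcases b.cj_or m h1 with h3 | h3
  · exact absurd (h3.1.symm.trans hg) m.ne
  · exact h3.2

theorem comm_of_swap (b : TwoEq Om) (m : Mate Om K L) {g : G} (hg : cj g K = L) : g * zz K = zz K * g := by
  have h2 := b.hyp.zz_cj m.hK g
  rw [hg, ← m.zz] at h2
  calc g * zz K = (g * zz K * g⁻¹) * g := by group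
    _ = zz K * g := by rw [← h2]

theorem cj_inv_swap (b : TwoEq Om) (m : Mate Om K L) {g : G} (hg : cj g K = L) : cj g⁻¹ K = L := by
  have h1 := b.cj_symm m hg
  rw [← h1, cj_inv_cj]

theorem not_norm (b : TwoEq Om) (m : Mate Om K L) {g : G} (hg : cj g K = L) : g ∉ normalizer (K : Set G) :=
  fun h => m.ne ((mem_normalizer_iff_cj.1 h).symm.trans hg)

/-- products of two swaps -/
theorem swap_mul (b : TwoEq Om) (m : Mate Om K L) {g h : G} (hg : cj g K = L) (hh : cj h K = L) :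
    g * h ∈ normalizer (K : Set G) := by
  rw [mem_normalizer_iff_cj, cj_mul, hh, b.cj_symm m hg]

theorem swap_norm (_b : TwoEq Om) (_m : Mate Om K L) {g h : G} (hg : cj g K = L) (hh : h ∈ normalizer (K : Set G)) :
    cj (g * h) K = L := by
  rw [cj_mul, mem_normalizer_iff_cj.1 hh, hg]

theorem norm_swap (b : TwoEq Om) (m : Mate Om K L) {g h : G} (hg : g ∈ normalizer (K : Set G)) (hh : cj h K = L) :
    cj (g * h) K = L := by
  rw [cj_mul, hh, mem_normalizer_iff_cj.1 (b.mem_normalizer_mate m hg)]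

/-- a square in the centraliser normalises -/
theorem sq_norm (b : TwoEq Om) (m : Mate Om K L) {g : G} (hg : g * zz K = zz K * g) :
    g * g ∈ normalizer (K : Set G) := by
  rcases b.norm_or m hg with h1 | h1
  · exact mul_mem h1 h1
  · exact b.swap_mul m h1 h1

/-- `(B2)` -/
theorem syl_top (b : TwoEq Om) (hK : K ∈ Om) {R : Subgroup G} (hR : Syl R (centralizer {zz K})) : Syl R ⊤ := by
  haveI : Fact (Nat.Prime 2) := ⟨Nat.prime_two⟩
  obtain ⟨S, hKS, hS⟩ := b.hyp.exists_sylow hK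
  have h1 : (S : Subgroup G) ≤ centralizer {zz K} := by
    intro s hs
    have h2 : cj s K ∈ OmS Om (S : Subgroup G) := cj_mem_OmS' b.hyp.conj (le_normalizer hs) hKS
    have h3 := b.same S _ h2 _ hKS
    rw [b.hyp.zz_cj hK] at h3
    rw [mem_centralizer_singleton_iff]
    calc s * zz K = (s * zz K * s⁻¹) * s := by group
      _ = zz K * s := by rw [h3]
  rw [inf_eq_left.2 h1] at hS
  obtain ⟨g, -, hg⟩ := hS.exists_conj hR
  refine ⟨le_top, hR.2.1, ?_⟩
  rw [← hg, relIndex_top_right]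
  have h2 : (cj g (S : Subgroup G)).index = (S : Subgroup G).index :=
    Subgroup.index_map_equiv _ (MulAut.conj g)
  rw [h2]
  exact S.not_dvd_index

theorem exists_sylow_eq {R : Subgroup G} (hR : Syl R ⊤) : ∃ S : Sylow 2 G, (S : Subgroup G) = R := by
  haveI : Fact (Nat.Prime 2) := ⟨Nat.prime_two⟩
  refine ⟨hR.2.1.toSylow ?_, rfl⟩
  have := hR.2.2
  rwa [relIndex_top_right] at this

theorem mem_OmS (b : TwoEq Om) (hK : K ∈ Om) {R : Subgroup G} (hR : Syl R (centralizer {zz K})) : K ∈ OmS Om R :=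
  b.hyp.mem_OmS_of_syl hK hR

theorem mem_OmS_mate (b : TwoEq Om) (m : Mate Om K L) {R : Subgroup G} (hR : Syl R (centralizer {zz K})) :
    L ∈ OmS Om R := b.hyp.mem_OmS_of_syl m.hL (by rw [← m.zz]; exact hR)

theorem syl_inf (b : TwoEq Om) (hK : K ∈ Om) {R : Subgroup G} (hR : Syl R (centralizer {zz K})) :
    Syl (K ⊓ R) K := Cit.syl_inf hR.2.1 (b.mem_OmS hK hR)

/-- `(B3)` -/
theorem zz_eq_of_cent (b : TwoEq Om) (hK : K ∈ Om) (hM : M ∈ Om) {Q : Subgroup G} (hQ : Syl Q K)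
    (hc : ∀ x ∈ Q, zz M * x = x * zz M) : zz M = zz K := by
  have h1 : Q ≤ centralizer {zz M} := fun x hx => mem_centralizer_singleton_iff.2 (hc x hx).symm
  obtain ⟨R, hR, hQR⟩ := OneBasic.exists_syl_ge hQ.2.1 h1
  obtain ⟨S, hS⟩ := exists_sylow_eq (b.syl_top hM hR)
  have h2 : K ∈ OmS Om (S : Subgroup G) := by rw [hS]; exact mem_OmS_of_le hK hQ hQR
  have h3 : M ∈ OmS Om (S : Subgroup G) := by rw [hS]; exact b.mem_OmS hM hR
  exact b.same S _ h3 _ h2

theorem eq_of_cent (b : TwoEq Om) (hK : K ∈ Om) {t : G} (ht : t ∈ Zs Om) {Q : Subgroup G} (hQ : Syl Q K)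
    (hc : ∀ x ∈ Q, t * x = x * t) : t = zz K := by
  obtain ⟨M, hM, rfl⟩ := ht
  exact b.zz_eq_of_cent hK hM hQ hc

/-- `(B4)` -/
theorem exists_swap (b : TwoEq Om) (m : Mate Om K L) : ∃ s, IsPGroup 2 (zpowers s) ∧ cj s K = L := by
  obtain ⟨g, hg⟩ := b.cls K m.hK L m.hL
  obtain ⟨k, hk, hk2⟩ := OneFieldHom.exists_odd_pow g
  refine ⟨g ^ k, hk2, ?_⟩
  obtain ⟨j, rfl⟩ := hk
  have h1 : g * g ∈ normalizer (K : Set G) := b.swap_mul m hg hg
  rw [pow_succ', pow_mul, pow_two]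
  exact b.swap_norm m hg (pow_mem h1 j)

end TwoEq

end Cfsg.Agent.Cit.TwoFK
end
end

-- part: Cit/TwoFK/Fam_mg
section
prune_inst 0x1000001000000000000000200018029000000000030000200000000000080080400600000000100000000000000060025c00000000000000000000000400000000000080002000000000000000000000000000000000000000000000000000000000000
set_option linter.all false
open scoped Cfsg.Agent.FastGrp

-- part: Cit/TwoFK/Fam
section
/-!
# Families of homomorphisms on the centralisers `C(z)`, `z ∈ Zs Om`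

`Fam Om M`: an equivariant family of homomorphisms `psi z : C(z) → M` trivial on the 2-elements of the
members over `z` and on `Zs Om ∩ C(z)`.
`NInv F`: the two values at the commuting involutions `z ≠ t` agree if `t` normalises the members over `z`.
`xinv`: the same if `t` interchanges the members over `z` and `z` those over `t`.
`gen`: if `G` has no subgroup of index 2 then `F` is trivial.
-/

set_option autoImplicit false
set_option linter.style.haveILetI false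
set_option linter.unusedSectionVars false
set_option linter.unusedVariables false

namespace Cfsg.Agent.Cit.TwoFK

open Subgroup Cfsg Cit OneBasic OneFieldHom OneFieldPsi

variable {G : Type*} [Group G] [Finite G]

/-- families killing the members and the class -/
structure Fam (Om : Set (Subgroup G)) (M : Type*) [CommGroup M] where
  /-- the value `psi z h`, meaningful for `z ∈ Zs Om`, `h ∈ C(z)` -/
  psi : G → G → M
  mul : ∀ z ∈ Zs Om, ∀ h k, h * z = z * h → k * z = z * k → psi z (h * k) = psi z h * psi z k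
  conj : ∀ z ∈ Zs Om, ∀ g h, h * z = z * h → psi (g * z * g⁻¹) (g * h * g⁻¹) = psi z h
  killK : ∀ K ∈ Om, ∀ h ∈ K, IsPGroup 2 (zpowers h) → psi (zz K) h = 1
  killZ : ∀ z ∈ Zs Om, ∀ t ∈ Zs Om, t * z = z * t → psi z t = 1

/-- invariance for the pairs with `t ∈ N(K)` -/
def NInv {Om : Set (Subgroup G)} {M : Type*} [CommGroup M] (F : Fam Om M) : Prop :=
  ∀ K ∈ Om, ∀ t ∈ Zs Om, t ≠ zz K → t ∈ normalizer (K : Set G) → ∀ h, IsPGroup 2 (zpowers h) →
    h * zz K = zz K * h → h * t = t * h → F.psi (zz K) h = F.psi t h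

/-- symmetry of "`t` normalises the members over `z`" -/
def NSym (Om : Set (Subgroup G)) : Prop :=
  ∀ K ∈ Om, ∀ L ∈ Om, zz L ∈ normalizer (K : Set G) → zz K ∈ normalizer (L : Set G)

section order

variable {Om : Set (Subgroup G)}

theorem exists_ord (b : TwoEq Om) : ∃ n, Ord Om n := by
  by_cases hne : Om.Nonempty
  · obtain ⟨K0, hK0⟩ := hne
    obtain ⟨Q0, hQ0⟩ := Hyp.exists_syl K0
    obtain ⟨c0, v0, n, g0⟩ := b.hyp.exists_gq hK0 hQ0
    refine ⟨n, fun K hK Q hQ => ?_⟩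
    obtain ⟨c, v, m, g⟩ := b.hyp.exists_gq hK hQ
    have hmn : m = n := by
      refine gq_n g0 g ?_
      obtain ⟨k, hk⟩ := b.cls K0 hK0 K hK
      have h2 := hQ0.cj k
      rw [hk] at h2
      obtain ⟨l, -, hl⟩ := h2.exists_conj hQ
      rw [← hl, card_cj, card_cj]
    subst hmn
    exact ⟨c, v, zz K, g⟩
  · exact ⟨0, fun K hK => absurd ⟨K, hK⟩ hne⟩

theorem exists_gq_n (b : TwoEq Om) {n : ℕ} (ho : Ord Om n) {K Q : Subgroup G} (hK : K ∈ Om) (hQ : Syl Q K) :
    ∃ c v, GQ Q c v (zz K) n := by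
  obtain ⟨c, v, m, g⟩ := b.hyp.exists_gq hK hQ
  have := ho.eq hK hQ g
  subst this
  exact ⟨c, v, g⟩

end order

section coord

variable {Q : Subgroup G} {c v z : G} {n : ℕ}

theorem orderOf_conj (g x : G) : orderOf (g * x * g⁻¹) = orderOf x := by
  have := (MulAut.conj g).orderOf_eq x
  rwa [MulAut.conj_apply] at this

/-- the cyclic subgroup of index two is invariant, if `|Q| ≥ 16` -/
theorem conj_c (g : GQ Q c v z n) (hn : n ≠ 0) {a : G} (ha : a ∈ normalizer (Q : Set G)) :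
    ∃ k : ℤ, a * c * a⁻¹ = c ^ k := by
  have h1 : a * c * a⁻¹ ∈ zpowers c :=
    mem_zpowers_of_orderOf g hn (conj_mem_of ha g.c_mem) (by rw [orderOf_conj]; exact g.ord)
  obtain ⟨k, hk⟩ := h1
  exact ⟨k, hk.symm⟩

/-- the elements of order 4 of the cyclic subgroup -/
theorem conj_c0 (g : GQ Q c v z n) (hn : n ≠ 0) {a : G} (ha : a ∈ normalizer (Q : Set G))
    (haz : a * z = z * a) : a * c ^ 2 ^ n * a⁻¹ = c ^ 2 ^ n ∨ a * c ^ 2 ^ n * a⁻¹ = c ^ 2 ^ n * z := by
  obtain ⟨k, hk⟩ := conj_c g hn ha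
  apply g.eq_w_of_sq
  · refine ⟨k * (2 ^ n : ℕ), ?_⟩
    have := conj_zpow_pow hk (2 ^ n : ℕ)
    rw [zpow_natCast] at this
    exact this.symm
  · calc a * c ^ 2 ^ n * a⁻¹ * (a * c ^ 2 ^ n * a⁻¹) = a * (c ^ 2 ^ n * c ^ 2 ^ n) * a⁻¹ := by group
      _ = a * z * a⁻¹ := by rw [g.w_sq]
      _ = z := by rw [haz, mul_inv_cancel_right]

end coord

/-! ### Pairs of involutions interchanging the members over each other -/

/-- see `exists_xp` -/
structure XP (Om : Set (Subgroup G)) (K L T : Subgroup G) (x y : G) : Prop where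
  hK : K ∈ Om
  hL : L ∈ Om
  hx : x ∈ K
  hy : y ∈ L
  sx : x * x = zz K
  sy : y * y = zz L
  comm : zz K * zz L = zz L * zz K
  tz : ∀ a ∈ T, a * zz K = zz K * a
  tt : ∀ a ∈ T, a * zz L = zz L * a
  zK : zz K ∈ T
  zL : zz L ∈ T
  nK : zz L ∉ normalizer (K : Set G)
  nL : zz K ∉ normalizer (L : Set G)
  cx : ∀ a ∈ T, a ∈ normalizer (K : Set G) → a * x * a⁻¹ = x ∨ a * x * a⁻¹ = x * zz K
  cy : ∀ a ∈ T, a ∈ normalizer (L : Set G) → a * y * a⁻¹ = y ∨ a * y * a⁻¹ = y * zz L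
  ex : ∃ e ∈ T, e * e = x * (zz L * x * (zz L)⁻¹)
  ey : ∃ e ∈ T, e * e = y * (zz K * y * (zz K)⁻¹)
  xx : x * (zz L * x * (zz L)⁻¹) = (zz L * x * (zz L)⁻¹) * x
  yy : y * (zz K * y * (zz K)⁻¹) = (zz K * y * (zz K)⁻¹) * y

theorem XP.symm {Om : Set (Subgroup G)} {K L T : Subgroup G} {x y : G} (p : XP Om K L T x y) :
    XP Om L K T y x :=
  ⟨p.hL, p.hK, p.hy, p.hx, p.sy, p.sx, p.comm.symm, p.tt, p.tz, p.zL, p.zK, p.nL, p.nK, p.cy, p.cx, p.ey, p.ex,
    p.yy, p.xx⟩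

/-- one side of the construction -/
theorem exists_side {Om : Set (Subgroup G)} (b : TwoEq Om) {n : ℕ} (ho : Ord Om n) (hn : n ≠ 0)
    {K L T : Subgroup G} (hK : K ∈ Om) (hL : L ∈ Om) (hc : zz K * zz L = zz L * zz K)
    (nK : zz L ∉ normalizer (K : Set G)) (hT : Syl T (centralizer {zz K} ⊓ centralizer {zz L})) :
    ∃ x ∈ K, x * x = zz K ∧
      (∀ a ∈ T, a ∈ normalizer (K : Set G) → a * x * a⁻¹ = x ∨ a * x * a⁻¹ = x * zz K) ∧
      (∃ e ∈ T, e * e = x * (zz L * x * (zz L)⁻¹)) ∧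
      x * (zz L * x * (zz L)⁻¹) = (zz L * x * (zz L)⁻¹) * x := by
  obtain ⟨Kh, m, -⟩ := b.exists_mate hK
  have hcK : cj (zz L) K = Kh := (b.norm_or m hc.symm).resolve_left nK
  have hLL := b.hyp.zz_mul hL
  obtain ⟨R, hR, hTR⟩ := OneBasic.exists_syl_ge hT.2.1 (hT.1.trans inf_le_left)
  have hTe : T = R ⊓ centralizer {zz L} :=
    syl_eq_of_le hT (hR.2.1.to_le inf_le_left) (le_inf (inf_le_left.trans hR.1) inf_le_right)
      (le_inf hTR (hT.1.trans inf_le_right))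
  have hQ := b.syl_inf hK hR
  obtain ⟨c, v, g⟩ := exists_gq_n b ho hK hQ
  obtain ⟨m', rfl⟩ : ∃ m', n = m' + 1 := ⟨n - 1, by omega⟩
  -- `zz L` lies in `T`
  have hLT : zz L ∈ T := by
    have h1 : zpowers (zz L) ≤ T := by
      refine syl_le_of_normalizes' hT (isP_of_sq hLL) ?_ ?_
      · rw [zpowers_le]
        exact ⟨mem_centralizer_singleton_iff.2 hc.symm, mem_centralizer_singleton_iff.2 rfl⟩
      · rw [zpowers_le, mem_normalizer_iff]
        intro a
        constructor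
        · intro ha
          have h2 := mem_centralizer_singleton_iff.1 (hT.1 ha).2
          rw [← h2, mul_inv_cancel_right]
          exact ha
        · intro ha
          have h2 := mem_centralizer_singleton_iff.1 (hT.1 ha).2
          have h3 : a = zz L * a * (zz L)⁻¹ := by
            calc a = (zz L)⁻¹ * (zz L * a * (zz L)⁻¹ * zz L) := by group
              _ = (zz L)⁻¹ * (zz L * (zz L * a * (zz L)⁻¹)) := by rw [h2]
              _ = _ := by group
          rw [h3]; exact ha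
    exact h1 (mem_zpowers _)
  have hLR : zz L ∈ R := hTR hLT
  have hcQ : ∀ u ∈ K ⊓ R, zz L * u * (zz L)⁻¹ ∈ Kh ⊓ R := by
    intro u hu
    refine ⟨?_, R.mul_mem (R.mul_mem hLR hu.2) (R.inv_mem hLR)⟩
    rw [← hcK]
    exact conj_mem_cj hu.1
  have hcm : ∀ u ∈ K ⊓ R, ∀ w ∈ K ⊓ R, u * (zz L * w * (zz L)⁻¹) = (zz L * w * (zz L)⁻¹) * u := by
    intro u hu w hw
    exact m.comm b.hyp hR.2.1 hu.1 hu.2 (hcQ w hw).1 (hcQ w hw).2
  have hx0 : c ^ 2 ^ (m' + 1) ∈ K ⊓ R := (K ⊓ R).pow_mem g.c_mem _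
  have hv0 : c ^ 2 ^ m' ∈ K ⊓ R := (K ⊓ R).pow_mem g.c_mem _
  refine ⟨c ^ 2 ^ (m' + 1), hx0.1, g.w_sq, ?_, ?_, hcm _ hx0 _ hx0⟩
  · intro a haT haK
    refine conj_c0 g hn ?_ (b.hyp.comm_zz hK haK)
    rw [mem_normalizer_iff_cj, cj_inf, mem_normalizer_iff_cj.1 haK,
      mem_normalizer_iff_cj.1 (le_normalizer (hTR haT))]
  · obtain ⟨w, hw⟩ : ∃ w, w = c ^ 2 ^ m' := ⟨_, rfl⟩
    have hww : w * w = c ^ 2 ^ (m' + 1) := by rw [hw, ← pow_add, ← two_mul, ← pow_succ']
    rw [← hw] at hv0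
    refine ⟨w * (zz L * w * (zz L)⁻¹), ?_, ?_⟩
    · rw [hTe]
      refine mem_inf.2 ⟨R.mul_mem hv0.2 (hcQ _ hv0).2, mem_centralizer_singleton_iff.2 ?_⟩
      have h1 := hcm w hv0 w hv0
      have h2 : zz L * w * (zz L)⁻¹ * zz L = zz L * w := by group
      have h3 : zz L * (zz L * w * (zz L)⁻¹) = w * zz L := by
        rw [b.hyp.zz_inv hL]
        calc zz L * (zz L * w * zz L) = (zz L * zz L) * w * zz L := by group
          _ = _ := by rw [hLL, one_mul]
      calc w * (zz L * w * (zz L)⁻¹) * zz L = (w * zz L) * w := by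
            rw [mul_assoc, h2]; group
        _ = zz L * (zz L * w * (zz L)⁻¹) * w := by rw [h3]
        _ = zz L * (w * (zz L * w * (zz L)⁻¹)) := by rw [h1]; group
    · have h1 := hcm w hv0 w hv0
      rw [← hww]
      calc w * (zz L * w * (zz L)⁻¹) * (w * (zz L * w * (zz L)⁻¹))
          = w * ((zz L * w * (zz L)⁻¹) * w) * (zz L * w * (zz L)⁻¹) := by group
        _ = w * (w * (zz L * w * (zz L)⁻¹)) * (zz L * w * (zz L)⁻¹) := by rw [h1]
        _ = _ := by group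

theorem exists_xp {Om : Set (Subgroup G)} (b : TwoEq Om) {n : ℕ} (ho : Ord Om n) (hn : n ≠ 0)
    {K L : Subgroup G} (hK : K ∈ Om) (hL : L ∈ Om) (hc : zz K * zz L = zz L * zz K)
    (nK : zz L ∉ normalizer (K : Set G)) (nL : zz K ∉ normalizer (L : Set G)) {h : G}
    (h2 : IsPGroup 2 (zpowers h)) (hhK : h * zz K = zz K * h) (hhL : h * zz L = zz L * h) :
    ∃ T x y, h ∈ T ∧ XP Om K L T x y := by
  obtain ⟨T, hT, hhT⟩ := OneBasic.exists_syl_ge h2 (M := centralizer {zz K} ⊓ centralizer {zz L}) (by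
    rw [zpowers_le]
    exact ⟨mem_centralizer_singleton_iff.2 hhK, mem_centralizer_singleton_iff.2 hhL⟩)
  have hmem : ∀ u : G, u * u = 1 → (∀ a ∈ T, a * u = u * a) → u * zz K = zz K * u → u * zz L = zz L * u →
      u ∈ T := by
    intro u huu hu huK huL
    have h1 : zpowers u ≤ T := by
      refine syl_le_of_normalizes' hT (isP_of_sq huu) ?_ ?_
      · rw [zpowers_le]
        exact ⟨mem_centralizer_singleton_iff.2 huK, mem_centralizer_singleton_iff.2 huL⟩
      · rw [zpowers_le, mem_normalizer_iff_cj]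
        have h2 : ∀ a ∈ T, u * a * u⁻¹ = a := by
          intro a ha
          rw [← hu a ha, mul_inv_cancel_right]
        refine eq_of_le_of_card_ge ?_ (by rw [card_cj])
        rintro _ ⟨a, ha, rfl⟩
        change u * a * u⁻¹ ∈ T
        rw [h2 a ha]; exact ha
    exact h1 (mem_zpowers _)
  have tz : ∀ a ∈ T, a * zz K = zz K * a := fun a ha => mem_centralizer_singleton_iff.1 (hT.1 ha).1
  have tt : ∀ a ∈ T, a * zz L = zz L * a := fun a ha => mem_centralizer_singleton_iff.1 (hT.1 ha).2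
  obtain ⟨x, hx, sx, cx, ex, xx⟩ := exists_side b ho hn hK hL hc nK hT
  obtain ⟨y, hy, sy, cy, ey, yy⟩ := exists_side b ho hn hL hK hc.symm nL (by rw [inf_comm]; exact hT)
  exact ⟨T, x, y, hhT (mem_zpowers h), hK, hL, hx, hy, sx, sy, hc, tz, tt,
    hmem _ (b.hyp.zz_mul hK) tz rfl hc, hmem _ (b.hyp.zz_mul hL) tt hc.symm rfl, nK, nL, cx, cy, ex, ey, xx, yy⟩

namespace XP

variable {Om : Set (Subgroup G)} {K L T : Subgroup G} {x y : G}

/-- an element of `T` or its product with `zz L` normalises `K` -/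
theorem norm_or' (b : TwoEq Om) (p : XP Om K L T x y) {a : G} (ha : a ∈ T) :
    a ∈ normalizer (K : Set G) ∨ a * zz L ∈ normalizer (K : Set G) := by
  obtain ⟨Kh, m, -⟩ := b.exists_mate p.hK
  rcases b.norm_or m (p.tz a ha) with h1 | h1
  · exact Or.inl h1
  · exact Or.inr (b.swap_mul m h1 ((b.norm_or m p.comm.symm).resolve_left p.nK))

/-- squares of elements of `T` centralise `x` -/
theorem sq_comm (b : TwoEq Om) (p : XP Om K L T x y) {a : G} (ha : a ∈ T) : (a * a) * x = x * (a * a) := by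
  have key : ∀ a ∈ T, a ∈ normalizer (K : Set G) → (a * a) * x = x * (a * a) := by
    intro a ha haK
    have hz := p.tz a ha
    rw [← mul_inv_eq_iff_eq_mul]
    rcases p.cx a ha haK with h1 | h1
    · calc (a * a) * x * (a * a)⁻¹ = a * (a * x * a⁻¹) * a⁻¹ := by group
        _ = x := by rw [h1, h1]
    · calc (a * a) * x * (a * a)⁻¹ = a * (a * x * a⁻¹) * a⁻¹ := by group
        _ = a * (x * zz K) * a⁻¹ := by rw [h1]
        _ = (a * x * a⁻¹) * (a * zz K * a⁻¹) := by group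
        _ = x * (zz K * zz K) := by rw [h1, hz, mul_inv_cancel_right, mul_assoc]
        _ = x := by rw [b.hyp.zz_mul p.hK, mul_one]
  rcases p.norm_or' b ha with h1 | h1
  · exact key a ha h1
  · have h2 := key (a * zz L) (T.mul_mem ha p.zL) h1
    have h3 : (a * zz L) * (a * zz L) = a * a := by
      calc (a * zz L) * (a * zz L) = a * (zz L * a) * zz L := by group
        _ = a * (a * zz L) * zz L := by rw [p.tt a ha]
        _ = (a * a) * (zz L * zz L) := by group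
        _ = a * a := by rw [b.hyp.zz_mul p.hL, mul_one]
    rwa [h3] at h2

theorem xz (b : TwoEq Om) (p : XP Om K L T x y) : x * zz K = zz K * x :=
  b.hyp.comm_zz p.hK (le_normalizer p.hx)

theorem x_inv (b : TwoEq Om) (p : XP Om K L T x y) : x⁻¹ = x * zz K := by
  rw [inv_eq_iff_mul_eq_one, ← mul_assoc, p.sx, b.hyp.zz_mul p.hK]

/-- `d = x x^t` commutes with `zz L` -/
theorem d_comm_L (b : TwoEq Om) (p : XP Om K L T x y) :
    (x * (zz L * x * (zz L)⁻¹)) * zz L = zz L * (x * (zz L * x * (zz L)⁻¹)) := by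
  have hLL := b.hyp.zz_mul p.hL
  have h2 : zz L * x * (zz L)⁻¹ * zz L = zz L * x := by group
  have h3 : zz L * (zz L * x * (zz L)⁻¹) = x * zz L := by
    rw [b.hyp.zz_inv p.hL]
    calc zz L * (zz L * x * zz L) = (zz L * zz L) * x * zz L := by group
      _ = _ := by rw [hLL, one_mul]
  calc x * (zz L * x * (zz L)⁻¹) * zz L = (x * zz L) * x := by
        rw [mul_assoc, h2]; group
    _ = zz L * (zz L * x * (zz L)⁻¹) * x := by rw [h3]
    _ = zz L * (x * (zz L * x * (zz L)⁻¹)) := by rw [p.xx]; group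

/-- `d` is central in `T` -/
theorem d_comm (b : TwoEq Om) (p : XP Om K L T x y) {a : G} (ha : a ∈ T) :
    a * (x * (zz L * x * (zz L)⁻¹)) = (x * (zz L * x * (zz L)⁻¹)) * a := by
  have key : ∀ a ∈ T, a ∈ normalizer (K : Set G) →
      a * (x * (zz L * x * (zz L)⁻¹)) = (x * (zz L * x * (zz L)⁻¹)) * a := by
    intro a ha haK
    have hz := p.tz a ha
    have ht := p.tt a ha
    have h1 : a * (x * (zz L * x * (zz L)⁻¹)) * a⁻¹ =
        (a * x * a⁻¹) * (zz L * (a * x * a⁻¹) * (zz L)⁻¹) := by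
      calc a * (x * (zz L * x * (zz L)⁻¹)) * a⁻¹
          = (a * x * a⁻¹) * ((a * zz L) * x * (a * zz L)⁻¹) := by group
        _ = _ := by rw [ht]; group
    rw [← mul_inv_eq_iff_eq_mul, h1]
    rcases p.cx a ha haK with h2 | h2
    · rw [h2]
    · rw [h2]
      have h3 : zz L * (x * zz K) * (zz L)⁻¹ = (zz L * x * (zz L)⁻¹) * zz K := by
        calc zz L * (x * zz K) * (zz L)⁻¹ = (zz L * x * (zz L)⁻¹) * (zz L * zz K * (zz L)⁻¹) := by group
          _ = _ := by rw [← p.comm, mul_inv_cancel_right]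
      have h4 : zz K * (zz L * x * (zz L)⁻¹) = (zz L * x * (zz L)⁻¹) * zz K := by
        calc zz K * (zz L * x * (zz L)⁻¹) = (zz K * zz L) * x * (zz L)⁻¹ := by group
          _ = zz L * (zz K * x) * (zz L)⁻¹ := by rw [p.comm]; group
          _ = zz L * x * (zz K * (zz L)⁻¹) := by rw [← p.xz b]; group
          _ = zz L * x * ((zz L)⁻¹ * zz K) := by rw [b.hyp.zz_inv p.hL, p.comm]
          _ = _ := by group
      rw [h3]
      calc x * zz K * (zz L * x * (zz L)⁻¹ * zz K) = x * (zz K * (zz L * x * (zz L)⁻¹)) * zz K := by group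
        _ = x * (zz L * x * (zz L)⁻¹) * (zz K * zz K) := by rw [h4]; group
        _ = _ := by rw [b.hyp.zz_mul p.hK, mul_one]
  rcases p.norm_or' b ha with h1 | h1
  · exact key a ha h1
  · have h2 := key _ (T.mul_mem ha p.zL) h1
    have h3 := p.d_comm_L b
    have h4 : a * (x * (zz L * x * (zz L)⁻¹)) * zz L = (x * (zz L * x * (zz L)⁻¹)) * a * zz L := by
      calc a * (x * (zz L * x * (zz L)⁻¹)) * zz L = a * ((x * (zz L * x * (zz L)⁻¹)) * zz L) := by group
        _ = (a * zz L) * (x * (zz L * x * (zz L)⁻¹)) := by rw [h3]; group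
        _ = _ := by rw [h2]; group
    exact mul_right_cancel h4

/-- `d = x x^t` -/
theorem d_mul (b : TwoEq Om) (p : XP Om K L T x y) :
    (x * (zz L * x * (zz L)⁻¹)) * (x * (zz L * x * (zz L)⁻¹)) = 1 := by
  calc (x * (zz L * x * (zz L)⁻¹)) * (x * (zz L * x * (zz L)⁻¹))
      = x * ((zz L * x * (zz L)⁻¹) * x) * (zz L * x * (zz L)⁻¹) := by group
    _ = x * (x * (zz L * x * (zz L)⁻¹)) * (zz L * x * (zz L)⁻¹) := by rw [p.xx]
    _ = (x * x) * (zz L * (x * x) * (zz L)⁻¹) := by group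
    _ = 1 := by rw [p.sx, ← p.comm, mul_inv_cancel_right, b.hyp.zz_mul p.hK]

theorem d_mem (p : XP Om K L T x y) : x * (zz L * x * (zz L)⁻¹) ∈ T := by
  obtain ⟨e, he, hee⟩ := p.ex
  rw [← hee]
  exact T.mul_mem he he

/-- `t^x = z d t` -/
theorem zs_eq (b : TwoEq Om) (p : XP Om K L T x y) :
    x⁻¹ * zz L * x = zz K * (x * (zz L * x * (zz L)⁻¹)) * zz L := by
  rw [p.x_inv b, p.xz b]
  group

theorem zs_mem (b : TwoEq Om) (p : XP Om K L T x y) : x⁻¹ * zz L * x ∈ T := by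
  rw [p.zs_eq b]
  exact T.mul_mem (T.mul_mem p.zK p.d_mem) p.zL

theorem zs_comm (b : TwoEq Om) (p : XP Om K L T x y) {a : G} (ha : a ∈ T) :
    a * (x⁻¹ * zz L * x) = (x⁻¹ * zz L * x) * a := by
  rw [p.zs_eq b]
  calc a * (zz K * (x * (zz L * x * (zz L)⁻¹)) * zz L)
      = (a * zz K) * (x * (zz L * x * (zz L)⁻¹)) * zz L := by group
    _ = zz K * (a * (x * (zz L * x * (zz L)⁻¹))) * zz L := by rw [p.tz a ha]; group
    _ = zz K * (x * (zz L * x * (zz L)⁻¹)) * (a * zz L) := by rw [p.d_comm b ha]; group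
    _ = _ := by rw [p.tt a ha]; group

/-- `[a, x] ∈ ⟨z, d⟩` -/
theorem comm_x (b : TwoEq Om) (p : XP Om K L T x y) {a : G} (ha : a ∈ T) :
    x⁻¹ * a * x = a ∨ x⁻¹ * a * x = zz K * a ∨ x⁻¹ * a * x = (x * (zz L * x * (zz L)⁻¹)) * a ∨
      x⁻¹ * a * x = zz K * (x * (zz L * x * (zz L)⁻¹)) * a := by
  obtain ⟨d, hd⟩ : ∃ d, d = x * (zz L * x * (zz L)⁻¹) := ⟨_, rfl⟩
  have hdx : d * x = x * d := by
    rw [hd]
    calc x * (zz L * x * (zz L)⁻¹) * x = x * ((zz L * x * (zz L)⁻¹) * x) := by group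
      _ = _ := by rw [← p.xx]
  have hda : a * d = d * a := by rw [hd]; exact p.d_comm b ha
  have hdd : d * d = 1 := by rw [hd]; exact p.d_mul b
  have hdi : d⁻¹ = d := inv_eq_of_mul_eq_one_right hdd
  have hxz := p.xz b
  have hzz := b.hyp.zz_mul p.hK
  have hxi := p.x_inv b
  have hxx : x⁻¹ * x⁻¹ = zz K := by
    rw [← mul_inv_rev, p.sx, b.hyp.zz_inv p.hK]
  rw [← hd]
  have hxk : ∀ k : G, a * x * a⁻¹ = x * k → x⁻¹ * a * x = k * a := by
    intro k hk
    calc x⁻¹ * a * x = x⁻¹ * (a * x * a⁻¹) * a := by group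
      _ = k * a := by rw [hk]; group
  rcases p.norm_or' b ha with h1 | h1
  · rcases p.cx a ha h1 with h2 | h2
    · left
      rw [hxk 1 (by rw [h2, mul_one]), one_mul]
    · right; left
      exact hxk _ h2
  · have e1 : zz L * x * (zz L)⁻¹ = x⁻¹ * d := by rw [hd]; group
    have e2 : (a * zz L) * x * (a * zz L)⁻¹ = (a * x * a⁻¹)⁻¹ * d := by
      calc (a * zz L) * x * (a * zz L)⁻¹ = a * (zz L * x * (zz L)⁻¹) * a⁻¹ := by group
        _ = a * x⁻¹ * a⁻¹ * (a * d * a⁻¹) := by rw [e1]; group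
        _ = _ := by rw [hda]; group
    rcases p.cx _ (T.mul_mem ha p.zL) h1 with h2 | h2
    · right; right; right
      have e3 : a * x * a⁻¹ = d * x⁻¹ := by
        rw [e2] at h2
        calc a * x * a⁻¹ = d * ((a * x * a⁻¹)⁻¹ * d)⁻¹ := by group
          _ = _ := by rw [h2]
      calc x⁻¹ * a * x = x⁻¹ * (a * x * a⁻¹) * a := by group
        _ = x⁻¹ * (d * x⁻¹) * a := by rw [e3]
        _ = x⁻¹ * (x⁻¹ * (x * d) * x⁻¹) * a := by group
        _ = (x⁻¹ * x⁻¹) * d * a := by rw [← hdx]; group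
        _ = _ := by rw [hxx]
    · right; right; left
      have e3 : a * x * a⁻¹ = d * (zz K * x⁻¹) := by
        rw [e2] at h2
        have e4 : (x * zz K)⁻¹ = zz K * x⁻¹ := by rw [mul_inv_rev, b.hyp.zz_inv p.hK]
        calc a * x * a⁻¹ = d * ((a * x * a⁻¹)⁻¹ * d)⁻¹ := by group
          _ = _ := by rw [h2, e4]
      have e5 : zz K * x⁻¹ = x := by
        rw [hxi, hxz, ← mul_assoc, hzz, one_mul]
      calc x⁻¹ * a * x = x⁻¹ * (a * x * a⁻¹) * a := by group
        _ = x⁻¹ * (d * x) * a := by rw [e3, e5]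
        _ = d * a := by rw [hdx]; group

section fam

variable {M : Type*} [CommGroup M]

theorem step (b : TwoEq Om) (p : XP Om K L T x y) (F : Fam Om M) {a : G} (ha : a ∈ T) :
    F.psi (zz L) a = F.psi (x⁻¹ * zz L * x) a := by
  obtain ⟨d, hd⟩ : ∃ d, d = x * (zz L * x * (zz L)⁻¹) := ⟨_, rfl⟩
  obtain ⟨zs, hzs⟩ : ∃ zs, zs = x⁻¹ * zz L * x := ⟨_, rfl⟩
  have hdT : d ∈ T := by rw [hd]; exact p.d_mem
  have hzT : zs ∈ T := by rw [hzs]; exact p.zs_mem b
  have hcz : ∀ a ∈ T, a * zs = zs * a := fun a ha => by rw [hzs]; exact p.zs_comm b ha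
  have hzsZ : zs ∈ Zs Om := by rw [hzs]; exact Zs_cj' b.hyp (zz_mem_Zs p.hL) x
  have hLZ : zz L ∈ Zs Om := zz_mem_Zs p.hL
  have hKZ : zz K ∈ Zs Om := zz_mem_Zs p.hK
  have hz1 : F.psi zs (zz K) = 1 := F.killZ zs hzsZ _ hKZ (hcz _ p.zK)
  have ht1 : F.psi zs (zz L) = 1 := F.killZ zs hzsZ _ hLZ (hcz _ p.zL)
  have hs1 : F.psi zs zs = 1 := F.killZ zs hzsZ _ hzsZ rfl
  have hde : d = zz K * zs * zz L := by
    have h1 := p.zs_eq b
    rw [← hd, ← hzs] at h1
    rw [h1]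
    calc d = (zz K * zz K) * d * (zz L * zz L) := by rw [b.hyp.zz_mul p.hK, b.hyp.zz_mul p.hL]; group
      _ = _ := by group
  have hd1 : F.psi zs d = 1 := by
    rw [hde, F.mul zs hzsZ _ _ (hcz _ (T.mul_mem p.zK hzT)) (hcz _ p.zL),
      F.mul zs hzsZ _ _ (hcz _ p.zK) (hcz _ hzT), hz1, ht1, hs1, one_mul, one_mul]
  have hc := F.conj (zz L) hLZ x⁻¹ a (p.tt a ha)
  rw [inv_inv, ← hzs] at hc
  rw [← hc, ← hzs]
  rcases p.comm_x b ha with h1 | h1 | h1 | h1
  · rw [h1]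
  · rw [h1, F.mul zs hzsZ _ _ (hcz _ p.zK) (hcz _ ha), hz1, one_mul]
  · rw [h1, ← hd, F.mul zs hzsZ _ _ (hcz _ hdT) (hcz _ ha), hd1, one_mul]
  · rw [h1, ← hd, F.mul zs hzsZ _ _ (hcz _ (T.mul_mem p.zK hdT)) (hcz _ ha),
      F.mul zs hzsZ _ _ (hcz _ p.zK) (hcz _ hdT), hz1, hd1, one_mul, one_mul]

/-- the invariance for `XP` -/
theorem inv (b : TwoEq Om) (p : XP Om K L T x y) (F : Fam Om M) (hF : NInv F) {a : G} (ha : a ∈ T)
    (ha2 : IsPGroup 2 (zpowers a)) : F.psi (zz K) a = F.psi (zz L) a := by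
  obtain ⟨Kh, m, -⟩ := b.exists_mate p.hK
  have q := p.symm
  rw [p.step b F ha, q.step b F ha]
  obtain ⟨d, hd⟩ : ∃ d, d = x * (zz L * x * (zz L)⁻¹) := ⟨_, rfl⟩
  obtain ⟨d', hd'⟩ : ∃ d, d = y * (zz K * y * (zz K)⁻¹) := ⟨_, rfl⟩
  have h1 := p.zs_eq b
  have h2 := q.zs_eq b
  rw [← hd] at h1
  rw [← hd'] at h2
  have hzK := b.hyp.zz_mul p.hK
  have hzL := b.hyp.zz_mul p.hL
  have hyd : y * d = d * y := by
    obtain ⟨e, he, hee⟩ := p.ex
    rw [hd, ← hee]
    exact (q.sq_comm b he).symm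
  have hyL : y * zz L = zz L * y := q.xz b
  have hdT : d ∈ T := by rw [hd]; exact p.d_mem
  have hd'T : d' ∈ T := by rw [hd']; exact q.d_mem
  -- conjugation by `y`
  have e0 : y * zz K * y⁻¹ = zz L * d' * zz K := by
    rw [← h2]
    have h3 : y * zz K * y⁻¹ = y⁻¹ * ((y * y) * zz K * (y * y)⁻¹) * y := by group
    rw [h3, q.sx, ← p.comm, mul_inv_cancel_right]
  have e1 : y * (y⁻¹ * zz K * y) * y⁻¹ = zz K := by group
  have hdd' : d' * d = d * d' := by rw [hd]; exact p.d_comm b hd'T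
  have e2 : y * (x⁻¹ * zz L * x) * y⁻¹ = zz K * (d * d') := by
    rw [h1]
    calc y * (zz K * d * zz L) * y⁻¹ = (y * zz K * y⁻¹) * (y * d) * zz L * y⁻¹ := by group
      _ = (y * zz K * y⁻¹) * d * (y * zz L) * y⁻¹ := by rw [hyd]; group
      _ = (zz L * d' * zz K) * d * zz L := by rw [hyL, e0]; group
      _ = zz L * d' * (zz K * d) * zz L := by group
      _ = zz L * (d' * d) * (zz K * zz L) := by rw [← p.tz d hdT]; group
      _ = zz L * (d * d') * (zz L * zz K) := by rw [hdd', p.comm]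
      _ = zz L * ((d * d') * zz L) * zz K := by group
      _ = (zz L * zz L) * ((d * d') * zz K) := by rw [p.tt _ (T.mul_mem hdT hd'T)]; group
      _ = _ := by rw [hzL, one_mul, p.tz _ (T.mul_mem hdT hd'T)]
  obtain ⟨u, hu⟩ : ∃ u, u = zz K * (d * d') := ⟨_, rfl⟩
  rw [← hu] at e2
  have hsZ : x⁻¹ * zz L * x ∈ Zs Om := Zs_cj' b.hyp (zz_mem_Zs p.hL) x
  have hhZ : y⁻¹ * zz K * y ∈ Zs Om := Zs_cj' b.hyp (zz_mem_Zs p.hK) y
  have huZ : u ∈ Zs Om := by rw [← e2]; exact Zs_cj b.hyp hsZ y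
  have hsc := p.zs_comm b ha
  have hhc := q.zs_comm b ha
  by_cases huz : u = zz K
  · have h3 : x⁻¹ * zz L * x = y⁻¹ * zz K * y := by
      rw [huz] at e2
      calc x⁻¹ * zz L * x = y⁻¹ * (y * (x⁻¹ * zz L * x) * y⁻¹) * y := by group
        _ = _ := by rw [e2]
    rw [h3]
  · have huK : u ∈ normalizer (K : Set G) := by
      rw [hu]
      refine mul_mem (le_normalizer (b.hyp.zz_mem p.hK)) (mul_mem ?_ ?_)
      · obtain ⟨e, he, hee⟩ := p.ex
        rw [hd, ← hee]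
        exact b.sq_norm m (p.tz e he)
      · obtain ⟨e, he, hee⟩ := p.ey
        rw [hd', ← hee]
        exact b.sq_norm m (p.tz e he)
    have h3 := hF K p.hK u huZ huz huK (y * a * y⁻¹) (by
        obtain ⟨k, hk⟩ := isP_iff.1 ha2
        refine isP_iff.2 ⟨k, ?_⟩
        rw [conj_pow, hk]; group) (by
        calc y * a * y⁻¹ * zz K = y * (a * (y⁻¹ * zz K * y)) * y⁻¹ := by group
          _ = y * ((y⁻¹ * zz K * y) * a) * y⁻¹ := by rw [hhc]
          _ = _ := by group) (by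
        rw [← e2]
        calc y * a * y⁻¹ * (y * (x⁻¹ * zz L * x) * y⁻¹) = y * (a * (x⁻¹ * zz L * x)) * y⁻¹ := by group
          _ = y * ((x⁻¹ * zz L * x) * a) * y⁻¹ := by rw [hsc]
          _ = _ := by group)
    have h4 := F.conj _ hhZ y a hhc
    have h5 := F.conj _ hsZ y a hsc
    rw [e1] at h4
    rw [e2] at h5
    rw [← h4, ← h5, h3]

end fam

end XP

section

variable {Om : Set (Subgroup G)} {M : Type*} [CommGroup M]

/-- **X-INV** -/
theorem xinv (b : TwoEq Om) {n : ℕ} (ho : Ord Om n) (hn : n ≠ 0) (F : Fam Om M) (hF : NInv F)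
    {K L : Subgroup G} (hK : K ∈ Om) (hL : L ∈ Om) (hc : zz K * zz L = zz L * zz K)
    (nK : zz L ∉ normalizer (K : Set G)) (nL : zz K ∉ normalizer (L : Set G)) {h : G}
    (h2 : IsPGroup 2 (zpowers h)) (hhK : h * zz K = zz K * h) (hhL : h * zz L = zz L * h) :
    F.psi (zz K) h = F.psi (zz L) h := by
  obtain ⟨T, x, y, hT, p⟩ := exists_xp b ho hn hK hL hc nK nL h2 hhK hhL
  exact p.inv b F hF hT h2

/-- **INV** -/
theorem inv_all (b : TwoEq Om) {n : ℕ} (ho : Ord Om n) (hn : n ≠ 0) (hS : NSym Om) (F : Fam Om M) (hF : NInv F)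
    {z t : G} (hz : z ∈ Zs Om) (ht : t ∈ Zs Om) (hc : z * t = t * z) {h : G}
    (h2 : IsPGroup 2 (zpowers h)) (hhz : h * z = z * h) (hht : h * t = t * h) : F.psi z h = F.psi t h := by
  obtain ⟨K, hK, rfl⟩ := hz
  obtain ⟨L, hL, rfl⟩ := ht
  by_cases hne : zz L = zz K
  · rw [hne]
  by_cases h1 : zz L ∈ normalizer (K : Set G)
  · exact hF K hK _ (zz_mem_Zs hL) hne h1 h h2 hhz hht
  · exact xinv b ho hn F hF hK hL hc h1 (fun h3 => h1 (hS L hL K hK h3)) h2 hhz hht

/-- the compatible family in the sense of `OneField` -/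
def Fam.toPsi (b : TwoEq Om) {n : ℕ} (ho : Ord Om n) (hn : n ≠ 0) (hS : NSym Om) (F : Fam Om M) (hF : NInv F)
    (hM : ∃ s, Nat.card M = 2 ^ s) : OneField.Psi (Zs Om) M where
  psi := F.psi
  mul := F.mul
  conj := F.conj
  agree := by
    intro z hz w hw hc h hhz hhw
    obtain ⟨m, hm, hm2⟩ := exists_odd_pow h
    have hpow : ∀ z ∈ Zs Om, h * z = z * h → ∀ k : ℕ, F.psi z (h ^ k) = F.psi z h ^ k := by
      intro z hz hhz k
      induction k with
      | zero =>
        rw [pow_zero, pow_zero]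
        have h1 := F.mul z hz 1 1 (by simp) (by simp)
        rw [mul_one] at h1
        exact left_eq_mul.1 h1
      | succ k ih =>
        rw [pow_succ, pow_succ, F.mul z hz _ _ ((show Commute h z from hhz).pow_left k).eq hhz, ih]
    have h1 := inv_all b ho hn hS F hF hz hw hc hm2 ((show Commute h z from hhz).pow_left m).eq
      ((show Commute h w from hhw).pow_left m).eq
    rw [hpow z hz hhz, hpow w hw hhw] at h1
    obtain ⟨s, hs⟩ := hM
    rw [← mul_inv_eq_one]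
    apply eq_one_of_pow hs hm
    rw [mul_pow, inv_pow, h1, mul_inv_cancel]

/-- **GEN**: a family killing the members and the class is trivial -/
theorem gen (b : TwoEq Om) {n : ℕ} (ho : Ord Om n) (hn : n ≠ 0) (hS : NSym Om) (F : Fam Om M) (hF : NInv F)
    (hM : ∃ s, Nat.card M = 2 ^ s) (hidx : ∀ H : Subgroup G, H.index ≠ 2) {z h : G} (hz : z ∈ Zs Om)
    (hhz : h * z = z * h) : F.psi z h = 1 := by
  have key : ∀ h : G, h * z = z * h → IsPGroup 2 (zpowers h) → F.psi z h = 1 := by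
    intro h hhz h2
    obtain ⟨K, hK, rfl⟩ := hz
    obtain ⟨R, hR, -⟩ := OneBasic.exists_syl_ge h2 (M := centralizer {zz K}) (by
      rw [zpowers_le]; exact mem_centralizer_singleton_iff.2 hhz)
    exact (F.toPsi b ho hn hS hF hM).eq_one' (fun z hz g => Zs_cj b.hyp hz g) (fun z hz => Zs_isP b.hyp hz)
      (b.syl_top hK hR) (zz_mem_Zs hK) hR.1 (fun N hN k hk => index_eq_one hidx N hN k hk) (zz_mem_Zs hK) h2 hhz
  obtain ⟨m, hm, hm2⟩ := exists_odd_pow h
  have hpow : ∀ k : ℕ, F.psi z (h ^ k) = F.psi z h ^ k := by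
    intro k
    induction k with
    | zero =>
      rw [pow_zero, pow_zero]
      have h1 := F.mul z hz 1 1 (by simp) (by simp)
      rw [mul_one] at h1
      exact left_eq_mul.1 h1
    | succ k ih =>
      rw [pow_succ, pow_succ, F.mul z hz _ _ ((show Commute h z from hhz).pow_left k).eq hhz, ih]
  have h1 := key _ ((show Commute h z from hhz).pow_left m).eq hm2
  rw [hpow] at h1
  obtain ⟨s, hs⟩ := hM
  exact eq_one_of_pow hs hm h1

end

end Cfsg.Agent.Cit.TwoFK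
end

-- part: Cit/OneChi
section
/-!
# Classical involutions, `|Om(S)| = 1`: the field homomorphism `chi`

Let `Q` be generalised quaternion of order `2^(n+3)`. `Act Q g a`: `g` normalises `Q` and raises the elements
of order `≥ 8` of `Q` to the odd power `a`; the class of `a` modulo `±1` (and modulo `2^(n+2)`) is encoded by
`chiQ n Q g = a ^ 2` in the units of `ZMod (2^(n+3))`. For `K ∈ Om` this gives a homomorphism `ch n K` on
`N(K)`, trivial on `K`, and, under `One Om`, a compatible family (`OneField.Psi`) on the centralisers of the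
classical involutions. If `G` has no proper normal subgroup of 2-power index, then it is trivial on the Sylow
2-subgroup `S` of `G`, so `S` acts on the cyclic maximal subgroup `⟨x⟩` of `Q` by `x ↦ x^{±1}` and
`|S : Q C_S(Q)| ≤ 2` (3I of blueprints/R18-One-helper45.md).
-/

set_option autoImplicit false
set_option linter.style.haveILetI false
set_option linter.unusedSectionVars false

namespace Cfsg.Agent.Cit.OneChi

open Subgroup Cfsg OneBasic

variable {G : Type*} [Group G]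

/-! ### Arithmetic -/

/-- the group of values -/
abbrev UU (n : ℕ) := (ZMod (2 ^ (n + 3)))ˣ

theorem cast_sq_eq {n : ℕ} {a b : ℤ} (h : (2 : ℤ) ^ (n + 3) ∣ a ^ 2 - b ^ 2) :
    (a : ZMod (2 ^ (n + 3))) ^ 2 = (b : ZMod (2 ^ (n + 3))) ^ 2 := by
  have h1 : (((2 ^ (n + 3) : ℕ) : ℤ)) ∣ a ^ 2 - b ^ 2 := by exact_mod_cast h
  rw [← ZMod.intCast_zmod_eq_zero_iff_dvd] at h1
  push_cast at h1
  exact sub_eq_zero.1 h1

theorem exists_unit (n : ℕ) {a : ℤ} (ha : Odd a) : ∃ u : UU n, (u : ZMod (2 ^ (n + 3))) = (a : ZMod _) ^ 2 := by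
  have h1 : IsUnit (a : ZMod (2 ^ (n + 3))) := by
    rw [ZMod.coe_int_isUnit_iff_isCoprime]
    push_cast
    apply IsCoprime.pow_left
    obtain ⟨k, rfl⟩ := ha
    exact ⟨-k, 1, by ring⟩
  obtain ⟨u, hu⟩ := h1
  exact ⟨u ^ 2, by rw [Units.val_pow_eq_pow_val, hu]⟩

/-- odd squares agree modulo `8` -/
theorem odd_sq {a b : ℤ} (ha : Odd a) (hb : Odd b) : (2 : ℤ) ^ 3 ∣ a ^ 2 - b ^ 2 := by
  obtain ⟨k, rfl⟩ := ha
  obtain ⟨l, rfl⟩ := hb
  have h1 : (2 : ℤ) ∣ k * (k + 1) := (Int.even_mul_succ_self k).two_dvd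
  have h2 : (2 : ℤ) ∣ l * (l + 1) := (Int.even_mul_succ_self l).two_dvd
  obtain ⟨c, hc⟩ := h1
  obtain ⟨d, hd⟩ := h2
  refine ⟨c - d, ?_⟩
  linear_combination 4 * hc - 4 * hd

theorem sq_of_mod {n : ℕ} {a b : ℤ} (ha : Odd a) (hb : Odd b) (h : (2 : ℤ) ^ (n + 2) ∣ a - b) :
    (2 : ℤ) ^ (n + 3) ∣ a ^ 2 - b ^ 2 := by
  have h1 : (2 : ℤ) ∣ a + b := (ha.add_odd hb).two_dvd
  have h2 := mul_dvd_mul h h1
  rw [← pow_succ] at h2
  have h3 : a ^ 2 - b ^ 2 = (a - b) * (a + b) := by ring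
  rw [h3]; exact h2

theorem card_UU (n : ℕ) : Nat.card (UU n) = 2 ^ (n + 2) := by
  haveI : NeZero (2 ^ (n + 3)) := ⟨by positivity⟩
  rw [Nat.card_eq_fintype_card, ZMod.card_units_eq_totient, Nat.totient_prime_pow Nat.prime_two (by omega)]
  simp

/-- an element of odd order of `UU n` is trivial -/
theorem eq_one_of_odd_pow {n : ℕ} {u : UU n} {m : ℕ} (hm : Odd m) (h : u ^ m = 1) : u = 1 := by
  haveI : NeZero (2 ^ (n + 3)) := ⟨by positivity⟩
  have h1 : orderOf u ∣ m := orderOf_dvd_of_pow_eq_one h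
  have h2 : orderOf u ∣ 2 ^ (n + 2) := by rw [← card_UU n]; exact orderOf_dvd_natCard u
  have h3 : Nat.Coprime (2 ^ (n + 2)) m := Nat.Coprime.pow_left _ (Nat.coprime_two_left.2 hm)
  have h4 := Nat.dvd_gcd h2 h1
  rw [h3] at h4
  exact orderOf_eq_one_iff.1 (Nat.dvd_one.1 h4)

/-! ### The action on the elements of order `≥ 8` -/

/-- `g` normalises `Q` and raises the elements of order `≥ 8` to the odd power `a` -/
structure Act (Q : Subgroup G) (g : G) (a : ℤ) : Prop where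
  norm : g ∈ normalizer (Q : Set G)
  odd : Odd a
  eq : ∀ x ∈ Q, x ^ 4 ≠ 1 → g * x * g⁻¹ = x ^ a

namespace Act

variable {Q : Subgroup G} {c v z : G} {n : ℕ}

theorem mem_zpowers (h : GQ Q c v z n) {x : G} (hx : x ∈ Q) (h4 : x ^ 4 ≠ 1) : x ∈ zpowers c := by
  by_contra hc
  apply h4
  rcases h.cov x hx with ⟨i, rfl⟩ | ⟨i, rfl⟩
  · exact absurd (pow_mem (Subgroup.mem_zpowers c) i) hc
  · have h1 := h.orderOf_out i
    rw [← h1, pow_orderOf_eq_one]

theorem c_pow (h : GQ Q c v z n) (hn : n ≠ 0) : c ^ 4 ≠ 1 := by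
  intro h1
  have h2 := orderOf_dvd_of_pow_eq_one h1
  rw [h.ord] at h2
  have h3 := Nat.le_of_dvd (by norm_num) h2
  have h4 : 2 ^ 3 ≤ 2 ^ (n + 2) := Nat.pow_le_pow_right (by norm_num) (by omega)
  omega

theorem pow_four (h : GQ Q c v z 0) {x : G} (hx : x ∈ Q) : x ^ 4 = 1 := by
  by_contra h4
  obtain ⟨k, rfl⟩ := mem_zpowers h hx h4
  apply h4
  change (c ^ k) ^ 4 = 1
  rw [← zpow_natCast, ← zpow_mul, mul_comm, zpow_mul]
  have h5 : c ^ ((4 : ℕ) : ℤ) = 1 := by
    rw [zpow_natCast]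
    have := h.pow_ord
    norm_num at this
    exact this
  rw [h5, one_zpow]

theorem exists_act (h : GQ Q c v z n) {g : G} (hg : g ∈ normalizer (Q : Set G)) : ∃ a, Act Q g a := by
  rcases Nat.eq_zero_or_pos n with rfl | hn
  · exact ⟨1, hg, odd_one, fun x hx h4 => absurd (pow_four h hx) h4⟩
  · have h1 : g * c * g⁻¹ ∈ zpowers c := by
      apply mem_zpowers h (conj_mem_of hg h.c_mem)
      rw [conj_pow]
      intro h2
      apply c_pow h hn.ne'
      calc c ^ 4 = g⁻¹ * (g * c ^ 4 * g⁻¹) * g := by group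
        _ = 1 := by rw [h2]; group
    obtain ⟨a, ha⟩ := h1
    have ha' : g * c * g⁻¹ = c ^ a := ha.symm
    refine ⟨a, hg, ?_, ?_⟩
    · rcases Int.even_or_odd a with ha1 | ha1
      · exfalso
        obtain ⟨b, rfl⟩ := ha1
        apply h.z_ne
        have h2 : g * z * g⁻¹ = 1 := by
          rw [← h.z_zpow, conj_zpow_pow ha']
          have h3 : (b + b) * 2 ^ (n + 1) = (2 ^ (n + 2)) * b := by ring
          rw [h3, h.zpow_eq_one_iff]
          exact dvd_mul_right _ _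
        calc z = g⁻¹ * (g * z * g⁻¹) * g := by group
          _ = 1 := by rw [h2]; group
      · exact ha1
    · intro x hx h4
      obtain ⟨k, rfl⟩ := mem_zpowers h hx h4
      change g * c ^ k * g⁻¹ = (c ^ k) ^ a
      rw [conj_zpow_pow ha', ← zpow_mul, mul_comm]

/-- the exponent is unique modulo the sign -/
theorem unique (h : GQ Q c v z n) {g : G} {a b : ℤ} (ha : Act Q g a) (hb : Act Q g b) :
    (2 : ℤ) ^ (n + 3) ∣ a ^ 2 - b ^ 2 := by
  rcases Nat.eq_zero_or_pos n with rfl | hn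
  · exact odd_sq ha.odd hb.odd
  · have h1 := ha.eq c h.c_mem (c_pow h hn.ne')
    rw [hb.eq c h.c_mem (c_pow h hn.ne')] at h1
    apply sq_of_mod ha.odd hb.odd
    rw [← h.zpow_eq_one_iff, zpow_sub, h1, mul_inv_cancel]

theorem mul {g k : G} {a b : ℤ} (ha : Act Q g a) (hb : Act Q k b) : Act Q (g * k) (a * b) := by
  refine ⟨mul_mem ha.norm hb.norm, ha.odd.mul hb.odd, fun x hx h4 => ?_⟩
  have h1 : g * k * x * (g * k)⁻¹ = g * (k * x * k⁻¹) * g⁻¹ := by group
  rw [h1, hb.eq x hx h4, ← conj_zpow, ha.eq x hx h4, zpow_mul]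

theorem one : Act Q 1 1 := ⟨one_mem _, odd_one, fun x _ _ => by simp⟩

theorem cj {g : G} {a : ℤ} (ha : Act Q g a) (k : G) : Act (Cit.cj k Q) (k * g * k⁻¹) a := by
  refine ⟨?_, ha.odd, ?_⟩
  · rw [mem_normalizer_iff_cj, ← cj_mul]
    have : k * g * k⁻¹ * k = k * g := by group
    rw [this, cj_mul, mem_normalizer_iff_cj.1 ha.norm]
  · intro x hx h4
    rw [mem_cj] at hx
    have h1 : (k⁻¹ * x * k) ^ 4 ≠ 1 := by
      have h2 : (k⁻¹ * x * k) ^ 4 = k⁻¹ * x ^ 4 * k := by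
        have := conj_pow (i := 4) (a := k⁻¹) (b := x)
        simpa using this
      rw [h2]
      intro h3
      apply h4
      calc x ^ 4 = k * (k⁻¹ * x ^ 4 * k) * k⁻¹ := by group
        _ = 1 := by rw [h3]; group
    have h2 := ha.eq _ hx h1
    have h3 : (k⁻¹ * x * k) ^ a = k⁻¹ * x ^ a * k := by
      have := conj_zpow (i := a) (a := k⁻¹) (b := x)
      simpa using this
    rw [h3] at h2
    calc k * g * k⁻¹ * x * (k * g * k⁻¹)⁻¹ = k * (g * (k⁻¹ * x * k) * g⁻¹) * k⁻¹ := by group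
      _ = x ^ a := by rw [h2]; group

/-- the action read off at a generator of the cyclic maximal subgroup -/
theorem of_conj (h : GQ Q c v z n) {g : G} (hg : g ∈ normalizer (Q : Set G)) {a : ℤ} (hc : g * c * g⁻¹ = c ^ a) :
    Act Q g a := by
  refine ⟨hg, ?_, ?_⟩
  · rcases Int.even_or_odd a with ha1 | ha1
    · exfalso
      obtain ⟨b, rfl⟩ := ha1
      apply h.z_ne
      have h2 : g * z * g⁻¹ = 1 := by
        rw [← h.z_zpow, conj_zpow_pow hc]
        have h3 : (b + b) * 2 ^ (n + 1) = (2 ^ (n + 2)) * b := by ring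
        rw [h3, h.zpow_eq_one_iff]
        exact dvd_mul_right _ _
      calc z = g⁻¹ * (g * z * g⁻¹) * g := by group
        _ = 1 := by rw [h2]; group
    · exact ha1
  · intro x hx h4
    obtain ⟨k, rfl⟩ := mem_zpowers h hx h4
    change g * c ^ k * g⁻¹ = (c ^ k) ^ a
    rw [conj_zpow_pow hc, ← zpow_mul, mul_comm]

end Act

/-! ### `chiQ` -/

open Classical in
/-- the square of the exponent in the units of `ZMod (2^(n+3))` -/
noncomputable def chiQ (n : ℕ) (Q : Subgroup G) (g : G) : UU n :=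
  if h : ∃ u : UU n, ∃ a : ℤ, Act Q g a ∧ (u : ZMod (2 ^ (n + 3))) = (a : ZMod _) ^ 2 then h.choose else 1

section chiQ

variable {Q : Subgroup G} {c v z : G} {n : ℕ}

theorem chiQ_eq (h : GQ Q c v z n) {g : G} {a : ℤ} (ha : Act Q g a) :
    (chiQ n Q g : ZMod (2 ^ (n + 3))) = (a : ZMod _) ^ 2 := by
  obtain ⟨u, hu⟩ := exists_unit n ha.odd
  have h1 : ∃ u : UU n, ∃ a : ℤ, Act Q g a ∧ (u : ZMod (2 ^ (n + 3))) = (a : ZMod _) ^ 2 := ⟨u, a, ha, hu⟩
  rw [chiQ, dif_pos h1]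
  obtain ⟨b, hb, hb2⟩ := h1.choose_spec
  rw [hb2]
  exact cast_sq_eq (Act.unique h hb ha)

theorem chiQ_mul (h : GQ Q c v z n) {g k : G} (hg : g ∈ normalizer (Q : Set G))
    (hk : k ∈ normalizer (Q : Set G)) : chiQ n Q (g * k) = chiQ n Q g * chiQ n Q k := by
  obtain ⟨a, ha⟩ := Act.exists_act h hg
  obtain ⟨b, hb⟩ := Act.exists_act h hk
  apply Units.ext
  rw [Units.val_mul, chiQ_eq h ha, chiQ_eq h hb, chiQ_eq h (ha.mul hb)]
  push_cast
  ring

theorem chiQ_one (h : GQ Q c v z n) : chiQ n Q 1 = 1 := by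
  apply Units.ext
  rw [chiQ_eq h Act.one]
  simp

theorem chiQ_pow (h : GQ Q c v z n) {g : G} (hg : g ∈ normalizer (Q : Set G)) (k : ℕ) :
    chiQ n Q (g ^ k) = chiQ n Q g ^ k := by
  induction k with
  | zero => simp [chiQ_one h]
  | succ k ih => rw [pow_succ, pow_succ, chiQ_mul h (pow_mem hg k) hg, ih]

theorem _root_.Cfsg.Agent.Cit.OneChi.gq_cj (h : GQ Q c v z n) (g : G) :
    GQ (cj g Q) (g * c * g⁻¹) (g * v * g⁻¹) (g * z * g⁻¹) n := by
  refine ⟨conj_mem_cj h.c_mem, conj_mem_cj h.v_mem, ?_, ?_, ?_, ?_, ?_⟩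
  · rw [← h.ord]; exact (MulAut.conj g).orderOf_eq c
  · rw [conj_pow, h.z_eq]
  · rw [← h.v_sq]; group
  · have h1 := h.conj
    calc g * v * g⁻¹ * (g * c * g⁻¹) * (g * v * g⁻¹)⁻¹ = g * (v * c * v⁻¹) * g⁻¹ := by group
      _ = (g * c * g⁻¹)⁻¹ := by rw [h1]; group
  · intro x hx
    rw [mem_cj] at hx
    rcases h.cov _ hx with ⟨i, hi⟩ | ⟨i, hi⟩
    · left
      refine ⟨i, ?_⟩
      rw [conj_pow, ← hi]; group
    · right
      refine ⟨i, ?_⟩
      rw [conj_pow]
      calc x = g * (g⁻¹ * x * g) * g⁻¹ := by group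
        _ = g * (v * c ^ i) * g⁻¹ := by rw [hi]
        _ = _ := by group

theorem chiQ_cj (h : GQ Q c v z n) {a : G} (ha : a ∈ normalizer (Q : Set G)) (g : G) :
    chiQ n (cj g Q) (g * a * g⁻¹) = chiQ n Q a := by
  obtain ⟨m, hm⟩ := Act.exists_act h ha
  apply Units.ext
  rw [chiQ_eq h hm, chiQ_eq (gq_cj h g) (hm.cj g)]

theorem chiQ_eq_one (h : GQ Q c v z n) {g : G} (hg : g ∈ normalizer (Q : Set G))
    (hc : g * c * g⁻¹ = c ∨ g * c * g⁻¹ = c⁻¹) : chiQ n Q g = 1 := by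
  apply Units.ext
  rcases hc with hc | hc
  · rw [chiQ_eq h (Act.of_conj h hg (a := 1) (by rw [hc, zpow_one]))]
    simp
  · rw [chiQ_eq h (Act.of_conj h hg (a := -1) (by rw [hc, zpow_neg, zpow_one]))]
    simp

/-- `chiQ` is trivial on `Q` -/
theorem chiQ_of_mem (h : GQ Q c v z n) {q : G} (hq : q ∈ Q) : chiQ n Q q = 1 := by
  apply chiQ_eq_one h (le_normalizer hq)
  rcases h.cov q hq with ⟨i, rfl⟩ | ⟨i, rfl⟩
  · left; group
  · right
    calc v * c ^ i * c * (v * c ^ i)⁻¹ = v * c * v⁻¹ := by group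
      _ = c⁻¹ := h.conj

end chiQ

/-! ### `ch`: elements of `N(K)` -/

section ch

variable [Finite G] {Om : Set (Subgroup G)} {K Q : Subgroup G} {n : ℕ}

/-- the Sylow 2-subgroups of `K` are quaternion of order `2^(n+3)` -/
def Dim (K : Subgroup G) (n : ℕ) : Prop := ∃ Q c v, Syl Q K ∧ GQ Q c v (zz K) n

theorem Dim.gq (hn : Dim K n) (h : Hyp Om) (hK : K ∈ Om) (hQ : Syl Q K) : ∃ c v, GQ Q c v (zz K) n := by
  obtain ⟨Q1, c, v, hQ1, hc⟩ := hn
  obtain ⟨k, hk, hkQ⟩ := hQ1.exists_conj hQ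
  have h1 := gq_cj hc k
  rw [hkQ, h.comm_zz hK (le_normalizer hk), mul_inv_cancel_right] at h1
  exact ⟨_, _, h1⟩

theorem Dim.cj (hn : Dim K n) (h : Hyp Om) (hK : K ∈ Om) (g : G) : Dim (Cit.cj g K) n := by
  obtain ⟨Q1, c, v, hQ1, hc⟩ := hn
  refine ⟨_, g * c * g⁻¹, g * v * g⁻¹, hQ1.cj g, ?_⟩
  rw [h.zz_cj hK]
  exact gq_cj hc g

/-- `chiQ` is trivial on `N_K(Q)` -/
theorem chiQ_of_mem_K (h : Hyp Om) (hK : K ∈ Om) (hn : Dim K n) (hQ : Syl Q K) {k : G} (hk : k ∈ K)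
    (hkQ : k ∈ normalizer (Q : Set G)) : chiQ n Q k = 1 := by
  obtain ⟨c, v, hc⟩ := hn.gq h hK hQ
  set H : Subgroup G := K ⊓ normalizer (Q : Set G) with hH
  have hQH : Q ≤ H := le_inf hQ.1 le_normalizer
  have hQn : (Q.subgroupOf H).Normal := (normal_subgroupOf_iff_le_normalizer hQH).2 inf_le_right
  have h1 := Subgroup.pow_index_mem (Q.subgroupOf H) (⟨k, hk, hkQ⟩ : H)
  have h2 : ¬ 2 ∣ (Q.subgroupOf H).index := (syl_of_le hQ hQH inf_le_left).2.2
  have h3 : Odd (Q.subgroupOf H).index := by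
    rw [← Nat.not_even_iff_odd, even_iff_two_dvd]; exact h2
  refine eq_one_of_odd_pow h3 ?_
  rw [← chiQ_pow hc hkQ]
  exact chiQ_of_mem hc h1

/-- Frattini: every element of `N(K)` is congruent mod `K` to an element of `N(Q)` -/
theorem exists_norm (hQ : Syl Q K) {a : G} (ha : a ∈ normalizer (K : Set G)) :
    ∃ k ∈ K, k * a ∈ normalizer (Q : Set G) := by
  have h1 : Syl (cj a Q) K := by
    have := hQ.cj a
    rwa [mem_normalizer_iff_cj.1 ha] at this
  obtain ⟨k, hk, hkQ⟩ := h1.exists_conj hQ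
  exact ⟨k, hk, by rw [mem_normalizer_iff_cj, cj_mul, hkQ]⟩

/-- independence of the choices -/
theorem chiQ_unique (h : Hyp Om) (hK : K ∈ Om) (hn : Dim K n) (hQ : Syl Q K) {Q1 : Subgroup G} (hQ1 : Syl Q1 K)
    {a k k1 : G} (ha : a ∈ normalizer (K : Set G)) (hk : k ∈ K) (hk1 : k1 ∈ K)
    (hka : k * a ∈ normalizer (Q : Set G)) (hka1 : k1 * a ∈ normalizer (Q1 : Set G)) :
    chiQ n Q (k * a) = chiQ n Q1 (k1 * a) := by
  obtain ⟨c, v, hc⟩ := hn.gq h hK hQ
  obtain ⟨l, hl, hlQ⟩ := hQ.exists_conj hQ1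
  obtain ⟨b, hb⟩ : ∃ b, b = l⁻¹ * (k1 * a) * l := ⟨_, rfl⟩
  have hbk : k1 * a = l * b * l⁻¹ := by rw [hb]; group
  have hbQ : b ∈ normalizer (Q : Set G) := by
    rw [mem_normalizer_iff_cj, hb]
    have : l⁻¹ * (k1 * a) * l = l⁻¹ * ((k1 * a) * l) := by group
    rw [this, cj_mul, cj_mul, hlQ, mem_normalizer_iff_cj.1 hka1, ← hlQ, cj_inv_cj]
  have h1 : chiQ n Q1 (k1 * a) = chiQ n Q b := by
    rw [← hlQ, hbk, chiQ_cj hc hbQ]
  rw [h1]
  obtain ⟨m, hm⟩ : ∃ m, m = b * (k * a)⁻¹ := ⟨_, rfl⟩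
  have hmb : b = m * (k * a) := by rw [hm]; group
  have hmQ : m ∈ normalizer (Q : Set G) := by rw [hm]; exact mul_mem hbQ (inv_mem hka)
  have hmK : m ∈ K := by
    have h2 : m = l⁻¹ * k1 * (a * l * a⁻¹) * k⁻¹ := by rw [hm, hb]; group
    rw [h2]
    refine K.mul_mem (K.mul_mem (K.mul_mem (K.inv_mem hl) hk1) ?_) (K.inv_mem hk)
    exact (mem_normalizer_iff.1 ha l).1 hl
  rw [hmb, chiQ_mul hc hmQ hka, chiQ_of_mem_K h hK hn hQ hmK hmQ, one_mul]

open Classical in
/-- **the field homomorphism** on `N(K)` -/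
noncomputable def ch (n : ℕ) (K : Subgroup G) (a : G) : UU n :=
  if h : ∃ Q : Subgroup G, Syl Q K ∧ ∃ k ∈ K, k * a ∈ normalizer (Q : Set G) then
    chiQ n h.choose (h.choose_spec.2.choose * a) else 1

theorem ch_eq_chiQ (h : Hyp Om) (hK : K ∈ Om) (hn : Dim K n) (hQ : Syl Q K) {a k : G}
    (ha : a ∈ normalizer (K : Set G)) (hk : k ∈ K) (hka : k * a ∈ normalizer (Q : Set G)) :
    ch n K a = chiQ n Q (k * a) := by
  have h1 : ∃ Q : Subgroup G, Syl Q K ∧ ∃ k ∈ K, k * a ∈ normalizer (Q : Set G) := ⟨Q, hQ, k, hk, hka⟩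
  rw [ch, dif_pos h1]
  exact chiQ_unique h hK hn h1.choose_spec.1 hQ ha h1.choose_spec.2.choose_spec.1 hk
    h1.choose_spec.2.choose_spec.2 hka

/-- `ch n K` is multiplicative on `N(K)` -/
theorem ch_mul (h : Hyp Om) (hK : K ∈ Om) (hn : Dim K n) {a b : G} (ha : a ∈ normalizer (K : Set G))
    (hb : b ∈ normalizer (K : Set G)) : ch n K (a * b) = ch n K a * ch n K b := by
  obtain ⟨Q, hQ⟩ := Hyp.exists_syl K
  obtain ⟨c, v, hc⟩ := hn.gq h hK hQ
  obtain ⟨k, hk, hka⟩ := exists_norm hQ ha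
  obtain ⟨l, hl, hlb⟩ := exists_norm hQ hb
  have h1 : (k * (a * l * a⁻¹)) * (a * b) = (k * a) * (l * b) := by group
  have h2 : k * (a * l * a⁻¹) ∈ K := K.mul_mem hk ((mem_normalizer_iff.1 ha l).1 hl)
  rw [ch_eq_chiQ h hK hn hQ ha hk hka, ch_eq_chiQ h hK hn hQ hb hl hlb,
    ch_eq_chiQ h hK hn hQ (mul_mem ha hb) h2 (by rw [h1]; exact mul_mem hka hlb), h1, chiQ_mul hc hka hlb]

end ch

/-! ### Pairs -/

section pair

variable [Finite G] {Om : Set (Subgroup G)} {K L T Q Q' : Subgroup G} {x y x' y' : G} {n : ℕ}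

/-- type `SD`: `t` inverts `x` -/
theorem t_inv (c : OPair.Co Om K L T Q Q' x y x' y' n) (h : One Om)
    (hS : ∀ u ∈ Q, u * zz L = zz L * u → u = 1 ∨ u = zz K) : zz L * x * (zz L)⁻¹ = x⁻¹ := by
  obtain ⟨t, ht⟩ : ∃ t, t = zz L := ⟨_, rfl⟩
  have ht2 : t * t = 1 := by rw [ht]; exact h.hyp.zz_mul c.pair.hL
  have htT : t ∈ T := by rw [ht]; exact c.pair.zL_mem h
  obtain ⟨a, ha⟩ := c.exp htT
  obtain ⟨j, hj⟩ := c.conj_y htT
  have htw := c.t_w h hS
  rw [← ht] at htw hS ⊢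
  have hA := Act.of_conj c.gq (c.pair.hTQ htT) ha
  -- `a^2 = 1`
  have h1 : (2 : ℤ) ^ (n + 2) ∣ a * a - 1 := by
    rw [← c.gq.zpow_eq_one_iff, zpow_sub, zpow_one, mul_inv_eq_one]
    have e1 : t * (t * x ^ (1 : ℤ) * t⁻¹) * t⁻¹ = x := by
      calc t * (t * x ^ (1 : ℤ) * t⁻¹) * t⁻¹ = (t * t) * x * (t * t)⁻¹ := by group
        _ = x := by rw [ht2]; group
    rw [conj_zpow_pow ha, conj_zpow_pow ha, mul_one] at e1
    exact e1
  -- `j (1 + a) = 0`
  have h2 : (2 : ℤ) ^ (n + 2) ∣ j + a * j := by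
    rw [← c.gq.zpow_eq_one_iff]
    have e1 : t * (t * y * t⁻¹) * t⁻¹ = y := by
      calc t * (t * y * t⁻¹) * t⁻¹ = (t * t) * y * (t * t)⁻¹ := by group
        _ = y := by rw [ht2]; group
    have e2 : t * (t * y * t⁻¹) * t⁻¹ = y * (x ^ (j + a * j)) := by
      calc t * (t * y * t⁻¹) * t⁻¹ = t * (y * x ^ j) * t⁻¹ := by rw [hj]
        _ = (t * y * t⁻¹) * (t * x ^ j * t⁻¹) := by group
        _ = y * (x ^ (j + a * j)) := by rw [hj, conj_zpow_pow ha, mul_assoc, ← zpow_add]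
    rw [e1] at e2
    exact left_eq_mul.1 e2
  -- `a = 3` modulo `4`
  have h3 : (4 : ℤ) ∣ a - 3 := by
    have e1 : x ^ (a * (2 : ℤ) ^ n) = x ^ ((2 : ℤ) ^ n) * x ^ ((2 : ℤ) ^ (n + 1)) := by
      have e2 : x ^ ((2 : ℤ) ^ n) = x ^ 2 ^ n := by
        rw [← zpow_natCast x (2 ^ n)]
        push_cast
        rfl
      rw [← conj_zpow_pow ha, e2, c.gq.z_zpow]
      exact htw
    rw [← zpow_add] at e1
    have e3 : x ^ (a * (2 : ℤ) ^ n - ((2 : ℤ) ^ n + (2 : ℤ) ^ (n + 1))) = 1 := by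
      rw [zpow_sub, e1, mul_inv_cancel]
    rw [c.gq.zpow_eq_one_iff] at e3
    have e4 : a * (2 : ℤ) ^ n - ((2 : ℤ) ^ n + (2 : ℤ) ^ (n + 1)) = (2 : ℤ) ^ n * (a - 3) := by ring
    have e5 : (2 : ℤ) ^ (n + 2) = (2 : ℤ) ^ n * 4 := by ring
    rw [e4, e5] at e3
    exact (mul_dvd_mul_iff_left (by positivity)).1 e3
  obtain ⟨b, hb⟩ : ∃ b, a - 3 = 4 * b := h3
  have hab : a = 4 * b + 3 := by linarith
  -- `2^(n+1)` divides `a + 1`
  have h4 : (2 : ℤ) ^ (n + 1) ∣ a + 1 := by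
    have e1 : a * a - 1 = 2 * ((a + 1) * (2 * b + 1)) := by rw [hab]; ring
    rw [e1, pow_succ'] at h1
    have e2 := (mul_dvd_mul_iff_left (by norm_num : (2 : ℤ) ≠ 0)).1 h1
    have e3 : IsCoprime ((2 : ℤ) ^ (n + 1)) (2 * b + 1) := by
      apply IsCoprime.pow_left
      exact ⟨-b, 1, by ring⟩
    exact e3.dvd_of_dvd_mul_right e2
  obtain ⟨e, he⟩ := h4
  rcases Int.even_or_odd e with hev | hod
  · obtain ⟨f, hf⟩ := hev
    rw [ha]
    have e1 : x ^ (a + 1) = 1 := by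
      rw [c.gq.zpow_eq_one_iff, he, hf]
      exact ⟨f, by ring⟩
    rw [zpow_add, zpow_one, mul_eq_one_iff_eq_inv] at e1
    exact e1
  · exfalso
    -- `j` is even
    have h5 : (2 : ℤ) ∣ j := by
      have e1 : j + a * j = (2 : ℤ) ^ (n + 1) * (e * j) := by
        have : j + a * j = (a + 1) * j := by ring
        rw [this, he]; ring
      have e2 : (2 : ℤ) ^ (n + 2) = (2 : ℤ) ^ (n + 1) * 2 := by ring
      rw [e1, e2] at h2
      have e3 := (mul_dvd_mul_iff_left (by positivity)).1 h2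
      have e4 : IsCoprime (2 : ℤ) e := by
        obtain ⟨m, rfl⟩ := hod
        exact ⟨-m, 1, by ring⟩
      exact e4.dvd_of_dvd_mul_left e3
    obtain ⟨j', hj'⟩ := h5
    -- solve `(2b+1) i = -j'`
    obtain ⟨r, s, hrs⟩ : IsCoprime (2 * b + 1) ((2 : ℤ) ^ (n + 1)) := by
      apply IsCoprime.pow_right
      exact ⟨1, -b, by ring⟩
    obtain ⟨i, hi⟩ : ∃ i : ℤ, i = -(r * j') := ⟨_, rfl⟩
    have h6 : x ^ (j + (a - 1) * i) = 1 := by
      rw [c.gq.zpow_eq_one_iff]
      refine ⟨s * j', ?_⟩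
      rw [hab, hi, hj']
      linear_combination (-(2 : ℤ) * j') * hrs
    have h7 : t * (y * x ^ i) * t⁻¹ = y * x ^ i := by
      calc t * (y * x ^ i) * t⁻¹ = (t * y * t⁻¹) * (t * x ^ i * t⁻¹) := by group
        _ = y * (x ^ j * x ^ (a * i)) := by rw [hj, conj_zpow_pow ha, mul_assoc]
        _ = y * (x ^ (j + (a - 1) * i) * x ^ i) := by
            rw [← zpow_add, ← zpow_add]
            congr 2
            ring
        _ = y * x ^ i := by rw [h6, one_mul]
    have h8 := hS (y * x ^ i) (Q.mul_mem c.gq.v_mem (Q.zpow_mem c.gq.c_mem i)) (by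
      rw [mul_inv_eq_iff_eq_mul] at h7
      exact h7.symm)
    apply c.gq.vc_not_mem i
    rcases h8 with h8 | h8
    · rw [h8]; exact one_mem _
    · rw [h8, ← c.gq.z_eq]; exact pow_mem (mem_zpowers x) _

end pair

/-! ### The compatible family -/

section Psi

variable [Finite G] {Om : Set (Subgroup G)} {K L : Subgroup G} {n : ℕ}

theorem Dim.unique (h : Hyp Om) (hK : K ∈ Om) {m : ℕ} (hn : Dim K n) (hm : Dim K m) : n = m := by
  obtain ⟨Q, hQ⟩ := Hyp.exists_syl K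
  obtain ⟨c, v, hc⟩ := hn.gq h hK hQ
  obtain ⟨c', v', hc'⟩ := hm.gq h hK hQ
  have h1 := hc.card
  rw [hc'.card] at h1
  have := Nat.pow_right_injective (le_refl 2) h1
  omega

/-- the classical involutions -/
def DD (Om : Set (Subgroup G)) : Set G := {z | ∃ K ∈ Om, z = zz K}

open Classical in
/-- the value at `z` -/
noncomputable def psi (Om : Set (Subgroup G)) (n : ℕ) (z a : G) : UU n :=
  if hz : ∃ K ∈ Om, z = zz K then ch n hz.choose a else 1

end Psi

/-! ### The action of the Sylow 2-subgroup -/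

section main

variable [Finite G] {Om : Set (Subgroup G)} {K S : Subgroup G} {n : ℕ}

end main

/-! ### `|S : Q C_S(Q)| ≤ 2` -/

section index

variable {Q : Subgroup G} {x y z : G} {n : ℕ}

theorem cent_of (hc : GQ Q x y z n) {a : G} (hx : a * x = x * a) (hy : a * y = y * a) :
    ∀ u ∈ Q, a * u = u * a := by
  intro u hu
  have h1 : Q ≤ centralizer {a} := by
    apply hc.le_of_mem (q := y)
    · exact mem_centralizer_singleton_iff.2 hx.symm
    · exact hc.v_mem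
    · exact hc.v_not_mem
    · exact mem_centralizer_singleton_iff.2 hy.symm
  exact (mem_centralizer_singleton_iff.1 (h1 hu)).symm

/-- an element with even exponent is an element of `Q` times one centralising `Q` -/
theorem exists_cent (hc : GQ Q x y z n) {s : G} (hx : s * x * s⁻¹ = x ∨ s * x * s⁻¹ = x⁻¹) {j : ℤ}
    (hy : s * y * s⁻¹ = y * x ^ (2 * j)) : ∃ q ∈ Q, ∀ u ∈ Q, (q⁻¹ * s) * u = u * (q⁻¹ * s) := by
  rcases hx with hx | hx
  · refine ⟨x ^ (-j), Q.zpow_mem hc.c_mem _, cent_of hc ?_ ?_⟩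
    · rw [mul_inv_eq_iff_eq_mul] at hx
      calc (x ^ (-j))⁻¹ * s * x = (x ^ (-j))⁻¹ * (s * x) := by group
        _ = x * ((x ^ (-j))⁻¹ * s) := by rw [hx]; group
    · have h1 := hc.conj_zpow_v (-j)
      have h2 : y * x ^ (2 * j) = x ^ (-j) * y * (x ^ (-j))⁻¹ := by
        rw [h1]
        congr 2
        ring
      rw [h2, mul_inv_eq_iff_eq_mul] at hy
      calc (x ^ (-j))⁻¹ * s * y = (x ^ (-j))⁻¹ * (s * y) := by group
        _ = y * ((x ^ (-j))⁻¹ * s) := by rw [hy]; group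
  · refine ⟨y * x ^ j, Q.mul_mem hc.v_mem (Q.zpow_mem hc.c_mem _), cent_of hc ?_ ?_⟩
    · rw [mul_inv_eq_iff_eq_mul] at hx
      have h1 : (y * x ^ j) * x = x⁻¹ * (y * x ^ j) := by
        have h2 := hc.conj
        rw [mul_inv_eq_iff_eq_mul] at h2
        calc (y * x ^ j) * x = (y * x) * x ^ j := by group
          _ = x⁻¹ * (y * x ^ j) := by rw [h2]; group
      have h3 : (y * x ^ j)⁻¹ * x⁻¹ = x * (y * x ^ j)⁻¹ := by
        calc (y * x ^ j)⁻¹ * x⁻¹ = (y * x ^ j)⁻¹ * (x⁻¹ * (y * x ^ j)) * (y * x ^ j)⁻¹ := by group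
          _ = (y * x ^ j)⁻¹ * ((y * x ^ j) * x) * (y * x ^ j)⁻¹ := by rw [h1]
          _ = x * (y * x ^ j)⁻¹ := by group
      calc (y * x ^ j)⁻¹ * s * x = (y * x ^ j)⁻¹ * (s * x) := by group
        _ = ((y * x ^ j)⁻¹ * x⁻¹) * s := by rw [hx]; group
        _ = x * ((y * x ^ j)⁻¹ * s) := by rw [h3]; group
    · -- `q y q⁻¹ = y x^(2j)` for `q = y x^j`
      have h1 : (y * x ^ j) * y * (y * x ^ j)⁻¹ = y * x ^ (2 * j) := by
        calc (y * x ^ j) * y * (y * x ^ j)⁻¹ = y * (x ^ j * y * (x ^ j)⁻¹) * y⁻¹ := by group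
          _ = y * (y * x ^ (-2 * j)) * y⁻¹ := by rw [hc.conj_zpow_v]
          _ = y * (y * x ^ (-2 * j)) * y⁻¹ := rfl
          _ = y * (x ^ (-(-2 * j)) * y) * y⁻¹ := by rw [hc.v_zpow]
          _ = y * x ^ (2 * j) := by
              have : -(-2 * j) = 2 * j := by ring
              rw [this]; group
      rw [← h1, mul_inv_eq_iff_eq_mul] at hy
      calc (y * x ^ j)⁻¹ * s * y = (y * x ^ j)⁻¹ * (s * y) := by group
        _ = y * ((y * x ^ j)⁻¹ * s) := by rw [hy]; group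

/-- **`|S : Q C_S(Q)| ≤ 2`**, for elements: if `d` has odd exponent then every `s` or `d s` is in `Q C(Q)` -/
theorem cover (hc : GQ Q x y z n) {d s : G} (hdx : d * x * d⁻¹ = x ∨ d * x * d⁻¹ = x⁻¹) {l : ℤ} (hl : Odd l)
    (hdy : d * y * d⁻¹ = y * x ^ l) (hsx : s * x * s⁻¹ = x ∨ s * x * s⁻¹ = x⁻¹) {j : ℤ}
    (hsy : s * y * s⁻¹ = y * x ^ j) :
    (∃ q ∈ Q, ∀ u ∈ Q, (q⁻¹ * s) * u = u * (q⁻¹ * s)) ∨
    ∃ q ∈ Q, ∀ u ∈ Q, (q⁻¹ * (d * s)) * u = u * (q⁻¹ * (d * s)) := by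
  rcases Int.even_or_odd' j with ⟨i, hi | hi⟩
  · left
    rw [hi] at hsy
    exact exists_cent hc hsx hsy
  · right
    obtain ⟨m, hm⟩ := hl
    have hdxz : ∃ e : ℤ, Odd e ∧ d * x * d⁻¹ = x ^ e := by
      rcases hdx with h1 | h1
      · exact ⟨1, odd_one, by rw [h1, zpow_one]⟩
      · exact ⟨-1, by decide, by rw [h1, zpow_neg, zpow_one]⟩
    obtain ⟨e, he, hde⟩ := hdxz
    have h1 : (d * s) * y * (d * s)⁻¹ = y * x ^ (l + e * j) := by
      calc (d * s) * y * (d * s)⁻¹ = d * (s * y * s⁻¹) * d⁻¹ := by group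
        _ = d * (y * x ^ j) * d⁻¹ := by rw [hsy]
        _ = (d * y * d⁻¹) * (d * x ^ j * d⁻¹) := by group
        _ = y * x ^ (l + e * j) := by rw [hdy, conj_zpow_pow hde, mul_assoc, ← zpow_add]
    obtain ⟨f, hf⟩ := he
    have h2 : l + e * j = 2 * (m + 2 * f * i + f + i + 1) := by
      rw [hm, hf, hi]; ring
    rw [h2] at h1
    apply exists_cent hc _ h1
    have h3 : (d * s) * x * (d * s)⁻¹ = d * (s * x * s⁻¹) * d⁻¹ := by group
    rw [h3]
    rcases hsx with h4 | h4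
    · rw [h4]; exact hdx
    · rw [h4]
      have h5 : d * x⁻¹ * d⁻¹ = (d * x * d⁻¹)⁻¹ := by group
      rw [h5]
      rcases hdx with h6 | h6
      · right; rw [h6]
      · left; rw [h6, inv_inv]

end index

end Cfsg.Agent.Cit.OneChi
end

-- part: Cit/TwoFK/HPair
section
/-!
# Pairs of commuting classical involutions, no hypothesis on `Om(S)`

`HP Om K L T Q Q'`: members `K`, `L` with different commuting involutions `z`, `t`, `t ∈ N(K)`, `z ∈ N(L)`; `Q`, `Q'`
Sylow 2-subgroups of `K`, `L`, normalised by the 2-group `T ≤ N(K) ∩ N(L)` containing `C_Q(t)` and `C_Q'(z)`;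
`t` does not centralise `Q`, `z` does not centralise `Q'`.  `HP.Co`: coordinates.  `HP.Co.dich`: the dichotomy W / SD.
(The text of `OnePair` with `One Om` replaced by these hypotheses.)
-/

set_option autoImplicit false
set_option linter.style.haveILetI false
set_option linter.unusedSectionVars false
set_option linter.unusedVariables false

namespace Cfsg.Agent.Cit.TwoFK

open Subgroup Cfsg Cit OneBasic

variable {G : Type*} [Group G]

/-- see the head of the file -/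
structure HP (Om : Set (Subgroup G)) (K L T Q Q' : Subgroup G) : Prop where
  hyp : Hyp Om
  hK : K ∈ Om
  hL : L ∈ Om
  zne : zz K ≠ zz L
  comm : zz K * zz L = zz L * zz K
  hQ : Syl Q K
  hQ' : Syl Q' L
  card : Nat.card Q = Nat.card Q'
  tp : IsPGroup 2 T
  tK : T ≤ normalizer (K : Set G)
  tL : T ≤ normalizer (L : Set G)
  hTQ : T ≤ normalizer (Q : Set G)
  hTQ' : T ≤ normalizer (Q' : Set G)
  memQ : ∀ u ∈ Q, u * zz L = zz L * u → u ∈ T
  memQ' : ∀ u ∈ Q', u * zz K = zz K * u → u ∈ T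
  ncQ : ¬ ∀ x ∈ Q, zz L * x = x * zz L
  ncQ' : ¬ ∀ x ∈ Q', zz K * x = x * zz K

theorem HP.symm {Om : Set (Subgroup G)} {K L T Q Q' : Subgroup G} (p : HP Om K L T Q Q') :
    HP Om L K T Q' Q :=
  ⟨p.hyp, p.hL, p.hK, p.zne.symm, p.comm.symm, p.hQ', p.hQ, p.card.symm, p.tp, p.tL, p.tK, p.hTQ', p.hTQ,
    p.memQ', p.memQ, p.ncQ', p.ncQ⟩

namespace HP

variable [Finite G] {Om : Set (Subgroup G)} {K L T Q Q' : Subgroup G}

theorem tz (p : HP Om K L T Q Q') {a : G} (ha : a ∈ T) : a * zz K = zz K * a :=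
  p.hyp.comm_zz p.hK (p.tK ha)

theorem tt (p : HP Om K L T Q Q') {a : G} (ha : a ∈ T) : a * zz L = zz L * a :=
  p.hyp.comm_zz p.hL (p.tL ha)

/-- `C_Q(t) ≤ T` -/
theorem mem_T (p : HP Om K L T Q Q') {u : G} (hu : u ∈ Q) (hut : u * zz L = zz L * u) : u ∈ T :=
  p.memQ u hu hut

theorem zK_mem_Q (p : HP Om K L T Q Q') : zz K ∈ Q := by
  obtain ⟨c, v, n, hc⟩ := p.hyp.exists_gq p.hK p.hQ
  exact hc.z_mem

theorem zK_mem (p : HP Om K L T Q Q') : zz K ∈ T := p.mem_T (p.zK_mem_Q) p.comm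

theorem zL_mem (p : HP Om K L T Q Q') : zz L ∈ T := p.symm.zK_mem

theorem z_ne_t (p : HP Om K L T Q Q') : zz K ≠ zz L := p.zne

/-- `Q ∩ Q' = 1` -/
theorem disj (p : HP Om K L T Q Q') {u : G} (hu : u ∈ Q) (hu' : u ∈ Q') : u = 1 := by
  by_contra hu1
  have hIQ : AutQuat.IsQ Q := p.hyp.isGQ p.hK p.hQ
  have h1 : zz K ∈ zpowers u :=
    hIQ.mem_zpowers (fun t ht => p.hyp.uniq K p.hK t (p.hQ.1 ht)) hu hu1
  have h2 : zz K ∈ Q' := (zpowers_le.2 hu') h1
  exact p.z_ne_t (p.hyp.uniq L p.hL _ (p.hQ'.1 h2) (p.hyp.orderOf_zz p.hK))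

/-- `[C_Q(t), C_Q'(z)] = 1` -/
theorem commute_R (p : HP Om K L T Q Q') {u u' : G} (hu : u ∈ Q) (huT : u ∈ T) (hu' : u' ∈ Q')
    (huT' : u' ∈ T) : u * u' = u' * u := by
  have h1 : u * u' * u⁻¹ * u'⁻¹ ∈ Q' :=
    Q'.mul_mem ((mem_normalizer_iff.1 (p.hTQ' huT) u').1 hu') (Q'.inv_mem hu')
  have h2 : u * u' * u⁻¹ * u'⁻¹ ∈ Q := by
    have h3 := Q.mul_mem hu ((mem_normalizer_iff.1 (p.hTQ huT') u⁻¹).1 (Q.inv_mem hu))
    simpa [mul_assoc] using h3
  have h3 := p.disj h2 h1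
  rw [mul_inv_eq_one, mul_inv_eq_iff_eq_mul] at h3
  exact h3

/-- `t` does not centralise `Q` -/
theorem not_cent (p : HP Om K L T Q Q') : ¬ ∀ x ∈ Q, zz L * x = x * zz L := p.ncQ

/-- an element of `Q'` centralising `Q` is trivial -/
theorem faithful (p : HP Om K L T Q Q') {u : G} (hu : u ∈ Q')
    (hc : ∀ x ∈ Q, u * x = x * u) : u = 1 := by
  by_contra hu1
  have hIQ : AutQuat.IsQ Q' := p.hyp.isGQ p.hL p.hQ'
  have h1 : zz L ∈ zpowers u :=
    hIQ.mem_zpowers (fun t ht => p.hyp.uniq L p.hL t (p.hQ'.1 ht)) hu hu1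
  obtain ⟨k, hk⟩ := h1
  have hk' : u ^ k = zz L := hk
  apply p.not_cent
  intro x hx
  rw [← hk']
  exact ((show Commute u x from hc x hx).zpow_left k).eq

/-- coordinates adapted to a pair -/
structure Co (Om : Set (Subgroup G)) (K L T Q Q' : Subgroup G) (x y x' y' : G) (n : ℕ) : Prop where
  pair : HP Om K L T Q Q'
  gq : GQ Q x y (zz K) n
  gq' : GQ Q' x' y' (zz L) n
  inv : ∀ w ∈ T, w * x * w⁻¹ ∈ zpowers x
  inv' : ∀ w ∈ T, w * x' * w⁻¹ ∈ zpowers x'

theorem Co.symm {x y x' y' : G} {n : ℕ} (p : Co Om K L T Q Q' x y x' y' n) :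
    Co Om L K T Q' Q x' y' x y n :=
  ⟨p.pair.symm, p.gq', p.gq, p.inv', p.inv⟩

theorem exists_co (p : HP Om K L T Q Q') : ∃ x y x' y' n, Co Om K L T Q Q' x y x' y' n := by
  obtain ⟨x, y, n, hxy, hT⟩ := p.hyp.exists_gq_cyclic p.hK p.hQ p.tp p.hTQ
  obtain ⟨x', y', m, hxy', hT'⟩ := p.hyp.exists_gq_cyclic p.hL p.hQ' p.tp p.hTQ'
  have hmn : m = n := by
    have h1 : Nat.card Q = Nat.card Q' := p.card
    rw [hxy.card, hxy'.card] at h1
    have := Nat.pow_right_injective (le_refl 2) h1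
    omega
  subst hmn
  exact ⟨x, y, x', y', m, p, hxy, hxy', hT, hT'⟩

namespace Co

variable {x y x' y' : G} {n : ℕ}

theorem exp (p : Co Om K L T Q Q' x y x' y' n) {w : G} (hw : w ∈ T) : ∃ k : ℤ, w * x * w⁻¹ = x ^ k := by
  obtain ⟨k, hk⟩ := p.inv w hw
  exact ⟨k, hk.symm⟩

/-- the dichotomy, first step: if `C_Q(t)` contains an element of order `4` then `z` centralises `x'` -/
theorem key (p : Co Om K L T Q Q' x y x' y' n) {u : G} (hu : u ∈ Q)
    (hut : u * zz L = zz L * u) (hu2 : u * u = zz K) : zz K * x' = x' * zz K := by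
  have huT : u ∈ T := p.pair.mem_T hu hut
  obtain ⟨k, hk⟩ := p.symm.exp huT
  have h1 : ∀ i : ℤ, zz K * x' ^ i * (zz K)⁻¹ = x' ^ (k ^ 2 * i) := by
    intro i
    have h2 : zz K * x' ^ i * (zz K)⁻¹ = u * (u * x' ^ i * u⁻¹) * u⁻¹ := by rw [← hu2]; group
    rw [h2, conj_zpow_pow hk, conj_zpow_pow hk]
    congr 1
    ring
  have h4 : (2 : ℤ) ^ (n + 2) ∣ k ^ 4 - 1 := by
    rw [← p.gq'.zpow_eq_one_iff, zpow_sub, zpow_one, mul_inv_eq_one]
    have h3 : zz K * (zz K * x' ^ (1 : ℤ) * (zz K)⁻¹) * (zz K)⁻¹ = x' := by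
      have h5 : zz K * (zz K * x' ^ (1 : ℤ) * (zz K)⁻¹) * (zz K)⁻¹
          = (zz K * zz K) * x' * (zz K * zz K)⁻¹ := by group
      rw [h5, p.pair.hyp.zz_mul p.pair.hK]; group
    rw [h1, h1] at h3
    conv_rhs => rw [← h3]
    congr 1
    ring
  have h5 := arith_one n k h4
  -- `z` centralises `x'^2`
  have h6 : zz K * x' ^ (2 : ℤ) * (zz K)⁻¹ = x' ^ (2 : ℤ) := by
    rw [h1]
    have h7 : (2 : ℤ) ^ (n + 2) ∣ k ^ 2 * 2 - 2 := by
      have : k ^ 2 * 2 - 2 = (k ^ 2 - 1) * 2 := by ring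
      rw [this, pow_succ]
      exact mul_dvd_mul h5 dvd_rfl
    rw [← p.gq'.zpow_eq_one_iff, zpow_sub, mul_inv_eq_one] at h7
    exact h7
  have h7 : x' ^ (2 : ℤ) ∈ T := by
    apply p.pair.symm.mem_T (Q'.zpow_mem p.gq'.c_mem 2)
    rw [mul_inv_eq_iff_eq_mul] at h6
    exact h6.symm
  have h8 := p.pair.commute_R hu huT (Q'.zpow_mem p.gq'.c_mem 2) h7
  have h9 : u * x' ^ (2 : ℤ) * u⁻¹ = x' ^ (2 : ℤ) := by rw [h8, mul_inv_cancel_right]
  rw [conj_zpow_pow hk] at h9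
  have h10 : (2 : ℤ) ^ (n + 1) ∣ k - 1 := by
    have h11 : (2 : ℤ) ^ (n + 2) ∣ k * 2 - 2 := by
      rw [← p.gq'.zpow_eq_one_iff, zpow_sub, mul_inv_eq_one]
      exact h9
    have : k * 2 - 2 = 2 * (k - 1) := by ring
    rw [this, pow_succ'] at h11
    exact (mul_dvd_mul_iff_left (by norm_num)).1 h11
  have h11 := arith_two n k h10
  have h12 : zz K * x' * (zz K)⁻¹ = x' := by
    have h13 := h1 1
    rw [zpow_one] at h13
    rw [h13]
    have h14 : x' ^ (k ^ 2 * 1 - 1) = 1 := by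
      rw [p.gq'.zpow_eq_one_iff, mul_one]; exact h11
    rw [zpow_sub, zpow_one, mul_inv_eq_one] at h14
    exact h14
  rwa [mul_inv_eq_iff_eq_mul] at h12

/-- elements of `⟨x⟩` of order `4`: `w = x^(2^n)` -/
theorem w_comm (p : Co Om K L T Q Q' x y x' y' n) (hx : zz L * x = x * zz L) :
    x ^ 2 ^ n * zz L = zz L * x ^ 2 ^ n :=
  ((show Commute x (zz L) from hx.symm).pow_left _).eq

/-- **the dichotomy** -/
theorem dich (p : Co Om K L T Q Q' x y x' y' n) :
    (zz K * x' = x' * zz K ∧ zz L * x = x * zz L) ∨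
    ((∀ u ∈ Q, u * zz L = zz L * u → u = 1 ∨ u = zz K) ∧
      (∀ u ∈ Q', u * zz K = zz K * u → u = 1 ∨ u = zz L)) := by
  by_cases h1 : ∃ u ∈ Q, u * zz L = zz L * u ∧ u * u = zz K
  · left
    obtain ⟨u, hu, hut, hu2⟩ := h1
    have h2 := p.key hu hut hu2
    refine ⟨h2, ?_⟩
    exact p.symm.key (Q'.pow_mem p.gq'.c_mem (2 ^ n)) (p.symm.w_comm h2) p.gq'.w_sq
  · by_cases h2 : ∃ u ∈ Q', u * zz K = zz K * u ∧ u * u = zz L
    · left
      obtain ⟨u, hu, hut, hu2⟩ := h2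
      have h3 := p.symm.key hu hut hu2
      refine ⟨?_, h3⟩
      exact p.key (Q.pow_mem p.gq.c_mem (2 ^ n)) (p.w_comm h3) p.gq.w_sq
    · right
      have aux : ∀ {K L T Q Q' : Subgroup G} {x y x' y' : G} {n : ℕ} (p : Co Om K L T Q Q' x y x' y' n),
          (¬ ∃ u ∈ Q, u * zz L = zz L * u ∧ u * u = zz K) →
          ∀ u ∈ Q, u * zz L = zz L * u → u = 1 ∨ u = zz K := by
        intro K L T Q Q' x y x' y' n p hn u hu hut
        by_contra hcon
        push Not at hcon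
        obtain ⟨hu1, huz⟩ := hcon
        have hIQ : AutQuat.IsQ Q := p.pair.hyp.isGQ p.pair.hK p.pair.hQ
        have h1 : zz K ∈ zpowers u :=
          hIQ.mem_zpowers (fun t ht => p.pair.hyp.uniq K p.pair.hK t (p.pair.hQ.1 ht)) hu hu1
        -- a power of `u` squares to `z`
        have h2 : ∃ m : ℕ, u ^ 2 ^ m = zz K := by
          obtain ⟨k, hk⟩ := p.pair.hQ.2.1 ⟨u, hu⟩
          have hk' : u ^ 2 ^ k = 1 := congrArg Subtype.val hk
          obtain ⟨j, hj, hj2⟩ := (Nat.dvd_prime_pow Nat.prime_two).mp (orderOf_dvd_of_pow_eq_one hk')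
          have hj0 : j ≠ 0 := by
            rintro rfl
            rw [pow_zero, orderOf_eq_one_iff] at hj2
            exact hu1 hj2
          obtain ⟨i, rfl⟩ := Nat.exists_eq_succ_of_ne_zero hj0
          refine ⟨i, ?_⟩
          apply p.pair.hyp.uniq K p.pair.hK _ (p.pair.hQ.1 (Q.pow_mem hu _))
          rw [orderOf_pow' u (by positivity), hj2, Nat.succ_eq_add_one, pow_succ, Nat.gcd_mul_right_left,
            Nat.mul_div_cancel_left _ (by positivity)]
        obtain ⟨m, hm⟩ := h2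
        rcases Nat.eq_zero_or_pos m with rfl | hm0
        · apply huz
          simpa using hm
        · obtain ⟨j, rfl⟩ := Nat.exists_eq_succ_of_ne_zero hm0.ne'
          apply hn
          refine ⟨u ^ 2 ^ j, Q.pow_mem hu _, ((show Commute u (zz L) from hut).pow_left _).eq, ?_⟩
          rw [← pow_add, ← two_mul, ← pow_succ']
          exact hm
      exact ⟨aux p h1, aux p.symm h2⟩

/-- `T` maps `w` to `w` or `w z` -/
theorem conj_w (p : Co Om K L T Q Q' x y x' y' n) {a : G} (ha : a ∈ T) :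
    a * x ^ 2 ^ n * a⁻¹ = x ^ 2 ^ n ∨ a * x ^ 2 ^ n * a⁻¹ = x ^ 2 ^ n * zz K := by
  obtain ⟨k, hk⟩ := p.exp ha
  apply p.gq.eq_w_of_sq
  · refine ⟨k * (2 ^ n : ℕ), ?_⟩
    have := conj_zpow_pow hk (2 ^ n : ℕ)
    rw [zpow_natCast] at this
    exact this.symm
  · calc a * x ^ 2 ^ n * a⁻¹ * (a * x ^ 2 ^ n * a⁻¹) = a * (x ^ 2 ^ n * x ^ 2 ^ n) * a⁻¹ := by group
      _ = a * zz K * a⁻¹ := by rw [p.gq.w_sq]
      _ = zz K := by rw [p.pair.tz ha, mul_inv_cancel_right]

/-- action of `a ∈ T` on `y` -/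
theorem conj_y (p : Co Om K L T Q Q' x y x' y' n) {a : G} (ha : a ∈ T) :
    ∃ j : ℤ, a * y * a⁻¹ = y * x ^ j := by
  apply p.gq.exists_act (p.pair.hTQ ha)
  have := p.inv a⁻¹ (T.inv_mem ha)
  simpa using this

/-- the centraliser criterion -/
theorem cent_Q (p : Co Om K L T Q Q' x y x' y' n) {a : G} (hx : a * x = x * a) (hy : a * y = y * a) :
    ∀ u ∈ Q, a * u = u * a := by
  intro u hu
  have h1 : Q ≤ centralizer {a} := by
    apply p.gq.le_of_mem (q := y)
    · exact mem_centralizer_singleton_iff.2 hx.symm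
    · exact p.gq.v_mem
    · exact p.gq.v_not_mem
    · exact mem_centralizer_singleton_iff.2 hy.symm
  exact (mem_centralizer_singleton_iff.1 (h1 hu)).symm

/-- an element of `T` centralising `x` with square centralising `y` maps `y` to `y` or to `y z` -/
theorem conj_y_of_sq (p : Co Om K L T Q Q' x y x' y' n) {a : G} (ha : a ∈ T)
    (hx : a * x = x * a) (hy : (a * a) * y = y * (a * a)) :
    a * y * a⁻¹ = y ∨ a * y * a⁻¹ = y * zz K := by
  obtain ⟨j, hj⟩ := p.conj_y ha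
  have h1 : a * x ^ j * a⁻¹ = x ^ j := by
    rw [((show Commute a x from hx).zpow_right j).eq, mul_inv_cancel_right]
  have h2 : y = y * x ^ (2 * j) := by
    calc y = (a * a) * y * (a * a)⁻¹ := by rw [hy, mul_inv_cancel_right]
      _ = a * (a * y * a⁻¹) * a⁻¹ := by group
      _ = a * (y * x ^ j) * a⁻¹ := by rw [hj]
      _ = (a * y * a⁻¹) * (a * x ^ j * a⁻¹) := by group
      _ = y * x ^ (2 * j) := by rw [hj, h1, mul_assoc, ← zpow_add, two_mul]
  have h3 : x ^ (2 * j) = 1 := by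
    have := h2.symm
    simpa using this
  rcases p.gq.zpow_sq h3 with h4 | h4
  · left; rw [hj, h4, mul_one]
  · right; rw [hj, h4]

/-- type `W`: `t` maps `y` to `y z` -/
theorem t_y (p : Co Om K L T Q Q' x y x' y' n) (hW : zz L * x = x * zz L) :
    zz L * y * (zz L)⁻¹ = y * zz K := by
  have h2 : zz L * zz L * y = y * (zz L * zz L) := by rw [p.pair.hyp.zz_mul p.pair.hL, one_mul, mul_one]
  rcases p.conj_y_of_sq (p.pair.zL_mem) hW h2 with h3 | h3
  · exfalso
    apply p.pair.not_cent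
    apply p.cent_Q hW
    rwa [mul_inv_eq_iff_eq_mul] at h3
  · exact h3

/-- type `SD`: `t` inverts `w` -/
theorem t_w (p : Co Om K L T Q Q' x y x' y' n)
    (hS : ∀ u ∈ Q, u * zz L = zz L * u → u = 1 ∨ u = zz K) :
    zz L * x ^ 2 ^ n * (zz L)⁻¹ = x ^ 2 ^ n * zz K := by
  rcases p.conj_w (p.pair.zL_mem) with h1 | h1
  · exfalso
    rw [mul_inv_eq_iff_eq_mul] at h1
    have h2 := p.gq.orderOf_w
    rcases hS _ (Q.pow_mem p.gq.c_mem _) h1.symm with h3 | h3
    · rw [h3, orderOf_one] at h2; omega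
    · rw [h3, p.pair.hyp.orderOf_zz p.pair.hK] at h2; omega
  · exact h1

end Co
/-- **fusion of the four-group** `{1, z, t, zt}` by elements of `Q` and `Q'` -/
theorem exists_swap (p : HP Om K L T Q Q') : ∃ q ∈ Q, q * zz L * q⁻¹ = zz K * zz L := by
  obtain ⟨x, y, x', y', n, c⟩ := p.exists_co
  have hz : ∀ q ∈ Q, zz K * q = q * zz K := fun q hq =>
    (p.hyp.comm_zz p.hK (le_normalizer (p.hQ.1 hq))).symm
  rcases c.dich with h1 | h1
  · exact ⟨y, c.gq.v_mem, conj_swap (hz y c.gq.v_mem) (p.hyp.zz_mul p.hK) (c.t_y h1.2)⟩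
  · exact ⟨_, Q.pow_mem c.gq.c_mem _, conj_swap (hz _ (Q.pow_mem c.gq.c_mem _)) (p.hyp.zz_mul p.hK)
      (c.t_w h1.1)⟩

namespace Co

variable {x y x' y' : G} {n : ℕ}

open OneChi

theorem t_inv (c : HP.Co Om K L T Q Q' x y x' y' n)
    (hS : ∀ u ∈ Q, u * zz L = zz L * u → u = 1 ∨ u = zz K) : zz L * x * (zz L)⁻¹ = x⁻¹ := by
  obtain ⟨t, ht⟩ : ∃ t, t = zz L := ⟨_, rfl⟩
  have ht2 : t * t = 1 := by rw [ht]; exact c.pair.hyp.zz_mul c.pair.hL
  have htT : t ∈ T := by rw [ht]; exact c.pair.zL_mem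
  obtain ⟨a, ha⟩ := c.exp htT
  obtain ⟨j, hj⟩ := c.conj_y htT
  have htw := c.t_w hS
  rw [← ht] at htw hS ⊢
  have hA := Act.of_conj c.gq (c.pair.hTQ htT) ha
  -- `a^2 = 1`
  have h1 : (2 : ℤ) ^ (n + 2) ∣ a * a - 1 := by
    rw [← c.gq.zpow_eq_one_iff, zpow_sub, zpow_one, mul_inv_eq_one]
    have e1 : t * (t * x ^ (1 : ℤ) * t⁻¹) * t⁻¹ = x := by
      calc t * (t * x ^ (1 : ℤ) * t⁻¹) * t⁻¹ = (t * t) * x * (t * t)⁻¹ := by group
        _ = x := by rw [ht2]; group
    rw [conj_zpow_pow ha, conj_zpow_pow ha, mul_one] at e1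
    exact e1
  -- `j (1 + a) = 0`
  have h2 : (2 : ℤ) ^ (n + 2) ∣ j + a * j := by
    rw [← c.gq.zpow_eq_one_iff]
    have e1 : t * (t * y * t⁻¹) * t⁻¹ = y := by
      calc t * (t * y * t⁻¹) * t⁻¹ = (t * t) * y * (t * t)⁻¹ := by group
        _ = y := by rw [ht2]; group
    have e2 : t * (t * y * t⁻¹) * t⁻¹ = y * (x ^ (j + a * j)) := by
      calc t * (t * y * t⁻¹) * t⁻¹ = t * (y * x ^ j) * t⁻¹ := by rw [hj]
        _ = (t * y * t⁻¹) * (t * x ^ j * t⁻¹) := by group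
        _ = y * (x ^ (j + a * j)) := by rw [hj, conj_zpow_pow ha, mul_assoc, ← zpow_add]
    rw [e1] at e2
    exact left_eq_mul.1 e2
  -- `a = 3` modulo `4`
  have h3 : (4 : ℤ) ∣ a - 3 := by
    have e1 : x ^ (a * (2 : ℤ) ^ n) = x ^ ((2 : ℤ) ^ n) * x ^ ((2 : ℤ) ^ (n + 1)) := by
      have e2 : x ^ ((2 : ℤ) ^ n) = x ^ 2 ^ n := by
        rw [← zpow_natCast x (2 ^ n)]
        push_cast
        rfl
      rw [← conj_zpow_pow ha, e2, c.gq.z_zpow]
      exact htw
    rw [← zpow_add] at e1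
    have e3 : x ^ (a * (2 : ℤ) ^ n - ((2 : ℤ) ^ n + (2 : ℤ) ^ (n + 1))) = 1 := by
      rw [zpow_sub, e1, mul_inv_cancel]
    rw [c.gq.zpow_eq_one_iff] at e3
    have e4 : a * (2 : ℤ) ^ n - ((2 : ℤ) ^ n + (2 : ℤ) ^ (n + 1)) = (2 : ℤ) ^ n * (a - 3) := by ring
    have e5 : (2 : ℤ) ^ (n + 2) = (2 : ℤ) ^ n * 4 := by ring
    rw [e4, e5] at e3
    exact (mul_dvd_mul_iff_left (by positivity)).1 e3
  obtain ⟨b, hb⟩ : ∃ b, a - 3 = 4 * b := h3
  have hab : a = 4 * b + 3 := by linarith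
  -- `2^(n+1)` divides `a + 1`
  have h4 : (2 : ℤ) ^ (n + 1) ∣ a + 1 := by
    have e1 : a * a - 1 = 2 * ((a + 1) * (2 * b + 1)) := by rw [hab]; ring
    rw [e1, pow_succ'] at h1
    have e2 := (mul_dvd_mul_iff_left (by norm_num : (2 : ℤ) ≠ 0)).1 h1
    have e3 : IsCoprime ((2 : ℤ) ^ (n + 1)) (2 * b + 1) := by
      apply IsCoprime.pow_left
      exact ⟨-b, 1, by ring⟩
    exact e3.dvd_of_dvd_mul_right e2
  obtain ⟨e, he⟩ := h4
  rcases Int.even_or_odd e with hev | hod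
  · obtain ⟨f, hf⟩ := hev
    rw [ha]
    have e1 : x ^ (a + 1) = 1 := by
      rw [c.gq.zpow_eq_one_iff, he, hf]
      exact ⟨f, by ring⟩
    rw [zpow_add, zpow_one, mul_eq_one_iff_eq_inv] at e1
    exact e1
  · exfalso
    -- `j` is even
    have h5 : (2 : ℤ) ∣ j := by
      have e1 : j + a * j = (2 : ℤ) ^ (n + 1) * (e * j) := by
        have : j + a * j = (a + 1) * j := by ring
        rw [this, he]; ring
      have e2 : (2 : ℤ) ^ (n + 2) = (2 : ℤ) ^ (n + 1) * 2 := by ring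
      rw [e1, e2] at h2
      have e3 := (mul_dvd_mul_iff_left (by positivity)).1 h2
      have e4 : IsCoprime (2 : ℤ) e := by
        obtain ⟨m, rfl⟩ := hod
        exact ⟨-m, 1, by ring⟩
      exact e4.dvd_of_dvd_mul_left e3
    obtain ⟨j', hj'⟩ := h5
    -- solve `(2b+1) i = -j'`
    obtain ⟨r, s, hrs⟩ : IsCoprime (2 * b + 1) ((2 : ℤ) ^ (n + 1)) := by
      apply IsCoprime.pow_right
      exact ⟨1, -b, by ring⟩
    obtain ⟨i, hi⟩ : ∃ i : ℤ, i = -(r * j') := ⟨_, rfl⟩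
    have h6 : x ^ (j + (a - 1) * i) = 1 := by
      rw [c.gq.zpow_eq_one_iff]
      refine ⟨s * j', ?_⟩
      rw [hab, hi, hj']
      linear_combination (-(2 : ℤ) * j') * hrs
    have h7 : t * (y * x ^ i) * t⁻¹ = y * x ^ i := by
      calc t * (y * x ^ i) * t⁻¹ = (t * y * t⁻¹) * (t * x ^ i * t⁻¹) := by group
        _ = y * (x ^ j * x ^ (a * i)) := by rw [hj, conj_zpow_pow ha, mul_assoc]
        _ = y * (x ^ (j + (a - 1) * i) * x ^ i) := by
            rw [← zpow_add, ← zpow_add]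
            congr 2
            ring
        _ = y * x ^ i := by rw [h6, one_mul]
    have h8 := hS (y * x ^ i) (Q.mul_mem c.gq.v_mem (Q.zpow_mem c.gq.c_mem i)) (by
      rw [mul_inv_eq_iff_eq_mul] at h7
      exact h7.symm)
    apply c.gq.vc_not_mem i
    rcases h8 with h8 | h8
    · rw [h8]; exact one_mem _
    · rw [h8, ← c.gq.z_eq]; exact pow_mem (mem_zpowers x) _

end Co

end HP

end Cfsg.Agent.Cit.TwoFK
end

-- part: Cit/TwoFK/Pair
section
/-!
# `|Om(S)| = 2`, equal involutions: N-pairs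

`NPair Om K K' L L' T R R'`: mates `K, K'` over `z` and `L, L'` over `t`, `z ≠ t`, `t ∈ N(K)`, `z ∈ N(L)`,
`T ∈ Syl₂(C(z,t))`, `T ≤ R ∈ Syl₂(C(z))`, `T ≤ R' ∈ Syl₂(C(t))`.
`NPair.dich`: the dichotomy W / SD for the four pairs; `NPair.lemmaG`: LEMMA G of #8942.
-/

set_option autoImplicit false
set_option linter.style.haveILetI false
set_option linter.unusedSectionVars false
set_option linter.unusedVariables false

namespace Cfsg.Agent.Cit.TwoFK

open Subgroup Cfsg Cit OneBasic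

variable {G : Type*} [Group G] [Finite G]

/-- see the head of the file -/
structure NPair (Om : Set (Subgroup G)) (K K' L L' T R R' : Subgroup G) : Prop where
  b : TwoEq Om
  m : Mate Om K K'
  m' : Mate Om L L'
  zne : zz K ≠ zz L
  nK : zz L ∈ normalizer (K : Set G)
  nL : zz K ∈ normalizer (L : Set G)
  hT : Syl T (centralizer {zz K} ⊓ centralizer {zz L})
  hR : Syl R (centralizer {zz K})
  hR' : Syl R' (centralizer {zz L})
  TR : T ≤ R
  TR' : T ≤ R'

section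

variable {Om : Set (Subgroup G)} {K K' L L' T R R' : Subgroup G}

theorem TwoEq.exists_npair (b : TwoEq Om) (hK : K ∈ Om) (hL : L ∈ Om) (zne : zz K ≠ zz L)
    (nK : zz L ∈ normalizer (K : Set G)) (nL : zz K ∈ normalizer (L : Set G)) {A : Subgroup G}
    (hA : IsPGroup 2 A) (hAz : A ≤ centralizer {zz K} ⊓ centralizer {zz L}) :
    ∃ K' L' T R R', NPair Om K K' L L' T R R' ∧ A ≤ T := by
  obtain ⟨K', m, -⟩ := b.exists_mate hK
  obtain ⟨L', m', -⟩ := b.exists_mate hL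
  obtain ⟨T, hT, hAT⟩ := exists_syl_ge hA hAz
  obtain ⟨R, hR, hTR⟩ := exists_syl_ge hT.2.1 (hT.1.trans inf_le_left)
  obtain ⟨R', hR', hTR'⟩ := exists_syl_ge hT.2.1 (hT.1.trans inf_le_right)
  exact ⟨K', L', T, R, R', ⟨b, m, m', zne, nK, nL, hT, hR, hR', hTR, hTR'⟩, hAT⟩

namespace NPair

theorem symm (p : NPair Om K K' L L' T R R') : NPair Om L L' K K' T R' R :=
  ⟨p.b, p.m', p.m, p.zne.symm, p.nL, p.nK, by rw [inf_comm]; exact p.hT, p.hR', p.hR, p.TR', p.TR⟩

theorem mate (p : NPair Om K K' L L' T R R') : NPair Om K' K L L' T R R' :=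
  ⟨p.b, p.m.symm, p.m', by rw [← p.m.zz]; exact p.zne, p.b.mem_normalizer_mate p.m p.nK,
    by rw [← p.m.zz]; exact p.nL, by rw [← p.m.zz]; exact p.hT, by rw [← p.m.zz]; exact p.hR, p.hR', p.TR, p.TR'⟩

theorem comm (p : NPair Om K K' L L' T R R') : zz K * zz L = zz L * zz K :=
  (p.b.hyp.comm_zz p.m.hK p.nK).symm

theorem tp (p : NPair Om K K' L L' T R R') : IsPGroup 2 T := p.hT.2.1

theorem rp (p : NPair Om K K' L L' T R R') : IsPGroup 2 R := p.hR.2.1

theorem tz (p : NPair Om K K' L L' T R R') {a : G} (ha : a ∈ T) : a * zz K = zz K * a :=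
  mem_centralizer_singleton_iff.1 (p.hT.1 ha).1

theorem tt (p : NPair Om K K' L L' T R R') {a : G} (ha : a ∈ T) : a * zz L = zz L * a :=
  mem_centralizer_singleton_iff.1 (p.hT.1 ha).2

/-- `C_R(t) = T` -/
theorem mem_T (p : NPair Om K K' L L' T R R') {a : G} (ha : a ∈ R) (hat : a * zz L = zz L * a) : a ∈ T := by
  have h1 : T = R ⊓ centralizer {zz L} :=
    syl_eq_of_le p.hT (p.rp.to_le inf_le_left) (inf_le_inf_right _ p.hR.1)
      (le_inf p.TR (p.hT.1.trans inf_le_right))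
  rw [h1]
  exact ⟨ha, mem_centralizer_singleton_iff.2 hat⟩

theorem zK_mem (p : NPair Om K K' L L' T R R') : zz K ∈ R := by
  obtain ⟨c, v, n, hc⟩ := p.b.hyp.exists_gq p.m.hK (p.b.syl_inf p.m.hK p.hR)
  exact hc.z_mem.2

theorem zK_T (p : NPair Om K K' L L' T R R') : zz K ∈ T := p.mem_T p.zK_mem p.comm

theorem zL_T (p : NPair Om K K' L L' T R R') : zz L ∈ T := p.symm.zK_T

theorem hQ (p : NPair Om K K' L L' T R R') : Syl (K ⊓ R) K := p.b.syl_inf p.m.hK p.hR

/-- an element of `K` commuting with `t` normalises `L` -/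
theorem mem_normalizer (p : NPair Om K K' L L' T R R') {u : G} (hu : u ∈ K ⊓ R)
    (hut : u * zz L = zz L * u) : u ∈ normalizer (L : Set G) := by
  have hup : IsPGroup 2 (zpowers u) := p.rp.to_le (zpowers_le.2 hu.2)
  by_cases h4 : 4 ≤ orderOf u
  · exact p.b.hyp.h3 K p.m.hK L p.m'.hK u hu.1 hup h4 hut
  · haveI : Fact (Nat.Prime 2) := ⟨Nat.prime_two⟩
    obtain ⟨k, hk⟩ := IsPGroup.iff_card.1 hup
    rw [Nat.card_zpowers] at hk
    have hk2 : k < 2 := by
      by_contra hk2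
      apply h4
      rw [hk]
      calc 4 = 2 ^ 2 := by norm_num
        _ ≤ 2 ^ k := Nat.pow_le_pow_right (by norm_num) (by omega)
    interval_cases k
    · rw [pow_zero, orderOf_eq_one_iff] at hk
      rw [hk]; exact one_mem _
    · rw [p.b.hyp.uniq K p.m.hK u hu.1 (by rw [hk, pow_one])]
      exact p.nL

/-- the part of `T` normalising the members -/
def T0 (_ : NPair Om K K' L L' T R R') : Subgroup G := T ⊓ (normalizer (K : Set G) ⊓ normalizer (L : Set G))

theorem mem_T0 (p : NPair Om K K' L L' T R R') {u : G} (hu : u ∈ K ⊓ R)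
    (hut : u * zz L = zz L * u) : u ∈ T ⊓ (normalizer (K : Set G) ⊓ normalizer (L : Set G)) :=
  ⟨p.mem_T hu.2 hut, le_normalizer hu.1, p.mem_normalizer hu hut⟩

theorem hTQ (p : NPair Om K K' L L' T R R') {a : G} (ha : a ∈ T) (haK : a ∈ normalizer (K : Set G)) :
    a ∈ normalizer ((K ⊓ R : Subgroup G) : Set G) := by
  rw [mem_normalizer_iff_cj, cj_inf, mem_normalizer_iff_cj.1 haK, mem_normalizer_iff_cj.1 (le_normalizer (p.TR ha))]

theorem _root_.Cfsg.Agent.Cit.TwoFK.TwoEq.card_syl (b : TwoEq Om) {Q Q' : Subgroup G} (hK : K ∈ Om)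
    (hL : L ∈ Om) (hQ : Syl Q K) (hQ' : Syl Q' L) : Nat.card Q = Nat.card Q' := by
  obtain ⟨g, hg⟩ := b.cls K hK L hL
  have h2 := hQ.cj g
  rw [hg] at h2
  obtain ⟨k, -, hk⟩ := h2.exists_conj hQ'
  rw [← hk, card_cj, card_cj]

theorem ncQ (p : NPair Om K K' L L' T R R') : ¬ ∀ x ∈ K ⊓ R, zz L * x = x * zz L := fun hc =>
  p.zne (p.b.zz_eq_of_cent p.m.hK p.m'.hK p.hQ hc).symm

/-- the `HPair` of an N-pair -/
theorem hp (p : NPair Om K K' L L' T R R') :
    HP Om K L (T ⊓ (normalizer (K : Set G) ⊓ normalizer (L : Set G))) (K ⊓ R) (L ⊓ R') where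
  hyp := p.b.hyp
  hK := p.m.hK
  hL := p.m'.hK
  zne := p.zne
  comm := p.comm
  hQ := p.hQ
  hQ' := p.symm.hQ
  card := p.b.card_syl p.m.hK p.m'.hK p.hQ p.symm.hQ
  tp := p.tp.to_le inf_le_left
  tK := inf_le_right.trans inf_le_left
  tL := inf_le_right.trans inf_le_right
  hTQ := fun a ha => p.hTQ ha.1 ha.2.1
  hTQ' := fun a ha => p.symm.hTQ ha.1 ha.2.2
  memQ := fun u hu hut => p.mem_T0 hu hut
  memQ' := fun u hu hut => by
    have := p.symm.mem_T0 hu hut
    rwa [inf_comm (normalizer (L : Set G))] at this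
  ncQ := p.ncQ
  ncQ' := p.symm.ncQ

/-- the elements of the two Sylow subgroups commute -/
theorem comm_QQ (p : NPair Om K K' L L' T R R') {a a' : G} (ha : a ∈ K ⊓ R) (ha' : a' ∈ K' ⊓ R) :
    a * a' = a' * a := p.m.comm p.b.hyp p.rp ha.1 ha.2 ha'.1 ha'.2

end NPair

end

/-! ### Moving an element of `Zs` by elements of a member -/

theorem _root_.Cfsg.Agent.Cit.GQ.sq_outZ {Q : Subgroup G} {x y z : G} {n : ℕ} (g : GQ Q x y z n) (i : ℤ) :
    (y * x ^ i) * (y * x ^ i) = z := by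
  calc (y * x ^ i) * (y * x ^ i) = y * (x ^ i * y) * x ^ i := by group
    _ = y * (y * x ^ (-i)) * x ^ i := by rw [g.zpow_v]
    _ = y * y := by group
    _ = z := g.v_sq

variable {Om : Set (Subgroup G)}

/-- type W: `s (y x^i) ∈ Zs` -/
theorem zs_W (h : Hyp Om) {K Q : Subgroup G} (hK : K ∈ Om) (hk : OneF.K1 Om) (hQ : Syl Q K) {x y : G} {n : ℕ}
    (g : GQ Q x y (zz K) n) {s : G} (hs : s ∈ Zs Om) (hsK : s ∈ normalizer (K : Set G)) (hx : s * x = x * s)
    (hy : s * y * s⁻¹ = y * zz K) (i : ℤ) : s * (y * x ^ i) ∈ Zs Om := by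
  obtain ⟨w, hw⟩ : ∃ w, w = x ^ 2 ^ n := ⟨_, rfl⟩
  have hwQ : w ∈ Q := by rw [hw]; exact Q.pow_mem g.c_mem _
  have hsw : s * w = w * s := by rw [hw]; exact ((show Commute s x from hx).pow_right _).eq
  have hww : w * w = zz K := by rw [hw]; exact g.w_sq
  obtain ⟨a, ha⟩ : ∃ a, a = s * w⁻¹ := ⟨_, rfl⟩
  have haw : a * w = s := by rw [ha]; group
  have hswi : s * w⁻¹ = w⁻¹ * s := ((show Commute s w from hsw).inv_right).eq
  have hap : IsPGroup 2 (zpowers a) := by
    rw [ha]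
    exact isP_mul (Zs_isP h hs) (isP_of_mem hQ.2.1 (Q.inv_mem hwQ)) hswi
  have haK : a ∈ normalizer (K : Set G) := by
    rw [ha]; exact mul_mem hsK (inv_mem (le_normalizer (hQ.1 hwQ)))
  have hwy : y * w = w⁻¹ * y := by
    have h1 := g.conj_pow (2 ^ n)
    rwa [← hw] at h1
  have hax : x * a = a * x := by
    rw [ha]
    have h1 : x * w = w * x := by rw [hw]; exact (Commute.self_pow x _).eq
    have h2 : w⁻¹ * x = x * w⁻¹ := ((show Commute w x from h1.symm).inv_left).eq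
    calc x * (s * w⁻¹) = (x * s) * w⁻¹ := by group
      _ = s * (x * w⁻¹) := by rw [← hx]; group
      _ = s * w⁻¹ * x := by rw [← h2]; group
  have hay : y * a = a * y := by
    have h1 : w⁻¹ * y * w = y * zz K := by
      calc w⁻¹ * y * w = (w⁻¹ * y) * w := by group
        _ = y * w * w := by rw [← hwy]
        _ = y * zz K := by rw [mul_assoc, hww]
    have hyz : (zz K) * (zz K) = 1 := h.zz_mul hK
    have hsz : s * zz K * s⁻¹ = zz K := by rw [h.comm_zz hK hsK, mul_inv_cancel_right]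
    have h2 : a * y * a⁻¹ = y := by
      calc a * y * a⁻¹ = s * (w⁻¹ * y * w) * s⁻¹ := by rw [ha]; group
        _ = (s * y * s⁻¹) * (s * zz K * s⁻¹) := by rw [h1]; group
        _ = y * (zz K * zz K) := by rw [hy, hsz, mul_assoc]
        _ = y := by rw [hyz, mul_one]
    rw [mul_inv_eq_iff_eq_mul] at h2
    exact h2.symm
  have hQa : Q ≤ centralizer {a} :=
    g.le_of_mem (mem_centralizer_singleton_iff.2 hax) g.v_mem g.v_not_mem (mem_centralizer_singleton_iff.2 hay)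
  have hA : ∀ b ∈ zpowers a, ∀ q ∈ Q, b * q = q * b := by
    rintro _ ⟨k, rfl⟩ q hq
    exact ((show Commute a q from (mem_centralizer_singleton_iff.1 (hQa hq)).symm).zpow_left k).eq
  have ho : orderOf (w * (y * x ^ i)) = 4 := by
    have h1 : w * (y * x ^ i) = y * x ^ (i - 2 ^ n) := by
      have h2 := g.zpow_v (2 ^ n)
      have h3 : x ^ ((2 : ℤ) ^ n) = w := by
        rw [hw, ← zpow_natCast x (2 ^ n)]; push_cast; rfl
      rw [h3] at h2
      calc w * (y * x ^ i) = (w * y) * x ^ i := by group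
        _ = y * (x ^ (-(2 : ℤ) ^ n) * x ^ i) := by rw [h2, mul_assoc]
        _ = y * x ^ (i - 2 ^ n) := by rw [← zpow_add]; congr 2; ring
    rw [h1]
    exact GQ.orderOf_of_sq (g.sq_outZ _) (h.zz_mul hK) (h.zz_ne hK)
  obtain ⟨k, hkK, hka, hkw⟩ := h.conj_four_rel hK (hk K hK) hQ hap (zpowers_le.2 haK) hA (x := w)
    (y := w * (y * x ^ i)) hwQ (Q.mul_mem hwQ (Q.mul_mem g.v_mem (Q.zpow_mem g.c_mem i)))
    (GQ.orderOf_of_sq hww (h.zz_mul hK) (h.zz_ne hK)) ho
  have hka' := hka a (mem_zpowers a)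
  have h5 : k * s * k⁻¹ = s * (y * x ^ i) := by
    calc k * s * k⁻¹ = (k * a) * w * k⁻¹ := by rw [← haw]; group
      _ = a * (k * w * k⁻¹) := by rw [hka']; group
      _ = (a * w) * (y * x ^ i) := by rw [hkw]; group
      _ = s * (y * x ^ i) := by rw [haw]
  rw [← h5]
  exact Zs_cj h hs k

/-- type SD: `s x^b ∈ Zs` -/
theorem zs_SD (h : Hyp Om) {x y s : G} (hs : s ∈ Zs Om) (hx : s * x * s⁻¹ = x⁻¹) {j : ℤ} (hj : Odd j)
    (hy : s * y * s⁻¹ = y * x ^ j) (b : ℤ) : s * x ^ b ∈ Zs Om := by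
  have h1 : ∀ i : ℤ, x ^ i * s = s * x ^ (-i) := by
    intro i
    have h2 : s * x ^ (-i) * s⁻¹ = x ^ i := by
      rw [← conj_zpow, hx, inv_zpow, zpow_neg, inv_inv]
    rw [mul_inv_eq_iff_eq_mul] at h2
    exact h2.symm
  have h2 : ∀ (c i : ℤ), s * x ^ c ∈ Zs Om → s * x ^ (c + 2 * i) ∈ Zs Om := by
    intro c i hc
    have h3 := Zs_cj' h hc (x ^ i)
    have h4 : (x ^ i)⁻¹ * (s * x ^ c) * x ^ i = s * x ^ (c + 2 * i) := by
      have h5 := h1 (-i)
      rw [neg_neg] at h5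
      calc (x ^ i)⁻¹ * (s * x ^ c) * x ^ i = (x ^ (-i) * s) * x ^ c * x ^ i := by rw [zpow_neg]; group
        _ = s * (x ^ i * x ^ c * x ^ i) := by rw [h5]; group
        _ = s * x ^ (c + 2 * i) := by rw [← zpow_add, ← zpow_add]; congr 2; ring
    rwa [h4] at h3
  rcases Int.even_or_odd b with hb | hb
  · obtain ⟨i, rfl⟩ := hb
    have h3 := h2 0 i (by rw [zpow_zero, mul_one]; exact hs)
    rwa [zero_add, two_mul] at h3
  · have h3 : s * x ^ (-j) ∈ Zs Om := by
      have h4 := Zs_cj' h hs y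
      have h5 : y⁻¹ * s * y = s * x ^ (-j) := by
        calc y⁻¹ * s * y = y⁻¹ * (s * y * s⁻¹) * s := by group
          _ = x ^ j * s := by rw [hy]; group
          _ = s * x ^ (-j) := h1 j
      rwa [h5] at h4
    obtain ⟨c, hc⟩ := hj
    obtain ⟨d, hd⟩ := hb
    have h4 := h2 (-j) (c + d + 1) h3
    have h5 : -j + 2 * (c + d + 1) = b := by rw [hc, hd]; ring
    rwa [h5] at h4

/-- type SD: the action on `y` -/
theorem HP.Co.t_y_SD {K L T Q Q' : Subgroup G} {x y x' y' : G} {n : ℕ} (c : HP.Co Om K L T Q Q' x y x' y' n)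
    (hS : ∀ u ∈ Q, u * zz L = zz L * u → u = 1 ∨ u = zz K) :
    ∃ j : ℤ, Odd j ∧ zz L * y * (zz L)⁻¹ = y * x ^ j := by
  obtain ⟨j, hj⟩ := c.conj_y c.pair.zL_mem
  refine ⟨j, ?_, hj⟩
  by_contra hodd
  rw [Int.not_odd_iff_even] at hodd
  obtain ⟨i, hi⟩ := hodd
  have hx := c.t_inv hS
  have h1 : zz L * x ^ i * (zz L)⁻¹ = x ^ (-i) := by
    rw [← conj_zpow, hx, inv_zpow, zpow_neg]
  have h2 : zz L * (y * x ^ i) * (zz L)⁻¹ = y * x ^ i := by
    calc zz L * (y * x ^ i) * (zz L)⁻¹ = (zz L * y * (zz L)⁻¹) * (zz L * x ^ i * (zz L)⁻¹) := by group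
      _ = y * (x ^ j * x ^ (-i)) := by rw [hj, h1, mul_assoc]
      _ = y * x ^ i := by rw [← zpow_add, hi]; congr 2; ring
  rw [mul_inv_eq_iff_eq_mul] at h2
  rcases hS _ (Q.mul_mem c.gq.v_mem (Q.zpow_mem c.gq.c_mem i)) h2.symm with h3 | h3
  · exact c.gq.vc_not_mem i (by rw [h3]; exact one_mem _)
  · exact c.gq.vc_not_mem i (by rw [h3, ← c.gq.z_eq]; exact pow_mem (mem_zpowers x) _)

/-- the action of `t`, type W -/
def KW (x y x2 y2 z t : G) : Prop :=
  t * x = x * t ∧ t * y * t⁻¹ = y * z ∧ t * x2 = x2 * t ∧ t * y2 * t⁻¹ = y2 * z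

/-- the action of `t`, type SD -/
def KS (x y x2 y2 t : G) : Prop :=
  (t * x * t⁻¹ = x⁻¹ ∧ ∃ j : ℤ, Odd j ∧ t * y * t⁻¹ = y * x ^ j) ∧
  (t * x2 * t⁻¹ = x2⁻¹ ∧ ∃ j : ℤ, Odd j ∧ t * y2 * t⁻¹ = y2 * x2 ^ j)

/-- coordinates of an N-pair on the side of `z` -/
structure NCo (Om : Set (Subgroup G)) (K K' L L' T R R' : Subgroup G) (x y x2 y2 : G) (n : ℕ) : Prop where
  p : NPair Om K K' L L' T R R'
  g : GQ (K ⊓ R) x y (zz K) n
  g2 : GQ (K' ⊓ R) x2 y2 (zz K) n
  inv : ∀ w ∈ T, w ∈ normalizer (K : Set G) → w ∈ normalizer (L : Set G) → w * x * w⁻¹ ∈ zpowers x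
  inv2 : ∀ w ∈ T, w ∈ normalizer (K : Set G) → w ∈ normalizer (L : Set G) → w * x2 * w⁻¹ ∈ zpowers x2
  kind : KW x y x2 y2 (zz K) (zz L) ∧ (∃ u ∈ L ⊓ R', u * zz K = zz K * u ∧ u * u = zz L) ∨
    KS x y x2 y2 (zz L) ∧ ∀ u ∈ L ⊓ R', u * zz K = zz K * u → u = 1 ∨ u = zz L

namespace NPair

variable {K K' L L' T R R' : Subgroup G}

theorem exists_co (p : NPair Om K K' L L' T R R') : ∃ x y x2 y2 n, NCo Om K K' L L' T R R' x y x2 y2 n := by
  obtain ⟨x, y, x', y', n, c⟩ := p.hp.exists_co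
  obtain ⟨x2, y2, x3, y3, n2, c2⟩ := p.mate.hp.exists_co
  have hn : n2 = n := by
    have h1 : Nat.card ↥(K' ⊓ R) = Nat.card ↥(K ⊓ R) := p.b.card_syl p.m.hL p.m.hK p.mate.hQ p.hQ
    rw [c.gq.card, c2.gq.card] at h1
    have := Nat.pow_right_injective (le_refl 2) h1
    omega
  subst hn
  have g2 : GQ (K' ⊓ R) x2 y2 (zz K) n2 := by rw [p.m.zz]; exact c2.gq
  refine ⟨x, y, x2, y2, n2, p, c.gq, g2, fun w hw h1 h2 => c.inv w ⟨hw, h1, h2⟩,
    fun w hw h1 h2 => c2.inv w ⟨hw, p.b.mem_normalizer_mate p.m h1, h2⟩, ?_⟩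
  rcases c.dich with h1 | h1
  · left
    rcases c2.dich with h2 | h2
    · refine ⟨⟨h1.2, c.t_y h1.2, h2.2, ?_⟩, x' ^ 2 ^ n2, Subgroup.pow_mem _ c.gq'.c_mem _,
        ((show Commute x' (zz K) from h1.1.symm).pow_left _).eq, c.gq'.w_sq⟩
      rw [c2.t_y h2.2, p.m.zz]
    · exfalso
      have h3 := h2.2 x' c.gq'.c_mem (by rw [← p.m.zz]; exact h1.1.symm)
      have h4 := c.gq'.ord
      rcases h3 with h3 | h3
      · rw [h3, orderOf_one] at h4
        have : 1 < 2 ^ (n2 + 2) := Nat.one_lt_two_pow (by omega)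
        omega
      · rw [h3, p.b.hyp.orderOf_zz p.m'.hK] at h4
        have : 2 ^ 2 ≤ 2 ^ (n2 + 2) := Nat.pow_le_pow_right (by norm_num) (by omega)
        omega
  · right
    rcases c2.dich with h2 | h2
    · exfalso
      have h3 := h1.2 x3 c2.gq'.c_mem (by rw [p.m.zz]; exact h2.1.symm)
      have h4 := c2.gq'.ord
      rcases h3 with h3 | h3
      · rw [h3, orderOf_one] at h4
        have : 1 < 2 ^ (n2 + 2) := Nat.one_lt_two_pow (by omega)
        omega
      · rw [h3, p.b.hyp.orderOf_zz p.m'.hK] at h4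
        have : 2 ^ 2 ≤ 2 ^ (n2 + 2) := Nat.pow_le_pow_right (by norm_num) (by omega)
        omega
    · exact ⟨⟨⟨c.t_inv h1.1, c.t_y_SD h1.1⟩, ⟨c2.t_inv h2.1, c2.t_y_SD h2.1⟩⟩, h1.2⟩

end NPair

end Cfsg.Agent.Cit.TwoFK
end

private theorem dce_ce49cb5ba39b : _root_.True := by
  try have : _root_.True := by simp only [_root_.Cfsg.Agent.Cit.OneChi.ch.eq_1]
  try have : _root_.True := by simp only [_root_.Cfsg.Agent.Cit.OneChi.chiQ.eq_1]
  try have : _root_.True := by simp only [_root_.Cfsg.Agent.Cit.OneChi.psi.eq_1]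
  exact _root_.True.intro
end

-- part: SignalizersComponents/RelFunctor
section
prune_inst 0x5000130000000018001000001e5292000002004b80000120030206804c4120030621b800071001108864203c8008100000090018000020008600411801a0048266c23240b00021000640e800000000000000000000000000000000000000000000000
set_option linter.all false
open scoped Cfsg.Agent.FastGrp

-- part: SignalizersComponents/RelGen
section
set_option autoImplicit false
set_option linter.unusedSectionVars false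

/-!
Relative version of the generation lemma for coprime action: `B` a noncyclic elementary abelian `p`-group and `Q` a
`p`-group commuting with `B`, both acting on a solvable `p'`-group `Y = ⁅Y, Q⁆`; then `C_Y(B)` is generated by the
subgroups `C_Y(B) ∩ ⁅C_Y(b), Q⁆`, `1 ≠ b ∈ B`.
-/

namespace Cfsg.Agent.SignalizersComponents.RelGen

open Subgroup
open scoped commutatorElement
open Cfsg.Agent.Lib.CoprimeCommutator
open Cfsg.Agent.SignalizersComponents.GoldschmidtGen (le_normalizer_of_conj_mem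
  conj_mem_of_le_normalizer le_normalizer_sup le_normalizer_commutator le_normalizer_inf_centralizer
  sup_commutator_ne)

universe u

/-- The action: `G = Y Q B`. -/
structure Act (p : ℕ) {G : Type u} [Group G] (Y Q B : Subgroup G) : Prop where
  norm : Y.Normal
  top : Y ⊔ Q ⊔ B = ⊤
  pQ : IsPGroup p Q
  el : Cfsg.IsElementaryAbelian p B
  card : p ^ 2 ≤ Nat.card B
  comm : ∀ q ∈ Q, ∀ b ∈ B, q * b = b * q
  solv : Group.IsSolvable Y
  cop : ¬ p ∣ Nat.card Y
  full : Y ≤ ⁅Y, Q⁆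

section defs

variable {G : Type u} [Group G]

/-- `⁅C_Y(b), Q⁆` -/
def UU (Y Q : Subgroup G) (b : G) : Subgroup G := ⁅Y ⊓ centralizer {b}, Q⁆

/-- the group generated by the `⁅C_Y(b), Q⁆` -/
def HH (Y Q B : Subgroup G) : Subgroup G := ⨆ b : {b : G // b ∈ B ∧ b ≠ 1}, UU Y Q b

/-- the group generated by the `C(B) ∩ ⁅C_Y(b), Q⁆` -/
def LL (Y Q B : Subgroup G) : Subgroup G :=
  ⨆ b : {b : G // b ∈ B ∧ b ≠ 1}, centralizer (B : Set G) ⊓ UU Y Q b

theorem UU_le_HH {Y Q B : Subgroup G} {b : G} (hb : b ∈ B) (hb1 : b ≠ 1) : UU Y Q b ≤ HH Y Q B :=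
  le_iSup (fun b : {b : G // b ∈ B ∧ b ≠ 1} => UU Y Q (b : G)) ⟨b, hb, hb1⟩

theorem inf_UU_le_LL {Y Q B : Subgroup G} {b : G} (hb : b ∈ B) (hb1 : b ≠ 1) :
    centralizer (B : Set G) ⊓ UU Y Q b ≤ LL Y Q B :=
  le_iSup (fun b : {b : G // b ∈ B ∧ b ≠ 1} => centralizer (B : Set G) ⊓ UU Y Q (b : G)) ⟨b, hb, hb1⟩

theorem LL_le_centralizer {Y Q B : Subgroup G} : LL Y Q B ≤ centralizer (B : Set G) :=
  iSup_le fun _ => inf_le_left

theorem mem_cent_singleton {a x : G} : x ∈ centralizer ({a} : Set G) ↔ a * x = x * a := by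
  rw [Subgroup.mem_centralizer_iff]
  exact ⟨fun h => h a rfl, fun h => by rintro _ rfl; exact h⟩

theorem cent_le_cent_singleton {B : Subgroup G} {b : G} (hb : b ∈ B) :
    centralizer (B : Set G) ≤ centralizer {b} := fun _ hx =>
  mem_cent_singleton.2 (mem_centralizer_iff.1 hx b hb)

end defs

namespace Act

variable {p : ℕ} [hp : Fact p.Prime] {G : Type u} [Group G] [Finite G] {Y Q B : Subgroup G}
  (h : Act p Y Q B)

include h

theorem pB : IsPGroup p B := CoprimeGen.isPGroup_of_isElementaryAbelian h.el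

theorem commB : ∀ a ∈ B, ∀ b ∈ B, a * b = b * a := CoprimeGen.comm_of_isElementaryAbelian h.el

theorem le_normY (X : Subgroup G) : X ≤ normalizer (Y : Set G) := by
  have := h.norm
  rw [Subgroup.normalizer_eq_top]
  exact le_top

/-- A subgroup normalised by `Y`, `Q` and `B` is normal. -/
theorem normal_of {X : Subgroup G} (hY : Y ≤ normalizer (X : Set G)) (hQ : Q ≤ normalizer (X : Set G))
    (hB : B ≤ normalizer (X : Set G)) : X.Normal := by
  rw [← Subgroup.normalizer_eq_top_iff, eq_top_iff, ← h.top]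
  exact sup_le (sup_le hY hQ) hB

theorem copP {P X : Subgroup G} (hP : IsPGroup p P) (hX : X ≤ Y) :
    (Nat.card P).Coprime (Nat.card X) := by
  obtain ⟨k, hk⟩ := hP.exists_card_eq
  rw [hk]
  apply Nat.Coprime.pow_left
  rw [hp.out.coprime_iff_not_dvd]
  exact fun hd => h.cop (hd.trans (card_dvd_of_le hX))

theorem not_dvd {X : Subgroup G} (hX : X ≤ Y) : ¬ p ∣ Nat.card X :=
  fun hd => h.cop (hd.trans (card_dvd_of_le hX))

theorem UU_le (b : G) : UU Y Q b ≤ Y :=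
  (commutator_mono inf_le_left le_rfl).trans (_root_.Cfsg.Agent.Lib.CoprimeCommutator.commutator_le_left (h.le_normY Q))

theorem UU_le_cent {b : G} (hb : b ∈ B) : UU Y Q b ≤ Y ⊓ centralizer {b} :=
  _root_.Cfsg.Agent.Lib.CoprimeCommutator.commutator_le_left (by
    refine le_normalizer_of_conj_mem fun q hq x hx => ⟨conj_mem_of_le_normalizer (h.le_normY Q) hq hx.1, ?_⟩
    have h1 := mem_cent_singleton.1 hx.2
    have h2 := h.comm q hq b hb
    refine mem_cent_singleton.2 ?_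
    calc b * (q * x * q⁻¹) = (q * b) * x * q⁻¹ := by rw [h2]; group
      _ = q * (b * x) * q⁻¹ := by group
      _ = q * x * (q⁻¹ * (q * b) * q⁻¹) := by rw [h1]; group
      _ = q * x * q⁻¹ * b := by rw [h2]; group)


/-! ### Quotients -/

theorem inf_eq_bot {N : Subgroup G} (hNY : N ≤ Y) : B ⊓ N = ⊥ :=
  MinCounterBasic.inf_eq_bot_of_coprime (h.copP h.pB hNY)

theorem map {N : Subgroup G} [hN : N.Normal] (hNY : N ≤ Y) :
    Act p (Y.map (QuotientGroup.mk' N)) (Q.map (QuotientGroup.mk' N)) (B.map (QuotientGroup.mk' N)) where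
  norm := h.norm.map _ (QuotientGroup.mk'_surjective N)
  top := by
    rw [← Subgroup.map_sup, ← Subgroup.map_sup, h.top,
      Subgroup.map_top_of_surjective _ (QuotientGroup.mk'_surjective N)]
  pQ := h.pQ.map _
  el := by
    refine ⟨⟨⟨?_⟩⟩, ?_⟩
    · rintro ⟨_, x, hx, rfl⟩ ⟨_, y, hy, rfl⟩
      apply Subtype.ext
      show QuotientGroup.mk' N x * QuotientGroup.mk' N y = QuotientGroup.mk' N y * QuotientGroup.mk' N x
      rw [← map_mul, ← map_mul, h.commB x hx y hy]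
    · rintro _ ⟨x, hx, rfl⟩
      rw [← map_pow, h.el.2 x hx, map_one]
  card := by
    have hinj : Function.Injective ((QuotientGroup.mk' N).comp B.subtype) := by
      rw [injective_iff_map_eq_one]
      rintro ⟨x, hx⟩ hx1
      have h1 : x ∈ N := (QuotientGroup.eq_one_iff _).mp hx1
      have h2 : x ∈ B ⊓ N := ⟨hx, h1⟩
      rw [h.inf_eq_bot hNY, mem_bot] at h2
      exact Subtype.ext h2
    have h1 : Nat.card B = Nat.card (B.map (QuotientGroup.mk' N)) := by
      have h2 : B.map (QuotientGroup.mk' N) = ((QuotientGroup.mk' N).comp B.subtype).range := by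
        rw [MonoidHom.range_comp, Subgroup.range_subtype]
      rw [h2]
      exact Nat.card_congr (MonoidHom.ofInjective hinj).toEquiv
    rw [← h1]
    exact h.card
  comm := by
    rintro _ ⟨x, hx, rfl⟩ _ ⟨y, hy, rfl⟩
    rw [← map_mul, ← map_mul, h.comm x hx y hy]
  solv := by
    have := h.solv
    exact Group.isSolvable_of_surjective ((QuotientGroup.mk' N).subgroupMap_surjective Y)
  cop := fun hd => h.cop (hd.trans (Subgroup.card_dvd_of_surjective _
    ((QuotientGroup.mk' N).subgroupMap_surjective Y)))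
  full := by
    rw [← Subgroup.map_commutator]
    exact Subgroup.map_mono h.full

theorem map_cent_le {N : Subgroup G} [hN : N.Normal] {b : G} (hb : b ∈ B) :
    Y.map (QuotientGroup.mk' N) ⊓ centralizer {(QuotientGroup.mk' N b)} ≤
      (Y ⊓ centralizer {b}).map (QuotientGroup.mk' N) := by
  have h1 := CoprimeFix.map_inf_centralizer_le (p := p) (zpowers b)
    (h.pB.to_le (by rwa [zpowers_le])) Y h.cop
    (fun c _ v hv => h.norm.conj_mem v hv c) N
  rwa [MonoidHom.map_zpowers, CoprimeGen.centralizer_zpowers, CoprimeGen.centralizer_zpowers] at h1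

theorem UU_map_le {N : Subgroup G} [hN : N.Normal] {b : G} (hb : b ∈ B) :
    UU (Y.map (QuotientGroup.mk' N)) (Q.map (QuotientGroup.mk' N)) (QuotientGroup.mk' N b) ≤
      (UU Y Q b).map (QuotientGroup.mk' N) := by
  rw [UU, UU, Subgroup.map_commutator]
  exact commutator_mono (h.map_cent_le hb) le_rfl

theorem UU_conj {b : G} (hb : b ∈ B) {c : G} (hc : c ∈ B) {x : G} (hx : x ∈ UU Y Q b) :
    c * x * c⁻¹ ∈ UU Y Q b := by
  have h1 : B ≤ normalizer ((Y ⊓ centralizer {b} : Subgroup G) : Set G) := by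
    refine le_normalizer_of_conj_mem fun a ha x hx => ⟨conj_mem_of_le_normalizer (h.le_normY B) ha hx.1, ?_⟩
    have h1 := mem_cent_singleton.1 hx.2
    have h2 := h.commB a ha b hb
    refine mem_cent_singleton.2 ?_
    calc b * (a * x * a⁻¹) = (b * a) * x * a⁻¹ := by group
      _ = a * (b * x) * a⁻¹ := by rw [← h2]; group
      _ = a * x * (a⁻¹ * (a * b) * a⁻¹) := by rw [h1]; group
      _ = a * x * a⁻¹ * b := by rw [h2]; group
  have h2 : UU Y Q b ≤ (UU Y Q b).comap (MulAut.conj c).toMonoidHom := by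
    rw [UU, commutator_le]
    intro y hy q hq
    show c * ⁅y, q⁆ * c⁻¹ ∈ UU Y Q b
    have h3 : c * ⁅y, q⁆ * c⁻¹ = ⁅c * y * c⁻¹, c * q * c⁻¹⁆ := by
      simp only [commutatorElement_def]; group
    have h4 : c * q * c⁻¹ = q := by rw [← h.comm q hq c hc]; group
    rw [h3, h4]
    exact commutator_mem_commutator (conj_mem_of_le_normalizer h1 hc hy) hq
  exact h2 hx

theorem HH_map_le {N : Subgroup G} [hN : N.Normal] :
    HH (Y.map (QuotientGroup.mk' N)) (Q.map (QuotientGroup.mk' N)) (B.map (QuotientGroup.mk' N)) ≤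
      (HH Y Q B).map (QuotientGroup.mk' N) := by
  refine iSup_le ?_
  rintro ⟨_, ⟨b, hb, rfl⟩, hb1⟩
  have hb1' : b ≠ 1 := by
    rintro rfl
    exact hb1 (map_one _)
  exact (h.UU_map_le hb).trans (Subgroup.map_mono (UU_le_HH hb hb1'))

theorem LL_map_le {N : Subgroup G} [hN : N.Normal] :
    LL (Y.map (QuotientGroup.mk' N)) (Q.map (QuotientGroup.mk' N)) (B.map (QuotientGroup.mk' N)) ≤
      (LL Y Q B).map (QuotientGroup.mk' N) := by
  refine iSup_le ?_
  rintro ⟨_, ⟨b, hb, rfl⟩, hb1⟩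
  have hb1' : b ≠ 1 := by
    rintro rfl
    exact hb1 (map_one _)
  refine le_trans ?_ (Subgroup.map_mono (inf_UU_le_LL (Y := Y) (Q := Q) hb hb1'))
  refine le_trans (inf_le_inf_left _ (h.UU_map_le hb)) ?_
  rw [inf_comm, inf_comm (centralizer (B : Set G))]
  exact CoprimeFix.map_inf_centralizer_le (p := p) B h.pB (UU Y Q b) (h.not_dvd (h.UU_le b))
    (fun c hc v hv => h.UU_conj hb hc hv) N


end Act

/-! ### Minimal normal subgroups -/

section minimal

variable {G : Type u} [Group G] [Finite G]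

theorem exists_min {Z X : Subgroup G} (hX : X.Normal) (hZX : Z < X) :
    ∃ V : Subgroup G, V.Normal ∧ Z < V ∧ V ≤ X ∧
      ∀ W : Subgroup G, W.Normal → Z < W → W ≤ V → W = V := by
  obtain ⟨V, hVmin⟩ :=
    (Set.toFinite {V : Subgroup G | V.Normal ∧ Z < V ∧ V ≤ X}).exists_minimal ⟨X, hX, hZX, le_rfl⟩
  obtain ⟨hV1, hV2, hV3⟩ := hVmin.1
  exact ⟨V, hV1, hV2, hV3, fun W h1 h2 h3 => le_antisymm h3 (hVmin.2 ⟨h1, h2, h3.trans hV3⟩ h3)⟩

theorem comm_le_of_min {Y Z V : Subgroup G} (hYs : Group.IsSolvable Y) (hZ : Z.Normal) (hV : V.Normal)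
    (hZV : Z < V) (hVY : V ≤ Y)
    (hmin : ∀ W : Subgroup G, W.Normal → Z < W → W ≤ V → W = V) : ⁅V, V⁆ ≤ Z := by
  by_contra hcon
  have hVs : Group.IsSolvable V :=
    Group.isSolvable_of_isSolvable_injective (f := inclusion hVY) (inclusion_injective hVY)
  have h1 : Z < Z ⊔ ⁅V, V⁆ := lt_of_le_of_ne le_sup_left fun h => hcon (h ▸ le_sup_right)
  have h2 : Z ⊔ ⁅V, V⁆ ≤ V := sup_le hZV.le (_root_.Subgroup.commutator_le_left V V)
  exact sup_commutator_ne hVs hZV.le hZV.ne (le_normalizer_of_conj_mem fun x _ v hv => hZ.conj_mem v hv x)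
    (hmin _ inferInstance h1 h2)

theorem card_map_lt {Y N : Subgroup G} [hN : N.Normal] (hNY : N ≤ Y) (hN1 : N ≠ ⊥) :
    Nat.card (Y.map (QuotientGroup.mk' N)) < Nat.card Y := by
  by_contra hcon
  have hinj := (((QuotientGroup.mk' N).subgroupMap_surjective Y).bijective_of_nat_card_le
    (not_lt.1 hcon)).1
  obtain ⟨x, hx, hx1⟩ := N.bot_or_exists_ne_one.resolve_left hN1
  apply hx1
  have h1 : (QuotientGroup.mk' N).subgroupMap Y ⟨x, hNY hx⟩ = (QuotientGroup.mk' N).subgroupMap Y 1 := by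
    apply Subtype.ext
    show QuotientGroup.mk' N x = QuotientGroup.mk' N 1
    rw [map_one]
    exact (QuotientGroup.eq_one_iff _).mpr hx
  exact congrArg Subtype.val (hinj h1)

theorem le_sup_of_map_le {X W N : Subgroup G} [hN : N.Normal]
    (h : X.map (QuotientGroup.mk' N) ≤ W.map (QuotientGroup.mk' N)) : X ≤ W ⊔ N := by
  rw [Subgroup.map_le_map_iff, QuotientGroup.ker_mk'] at h
  exact h

theorem comm_eq_of_bot {V : Subgroup G} (h : ⁅V, V⁆ = ⊥) : ∀ x ∈ V, ∀ y ∈ V, x * y = y * x := by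
  intro x hx y hy
  have h1 := (commutator_eq_bot_iff_le_centralizer).1 h hx
  exact ((mem_centralizer_iff.1 h1) y hy).symm

end minimal

/-! ### Generation -/

namespace Act

theorem HH_aux {p : ℕ} [hp : Fact p.Prime] (n : ℕ) : ∀ {G : Type u} [Group G] [Finite G]
    {Y Q B : Subgroup G}, Act p Y Q B → Nat.card Y = n → Y ≤ HH Y Q B := by
  induction n using Nat.strong_induction_on with
  | _ n ih =>
  intro G _ _ Y Q B h hn
  by_cases hY1 : Y = ⊥
  · rw [hY1]; exact bot_le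
  have hYn := h.norm
  obtain ⟨V, hVn, hV1, hVY, hmin⟩ := exists_min hYn (bot_lt_iff_ne_bot.2 hY1)
  have hV1' : V ≠ ⊥ := hV1.ne'
  have hVV : ⁅V, V⁆ = ⊥ := le_bot_iff.1 (comm_le_of_min h.solv inferInstance hVn hV1 hVY hmin)
  have hVc := comm_eq_of_bot hVV
  have ih1 := ih _ (hn ▸ card_map_lt hVY hV1') (h.map hVY) rfl
  have hYH : Y ≤ HH Y Q B ⊔ V := le_sup_of_map_le (ih1.trans h.HH_map_le)
  set H : Subgroup G := HH Y Q B with hH
  have hHY : H ≤ Y := iSup_le fun b => h.UU_le b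
  have hQH : Q ≤ normalizer (H : Set G) := by
    apply le_normalizer_of_conj_mem
    intro q hq
    have h1 : H ≤ H.comap (MulAut.conj q).toMonoidHom := by
      conv_lhs => rw [hH]
      refine iSup_le fun b x hx => ?_
      exact UU_le_HH b.2.1 b.2.2
        (conj_mem_of_le_normalizer (right_le_normalizer_commutator _ Q) hq hx)
    exact fun x hx => h1 hx
  have hBH : B ≤ normalizer (H : Set G) := by
    apply le_normalizer_of_conj_mem
    intro c hc
    have h1 : H ≤ H.comap (MulAut.conj c).toMonoidHom := by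
      conv_lhs => rw [hH]
      refine iSup_le fun b x hx => ?_
      exact UU_le_HH b.2.1 b.2.2 (h.UU_conj b.2.1 hc hx)
    exact fun x hx => h1 hx
  have hnV : ∀ X : Subgroup G, X ≤ normalizer (V : Set G) := fun X =>
    le_normalizer_of_conj_mem fun x _ v hv => hVn.conj_mem v hv x
  have hVH : (V ⊓ H).Normal := by
    refine h.normal_of (hYH.trans (sup_le ?_ ?_)) ?_ ?_
    · exact le_normalizer_of_conj_mem fun x hx v hv => ⟨hVn.conj_mem v hv.1 x,
        H.mul_mem (H.mul_mem hx hv.2) (H.inv_mem hx)⟩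
    · exact le_normalizer_of_conj_mem fun x hx v hv => by
        rw [hVc x hx v hv.1, mul_inv_cancel_right]; exact hv
    · exact le_normalizer_of_conj_mem fun x hx v hv => ⟨hVn.conj_mem v hv.1 x,
        conj_mem_of_le_normalizer hQH hx hv.2⟩
    · exact le_normalizer_of_conj_mem fun x hx v hv => ⟨hVn.conj_mem v hv.1 x,
        conj_mem_of_le_normalizer hBH hx hv.2⟩
  by_cases hVHb : V ⊓ H = ⊥
  · -- `Q` centralises `V`
    have hVQ : ⁅V, Q⁆ = ⊥ := by
      rw [← le_bot_iff, ← hVHb]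
      refine le_inf (_root_.Cfsg.Agent.Lib.CoprimeCommutator.commutator_le_left (hnV Q)) ?_
      let X : Subgroup G :=
        { carrier := {v | v ∈ V ∧ ∀ q ∈ Q, ⁅v, q⁆ ∈ H}
          one_mem' := ⟨one_mem _, fun q _ => by simp⟩
          mul_mem' := by
            rintro x y ⟨hx, hx'⟩ ⟨hy, hy'⟩
            refine ⟨mul_mem hx hy, fun q hq => ?_⟩
            have h1 : ⁅x * y, q⁆ = x * ⁅y, q⁆ * x⁻¹ * ⁅x, q⁆ := by
              simp only [commutatorElement_def]; group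
            have h2 : ⁅y, q⁆ ∈ V := _root_.Cfsg.Agent.Lib.CoprimeCommutator.commutator_le_left (hnV Q) (commutator_mem_commutator hy hq)
            rw [h1, hVc x hx _ h2, mul_inv_cancel_right]
            exact mul_mem (hy' q hq) (hx' q hq)
          inv_mem' := by
            rintro x ⟨hx, hx'⟩
            refine ⟨inv_mem hx, fun q hq => ?_⟩
            have h1 : ⁅x⁻¹, q⁆ = x⁻¹ * ⁅x, q⁆⁻¹ * x⁻¹⁻¹ := by
              simp only [commutatorElement_def]; group
            have h2 : ⁅x, q⁆⁻¹ ∈ V :=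
              inv_mem (_root_.Cfsg.Agent.Lib.CoprimeCommutator.commutator_le_left (hnV Q) (commutator_mem_commutator hx hq))
            rw [h1, hVc _ (inv_mem hx) _ h2, mul_inv_cancel_right]
            exact inv_mem (hx' q hq) }
      have hVX : V ≤ X := by
        refine (CoprimeGen.le_iSup_centralizer_ne_one (Z := V) h.el h.card (h.not_dvd hVY) (hnV B)).trans
          (iSup_le fun b => ?_)
        rintro v ⟨hv, hvb⟩
        refine ⟨hv, fun q hq => UU_le_HH b.2.1 b.2.2 (commutator_mem_commutator ⟨hVY hv, hvb⟩ hq)⟩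
      rw [commutator_le]
      exact fun v hv q hq => (hVX hv).2 q hq
    refine h.full.trans ?_
    rw [commutator_le]
    intro y hy q hq
    obtain ⟨x, hx, v, hv, rfl⟩ :=
      (CoprimeBasic.mem_sup_iff (X := V) (Y := H) (hnV H) y).mp (by rw [sup_comm]; exact hYH hy)
    -- `y = x v` with `x ∈ V`, `v ∈ H`
    have h1 : ⁅x * v, q⁆ = x * ⁅v, q⁆ * x⁻¹ * ⁅x, q⁆ := by
      simp only [commutatorElement_def]; group
    have h2 : ⁅x, q⁆ = 1 := by
      have : ⁅x, q⁆ ∈ ⁅V, Q⁆ := commutator_mem_commutator hx hq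
      rwa [hVQ, mem_bot] at this
    -- `Y` centralises `V`
    have h3 : ⁅⁅Y, Q⁆, V⁆ = ⊥ := by
      apply commutator_commutator_eq_bot_of_rotate
      · rw [commutator_comm Q V, hVQ, commutator_bot_left]
      · rw [← le_bot_iff, ← hVQ]
        exact commutator_mono (_root_.Cfsg.Agent.Lib.CoprimeCommutator.commutator_le_left (hnV Y)) le_rfl
    have h4 : ⁅v, q⁆ ∈ Y := _root_.Cfsg.Agent.Lib.CoprimeCommutator.commutator_le_left (h.le_normY Q) (commutator_mem_commutator (hHY hv) hq)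
    have h5 : x * ⁅v, q⁆ = ⁅v, q⁆ * x := by
      have h6 := (commutator_eq_bot_iff_le_centralizer).1 h3 (h.full h4)
      exact mem_centralizer_iff.1 h6 x hx
    rw [h1, h2, mul_one, h5, mul_inv_cancel_right, commutatorElement_def]
    have h6 : v * q * v⁻¹ * q⁻¹ = v * (q * v⁻¹ * q⁻¹) := by group
    rw [h6]
    exact mul_mem hv (conj_mem_of_le_normalizer hQH hq (inv_mem hv))
  · have h1 : V ⊓ H = V := hmin _ hVH (bot_lt_iff_ne_bot.2 hVHb) inf_le_left
    exact hYH.trans (sup_le le_rfl (inf_eq_left.1 h1))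

section

variable {p : ℕ} [hp : Fact p.Prime] {G : Type u} [Group G] [Finite G] {Y Q B : Subgroup G}
  (h : Act p Y Q B)

include h

theorem le_HH : Y ≤ HH Y Q B := HH_aux _ h rfl

theorem comm_V {V : Subgroup G} (hVn : V.Normal) (hVY : V ≤ Y) (hVV : ⁅V, V⁆ = ⊥) :
    ⁅V, Y⁆ ⊓ centralizer (B : Set G) ≤ LL Y Q B := by
  have hVc := comm_eq_of_bot hVV
  have hnV : ∀ X : Subgroup G, X ≤ normalizer (V : Set G) := fun X =>
    le_normalizer_of_conj_mem fun x _ v hv => hVn.conj_mem v hv x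
  set L : Subgroup G := LL Y Q B with hL
  have hVB : ⁅V, B⁆ ≤ V := _root_.Cfsg.Agent.Lib.CoprimeCommutator.commutator_le_left (hnV B)
  set S : Subgroup G := (L ⊓ V) ⊔ ⁅V, B⁆ with hS
  have hSV : S ≤ V := sup_le inf_le_right hVB
  have key : ∀ b ∈ B, b ≠ 1 → ∀ u ∈ UU Y Q b, ∀ v ∈ V, ⁅u, v⁆ ∈ S := by
    intro b hb hb1 u hu v hv
    have hzB : zpowers b ≤ B := by rwa [zpowers_le]
    obtain ⟨m, hm, c, hc, rfl⟩ := exists_commutator_mul_fixed_of_isPGroup p (zpowers b) V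
      (h.pB.to_le hzB) (hnV _) (h.not_dvd hVY) v hv
    have hmV : m ∈ V := _root_.Cfsg.Agent.Lib.CoprimeCommutator.commutator_le_left (hnV _) hm
    have hcb : c ∈ centralizer {b} := by rw [← CoprimeGen.centralizer_zpowers]; exact hc.2
    have hmB : ⁅V, zpowers b⁆ ≤ ⁅V, B⁆ := commutator_mono le_rfl hzB
    have h1 : ⁅u, m * c⁆ = ⁅u, m⁆ * (m * ⁅u, c⁆ * m⁻¹) := by
      simp only [commutatorElement_def]; group
    have hucV : ⁅u, c⁆ ∈ V := by
      rw [commutatorElement_def]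
      exact V.mul_mem (hVn.conj_mem c hc.1 u) (V.inv_mem hc.1)
    rw [h1, hVc m hmV _ hucV, mul_inv_cancel_right]
    refine mul_mem ?_ ?_
    · -- `⁅u, m⁆ ∈ ⁅V, b⁆`
      have h2 : UU Y Q b ≤ normalizer ((⁅V, zpowers b⁆ : Subgroup G) : Set G) := by
        refine le_normalizer_commutator (hnV _) fun a ha c hc => ?_
        have h3 : a ∈ centralizer ((zpowers b : Subgroup G) : Set G) := by
          rw [CoprimeGen.centralizer_zpowers]
          exact (h.UU_le_cent hb ha).2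
        exact (mem_centralizer_iff.1 h3 c hc).symm
      refine mem_sup_right (hmB ?_)
      rw [commutatorElement_def]
      exact mul_mem (conj_mem_of_le_normalizer h2 hu hm) (inv_mem hm)
    · -- `⁅u, c⁆ ∈ V ∩ UU b`
      have h2 : ⁅u, c⁆ ∈ V ⊓ UU Y Q b := by
        refine ⟨hucV, ?_⟩
        have h3 : Y ⊓ centralizer {b} ≤ normalizer ((UU Y Q b : Subgroup G) : Set G) :=
          left_le_normalizer_commutator _ _
        rw [commutatorElement_def]
        have h4 : u * c * u⁻¹ * c⁻¹ = u * (c * u⁻¹ * c⁻¹) := by group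
        rw [h4]
        exact mul_mem hu (conj_mem_of_le_normalizer h3 ⟨hVY hc.1, hcb⟩ (inv_mem hu))
      have hnW : B ≤ normalizer ((V ⊓ UU Y Q b : Subgroup G) : Set G) :=
        le_normalizer_of_conj_mem fun x hx v hv => ⟨hVn.conj_mem v hv.1 x, h.UU_conj hb hx hv.2⟩
      obtain ⟨m', hm', c', hc', hmc⟩ := exists_commutator_mul_fixed_of_isPGroup p B (V ⊓ UU Y Q b)
        h.pB hnW (h.not_dvd (inf_le_left.trans hVY)) _ h2
      rw [hmc]
      refine mul_mem (mem_sup_right (commutator_mono inf_le_left le_rfl hm')) (mem_sup_left ?_)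
      exact ⟨inf_UU_le_LL hb hb1 ⟨hc'.2, hc'.1.2⟩, hc'.1.1⟩
  have hact : ∀ b ∈ B, b ≠ 1 → UU Y Q b ≤ CoprimeGen.actTriv S V := by
    intro b hb hb1 u hu
    refine ⟨?_, hnV (UU Y Q b) hu, fun v hv => key b hb hb1 u hu v hv⟩
    have h1 : UU Y Q b ≤ normalizer (S : Set G) := by
      refine le_normalizer_of_conj_mem fun u hu s hs => ?_
      have h2 : u * s * u⁻¹ = ⁅u, s⁆ * s := by simp only [commutatorElement_def]; group
      rw [h2]
      exact mul_mem (key b hb hb1 u hu s (hSV hs)) hs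
    exact h1 hu
  have hYact : Y ≤ CoprimeGen.actTriv S V :=
    h.le_HH.trans (iSup_le fun b => hact b b.2.1 b.2.2)
  have hVYS : ⁅V, Y⁆ ≤ S := by
    rw [commutator_le]
    intro v hv y hy
    rw [← commutatorElement_inv]
    exact inv_mem ((hYact hy).2.2 v hv)
  rintro x ⟨hx, hxB⟩
  have hxS := hVYS hx
  have hcS : ∀ {X X' : Subgroup G}, X ≤ V → X' ≤ V → X ≤ normalizer (X' : Set G) := by
    intro X X' hX hX'
    refine le_normalizer_of_conj_mem fun a ha x hx => ?_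
    rw [hVc a (hX ha) x (hX' hx), mul_inv_cancel_right]
    exact hx
  obtain ⟨l, hl, m, hm, rfl⟩ := (CoprimeBasic.mem_sup_iff (X := L ⊓ V) (Y := ⁅V, B⁆)
    (hcS hVB inf_le_right) x).mp hxS
  have hlB : l ∈ centralizer (B : Set G) := LL_le_centralizer hl.1
  have hmB : m ∈ centralizer (B : Set G) := by
    have := (centralizer (B : Set G)).mul_mem ((centralizer (B : Set G)).inv_mem hlB) hxB
    simpa using this
  have h1 : m ∈ (V ⊓ centralizer (B : Set G)) ⊓ ⁅V, B⁆ := ⟨⟨hVB hm, hmB⟩, hm⟩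
  rw [Cfsg.Agent.Lib.CoprimeAbelian.inf_commutator_eq_bot B V hVc (hnV B) (h.copP h.pB hVY),
    mem_bot] at h1
  rw [h1, mul_one]
  exact hl.1


theorem exists_b : ∃ b ∈ B, b ≠ 1 := by
  have h1 : B ≠ ⊥ := CoprimeGen.ne_bot_of_pow_le two_ne_zero h.card
  obtain ⟨b, hb, hb1⟩ := B.bot_or_exists_ne_one.resolve_left h1
  exact ⟨b, hb, hb1⟩

theorem of_sup {V : Subgroup G} (hVn : V.Normal)
    (h1 : Y ⊓ centralizer (B : Set G) ≤ LL Y Q B ⊔ V) (h2 : V ⊓ centralizer (B : Set G) ≤ LL Y Q B) :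
    Y ⊓ centralizer (B : Set G) ≤ LL Y Q B := by
  intro x hx
  obtain ⟨v, hv, l, hl, rfl⟩ := (CoprimeBasic.mem_sup_iff (X := V) (Y := LL Y Q B)
    (le_normalizer_of_conj_mem fun x _ v hv => hVn.conj_mem v hv x) x).mp (by rw [sup_comm]; exact h1 hx)
  refine mul_mem (h2 ⟨hv, ?_⟩) hl
  have := (centralizer (B : Set G)).mul_mem hx.2 ((centralizer (B : Set G)).inv_mem (LL_le_centralizer hl))
  simpa using this

/-- A subgroup centralised by `Y`, `Q` and `B` is centralised by everything. -/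
theorem le_center {V : Subgroup G} (h1 : ⁅V, Y⁆ = ⊥) (h2 : ⁅V, Q⁆ = ⊥) (h3 : ⁅V, B⁆ = ⊥) :
    V ≤ center G := by
  rw [commutator_comm, commutator_eq_bot_iff_le_centralizer] at h1 h2 h3
  have h4 : (⊤ : Subgroup G) ≤ centralizer (V : Set G) := by
    rw [← h.top]; exact sup_le (sup_le h1 h2) h3
  intro v hv
  rw [mem_center_iff]
  intro g
  exact (mem_centralizer_iff.1 (h4 (mem_top g)) v hv).symm

omit h in
theorem normal_of_le_center {V : Subgroup G} (h1 : V ≤ center G) : V.Normal where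
  conj_mem v hv g := by
    rw [(mem_center_iff.1 (h1 hv)) g, mul_inv_cancel_right]
    exact hv

/-- Commutators with `Q` and `B` of a normal subgroup centralised by `Y` are normal. -/
theorem normal_comm {V X : Subgroup G} (_hVn : V.Normal) (h1 : ⁅V, Y⁆ = ⊥) (hX : X ≤ V)
    (hQ : Q ≤ normalizer (X : Set G)) (hB : B ≤ normalizer (X : Set G)) : X.Normal := by
  refine h.normal_of ?_ hQ hB
  rw [commutator_comm, commutator_eq_bot_iff_le_centralizer] at h1
  refine le_normalizer_of_conj_mem fun y hy x hx => ?_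
  rw [← mem_centralizer_iff.1 (h1 hy) x (hX hx), mul_inv_cancel_right]
  exact hx

theorem min_central (hcon : ¬ Y ⊓ centralizer (B : Set G) ≤ LL Y Q B)
    (hg : ∀ N : Subgroup G, N.Normal → N ≤ Y → N ≠ ⊥ → Y ⊓ centralizer (B : Set G) ≤ LL Y Q B ⊔ N)
    {V : Subgroup G} (hVn : V.Normal) (hV1 : ⊥ < V) (hVY : V ≤ Y)
    (hmin : ∀ W : Subgroup G, W.Normal → ⊥ < W → W ≤ V → W = V) :
    V ≤ center G ∧ V ⊓ LL Y Q B = ⊥ := by
  have hV1' : V ≠ ⊥ := hV1.ne'
  have hVV : ⁅V, V⁆ = ⊥ := le_bot_iff.1 (comm_le_of_min h.solv inferInstance hVn hV1 hVY hmin)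
  have hnV : ∀ X : Subgroup G, X ≤ normalizer (V : Set G) := fun X =>
    le_normalizer_of_conj_mem fun x _ v hv => hVn.conj_mem v hv x
  have hYn := h.norm
  have hno : ¬ V ⊓ centralizer (B : Set G) ≤ LL Y Q B := fun h2 => hcon (h.of_sup hVn (hg V hVn hVY hV1') h2)
  have hVYb : ⁅V, Y⁆ = ⊥ := by
    by_contra hne
    have h1 : ⁅V, Y⁆ = V := hmin _ inferInstance (bot_lt_iff_ne_bot.2 hne) (_root_.Cfsg.Agent.Lib.CoprimeCommutator.commutator_le_left (hnV Y))
    have h2 := h.comm_V hVn hVY hVV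
    rw [h1] at h2
    exact hno h2
  have hVB : V ≤ centralizer (B : Set G) := by
    have h1 : (V ⊓ centralizer (B : Set G)).Normal := by
      refine h.normal_comm hVn hVYb inf_le_left ?_ ?_
      · exact le_normalizer_inf_centralizer (hnV Q) h.comm
      · exact le_normalizer_inf_centralizer (hnV B) h.commB
    have h2 : V ⊓ centralizer (B : Set G) = V := by
      refine hmin _ h1 (bot_lt_iff_ne_bot.2 fun h3 => hno ?_) inf_le_left
      rw [h3]; exact bot_le
    exact inf_eq_left.1 h2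
  have hVLL : ¬ V ≤ LL Y Q B := fun h2 => hno (inf_le_left.trans h2)
  have hVQ : ⁅V, Q⁆ = ⊥ := by
    by_contra hne
    have h1 : (⁅V, Q⁆ : Subgroup G).Normal := by
      refine h.normal_comm hVn hVYb (_root_.Cfsg.Agent.Lib.CoprimeCommutator.commutator_le_left (hnV Q)) (right_le_normalizer_commutator V Q) ?_
      exact le_normalizer_commutator (hnV B) fun b hb q hq => (h.comm q hq b hb).symm
    have h2 : ⁅V, Q⁆ = V := hmin _ h1 (bot_lt_iff_ne_bot.2 hne) (_root_.Cfsg.Agent.Lib.CoprimeCommutator.commutator_le_left (hnV Q))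
    obtain ⟨b, hb, hb1⟩ := h.exists_b
    apply hVLL
    refine le_trans (le_inf hVB ?_) (inf_UU_le_LL hb hb1)
    conv_lhs => rw [← h2]
    exact commutator_mono (le_inf hVY (hVB.trans (cent_le_cent_singleton hb))) le_rfl
  have hVB' : ⁅V, B⁆ = ⊥ := (commutator_eq_bot_iff_le_centralizer).2 hVB
  have hZ := h.le_center hVYb hVQ hVB'
  refine ⟨hZ, ?_⟩
  by_contra hne
  have h1 : (V ⊓ LL Y Q B).Normal := normal_of_le_center (inf_le_left.trans hZ)
  have h2 : V ⊓ LL Y Q B = V := hmin _ h1 (bot_lt_iff_ne_bot.2 hne) inf_le_left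
  exact hVLL (inf_eq_left.1 h2)

end

/-- `C_Y(B)` is generated by the `C_Y(B) ∩ ⁅C_Y(b), Q⁆`. -/
theorem LL_aux {p : ℕ} [hp : Fact p.Prime] (n : ℕ) : ∀ {G : Type u} [Group G] [Finite G]
    {Y Q B : Subgroup G}, Act p Y Q B → Nat.card Y = n →
      Y ⊓ centralizer (B : Set G) ≤ LL Y Q B := by
  induction n using Nat.strong_induction_on with
  | _ n ih =>
  intro G _ _ Y Q B h hn
  by_contra hcon
  have hYn := h.norm
  have hg : ∀ N : Subgroup G, N.Normal → N ≤ Y → N ≠ ⊥ →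
      Y ⊓ centralizer (B : Set G) ≤ LL Y Q B ⊔ N := by
    intro N hN hNY hN1
    refine le_sup_of_map_le ?_
    refine le_trans ?_ ((ih _ (hn ▸ card_map_lt hNY hN1) (h.map hNY) rfl).trans h.LL_map_le)
    refine le_inf (Subgroup.map_mono inf_le_left) ?_
    rintro _ ⟨x, hx, rfl⟩
    rw [mem_centralizer_iff]
    rintro _ ⟨b, hb, rfl⟩
    rw [← map_mul, ← map_mul, mem_centralizer_iff.1 hx.2 b hb]
  have hY1 : Y ≠ ⊥ := by
    rintro rfl
    exact hcon (inf_le_left.trans bot_le)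
  obtain ⟨V, hVn, hV1, hVY, hmin⟩ := exists_min hYn (bot_lt_iff_ne_bot.2 hY1)
  obtain ⟨hVZ, hVL⟩ := h.min_central hcon hg hVn hV1 hVY hmin
  have hcomm_bot : ∀ {X X' : Subgroup G}, X ≤ center G → ⁅X, X'⁆ = ⊥ := by
    intro X X' hX
    rw [commutator_eq_bot_iff_le_centralizer]
    exact fun x hx => mem_centralizer_iff.2 fun y _ => (mem_center_iff.1 (hX hx)) y
  have hVQ : ⁅V, Q⁆ = ⊥ := hcomm_bot hVZ
  have hVne : V ≠ Y := by
    rintro rfl
    exact hY1 (le_bot_iff.1 (h.full.trans hVQ.le))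
  -- no nontrivial normal subgroup of `G` in `Y` is contained in `LL`
  have hnoL : ∀ N : Subgroup G, N.Normal → N ≤ Y → N ≤ LL Y Q B → N = ⊥ := by
    intro N hN hNY hNL
    by_contra hne
    obtain ⟨V', hV'n, hV'1, hV'N, hmin'⟩ := exists_min hN (bot_lt_iff_ne_bot.2 hne)
    obtain ⟨-, h2⟩ := h.min_central hcon hg hV'n hV'1 (hV'N.trans hNY) hmin'
    rw [inf_eq_left.2 (hV'N.trans hNL)] at h2
    exact hV'1.ne' h2
  obtain ⟨W, hWn, hVW, hWY, hminW⟩ := exists_min hYn (lt_of_le_of_ne hVY hVne)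
  have hWW : ⁅W, W⁆ ≤ V := comm_le_of_min h.solv hVn hWn hVW hWY hminW
  have hnW : ∀ X : Subgroup G, X ≤ normalizer (W : Set G) := fun X =>
    le_normalizer_of_conj_mem fun x _ v hv => hWn.conj_mem v hv x
  by_cases hWc : ⁅W, W⁆ = ⊥
  · -- `W` abelian
    have hWcc := comm_eq_of_bot hWc
    have hWYb : ⁅W, Y⁆ = ⊥ := by
      by_contra hne
      obtain ⟨V', hV'n, hV'1, hV'N, hmin'⟩ :=
        exists_min (X := ⁅W, Y⁆) inferInstance (bot_lt_iff_ne_bot.2 hne)
      have hV'Y : V' ≤ Y := hV'N.trans (commutator_le_right W Y)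
      obtain ⟨h1, h2⟩ := h.min_central hcon hg hV'n hV'1 hV'Y hmin'
      have h3 : V' ≤ LL Y Q B := by
        refine le_trans (le_inf hV'N ?_) (h.comm_V hWn hWY hWc)
        exact fun x hx => mem_centralizer_iff.2 fun y _ => (mem_center_iff.1 (h1 hx)) y
      rw [inf_eq_left.2 h3] at h2
      exact hV'1.ne' h2
    have hWX : ∀ P : Subgroup G, IsPGroup p P → (⁅W, P⁆ : Subgroup G).Normal → ⁅W, P⁆ = ⊥ := by
      intro P hP hPn
      by_contra hne
      obtain ⟨V', hV'n, hV'1, hV'N, hmin'⟩ := exists_min hPn (bot_lt_iff_ne_bot.2 hne)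
      have hV'W : V' ≤ W := hV'N.trans (_root_.Cfsg.Agent.Lib.CoprimeCommutator.commutator_le_left (hnW P))
      obtain ⟨h1, -⟩ := h.min_central hcon hg hV'n hV'1 (hV'W.trans hWY) hmin'
      have h3 : V' ≤ (W ⊓ centralizer (P : Set G)) ⊓ ⁅W, P⁆ :=
        le_inf (le_inf hV'W fun x hx => mem_centralizer_iff.2 fun y _ => (mem_center_iff.1 (h1 hx)) y) hV'N
      rw [Cfsg.Agent.Lib.CoprimeAbelian.inf_commutator_eq_bot P W hWcc (hnW P) (h.copP hP hWY)] at h3
      exact hV'1.ne' (le_bot_iff.1 h3)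
    have hWQ : ⁅W, Q⁆ = ⊥ := hWX Q h.pQ
      (h.normal_comm hWn hWYb (_root_.Cfsg.Agent.Lib.CoprimeCommutator.commutator_le_left (hnW Q)) (right_le_normalizer_commutator W Q)
        (le_normalizer_commutator (hnW B) fun b hb q hq => (h.comm q hq b hb).symm))
    have hWB : ⁅W, B⁆ = ⊥ := hWX B h.pB
      (h.normal_comm hWn hWYb (_root_.Cfsg.Agent.Lib.CoprimeCommutator.commutator_le_left (hnW B))
        (le_normalizer_commutator (hnW Q) h.comm) (right_le_normalizer_commutator W B))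
    have hWZ := h.le_center hWYb hWQ hWB
    have hWL : W ⊓ LL Y Q B = ⊥ :=
      hnoL _ (normal_of_le_center (inf_le_left.trans hWZ)) (inf_le_left.trans hWY) inf_le_right
    have hWV : W ≤ V := by
      intro x hx
      have hxC : x ∈ Y ⊓ centralizer (B : Set G) :=
        ⟨hWY hx, mem_centralizer_iff.2 fun y _ => (mem_center_iff.1 (hWZ hx)) y⟩
      obtain ⟨v, hv, l, hl, hvl⟩ := (CoprimeBasic.mem_sup_iff (X := V) (Y := LL Y Q B)
        (le_normalizer_of_conj_mem fun x _ v hv => hVn.conj_mem v hv x) x).mp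
        (by rw [sup_comm]; exact hg V hVn hVY hV1.ne' hxC)
      have h1 : l ∈ W ⊓ LL Y Q B := by
        refine ⟨?_, hl⟩
        have : l = v⁻¹ * x := by rw [← hvl]; group
        rw [this]
        exact W.mul_mem (W.inv_mem (hVW.le hv)) hx
      rw [hWL, mem_bot] at h1
      rw [← hvl, h1, mul_one]
      exact hv
    exact hVW.not_ge hWV
  · -- `W` nonabelian
    have hWW' : ⁅W, W⁆ = V := hmin _ inferInstance (bot_lt_iff_ne_bot.2 hWc) hWW
    have hZW : W ⊓ centralizer (W : Set G) = V := by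
      have hn : (W ⊓ centralizer (W : Set G)).Normal := by
        have : (centralizer (W : Set G)).Normal := by
          constructor
          intro x hx g
          rw [mem_centralizer_iff] at hx ⊢
          intro w hw
          have h1 := hx (g⁻¹ * w * g⁻¹⁻¹) (hWn.conj_mem w hw g⁻¹)
          calc w * (g * x * g⁻¹) = g * ((g⁻¹ * w * g⁻¹⁻¹) * x) * g⁻¹ := by group
            _ = g * (x * (g⁻¹ * w * g⁻¹⁻¹)) * g⁻¹ := by rw [h1]
            _ = g * x * g⁻¹ * w := by group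
        infer_instance
      have hVle : V ≤ W ⊓ centralizer (W : Set G) :=
        le_inf hVW.le fun x hx => mem_centralizer_iff.2 fun y _ => (mem_center_iff.1 (hVZ hx)) y
      by_contra hne
      have h1 := hminW _ hn (lt_of_le_of_ne hVle (Ne.symm hne)) inf_le_left
      apply hWc
      rw [commutator_eq_bot_iff_le_centralizer]
      exact inf_eq_left.1 h1
    have hVB : V ≤ centralizer (B : Set G) :=
      fun x hx => mem_centralizer_iff.2 fun y _ => (mem_center_iff.1 (hVZ hx)) y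
    have hPb : ∀ b ∈ B, b ≠ 1 → ⁅W ⊓ centralizer {b}, Q⁆ = ⊥ := by
      intro b hb hb1
      set T : Subgroup G := W ⊓ centralizer {b} with hT
      have hTY : T ≤ Y := inf_le_left.trans hWY
      have hzB : zpowers b ≤ B := by rwa [zpowers_le]
      have hQT : Q ≤ normalizer (T : Set G) := by
        rw [hT, ← CoprimeGen.centralizer_zpowers]
        exact le_normalizer_inf_centralizer (hnW Q) fun q hq c hc => h.comm q hq c (hzB hc)
      set P : Subgroup G := ⁅T, Q⁆ with hP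
      have hPT : P ≤ T := _root_.Cfsg.Agent.Lib.CoprimeCommutator.commutator_le_left hQT
      have hPU : P ≤ UU Y Q b := commutator_mono (inf_le_inf_right _ hWY) le_rfl
      have hPP : ⁅P, P⁆ = ⊥ := by
        by_contra hne
        have h1 : ⁅P, P⁆ ≤ V :=
          (commutator_mono (hPT.trans inf_le_left) (hPT.trans inf_le_left)).trans hWW
        have h2 : ⁅P, P⁆ = V := hmin _ (normal_of_le_center (h1.trans hVZ)) (bot_lt_iff_ne_bot.2 hne) h1
        have h3 : V ≤ P := by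
          rw [← h2, commutator_le]
          intro x hx y hy
          rw [commutatorElement_def]
          exact P.mul_mem (P.mul_mem (P.mul_mem hx hy) (P.inv_mem hx)) (P.inv_mem hy)
        have h4 : V ≤ LL Y Q B := (le_inf hVB (h3.trans hPU)).trans (inf_UU_le_LL hb hb1)
        rw [inf_eq_left.2 h4] at hVL
        exact hV1.ne' hVL
      have hPc := comm_eq_of_bot hPP
      have hTW : T ≤ W := inf_le_left
      -- `P` centralises `C_T(Q)`
      have h1 : ⁅P, T ⊓ centralizer (Q : Set G)⁆ = ⊥ := by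
        apply commutator_commutator_eq_bot_of_rotate
        · have : ⁅Q, T ⊓ centralizer (Q : Set G)⁆ = ⊥ := by
            rw [commutator_comm, commutator_eq_bot_iff_le_centralizer]
            exact inf_le_right
          rw [this, commutator_bot_left]
        · rw [← le_bot_iff, ← hVQ]
          exact commutator_mono ((commutator_mono (inf_le_left.trans hTW) hTW).trans hWW) le_rfl
      have h2 : P ≤ centralizer (T : Set G) := by
        intro x hx
        rw [mem_centralizer_iff]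
        intro t ht
        obtain ⟨m, hm, c, hc, rfl⟩ := exists_commutator_mul_fixed_of_isPGroup p Q T h.pQ hQT
          (h.not_dvd hTY) t ht
        have h3 : c * x = x * c := (mem_centralizer_iff.1
          ((commutator_eq_bot_iff_le_centralizer.1 h1) hx) c hc)
        have h4 : m * x = x * m := hPc m hm x hx
        calc m * c * x = m * (c * x) := by group
          _ = (m * x) * c := by rw [h3]; group
          _ = x * (m * c) := by rw [h4]; group
      -- `P` centralises `⁅W, b⁆`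
      have h3 : ⁅⁅W, zpowers b⁆, P⁆ = ⊥ := by
        apply commutator_commutator_eq_bot_of_rotate
        · have : ⁅zpowers b, P⁆ = ⊥ := by
            rw [commutator_comm, commutator_eq_bot_iff_le_centralizer, CoprimeGen.centralizer_zpowers]
            exact hPT.trans inf_le_right
          rw [this, commutator_bot_left]
        · have h4 : ⁅⁅P, W⁆, zpowers b⁆ ≤ ⁅V, zpowers b⁆ :=
            commutator_mono ((commutator_mono (hPT.trans hTW) le_rfl).trans hWW) le_rfl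
          rw [hcomm_bot hVZ] at h4
          exact le_bot_iff.1 h4
      have h4 : P ≤ V := by
        rw [← hZW]
        refine le_inf (hPT.trans hTW) fun x hx => ?_
        rw [mem_centralizer_iff]
        intro w hw
        obtain ⟨m, hm, c, hc, rfl⟩ := exists_commutator_mul_fixed_of_isPGroup p (zpowers b) W
          (h.pB.to_le hzB) (hnW _) (h.not_dvd hWY) w hw
        have hcT : c ∈ T := by
          rw [hT, ← CoprimeGen.centralizer_zpowers]
          exact hc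
        have h5 : c * x = x * c := mem_centralizer_iff.1 (h2 hx) c hcT
        have h6 : m * x = x * m :=
          ((mem_centralizer_iff.1 ((commutator_eq_bot_iff_le_centralizer.1 h3) hm)) x hx).symm
        calc m * c * x = m * (c * x) := by group
          _ = (m * x) * c := by rw [h5]; group
          _ = x * (m * c) := by rw [h6]; group
      have h5 : ⁅P, Q⁆ = P := commutator_commutator_eq Q T hQT (h.copP h.pQ hTY)
      rw [← h5, ← le_bot_iff, ← hVQ]
      exact commutator_mono h4 le_rfl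
    have hWQ : W ≤ centralizer (Q : Set G) := by
      refine (CoprimeGen.le_iSup_centralizer_ne_one (Z := W) h.el h.card (h.not_dvd hWY) (hnW B)).trans
        (iSup_le fun b => ?_)
      rw [← commutator_eq_bot_iff_le_centralizer]
      exact hPb b b.2.1 b.2.2
    have hWQ' : ⁅W, Q⁆ = ⊥ := commutator_eq_bot_iff_le_centralizer.2 hWQ
    have h3 : ⁅⁅Y, Q⁆, W⁆ = ⊥ := by
      apply commutator_commutator_eq_bot_of_rotate
      · rw [commutator_comm Q W, hWQ', commutator_bot_left]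
      · rw [← le_bot_iff, ← hWQ']
        exact commutator_mono (_root_.Cfsg.Agent.Lib.CoprimeCommutator.commutator_le_left (hnW Y)) le_rfl
    apply hWc
    rw [← le_bot_iff, ← h3]
    exact commutator_mono (hWY.trans h.full) le_rfl

end Act

/-! ### The general form -/

section general

variable {p : ℕ} [hp : Fact p.Prime] {G : Type u} [Group G] [Finite G] {Y Q B : Subgroup G}

theorem act_subgroupOf (hQ : IsPGroup p Q) (hB : Cfsg.IsElementaryAbelian p B)
    (hB2 : p ^ 2 ≤ Nat.card B) (hcomm : ∀ q ∈ Q, ∀ b ∈ B, q * b = b * q) (hYs : Group.IsSolvable Y)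
    (hYp : ¬ p ∣ Nat.card Y) (hQY : Q ≤ normalizer (Y : Set G)) (hBY : B ≤ normalizer (Y : Set G))
    (hfull : Y ≤ ⁅Y, Q⁆) :
    Act p (Y.subgroupOf (Y ⊔ Q ⊔ B)) (Q.subgroupOf (Y ⊔ Q ⊔ B)) (B.subgroupOf (Y ⊔ Q ⊔ B)) := by
  set H : Subgroup G := Y ⊔ Q ⊔ B with hH
  have hYH : Y ≤ H := le_sup_left.trans le_sup_left
  have hQH : Q ≤ H := le_sup_right.trans le_sup_left
  have hBH : B ≤ H := le_sup_right
  have hm : ∀ {X : Subgroup G}, X ≤ H → (X.subgroupOf H).map H.subtype = X := fun hX =>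
    Subgroup.map_subgroupOf_eq_of_le hX
  have hcard : ∀ {X : Subgroup G}, X ≤ H → Nat.card (X.subgroupOf H) = Nat.card X := fun hX =>
    Nat.card_congr (Subgroup.subgroupOfEquivOfLe hX).toEquiv
  refine ⟨?_, ?_, ?_, ?_, ?_, ?_, ?_, ?_, ?_⟩
  · exact normal_subgroupOf_of_le_normalizer (sup_le (sup_le Subgroup.le_normalizer hQY) hBY)
  · apply Subgroup.map_injective H.subtype_injective
    rw [Subgroup.map_sup, Subgroup.map_sup, hm hYH, hm hQH, hm hBH, ← MonoidHom.range_eq_map,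
      Subgroup.range_subtype]
  · exact hQ.of_equiv (Subgroup.subgroupOfEquivOfLe hQH).symm
  · refine ⟨⟨⟨?_⟩⟩, ?_⟩
    · rintro ⟨⟨x, hx⟩, hx'⟩ ⟨⟨y, hy⟩, hy'⟩
      apply Subtype.ext
      apply Subtype.ext
      exact CoprimeGen.comm_of_isElementaryAbelian hB x hx' y hy'
    · rintro ⟨x, hx⟩ hx'
      apply Subtype.ext
      exact hB.2 x hx'
  · rw [hcard hBH]; exact hB2
  · rintro ⟨x, hx⟩ hx' ⟨y, hy⟩ hy'
    apply Subtype.ext
    exact hcomm x hx' y hy'
  · exact Group.isSolvable_of_surjective (f := (Subgroup.subgroupOfEquivOfLe hYH).symm.toMonoidHom)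
      (Subgroup.subgroupOfEquivOfLe hYH).symm.surjective
  · rw [hcard hYH]; exact hYp
  · rw [← Subgroup.map_le_map_iff_of_injective H.subtype_injective, Subgroup.map_commutator, hm hYH,
      hm hQH]
    exact hfull

/-- **Relative generation lemma.** `B` a noncyclic elementary abelian `p`-group and `Q` a `p`-group
commuting with `B`, acting on a solvable `p'`-group `Y = ⁅Y, Q⁆`: then `C_Y(B)` is generated by the
`C_Y(B) ∩ ⁅C_Y(b), Q⁆`, `1 ≠ b ∈ B`. -/
theorem inf_centralizer_le (hQ : IsPGroup p Q) (hB : Cfsg.IsElementaryAbelian p B)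
    (hB2 : p ^ 2 ≤ Nat.card B) (hcomm : ∀ q ∈ Q, ∀ b ∈ B, q * b = b * q) (hYs : Group.IsSolvable Y)
    (hYp : ¬ p ∣ Nat.card Y) (hQY : Q ≤ normalizer (Y : Set G)) (hBY : B ≤ normalizer (Y : Set G))
    (hfull : Y ≤ ⁅Y, Q⁆) :
    Y ⊓ centralizer (B : Set G) ≤
      ⨆ b : {b : G // b ∈ B ∧ b ≠ 1}, centralizer (B : Set G) ⊓ ⁅Y ⊓ centralizer {(b : G)}, Q⁆ := by
  have hact := act_subgroupOf hQ hB hB2 hcomm hYs hYp hQY hBY hfull
  have hYH : Y ≤ Y ⊔ Q ⊔ B := le_sup_left.trans le_sup_left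
  intro x hx
  have hx1 : (⟨x, hYH hx.1⟩ : ↥(Y ⊔ Q ⊔ B)) ∈
      centralizer ((B.subgroupOf (Y ⊔ Q ⊔ B) : Subgroup ↥(Y ⊔ Q ⊔ B)) : Set ↥(Y ⊔ Q ⊔ B)) := by
    rw [mem_centralizer_iff]
    rintro ⟨b, hb⟩ hb'
    exact Subtype.ext (mem_centralizer_iff.1 hx.2 b hb')
  have hx2 : (⟨x, hYH hx.1⟩ : ↥(Y ⊔ Q ⊔ B)) ∈ Y.subgroupOf (Y ⊔ Q ⊔ B) := hx.1
  have h1 := Act.LL_aux _ hact rfl (Subgroup.mem_inf.2 ⟨hx2, hx1⟩)
  have h2 : (LL (Y.subgroupOf (Y ⊔ Q ⊔ B)) (Q.subgroupOf (Y ⊔ Q ⊔ B)) (B.subgroupOf (Y ⊔ Q ⊔ B))).map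
      (Y ⊔ Q ⊔ B).subtype ≤ LL Y Q B := by
    rw [LL, Subgroup.map_iSup]
    refine iSup_le ?_
    rintro ⟨⟨b, hbH⟩, hb, hb1⟩
    have hb1' : b ≠ 1 := fun h => hb1 (Subtype.ext h)
    refine le_trans ?_ (inf_UU_le_LL (Y := Y) (Q := Q) (show b ∈ B from hb) hb1')
    refine (Subgroup.map_inf_le _ _ _).trans (inf_le_inf ?_ ?_)
    · rintro _ ⟨⟨y, hy⟩, hy', rfl⟩
      rw [mem_centralizer_iff]
      intro c hc
      have hcH : c ∈ Y ⊔ Q ⊔ B := (le_sup_right : B ≤ Y ⊔ Q ⊔ B) hc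
      exact congrArg Subtype.val (mem_centralizer_iff.1 hy' (⟨c, hcH⟩ : ↥(Y ⊔ Q ⊔ B)) hc)
    · rw [UU, UU, Subgroup.map_commutator]
      refine commutator_mono ?_ ?_
      · rintro _ ⟨⟨y, hy⟩, ⟨hy1, hy2⟩, rfl⟩
        exact ⟨hy1, mem_cent_singleton.2 (congrArg Subtype.val (mem_cent_singleton.1 hy2))⟩
      · rintro _ ⟨⟨y, hy⟩, hy1, rfl⟩
        exact hy1
  exact h2 ⟨_, h1, rfl⟩

/-- `Y = ⁅Y, Q⁆` is generated by the `⁅C_Y(b), Q⁆`, `1 ≠ b ∈ B`. -/
theorem le_iSup_commutator (hQ : IsPGroup p Q) (hB : Cfsg.IsElementaryAbelian p B)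
    (hB2 : p ^ 2 ≤ Nat.card B) (hcomm : ∀ q ∈ Q, ∀ b ∈ B, q * b = b * q) (hYs : Group.IsSolvable Y)
    (hYp : ¬ p ∣ Nat.card Y) (hQY : Q ≤ normalizer (Y : Set G)) (hBY : B ≤ normalizer (Y : Set G))
    (hfull : Y ≤ ⁅Y, Q⁆) :
    Y ≤ ⨆ b : {b : G // b ∈ B ∧ b ≠ 1}, ⁅Y ⊓ centralizer {(b : G)}, Q⁆ := by
  have hact := act_subgroupOf hQ hB hB2 hcomm hYs hYp hQY hBY hfull
  have hYH : Y ≤ Y ⊔ Q ⊔ B := le_sup_left.trans le_sup_left
  intro x hx
  have h1 := Act.le_HH hact (show (⟨x, hYH hx⟩ : ↥(Y ⊔ Q ⊔ B)) ∈ _ from hx)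
  have h2 : (HH (Y.subgroupOf (Y ⊔ Q ⊔ B)) (Q.subgroupOf (Y ⊔ Q ⊔ B)) (B.subgroupOf (Y ⊔ Q ⊔ B))).map
      (Y ⊔ Q ⊔ B).subtype ≤ HH Y Q B := by
    rw [HH, Subgroup.map_iSup]
    refine iSup_le ?_
    rintro ⟨⟨b, hbH⟩, hb, hb1⟩
    have hb1' : b ≠ 1 := fun h => hb1 (Subtype.ext h)
    refine le_trans ?_ (UU_le_HH (Y := Y) (Q := Q) (show b ∈ B from hb) hb1')
    rw [UU, UU, Subgroup.map_commutator]
    refine commutator_mono ?_ ?_
    · rintro _ ⟨⟨y, hy⟩, ⟨hy1, hy2⟩, rfl⟩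
      exact ⟨hy1, mem_cent_singleton.2 (congrArg Subtype.val (mem_cent_singleton.1 hy2))⟩
    · rintro _ ⟨⟨y, hy⟩, hy1, rfl⟩
      exact hy1
  exact h2 ⟨_, h1, rfl⟩

end general

end Cfsg.Agent.SignalizersComponents.RelGen
end

-- part: SignalizersComponents/RelCompl
section
set_option autoImplicit false

/-!
A subgroup of index two of an elementary abelian `2`-group missing a given element (copied from
`SylowSp4.TwoBal`, to avoid the import of the odd order theorem).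
-/

namespace Cfsg.Agent.SignalizersComponents.RelCompl

open Subgroup

variable {G : Type*} [Group G]

/-- A subgroup of index two which does not contain `u`. -/
theorem exists_compl [Finite G] {E : Subgroup G} (hc : ∀ a ∈ E, ∀ b ∈ E, a * b = b * a)
    (hs : ∀ a ∈ E, a * a = 1) {u : G} (hu : u ∈ E) (hu1 : u ≠ 1) :
    ∃ A ≤ E, u ∉ A ∧ (∀ x ∈ E, x ∈ A ∨ u * x ∈ A) ∧ 2 * Nat.card A = Nat.card E := by
  classical
  obtain ⟨A, ⟨hAE, huA⟩, hmax⟩ := (Set.toFinite {A : Subgroup G | A ≤ E ∧ u ∉ A}).exists_maximal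
    ⟨⊥, bot_le, fun h => hu1 (mem_bot.1 h)⟩
  have key : ∀ x ∈ E, x ∈ A ∨ u * x ∈ A := by
    intro x hx
    by_contra hcon
    push Not at hcon
    obtain ⟨h1, h2⟩ := hcon
    -- the group `A ∪ A x`
    let B : Subgroup G :=
      { carrier := {y | y ∈ A ∨ x * y ∈ A}
        one_mem' := Or.inl A.one_mem
        mul_mem' := by
          rintro a b (ha | ha) (hb | hb)
          · exact Or.inl (A.mul_mem ha hb)
          · right
            have : x * (a * b) = a * (x * b) := by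
              rw [← mul_assoc, hc x hx a (hAE ha), mul_assoc]
            rw [this]; exact A.mul_mem ha hb
          · right
            rw [← mul_assoc]; exact A.mul_mem ha hb
          · left
            have h3 : (x * a) * (x * b) = a * b := by
              have ha' : x * a ∈ E := hAE ha
              rw [← mul_assoc, hc (x * a) ha' x hx, ← mul_assoc x x a, hs x hx, one_mul]
            rw [← h3]; exact A.mul_mem ha hb
        inv_mem' := by
          rintro a (ha | ha)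
          · exact Or.inl (A.inv_mem ha)
          · right
            have haE : a ∈ E := by
              have : a = x * (x * a) := by rw [← mul_assoc, hs x hx, one_mul]
              rw [this]; exact E.mul_mem hx (hAE ha)
            have h3 : a⁻¹ = a := inv_eq_of_mul_eq_one_left (hs a haE)
            rw [h3]; exact ha }
    have hBE : B ≤ E := by
      rintro y (hy | hy)
      · exact hAE hy
      · have : y = x * (x * y) := by rw [← mul_assoc, hs x hx, one_mul]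
        rw [this]; exact E.mul_mem hx (hAE hy)
    have hAB : A ≤ B := fun y hy => Or.inl hy
    have hxB : x ∈ B := Or.inr (by rw [hs x hx]; exact A.one_mem)
    have huB : u ∉ B := by
      rintro (h | h)
      · exact huA h
      · apply h2
        rw [hc u hu x hx]; exact h
    have := hmax ⟨hBE, huB⟩ hAB
    exact h1 (this hxB)
  refine ⟨A, hAE, huA, key, ?_⟩
  have hidx : A.relIndex E = 2 := by
    rw [relIndex, index_eq_two_iff]
    refine ⟨⟨u, hu⟩, fun b => ?_⟩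
    rw [mem_subgroupOf, mem_subgroupOf]
    rcases key b b.2 with h | h
    · right
      refine ⟨h, fun h' => huA ?_⟩
      have : u = (b : G)⁻¹ * ((b : G) * u) := by group
      rw [this]
      exact A.mul_mem (A.inv_mem h) h'
    · left
      refine ⟨?_, fun h' => huA ?_⟩
      · show (b : G) * u ∈ A
        rw [hc b b.2 u hu]; exact h
      · have : u = (u * (b : G)) * (b : G)⁻¹ := by group
        rw [this]
        exact A.mul_mem h (A.inv_mem h')
  have h2 := relIndex_mul_relIndex (⊥ : Subgroup G) A E bot_le hAE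
  rw [relIndex_bot_left, relIndex_bot_left, hidx] at h2
  rw [← h2, mul_comm]

end Cfsg.Agent.SignalizersComponents.RelCompl
end

-- part: SignalizersComponents/RelFunctor
section
set_option autoImplicit false
set_option linter.unusedSectionVars false

/-!
# The relative signalizer functor theorem, rank at least four

`A` is an elementary abelian `2`-group of order at least `16`, `Q` a `2`-group commuting with `A`, and `D a ≤ C(a)`,
`1 ≠ a ∈ A`, a family of subgroups of odd order, normalised by `C(a) ∩ C(Q)` and by `Q`, with `D a = ⁅D a, Q⁆` and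
`⁅D a ∩ C(b), Q⁆ ≤ D b`. Then the `D a` generate a group of odd order.
-/

namespace Cfsg.Agent.SignalizersComponents.RelFunctor

open Subgroup
open scoped commutatorElement
open Cfsg.Agent.Lib.CoprimeCommutator
open Cfsg.Agent.SignalizersComponents.GoldschmidtGen (le_normalizer_of_conj_mem
  conj_mem_of_le_normalizer le_normalizer_sup le_normalizer_commutator le_normalizer_inf_centralizer)
open Cfsg.Agent.SignalizersComponents.RelGen (mem_cent_singleton)

universe u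

variable {G : Type u} [Group G]

theorem sup3_inf_centralizer_le [Finite G] {p : ℕ} [hp : Fact p.Prime] {X₁ X₂ X₃ P : Subgroup G}
    (hP : IsPGroup p P) (h1 : P ≤ normalizer (X₁ : Set G)) (h2 : P ≤ normalizer (X₂ : Set G))
    (h3 : P ≤ normalizer (X₃ : Set G)) (h21 : X₂ ≤ normalizer (X₁ : Set G))
    (h31 : X₃ ≤ normalizer ((X₁ ⊔ X₂ : Subgroup G) : Set G)) (hX₂ : ¬ p ∣ Nat.card X₂)
    (hX₃ : ¬ p ∣ Nat.card X₃) :
    (X₁ ⊔ X₂ ⊔ X₃) ⊓ centralizer (P : Set G) ≤
      (X₁ ⊓ centralizer (P : Set G)) ⊔ (X₂ ⊓ centralizer (P : Set G)) ⊔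
        (X₃ ⊓ centralizer (P : Set G)) := by
  intro g hg'
  have hg : g ∈ X₁ ⊔ X₂ ⊔ X₃ := hg'.1
  have hgP := mem_centralizer_iff.1 hg'.2
  obtain ⟨x, hx, y, hy, hxP, hyP, rfl⟩ := CoprimeBasic.exists_factorization_of_centralizing
    (X := X₁ ⊔ X₂) (Y := X₃) h31 P hP
    (fun a ha x hx => conj_mem_of_le_normalizer (le_normalizer_sup h1 h2) ha hx)
    (fun a ha y hy => conj_mem_of_le_normalizer h3 ha hy)
    (fun h => hX₃ (h.trans (card_dvd_of_le inf_le_right))) g hg hgP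
  obtain ⟨z, hz, w, hw, hzP, hwP, rfl⟩ := CoprimeBasic.exists_factorization_of_centralizing
    (X := X₁) (Y := X₂) h21 P hP
    (fun a ha x hx => conj_mem_of_le_normalizer h1 ha hx)
    (fun a ha y hy => conj_mem_of_le_normalizer h2 ha hy)
    (fun h => hX₂ (h.trans (card_dvd_of_le inf_le_right))) x hx hxP
  exact mul_mem (mul_mem (mem_sup_left (mem_sup_left ⟨hz, mem_centralizer_iff.2 hzP⟩))
    (mem_sup_left (mem_sup_right ⟨hw, mem_centralizer_iff.2 hwP⟩)))
    (mem_sup_right ⟨hy, mem_centralizer_iff.2 hyP⟩)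

theorem not_dvd_sup [Finite G] {p : ℕ} [hp : Fact p.Prime] {X Y : Subgroup G}
    (hn : Y ≤ normalizer (X : Set G)) (hX : ¬ p ∣ Nat.card X) (hY : ¬ p ∣ Nat.card Y) :
    ¬ p ∣ Nat.card ↥(X ⊔ Y) := fun h =>
  (hp.out.dvd_mul.1 (h.trans (CoprimeBasic.card_sup_dvd hn))).elim hX hY

theorem isSolvable_of_le {X Y : Subgroup G} (hX : Group.IsSolvable Y) (h : X ≤ Y) :
    Group.IsSolvable X :=
  Group.isSolvable_of_isSolvable_injective (f := inclusion h) (inclusion_injective h)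

/-- The setting. -/
structure Rel (A Q : Subgroup G) (D : G → Subgroup G) : Prop where
  comm : ∀ a ∈ A, ∀ b ∈ A, a * b = b * a
  sq : ∀ a ∈ A, a * a = 1
  card : 2 ^ 4 ≤ Nat.card A
  pQ : IsPGroup 2 Q
  commQ : ∀ a ∈ A, ∀ q ∈ Q, a * q = q * a
  cent : ∀ a ∈ A, a ≠ 1 → D a ≤ centralizer {a}
  odd : ∀ a ∈ A, a ≠ 1 → ¬ 2 ∣ Nat.card (D a)
  solv : ∀ a ∈ A, a ≠ 1 → Group.IsSolvable (D a)
  invQ : ∀ a ∈ A, a ≠ 1 → Q ≤ normalizer (D a : Set G)
  full : ∀ a ∈ A, a ≠ 1 → D a ≤ ⁅D a, Q⁆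
  canon : ∀ a ∈ A, a ≠ 1 →
    centralizer {a} ⊓ centralizer (Q : Set G) ≤ normalizer (D a : Set G)
  bal : ∀ a ∈ A, ∀ b ∈ A, a ≠ 1 → b ≠ 1 → ⁅D a ⊓ centralizer {b}, Q⁆ ≤ D b

/-- `C(a) ∩ C(b)` -/
def cc (a b : G) : Subgroup G := centralizer {a} ⊓ centralizer {b}

/-- `C_{D a}(Q)` -/
def yy (Q : Subgroup G) (D : G → Subgroup G) (a : G) : Subgroup G := D a ⊓ centralizer (Q : Set G)

/-- `⟨C_{D e}(Q) ∩ C(a) ∩ C(b) : e ∈ ⟨a, b⟩⟩` -/
def vv (Q : Subgroup G) (D : G → Subgroup G) (a b : G) : Subgroup G :=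
  (yy Q D a ⊓ cc a b) ⊔ (yy Q D b ⊓ cc a b) ⊔ (yy Q D (a * b) ⊓ cc a b)

theorem mem_cc {a b x : G} : x ∈ cc a b ↔ a * x = x * a ∧ b * x = x * b := by
  rw [cc, Subgroup.mem_inf, mem_cent_singleton, mem_cent_singleton]

theorem cc_comm (a b : G) : cc a b = cc b a := inf_comm _ _

theorem mul_comm_of_cc {a b x : G} (hx : x ∈ cc a b) : (a * b) * x = x * (a * b) := by
  obtain ⟨h1, h2⟩ := mem_cc.1 hx
  rw [mul_assoc, h2, ← mul_assoc, h1, mul_assoc]

namespace Rel

variable {A Q : Subgroup G} {D : G → Subgroup G} (h : Rel A Q D)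

include h

theorem el : Cfsg.IsElementaryAbelian 2 A :=
  ⟨⟨⟨fun x y => Subtype.ext (h.comm x x.2 y y.2)⟩⟩, fun a ha => (pow_two a).trans (h.sq a ha)⟩

theorem mul_ne_one {a b : G} (hb : b ∈ A) (hab : a ≠ b) : a * b ≠ 1 := fun h1 =>
  hab ((mul_eq_one_iff_eq_inv.1 h1).trans (inv_eq_of_mul_eq_one_left (h.sq b hb)))

theorem mul_mul_self {a b : G} (ha : a ∈ A) : a * (a * b) = b := by
  rw [← mul_assoc, h.sq a ha, one_mul]

theorem mul_ne_left {a b : G} (hb1 : b ≠ 1) : a * b ≠ a := fun h1 => hb1 (mul_eq_left.1 h1)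

/-- `A` centralises `Q`. -/
theorem A_le_cent : A ≤ centralizer (Q : Set G) := fun a ha =>
  mem_centralizer_iff.2 fun q hq => (h.commQ a ha q hq).symm

theorem A_le_cc {a b : G} (ha : a ∈ A) (hb : b ∈ A) : A ≤ cc a b := fun x hx =>
  mem_cc.2 ⟨h.comm a ha x hx, h.comm b hb x hx⟩

theorem cc_mul {a b : G} (ha : a ∈ A) : cc a (a * b) = cc a b := by
  ext x
  constructor
  · intro hx
    obtain ⟨h1, h2⟩ := mem_cc.1 hx
    have h3 := mul_comm_of_cc hx
    rw [h.mul_mul_self ha] at h3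
    exact mem_cc.2 ⟨h1, h3⟩
  · intro hx
    exact mem_cc.2 ⟨(mem_cc.1 hx).1, mul_comm_of_cc hx⟩

theorem vv_mul {a b : G} (ha : a ∈ A) : vv Q D a (a * b) = vv Q D a b := by
  rw [vv, vv, h.cc_mul ha, h.mul_mul_self ha, sup_right_comm]

theorem vv_comm {a b : G} (ha : a ∈ A) (hb : b ∈ A) : vv Q D a b = vv Q D b a := by
  rw [vv, vv, cc_comm a b, h.comm a ha b hb, sup_comm (yy Q D a ⊓ cc b a)]

theorem vv_le_cc {a b : G} : vv Q D a b ≤ cc a b := sup_le (sup_le inf_le_right inf_le_right) inf_le_right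

theorem vv_le_cent {a b : G} : vv Q D a b ≤ centralizer (Q : Set G) :=
  sup_le (sup_le (inf_le_left.trans inf_le_right) (inf_le_left.trans inf_le_right))
    (inf_le_left.trans inf_le_right)

/-- `C(Q) ∩ C(a) ∩ C(b)` normalises `C_{D e}(Q) ∩ C(a) ∩ C(b)` when it centralises `e`. -/
theorem norm_yy {a b e : G} (he : e ∈ A) (he1 : e ≠ 1) (hec : cc a b ≤ centralizer {e}) :
    cc a b ⊓ centralizer (Q : Set G) ≤ normalizer ((yy Q D e ⊓ cc a b : Subgroup G) : Set G) := by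
  refine le_normalizer_of_conj_mem fun g hg x hx => ⟨⟨?_, ?_⟩, ?_⟩
  · exact conj_mem_of_le_normalizer (h.canon e he he1) ⟨hec hg.1, hg.2⟩ hx.1.1
  · exact (centralizer (Q : Set G)).mul_mem ((centralizer (Q : Set G)).mul_mem hg.2 hx.1.2)
      ((centralizer (Q : Set G)).inv_mem hg.2)
  · exact (cc a b).mul_mem ((cc a b).mul_mem hg.1 hx.2) ((cc a b).inv_mem hg.1)

theorem cc_le_left (a b : G) : cc a b ≤ centralizer {a} := inf_le_left

theorem cc_le_right (a b : G) : cc a b ≤ centralizer {b} := inf_le_right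

theorem cc_le_mul (a b : G) : cc a b ≤ centralizer {a * b} := fun _ hx =>
  mem_cent_singleton.2 (mul_comm_of_cc hx)

theorem norm_vv {a b : G} (ha : a ∈ A) (hb : b ∈ A) (ha1 : a ≠ 1) (hb1 : b ≠ 1) (hab : a ≠ b) :
    cc a b ⊓ centralizer (Q : Set G) ≤ normalizer ((vv Q D a b : Subgroup G) : Set G) :=
  le_normalizer_sup (le_normalizer_sup (h.norm_yy ha ha1 (h.cc_le_left a b))
    (h.norm_yy hb hb1 (h.cc_le_right a b)))
    (h.norm_yy (A.mul_mem ha hb) (h.mul_ne_one hb hab) (h.cc_le_mul a b))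

variable [Finite G]

theorem yy_odd {a b e : G} (he : e ∈ A) (he1 : e ≠ 1) : ¬ 2 ∣ Nat.card ↥(yy Q D e ⊓ cc a b) :=
  fun h1 => h.odd e he he1 (h1.trans (card_dvd_of_le (inf_le_left.trans inf_le_left)))

theorem vv_odd {a b : G} (ha : a ∈ A) (hb : b ∈ A) (ha1 : a ≠ 1) (hb1 : b ≠ 1) (hab : a ≠ b) :
    ¬ 2 ∣ Nat.card ↥(vv Q D a b) := by
  have hle : ∀ e : G, yy Q D e ⊓ cc a b ≤ cc a b ⊓ centralizer (Q : Set G) := fun e =>
    le_inf inf_le_right (inf_le_left.trans inf_le_right)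
  refine not_dvd_sup (p := 2) ((hle _).trans (le_normalizer_sup (h.norm_yy ha ha1 (h.cc_le_left a b))
    (h.norm_yy hb hb1 (h.cc_le_right a b)))) (not_dvd_sup (p := 2) ((hle _).trans
      (h.norm_yy ha ha1 (h.cc_le_left a b))) (h.yy_odd ha ha1) (h.yy_odd hb hb1))
      (h.yy_odd (A.mul_mem ha hb) (h.mul_ne_one hb hab))


theorem vv_solv {a b : G} (ha : a ∈ A) (hb : b ∈ A) (ha1 : a ≠ 1) (hb1 : b ≠ 1) (hab : a ≠ b) :
    Group.IsSolvable ↥(vv Q D a b) := by
  have hle : ∀ e : G, yy Q D e ⊓ cc a b ≤ cc a b ⊓ centralizer (Q : Set G) := fun e =>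
    le_inf inf_le_right (inf_le_left.trans inf_le_right)
  have hs : ∀ e ∈ A, e ≠ 1 → Group.IsSolvable ↥(yy Q D e ⊓ cc a b) := fun e he he1 =>
    isSolvable_of_le (h.solv e he he1) (inf_le_left.trans inf_le_left)
  exact CoprimeBasic.isSolvable_sup ((hle _).trans (le_normalizer_sup
    (h.norm_yy ha ha1 (h.cc_le_left a b)) (h.norm_yy hb hb1 (h.cc_le_right a b))))
    (CoprimeBasic.isSolvable_sup ((hle _).trans (h.norm_yy ha ha1 (h.cc_le_left a b)))
      (hs a ha ha1) (hs b hb hb1)) (hs _ (A.mul_mem ha hb) (h.mul_ne_one hb hab))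

/-- The four-group `⟨a, b⟩`. -/
def four (_h : Rel A Q D) {a b : G} (ha : a ∈ A) (hb : b ∈ A) : Subgroup G where
  carrier := {x | x = 1 ∨ x = a ∨ x = b ∨ x = a * b}
  one_mem' := Or.inl rfl
  mul_mem' := by
    have haa := _h.sq a ha
    have hbb := _h.sq b hb
    have hab := _h.comm a ha b hb
    have e1 : a * (a * b) = b := by rw [← mul_assoc, haa, one_mul]
    have e2 : b * (a * b) = a := by rw [hab, ← mul_assoc, hbb, one_mul]
    have e3 : a * b * a = b := by rw [hab, mul_assoc, haa, mul_one]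
    have e4 : a * b * b = a := by rw [mul_assoc, hbb, mul_one]
    have e5 : a * b * (a * b) = 1 := _h.sq _ (A.mul_mem ha hb)
    rintro x y (rfl | rfl | rfl | rfl) (rfl | rfl | rfl | rfl) <;>
      simp only [haa, hbb, e1, e2, e3, e4, e5, hab.symm, _root_.mul_one, _root_.Set.mem_ofPred_eq, _root_.true_or, _root_.one_mul, _root_.left_eq_mul, _root_.or_true, _root_.right_eq_mul, _root_.mul_eq_left, _root_.mul_eq_right]
  inv_mem' := by
    rintro x (rfl | rfl | rfl | rfl)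
    · left; simp
    · right; left; exact inv_eq_of_mul_eq_one_left (_h.sq _ ha)
    · right; right; left; exact inv_eq_of_mul_eq_one_left (_h.sq _ hb)
    · right; right; right; exact inv_eq_of_mul_eq_one_left (_h.sq _ (A.mul_mem ha hb))

theorem mem_four {a b : G} (ha : a ∈ A) (hb : b ∈ A) {x : G} :
    x ∈ h.four ha hb ↔ x = 1 ∨ x = a ∨ x = b ∨ x = a * b := Iff.rfl

theorem four_le {a b : G} (ha : a ∈ A) (hb : b ∈ A) : h.four ha hb ≤ A := by
  rintro x (rfl | rfl | rfl | rfl)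
  · exact A.one_mem
  · exact ha
  · exact hb
  · exact A.mul_mem ha hb

theorem card_four {a b : G} (ha : a ∈ A) (hb : b ∈ A) (ha1 : a ≠ 1) (hb1 : b ≠ 1) (hab : a ≠ b) :
    2 ^ 2 ≤ Nat.card (h.four ha hb) := by
  have hab1 := h.mul_ne_one hb hab
  have h1 : a * b ≠ a := h.mul_ne_left hb1
  have h2 : a * b ≠ b := fun h3 => ha1 (mul_eq_right.1 h3)
  let f : Fin 4 → h.four ha hb := ![⟨1, Or.inl rfl⟩, ⟨a, Or.inr (Or.inl rfl)⟩,
    ⟨b, Or.inr (Or.inr (Or.inl rfl))⟩, ⟨a * b, Or.inr (Or.inr (Or.inr rfl))⟩]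
  have hf : Function.Injective f := by
    intro i j hij
    fin_cases i <;> fin_cases j <;> first | rfl | (exfalso; simp only [f, Subtype.ext_iff, _root_.Fin.zero_eta, _root_.Fin.isValue, _root_.Matrix.cons_val_zero, _root_.Fin.mk_one, _root_.Matrix.cons_val_one, _root_.Fin.reduceFinMk, _root_.Matrix.cons_val, _root_.left_eq_mul, _root_.right_eq_mul, _root_.mul_eq_left, _root_.mul_eq_right] at hij; (clear * - G a ha1 hij b hb1 hab1 hab; tauto))
  have := Nat.card_le_card_of_injective f hf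
  simpa only [_root_.Nat.reducePow, _root_.ge_iff_le, _root_.Nat.card_eq_fintype_card, _root_.Fintype.card_fin] using this

theorem centralizer_four {a b : G} (ha : a ∈ A) (hb : b ∈ A) :
    centralizer (h.four ha hb : Set G) = cc a b := by
  ext x
  rw [mem_centralizer_iff, mem_cc]
  constructor
  · intro hx
    exact ⟨hx a (Or.inr (Or.inl rfl)), hx b (Or.inr (Or.inr (Or.inl rfl)))⟩
  · rintro hx y (rfl | rfl | rfl | rfl)
    · simp
    · exact hx.1
    · exact hx.2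
    · exact mul_comm_of_cc (mem_cc.2 hx)


theorem A_le_norm {a : G} (ha : a ∈ A) (ha1 : a ≠ 1) : A ≤ normalizer (D a : Set G) :=
  (le_inf (fun x hx => mem_cent_singleton.2 (h.comm a ha x hx)) h.A_le_cent).trans (h.canon a ha ha1)

/-- Step (1): `C_{D d}(Q) ∩ C(a) ∩ C(b) ≤ vv a b` for every `d`. -/
theorem yy_inf_le {d a b : G} (hd : d ∈ A) (hd1 : d ≠ 1) (ha : a ∈ A) (hb : b ∈ A) (ha1 : a ≠ 1)
    (hb1 : b ≠ 1) (hab : a ≠ b) : yy Q D d ⊓ cc a b ≤ vv Q D a b := by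
  have : Fact (Nat.Prime 2) := ⟨Nat.prime_two⟩
  have hab1 : a * b ≠ 1 := h.mul_ne_one hb hab
  have habA : a * b ∈ A := A.mul_mem ha hb
  have hBA := h.four_le ha hb
  have h1 := RelGen.inf_centralizer_le (p := 2) (Y := D d) (Q := Q) (B := h.four ha hb) h.pQ
    (CoprimeGen.isElementaryAbelian_mono h.el hBA) (h.card_four ha hb ha1 hb1 hab)
    (fun q hq c hc => (h.commQ c (hBA hc) q hq).symm) (h.solv d hd hd1) (h.odd d hd hd1)
    (h.invQ d hd hd1) (hBA.trans (h.A_le_norm hd hd1)) (h.full d hd hd1)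
  rw [h.centralizer_four ha hb] at h1
  let U : G → Subgroup G := fun e => cc a b ⊓ ⁅D d ⊓ centralizer {e}, Q⁆
  have h2 : (⨆ e : {e : G // e ∈ h.four ha hb ∧ e ≠ 1}, cc a b ⊓ ⁅D d ⊓ centralizer {(e : G)}, Q⁆) ≤
      U a ⊔ U b ⊔ U (a * b) := by
    refine iSup_le ?_
    rintro ⟨e, he, he1⟩
    rcases (h.mem_four ha hb).1 he with rfl | rfl | rfl | rfl
    · exact absurd rfl he1
    · exact le_sup_left.trans le_sup_left
    · exact le_sup_right.trans le_sup_left
    · exact le_sup_right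
  have hUD : ∀ e, U e ≤ D d ⊓ cc a b := fun e => le_inf
    (inf_le_right.trans ((commutator_mono inf_le_left le_rfl).trans
      (_root_.Cfsg.Agent.Lib.CoprimeCommutator.commutator_le_left (h.invQ d hd hd1)))) inf_le_left
  have hnorm : ∀ e, cc a b ≤ centralizer {e} → D d ⊓ cc a b ≤ normalizer ((U e : Subgroup G) : Set G) := by
    intro e he
    refine le_normalizer_of_conj_mem fun g hg x hx => ⟨?_, ?_⟩
    · exact (cc a b).mul_mem ((cc a b).mul_mem hg.2 hx.1) ((cc a b).inv_mem hg.2)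
    · exact conj_mem_of_le_normalizer (left_le_normalizer_commutator (D d ⊓ centralizer {e}) Q)
        ⟨hg.1, he hg.2⟩ hx.2
  have hQU : ∀ e, Q ≤ normalizer ((U e : Subgroup G) : Set G) := by
    intro e
    refine le_normalizer_of_conj_mem fun q hq x hx => ⟨?_, ?_⟩
    · obtain ⟨h3, h4⟩ := mem_cc.1 hx.1
      have h5 := h.commQ a ha q hq
      have h6 := h.commQ b hb q hq
      refine mem_cc.2 ⟨?_, ?_⟩
      · calc a * (q * x * q⁻¹) = (a * q) * x * q⁻¹ := by group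
          _ = q * (a * x) * q⁻¹ := by rw [h5]; group
          _ = q * x * (q⁻¹ * (q * a) * q⁻¹) := by rw [h3]; group
          _ = q * x * q⁻¹ * a := by rw [← h5]; group
      · calc b * (q * x * q⁻¹) = (b * q) * x * q⁻¹ := by group
          _ = q * (b * x) * q⁻¹ := by rw [h6]; group
          _ = q * x * (q⁻¹ * (q * b) * q⁻¹) := by rw [h4]; group
          _ = q * x * q⁻¹ * b := by rw [← h6]; group
    · exact conj_mem_of_le_normalizer (right_le_normalizer_commutator (D d ⊓ centralizer {e}) Q) hq hx.2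
  have hodd : ∀ e, ¬ 2 ∣ Nat.card (U e) := fun e h3 =>
    h.odd d hd hd1 (h3.trans (card_dvd_of_le ((hUD e).trans inf_le_left)))
  have hbal : ∀ e ∈ A, e ≠ 1 → U e ⊓ centralizer (Q : Set G) ≤ yy Q D e ⊓ cc a b := by
    intro e he he1
    refine le_inf (le_inf ?_ inf_le_right) (inf_le_left.trans inf_le_left)
    exact inf_le_left.trans (inf_le_right.trans (h.bal d hd e he hd1 he1))
  have h3 := sup3_inf_centralizer_le (p := 2) (X₁ := U a) (X₂ := U b) (X₃ := U (a * b)) h.pQ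
    (hQU a) (hQU b) (hQU (a * b)) ((hUD b).trans (hnorm a (h.cc_le_left a b)))
    ((hUD (a * b)).trans (le_normalizer_sup (hnorm a (h.cc_le_left a b)) (hnorm b (h.cc_le_right a b))))
    (hodd b) (hodd (a * b))
  rintro x ⟨⟨hx1, hx2⟩, hx3⟩
  have h4 := h3 ⟨h2 (h1 ⟨hx1, hx3⟩), hx2⟩
  exact (sup_le_sup (sup_le_sup (hbal a ha ha1) (hbal b hb hb1)) (hbal _ habA hab1)) h4

theorem A_le_norm_vv {a b : G} (ha : a ∈ A) (hb : b ∈ A) (ha1 : a ≠ 1) (hb1 : b ≠ 1) (hab : a ≠ b) :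
    A ≤ normalizer ((vv Q D a b : Subgroup G) : Set G) :=
  (le_inf (h.A_le_cc ha hb) h.A_le_cent).trans (h.norm_vv ha hb ha1 hb1 hab)

theorem vv_inf_le {a b c : G} (ha : a ∈ A) (hb : b ∈ A) (hc : c ∈ A) (ha1 : a ≠ 1) (hb1 : b ≠ 1)
    (hc1 : c ≠ 1) (hab : a ≠ b) (hac : a ≠ c) : vv Q D a b ⊓ centralizer {c} ≤ vv Q D a c := by
  have : Fact (Nat.Prime 2) := ⟨Nat.prime_two⟩
  have hab1 : a * b ≠ 1 := h.mul_ne_one hb hab
  have habA : a * b ∈ A := A.mul_mem ha hb
  have hzA : zpowers c ≤ A := by rwa [zpowers_le]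
  have hz : IsPGroup 2 (zpowers c) := (CoprimeGen.isPGroup_of_isElementaryAbelian h.el).to_le hzA
  have hzc : zpowers c ≤ cc a b ⊓ centralizer (Q : Set G) :=
    hzA.trans (le_inf (h.A_le_cc ha hb) h.A_le_cent)
  have hle : ∀ e : G, yy Q D e ⊓ cc a b ≤ cc a b ⊓ centralizer (Q : Set G) := fun e =>
    le_inf inf_le_right (inf_le_left.trans inf_le_right)
  have n1 := h.norm_yy ha ha1 (h.cc_le_left a b)
  have n2 := h.norm_yy hb hb1 (h.cc_le_right a b)
  have n3 := h.norm_yy habA hab1 (h.cc_le_mul a b)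
  have h3 := sup3_inf_centralizer_le (p := 2) (X₁ := yy Q D a ⊓ cc a b) (X₂ := yy Q D b ⊓ cc a b)
    (X₃ := yy Q D (a * b) ⊓ cc a b) hz (hzc.trans n1) (hzc.trans n2) (hzc.trans n3)
    ((hle b).trans n1) ((hle (a * b)).trans (le_normalizer_sup n1 n2)) (h.yy_odd hb hb1)
    (h.yy_odd habA hab1)
  rw [CoprimeGen.centralizer_zpowers] at h3
  have h4 : ∀ e ∈ A, e ≠ 1 → (yy Q D e ⊓ cc a b) ⊓ centralizer {c} ≤ vv Q D a c := by
    intro e he he1
    refine le_trans ?_ (h.yy_inf_le he he1 ha hc ha1 hc1 hac)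
    exact le_inf (inf_le_left.trans inf_le_left)
      (le_inf (inf_le_left.trans (inf_le_right.trans (h.cc_le_left a b))) inf_le_right)
  exact h3.trans (sup_le (sup_le (h4 a ha ha1) (h4 b hb hb1)) (h4 _ habA hab1))

/-- `⟨vv a b : b⟩` -/
def _root_.Cfsg.Agent.SignalizersComponents.RelFunctor.pp (A Q : Subgroup G) (D : G → Subgroup G)
    (a : G) : Subgroup G := ⨆ b : {b : G // b ∈ A ∧ b ≠ 1 ∧ b ≠ a}, vv Q D a b

theorem vv_le_pp {a b : G} (hb : b ∈ A) (hb1 : b ≠ 1) (hba : b ≠ a) : vv Q D a b ≤ pp A Q D a :=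
  le_iSup (fun b : {b : G // b ∈ A ∧ b ≠ 1 ∧ b ≠ a} => vv Q D a b) ⟨b, hb, hb1, hba⟩

theorem pp_le_cent {a : G} : pp A Q D a ≤ centralizer {a} ⊓ centralizer (Q : Set G) :=
  iSup_le fun b => le_inf (h.vv_le_cc.trans (h.cc_le_left a b)) h.vv_le_cent

/-- Step (2): the functor on `C(Q) ∩ C(a)`. -/
theorem pp_main {a : G} (ha : a ∈ A) (ha1 : a ≠ 1) :
    ¬ 2 ∣ Nat.card (pp A Q D a) ∧ Group.IsSolvable (pp A Q D a) ∧
      ∀ x ∈ A, x ≠ 1 → x ≠ a → pp A Q D a ⊓ centralizer {x} = vv Q D a x := by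
  obtain ⟨E, hEA, haE, hE, hEc⟩ := RelCompl.exists_compl h.comm h.sq ha ha1
  have hne : ∀ b ∈ E, a ≠ b := fun b hb h1 => haE (h1 ▸ hb)
  obtain ⟨h1, h2, h3⟩ := SolFunctorTwo.solvable_signalizer_functor_two E
    (fun x hx y hy => h.comm x (hEA hx) y (hEA hy))
    (fun x hx => (pow_two x).trans (h.sq x (hEA hx)))
    (by have := h.card; omega) (fun b => vv Q D a b)
    (fun b hb hb1 => h.vv_le_cc.trans (h.cc_le_right a b))
    (fun b hb hb1 => h.vv_odd ha (hEA hb) ha1 hb1 (hne b hb))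
    (fun b hb hb1 c hc x hx => conj_mem_of_le_normalizer
      (h.A_le_norm_vv ha (hEA hb) ha1 hb1 (hne b hb)) (hEA hc) hx)
    (fun b hb hb1 => h.vv_solv ha (hEA hb) ha1 hb1 (hne b hb))
    (fun b hb hb1 c hc hc1 => h.vv_inf_le ha (hEA hb) (hEA hc) ha1 hb1 hc1 (hne b hb) (hne c hc))
  have heq : (⨆ b : {b : G // b ∈ E ∧ b ≠ 1}, vv Q D a b) = pp A Q D a := by
    apply le_antisymm
    · refine iSup_le ?_
      rintro ⟨b, hb, hb1⟩
      exact h.vv_le_pp (hEA hb) hb1 (hne b hb).symm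
    · refine iSup_le ?_
      rintro ⟨b, hb, hb1, hba⟩
      rcases hE b hb with hbE | hbE
      · exact le_iSup (fun b : {b : G // b ∈ E ∧ b ≠ 1} => vv Q D a b) ⟨b, hbE, hb1⟩
      · have := le_iSup (fun b : {b : G // b ∈ E ∧ b ≠ 1} => vv Q D a b)
          ⟨a * b, hbE, h.mul_ne_one hb hba.symm⟩
        rwa [h.vv_mul ha] at this
  rw [heq] at h1 h2 h3
  refine ⟨h1, h3, ?_⟩
  intro x hx hx1 hxa
  rcases hE x hx with hxE | hxE
  · exact h2 x hxE hx1
  · have h4 := h2 (a * x) hxE (h.mul_ne_one hx hxa.symm)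
    rw [h.vv_mul ha] at h4
    rw [← h4]
    have h5 : pp A Q D a ≤ centralizer {a} := h.pp_le_cent.trans inf_le_left
    ext y
    constructor
    · rintro ⟨hy, hyx⟩
      exact ⟨hy, mem_cent_singleton.2 (mul_comm_of_cc (mem_cc.2 ⟨mem_cent_singleton.1 (h5 hy),
        mem_cent_singleton.1 hyx⟩))⟩
    · rintro ⟨hy, hyx⟩
      have h6 : y ∈ cc a (a * x) := ⟨h5 hy, hyx⟩
      rw [h.cc_mul ha] at h6
      exact ⟨hy, h6.2⟩

theorem pp_norm {a : G} (ha : a ∈ A) (ha1 : a ≠ 1) : pp A Q D a ≤ normalizer (D a : Set G) :=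
  h.pp_le_cent.trans (h.canon a ha ha1)

theorem A_le_norm_pp {a : G} (ha : a ∈ A) (ha1 : a ≠ 1) :
    A ≤ normalizer ((pp A Q D a : Subgroup G) : Set G) :=
  FunctorTools.iSup_le_normalizer _ fun b => h.A_le_norm_vv ha b.2.1 ha1 b.2.2.1 b.2.2.2.symm

/-- `D a · pp a` -/
def _root_.Cfsg.Agent.SignalizersComponents.RelFunctor.th (A Q : Subgroup G) (D : G → Subgroup G)
    (a : G) : Subgroup G := D a ⊔ pp A Q D a

theorem th_bal {a c : G} (ha : a ∈ A) (ha1 : a ≠ 1) (hc : c ∈ A) (hc1 : c ≠ 1) :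
    th A Q D a ⊓ centralizer {c} ≤ th A Q D c := by
  have : Fact (Nat.Prime 2) := ⟨Nat.prime_two⟩
  by_cases hca : c = a
  · rw [hca]; exact inf_le_left
  have hzA : zpowers c ≤ A := by rwa [zpowers_le]
  have hz : IsPGroup 2 (zpowers c) := (CoprimeGen.isPGroup_of_isElementaryAbelian h.el).to_le hzA
  have hpa := h.pp_main ha ha1
  have hvv : vv Q D a c ≤ pp A Q D c := by
    rw [h.vv_comm ha hc]
    exact h.vv_le_pp ha ha1 (Ne.symm hca)
  intro x hx
  have hxc : ∀ y ∈ zpowers c, y * x = x * y := by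
    have h1 : x ∈ centralizer ((zpowers c : Subgroup G) : Set G) := by
      rw [CoprimeGen.centralizer_zpowers]; exact hx.2
    exact mem_centralizer_iff.1 h1
  obtain ⟨d, hd, y, hy, hdc, hyc, rfl⟩ := CoprimeBasic.exists_factorization_of_centralizing
    (X := D a) (Y := pp A Q D a) (h.pp_norm ha ha1) (zpowers c) hz
    (fun z hz d hd => conj_mem_of_le_normalizer (h.A_le_norm ha ha1) (hzA hz) hd)
    (fun z hz d hd => conj_mem_of_le_normalizer (h.A_le_norm_pp ha ha1) (hzA hz) hd)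
    (fun h1 => hpa.1 (h1.trans (card_dvd_of_le inf_le_right))) x hx.1 hxc
  have hy' : y ∈ pp A Q D a ⊓ centralizer {c} :=
    ⟨hy, mem_cent_singleton.2 (hyc c (mem_zpowers c))⟩
  rw [hpa.2.2 c hc hc1 hca] at hy'
  refine mul_mem ?_ (mem_sup_right (hvv hy'))
  have hd' : d ∈ D a ⊓ centralizer {c} := ⟨hd, mem_cent_singleton.2 (hdc c (mem_zpowers c))⟩
  have hQD : Q ≤ normalizer ((D a ⊓ centralizer {c} : Subgroup G) : Set G) := by
    rw [← CoprimeGen.centralizer_zpowers]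
    exact le_normalizer_inf_centralizer (h.invQ a ha ha1) fun q hq z hz =>
      (h.commQ z (hzA hz) q hq).symm
  obtain ⟨m, hm, f, hf, rfl⟩ := exists_commutator_mul_fixed_of_isPGroup 2 Q (D a ⊓ centralizer {c})
    h.pQ hQD (fun h1 => h.odd a ha ha1 (h1.trans (card_dvd_of_le inf_le_left))) d hd'
  refine mul_mem (mem_sup_left (h.bal a ha c hc ha1 hc1 hm)) (mem_sup_right (hvv ?_))
  exact h.yy_inf_le ha ha1 ha hc ha1 hc1 (Ne.symm hca)
    ⟨⟨hf.1.1, hf.2⟩, h.cent a ha ha1 hf.1.1, hf.1.2⟩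


/-- the closure of the plain functor `th` -/
def _root_.Cfsg.Agent.SignalizersComponents.RelFunctor.WW (A Q : Subgroup G) (D : G → Subgroup G) :
    Subgroup G := ⨆ a : {a : G // a ∈ A ∧ a ≠ 1}, th A Q D a

/-- the group generated by the `D a` -/
def _root_.Cfsg.Agent.SignalizersComponents.RelFunctor.DD (A : Subgroup G) (D : G → Subgroup G) :
    Subgroup G := ⨆ a : {a : G // a ∈ A ∧ a ≠ 1}, D a

theorem D_le_DD {a : G} (ha : a ∈ A) (ha1 : a ≠ 1) : D a ≤ DD A D :=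
  le_iSup (fun a : {a : G // a ∈ A ∧ a ≠ 1} => D a) ⟨a, ha, ha1⟩

theorem th_le_WW {a : G} (ha : a ∈ A) (ha1 : a ≠ 1) : th A Q D a ≤ WW A Q D :=
  le_iSup (fun a : {a : G // a ∈ A ∧ a ≠ 1} => th A Q D a) ⟨a, ha, ha1⟩

theorem DD_le_WW : DD A D ≤ WW A Q D :=
  iSup_le fun a => (le_sup_left : D a ≤ th A Q D a).trans (h.th_le_WW a.2.1 a.2.2)

/-- Step (3): the functor `th`. -/
theorem WW_main : ¬ 2 ∣ Nat.card (WW A Q D) ∧
    (∀ a ∈ A, a ≠ 1 → WW A Q D ⊓ centralizer {a} = th A Q D a) ∧ Group.IsSolvable (WW A Q D) := by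
  have : Fact (Nat.Prime 2) := ⟨Nat.prime_two⟩
  exact SolFunctorTwo.solvable_signalizer_functor_two A
    h.comm (fun x hx => (pow_two x).trans (h.sq x hx)) (by have := h.card; omega)
    (fun a => th A Q D a)
    (fun a ha ha1 => sup_le (h.cent a ha ha1) (h.pp_le_cent.trans inf_le_left))
    (fun a ha ha1 => not_dvd_sup (p := 2) (h.pp_norm ha ha1) (h.odd a ha ha1) (h.pp_main ha ha1).1)
    (fun a ha ha1 b hb x hx => conj_mem_of_le_normalizer
      (le_normalizer_sup (h.A_le_norm ha ha1) (h.A_le_norm_pp ha ha1)) hb hx)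
    (fun a ha ha1 => CoprimeBasic.isSolvable_sup (h.pp_norm ha ha1) (h.solv a ha ha1)
      (h.pp_main ha ha1).2.1)
    (fun a ha ha1 b hb hb1 => h.th_bal ha ha1 hb hb1)

/-- **The relative functor theorem.** -/
theorem DD_odd : ¬ 2 ∣ Nat.card (DD A D) := fun h1 =>
  h.WW_main.1 (h1.trans (card_dvd_of_le h.DD_le_WW))

theorem DD_solv : Group.IsSolvable (DD A D) := isSolvable_of_le h.WW_main.2.2 h.DD_le_WW

theorem comm_th {a : G} (ha : a ∈ A) (ha1 : a ≠ 1) : ⁅th A Q D a, Q⁆ ≤ D a := by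
  rw [commutator_le]
  intro x hx q hq
  obtain ⟨d, hd, y, hy, rfl⟩ := (CoprimeBasic.mem_sup_iff (h.pp_norm ha ha1) x).mp hx
  have h1 : ⁅d * y, q⁆ = d * ⁅y, q⁆ * d⁻¹ * ⁅d, q⁆ := by
    simp only [commutatorElement_def]; group
  have h2 : ⁅y, q⁆ = 1 := by
    rw [commutatorElement_eq_one_iff_mul_comm]
    exact (mem_centralizer_iff.1 (h.pp_le_cent hy).2 q hq).symm
  rw [h1, h2, mul_one, mul_inv_cancel, one_mul]
  exact _root_.Cfsg.Agent.Lib.CoprimeCommutator.commutator_le_left (h.invQ a ha ha1) (commutator_mem_commutator hd hq)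

theorem comm_WW_inf {a : G} (ha : a ∈ A) (ha1 : a ≠ 1) :
    ⁅WW A Q D ⊓ centralizer {a}, Q⁆ ≤ D a := by
  rw [h.WW_main.2.1 a ha ha1]
  exact h.comm_th ha ha1

theorem comm_DD_inf {a : G} (ha : a ∈ A) (ha1 : a ≠ 1) : ⁅DD A D ⊓ centralizer {a}, Q⁆ = D a := by
  apply le_antisymm
  · exact (commutator_mono (inf_le_inf_right _ h.DD_le_WW) le_rfl).trans (h.comm_WW_inf ha ha1)
  · refine (h.full a ha ha1).trans (commutator_mono (le_inf (h.D_le_DD ha ha1) (h.cent a ha ha1)) le_rfl)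

theorem Q_le_norm_DD : Q ≤ normalizer ((DD A D : Subgroup G) : Set G) :=
  FunctorTools.iSup_le_normalizer _ fun b => h.invQ b b.2.1 b.2.2

theorem A_le_norm_DD : A ≤ normalizer ((DD A D : Subgroup G) : Set G) :=
  FunctorTools.iSup_le_normalizer _ fun b => h.A_le_norm b.2.1 b.2.2

theorem DD_full : DD A D ≤ ⁅DD A D, Q⁆ :=
  iSup_le fun a => (h.full a a.2.1 a.2.2).trans (commutator_mono (h.D_le_DD a.2.1 a.2.2) le_rfl)

/-- The group `DD` is generated by the `D b`, `b ∈ B#`, for every noncyclic `B ≤ A`. -/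
theorem DD_eq {B : Subgroup G} (hBA : B ≤ A) (hB : 2 ^ 2 ≤ Nat.card B) :
    DD A D = ⨆ b : {b : G // b ∈ B ∧ b ≠ 1}, D b := by
  have : Fact (Nat.Prime 2) := ⟨Nat.prime_two⟩
  apply le_antisymm
  · refine (RelGen.le_iSup_commutator (p := 2) (Y := DD A D) (Q := Q) (B := B) h.pQ
      (CoprimeGen.isElementaryAbelian_mono h.el hBA) hB
      (fun q hq c hc => (h.commQ c (hBA hc) q hq).symm) h.DD_solv h.DD_odd h.Q_le_norm_DD
      (hBA.trans h.A_le_norm_DD) h.DD_full).trans (iSup_mono fun b => ?_)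
    exact (h.comm_DD_inf (hBA b.2.1) b.2.2).le
  · exact iSup_le fun b => h.D_le_DD (hBA b.2.1) b.2.2

/-- Conjugation by an element which maps the `D b`, `b ∈ B#`, into `DD`. -/
theorem conj_mem_DD {B : Subgroup G} (hBA : B ≤ A) (hB : 2 ^ 2 ≤ Nat.card B) {g : G}
    (hg : ∀ b ∈ B, b ≠ 1 → ∀ x ∈ D b, g * x * g⁻¹ ∈ DD A D) {x : G} (hx : x ∈ DD A D) :
    g * x * g⁻¹ ∈ DD A D := by
  have h1 : DD A D ≤ (DD A D).comap (MulAut.conj g).toMonoidHom := by
    conv_lhs => rw [h.DD_eq hBA hB]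
    exact iSup_le fun b x hx => hg b b.2.1 b.2.2 x hx
  exact h1 hx

/-- `C(Q) ∩ C(B)` normalises `DD` for every noncyclic `B ≤ A`. -/
theorem cent_le_norm_DD {B : Subgroup G} (hBA : B ≤ A) (hB : 2 ^ 2 ≤ Nat.card B) :
    centralizer (B : Set G) ⊓ centralizer (Q : Set G) ≤ normalizer ((DD A D : Subgroup G) : Set G) := by
  refine le_normalizer_of_conj_mem fun g hg x hx => h.conj_mem_DD hBA hB (fun b hb hb1 y hy => ?_) hx
  refine h.D_le_DD (hBA hb) hb1 (conj_mem_of_le_normalizer (h.canon b (hBA hb) hb1) ⟨?_, hg.2⟩ hy)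
  exact RelGen.cent_le_cent_singleton hb hg.1

end Rel

/-! ### Cores -/

/-- The relative functor theorem for `D a = ⁅X a, Q⁆`, where `X a` is a normal subgroup of odd order of
`C(a)` (for instance its core). -/
theorem Rel.of_cores [Finite G] {A Q : Subgroup G} {X : G → Subgroup G}
    (hcomm : ∀ a ∈ A, ∀ b ∈ A, a * b = b * a) (hsq : ∀ a ∈ A, a * a = 1)
    (hcard : 2 ^ 4 ≤ Nat.card A) (hQ : IsPGroup 2 Q) (hAQ : ∀ a ∈ A, ∀ q ∈ Q, a * q = q * a)
    (hX1 : ∀ a ∈ A, a ≠ 1 → X a ≤ centralizer {a}) (hX2 : ∀ a ∈ A, a ≠ 1 → ¬ 2 ∣ Nat.card (X a))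
    (hX3 : ∀ a ∈ A, a ≠ 1 → Group.IsSolvable (X a))
    (hX4 : ∀ a ∈ A, a ≠ 1 → centralizer {a} ≤ normalizer (X a : Set G))
    (hR : ∀ a ∈ A, ∀ b ∈ A, a ≠ 1 → b ≠ 1 → ⁅X a ⊓ centralizer {b}, Q⁆ ≤ X b) :
    Rel A Q (fun a => ⁅X a, Q⁆) := by
  have : Fact (Nat.Prime 2) := ⟨Nat.prime_two⟩
  have hQc : ∀ a ∈ A, Q ≤ centralizer {a} := fun a ha q hq => mem_cent_singleton.2 (hAQ a ha q hq)
  have hQX : ∀ a ∈ A, a ≠ 1 → Q ≤ normalizer (X a : Set G) := fun a ha ha1 =>
    (hQc a ha).trans (hX4 a ha ha1)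
  have hle : ∀ a ∈ A, a ≠ 1 → ⁅X a, Q⁆ ≤ X a := fun a ha ha1 => _root_.Cfsg.Agent.Lib.CoprimeCommutator.commutator_le_left (hQX a ha ha1)
  have hcop : ∀ a ∈ A, a ≠ 1 → ∀ Z ≤ X a, (Nat.card Q).Coprime (Nat.card Z) := by
    intro a ha ha1 Z hZ
    obtain ⟨k, hk⟩ := hQ.exists_card_eq
    rw [hk]
    apply Nat.Coprime.pow_left
    rw [Nat.prime_two.coprime_iff_not_dvd]
    exact fun hd => hX2 a ha ha1 (hd.trans (card_dvd_of_le hZ))
  refine ⟨hcomm, hsq, hcard, hQ, hAQ, fun a ha ha1 => (hle a ha ha1).trans (hX1 a ha ha1),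
    fun a ha ha1 hd => hX2 a ha ha1 (hd.trans (card_dvd_of_le (hle a ha ha1))),
    fun a ha ha1 => isSolvable_of_le (hX3 a ha ha1) (hle a ha ha1),
    fun a ha ha1 => right_le_normalizer_commutator _ _,
    fun a ha ha1 => (commutator_commutator_eq Q (X a) (hQX a ha ha1) (hcop a ha ha1 _ le_rfl)).ge,
    fun a ha ha1 => ?_, fun a ha b hb ha1 hb1 => ?_⟩
  · refine le_normalizer_commutator (inf_le_left.trans (hX4 a ha ha1)) fun g hg q hq => ?_
    exact (mem_centralizer_iff.1 hg.2 q hq).symm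
  · have hQXb : Q ≤ normalizer ((X a ⊓ centralizer {b} : Subgroup G) : Set G) := by
      refine le_normalizer_of_conj_mem fun q hq x hx =>
        ⟨conj_mem_of_le_normalizer (hQX a ha ha1) hq hx.1, ?_⟩
      exact (centralizer {b}).mul_mem ((centralizer {b}).mul_mem (hQc b hb hq) hx.2)
        ((centralizer {b}).inv_mem (hQc b hb hq))
    have h1 := commutator_commutator_eq Q (X a ⊓ centralizer {b}) hQXb (hcop a ha ha1 _ inf_le_left)
    refine (commutator_mono (inf_le_inf_right _ (hle a ha ha1)) le_rfl).trans ?_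
    rw [← h1]
    exact commutator_mono (hR a ha b hb ha1 hb1) le_rfl

/-- **Corollary.** The core form of the relative functor theorem. -/
theorem cores [Finite G] {A Q : Subgroup G} {X : G → Subgroup G}
    (hcomm : ∀ a ∈ A, ∀ b ∈ A, a * b = b * a) (hsq : ∀ a ∈ A, a * a = 1)
    (hcard : 2 ^ 4 ≤ Nat.card A) (hQ : IsPGroup 2 Q) (hAQ : ∀ a ∈ A, ∀ q ∈ Q, a * q = q * a)
    (hX1 : ∀ a ∈ A, a ≠ 1 → X a ≤ centralizer {a}) (hX2 : ∀ a ∈ A, a ≠ 1 → ¬ 2 ∣ Nat.card (X a))
    (hX3 : ∀ a ∈ A, a ≠ 1 → Group.IsSolvable (X a))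
    (hX4 : ∀ a ∈ A, a ≠ 1 → centralizer {a} ≤ normalizer (X a : Set G))
    (hR : ∀ a ∈ A, ∀ b ∈ A, a ≠ 1 → b ≠ 1 → ⁅X a ⊓ centralizer {b}, Q⁆ ≤ X b) :
    ∃ W : Subgroup G, ¬ 2 ∣ Nat.card W ∧ Group.IsSolvable W ∧ ⁅W, Q⁆ = W ∧
      (∀ a ∈ A, a ≠ 1 → ⁅X a, Q⁆ ≤ W) ∧
      (∀ a ∈ A, a ≠ 1 → ⁅W ⊓ centralizer {a}, Q⁆ = ⁅X a, Q⁆) ∧
      (∀ B ≤ A, 2 ^ 2 ≤ Nat.card B → W = ⨆ b : {b : G // b ∈ B ∧ b ≠ 1}, ⁅X (b : G), Q⁆) ∧
      (∀ a ∈ A, a ≠ 1 → X a ≤ normalizer (W : Set G)) ∧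
      (∀ B ≤ A, 2 ^ 2 ≤ Nat.card B →
        centralizer (B : Set G) ⊓ centralizer (Q : Set G) ≤ normalizer (W : Set G)) ∧
      Q ≤ normalizer (W : Set G) ∧ A ≤ normalizer (W : Set G) := by
  have : Fact (Nat.Prime 2) := ⟨Nat.prime_two⟩
  have h := Rel.of_cores hcomm hsq hcard hQ hAQ hX1 hX2 hX3 hX4 hR
  refine ⟨DD A fun a => ⁅X a, Q⁆, h.DD_odd, h.DD_solv,
    le_antisymm (_root_.Cfsg.Agent.Lib.CoprimeCommutator.commutator_le_left h.Q_le_norm_DD) h.DD_full,
    fun a ha ha1 => h.D_le_DD ha ha1, fun a ha ha1 => h.comm_DD_inf ha ha1,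
    fun B hB hB2 => h.DD_eq hB hB2, fun a ha ha1 => ?_, fun B hB hB2 => h.cent_le_norm_DD hB hB2,
    h.Q_le_norm_DD, h.A_le_norm_DD⟩
  obtain ⟨E, hEA, haE, hE, hEc⟩ := RelCompl.exists_compl hcomm hsq ha ha1
  have hE2 : 2 ^ 2 ≤ Nat.card E := by omega
  have hAC : A ≤ centralizer {a} := fun x hx => mem_cent_singleton.2 (hcomm a ha x hx)
  refine (CoprimeGen.le_iSup_centralizer_ne_one (p := 2) (A := E) (Z := X a)
    (CoprimeGen.isElementaryAbelian_mono h.el hEA) hE2 (hX2 a ha ha1)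
    (hEA.trans (hAC.trans (hX4 a ha ha1)))).trans (iSup_le ?_)
  rintro ⟨b, hb, hb1⟩
  have hab : a ≠ b := fun h1 => haE (h1 ▸ hb)
  have hbA := hEA hb
  have hQc : ∀ a ∈ A, Q ≤ centralizer {a} := fun a ha q hq => mem_cent_singleton.2 (hAQ a ha q hq)
  have hQXb : Q ≤ normalizer ((X a ⊓ centralizer {b} : Subgroup G) : Set G) := by
    refine le_normalizer_of_conj_mem fun q hq x hx =>
      ⟨conj_mem_of_le_normalizer ((hQc a ha).trans (hX4 a ha ha1)) hq hx.1, ?_⟩
    exact (centralizer {b}).mul_mem ((centralizer {b}).mul_mem (hQc b hbA hq) hx.2)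
      ((centralizer {b}).inv_mem (hQc b hbA hq))
  intro x hx
  obtain ⟨m, hm, c, hc, rfl⟩ := exists_commutator_mul_fixed_of_isPGroup 2 Q (X a ⊓ centralizer {b})
    hQ hQXb (fun h1 => hX2 a ha ha1 (h1.trans (card_dvd_of_le inf_le_left))) x hx
  refine mul_mem ?_ ?_
  · exact Subgroup.le_normalizer (h.D_le_DD ha ha1 (commutator_mono inf_le_left le_rfl hm))
  · refine h.cent_le_norm_DD (h.four_le ha hbA) (h.card_four ha hbA ha1 hb1 hab) ⟨?_, hc.2⟩
    rw [SetLike.mem_coe, h.centralizer_four ha hbA]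
    exact ⟨hX1 a ha ha1 hc.1.1, hc.1.2⟩

end Cfsg.Agent.SignalizersComponents.RelFunctor
end

private theorem dce_3c5b73cfc6e5 : _root_.True := by
  try have : _root_.True := by simp only [_root_.Cfsg.Agent.SignalizersComponents.RelFunctor.vv.eq_1]
  try have : _root_.True := by simp only [_root_.Cfsg.Agent.SignalizersComponents.RelFunctor.Rel.four.congr_simp]
  try have : _root_.True := by simp only [_root_.Cfsg.Agent.SignalizersComponents.RelFunctor.cc.eq_1]
  try have : _root_.True := by simp only [_root_.Cfsg.Agent.SignalizersComponents.RelGen.HH.eq_1]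
  try have : _root_.True := by simp only [_root_.Cfsg.Agent.SignalizersComponents.RelGen.LL.eq_1]
  try have : _root_.True := by simp only [_root_.Cfsg.Agent.SignalizersComponents.RelGen.UU.eq_1]
  exact _root_.True.intro
end
end
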