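import Cfsg.Agent.Cit.OmB3.Torus_m3
import Cfsg.Agent.Cit.TorFunctor_m3
import Cfsg.Agent.Cit.OneBasic
import Cfsg.Prelude.Def_Involutions
import Cfsg.Agent.Cit.TyTrans_m3
import Cfsg.Agent.ClassicalGeometry.SLTwoFour
import Cfsg.Agent.GH.QB.ModelG2_m3
import Cfsg.Agent.Cit.OneEndSD_m3
import Cfsg.Prelude.Def_TwoFusion
import Cfsg.Agent.Cit.Trivial
import Cfsg.Agent.Cit.LemmaB
import Cfsg.Agent.GH.Q2.MainTg_mg_m3
import Cfsg.Agent.GH.Q2.MainTg_m3
import Cfsg.Agent.FastGrp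
import Cfsg.Agent.Prune
set_option linter.all false

section
prune_inst 0x7f00000000000000000000000000000000000000000000000000000000000000000000000000000000000000000000000000000000000000000000000000000000000000000000000000000000000000003fffffffffffffffffffffffffffbeffbdffffffff

-- part: Cit/ThreeConn_mg
section
set_option linter.all false
open scoped Cfsg.Agent.FastGrp

-- part: Cit/ThreeConn
section
/-!
# `|Om(S)| = 3`, `z₁ z₂ z₃ = 1`: the commuting graph is connected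

Blueprint `blueprints/CIT-n3.md`, (S1), (S2), (T1), (T2), in a type free form with arbitrary cores.

`Tri Om` : HYP, `|Om(S)| = 3`, `zz K₁ * zz K₂ = zz K₃` for the members of `Om(S)`, and the two facts
* `sw` (from KAPPA, `Hyp.sw` of `Cit.Swap`): if `zz J ∈ S` moves `K ∈ Om(S)` to `K'` then `zz K * zz K'`
  centralises a Sylow 2-subgroup of `J`;
* `fact` (from theorem T for `C(zz H)`): if `J, J'` are adjacent to `H` and `zz J`, `zz J'` commute then
  `zz J * zz J' ≡ zz L` modulo `O(C(zz H))` for some `L` adjacent or equal to `H`.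

Main results: `Tri.rel_of_comm` (commuting `zz K`, `zz J` are in the same component), `Tri.exists_mul` (the product of
two commuting `zz`'s is a `zz`), `Tri.connected` (S1175).
-/

set_option autoImplicit false
set_option linter.style.haveILetI false
set_option linter.unusedSectionVars false

namespace Cfsg.Agent.Cit

open Subgroup Cfsg Relation OneBasic

variable {G : Type*} [Group G]

/-- two involutions congruent modulo a subgroup of odd order are conjugate in it -/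
theorem exists_conj_of_mul_mem_odd [Finite G] {X : Subgroup G} (hX : ¬ 2 ∣ Nat.card X) {s t : G} (hs : s * s = 1)
    (ht : t * t = 1) (hst : s * t ∈ X) : ∃ c ∈ X, c * s * c⁻¹ = t := by
  obtain ⟨m, hm⟩ : ∃ m, orderOf (s * t) = 2 * m + 1 := by
    have h1 : orderOf (s * t) ∣ Nat.card X := by
      have h2 := _root_.orderOf_dvd_natCard (⟨s * t, hst⟩ : X)
      rwa [← Subgroup.orderOf_coe] at h2
    have h3 : Odd (orderOf (s * t)) := by
      rw [Nat.odd_iff]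
      by_contra h4
      exact hX (Dvd.dvd.trans (Nat.dvd_of_mod_eq_zero (by omega)) h1)
    exact h3
  have hsi : s⁻¹ = s := inv_eq_of_mul_eq_one_right hs
  have hti : t⁻¹ = t := inv_eq_of_mul_eq_one_right ht
  set x := s * t with hx
  set y := x ^ (m + 1) with hy
  have hyX : y ∈ X := X.pow_mem hst _
  have hyy : y * y = x := by
    rw [hy, ← pow_add, show m + 1 + (m + 1) = (2 * m + 1) + 1 by ring, pow_succ, ← hm, pow_orderOf_eq_one, one_mul]
  have hsx : s * x * s⁻¹ = x⁻¹ := by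
    rw [hx, mul_inv_rev, hti, hsi]
    calc s * (s * t) * s = (s * s) * t * s := by group
      _ = t * s := by rw [hs, one_mul]
  have hsy : s * y * s⁻¹ = y⁻¹ := by
    have h1 := (MulAut.conj s).toMonoidHom.map_pow x (m + 1)
    simp only [MulEquiv.toMonoidHom_eq_coe, MonoidHom.coe_coe, MulAut.conj_apply] at h1
    rw [hy, h1, hsx, inv_pow]
  refine ⟨y⁻¹, inv_mem hyX, ?_⟩
  rw [inv_inv]
  have h2 : y⁻¹ * s = s * y := by
    rw [← hsy]
    calc s * y * s⁻¹ * s = s * y := by group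
      _ = s * y := rfl
  rw [h2, mul_assoc, hyy, hx, ← mul_assoc, hs, one_mul]

/-- the adjacency relation is symmetric -/
theorem Adj.symm {Om : Set (Subgroup G)} {K L : Subgroup G} (h : Adj Om K L) : Adj Om L K := by
  obtain ⟨S, h1, h2⟩ := h
  exact ⟨S, h2, h1⟩

theorem Adj.left {Om : Set (Subgroup G)} {K L : Subgroup G} (h : Adj Om K L) : K ∈ Om := by
  obtain ⟨S, h1, h2⟩ := h
  exact h1.1

theorem Adj.right {Om : Set (Subgroup G)} {K L : Subgroup G} (h : Adj Om K L) : L ∈ Om := h.symm.left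

theorem Adj.conj {Om : Set (Subgroup G)} (hO : ∀ K ∈ Om, ∀ g, cj g K ∈ Om) {K L : Subgroup G} (h : Adj Om K L)
    (g : G) : Adj Om (cj g K) (cj g L) := by
  haveI : Fact (Nat.Prime 2) := ⟨Nat.prime_two⟩
  obtain ⟨S, h1, h2⟩ := h
  have h3 : ((g • S : Sylow 2 G) : Subgroup G) = cj g (S : Subgroup G) := rfl
  exact ⟨g • S, by rw [h3]; exact cj_mem_OmS hO g h1, by rw [h3]; exact cj_mem_OmS hO g h2⟩

/-- adjacency from a common 2-subgroup -/
theorem adj_of_mem [Finite G] {Om : Set (Subgroup G)} {P K L : Subgroup G} (hP : IsPGroup 2 P)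
    (hK : K ∈ OmS Om P) (hL : L ∈ OmS Om P) : Adj Om K L := by
  obtain ⟨S, hS⟩ := hP.exists_le_sylow
  exact ⟨S, OmS_mono hS hK, OmS_mono hS hL⟩

theorem rel_symm {Om : Set (Subgroup G)} {K L : Subgroup G} (h : ReflTransGen (Adj Om) K L) :
    ReflTransGen (Adj Om) L K := by
  induction h with
  | refl => exact ReflTransGen.refl
  | tail _ h1 ih => exact ReflTransGen.head h1.symm ih

theorem rel_conj {Om : Set (Subgroup G)} (hO : ∀ K ∈ Om, ∀ g, cj g K ∈ Om) {K L : Subgroup G}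
    (h : ReflTransGen (Adj Om) K L) (g : G) : ReflTransGen (Adj Om) (cj g K) (cj g L) := by
  induction h with
  | refl => exact ReflTransGen.refl
  | tail _ h1 ih => exact ih.tail (h1.conj hO g)

/-- the hypotheses of the case `|Om(S)| = 3`, `z₁ z₂ z₃ = 1` -/
structure Tri (Om : Set (Subgroup G)) : Prop where
  hyp : Hyp Om
  three : ∀ S : Sylow 2 G, (OmS Om (S : Subgroup G)).ncard = 3
  mul : ∀ S : Sylow 2 G, ∀ K ∈ OmS Om (S : Subgroup G), ∀ L ∈ OmS Om (S : Subgroup G), K ≠ L →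
    ∃ N ∈ OmS Om (S : Subgroup G), N ≠ K ∧ N ≠ L ∧ zz K * zz L = zz N
  sw : ∀ S : Sylow 2 G, ∀ J ∈ Om, zz J ∈ S → ∀ K ∈ OmS Om (S : Subgroup G), cj (zz J) K ≠ K →
    ∃ Q, Syl Q J ∧ ∀ x ∈ Q, (zz K * zz (cj (zz J) K)) * x = x * (zz K * zz (cj (zz J) K))
  fact : ∀ H J J' : Subgroup G, Adj Om H J → Adj Om H J' → J ≠ J' → zz J * zz J' = zz J' * zz J →
    ∃ L, Adj Om H L ∧ zz J * zz J' * zz L ∈ XX (zz H)

namespace Tri

variable [Finite G] {Om : Set (Subgroup G)}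

/-- `zz` is injective on `Om` -/
theorem inj (t : Tri Om) {K L : Subgroup G} (hK : K ∈ Om) (hL : L ∈ Om) (hz : zz K = zz L) : K = L := by
  obtain ⟨S, hS, -⟩ := t.hyp.exists_sylow hK
  have hL' := t.hyp.mem_OmS_of_zz_eq S hS hL hz.symm
  by_contra hne
  obtain ⟨N, hN, -, -, h1⟩ := t.mul S K hS L hL' hne
  rw [← hz, t.hyp.zz_mul hK] at h1
  exact t.hyp.zz_ne hN.1 h1.symm

theorem mem_normalizer (t : Tri Om) {K : Subgroup G} (hK : K ∈ Om) {g : G} (hg : g * zz K = zz K * g) :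
    g ∈ normalizer (K : Set G) := by
  rw [mem_normalizer_iff_cj]
  apply t.inj (t.hyp.conj K hK g) hK
  rw [t.hyp.zz_cj hK, hg, mul_inv_cancel_right]

theorem cj_eq (t : Tri Om) {K : Subgroup G} (hK : K ∈ Om) {g : G} (hg : g * zz K = zz K * g) : cj g K = K :=
  mem_normalizer_iff_cj.1 (t.mem_normalizer hK hg)

/-- if `zz J` centralises a Sylow 2-subgroup of `K` then `K` and `J` are adjacent -/
theorem adj_of_cent (t : Tri Om) {K J Q : Subgroup G} (hK : K ∈ Om) (hJ : J ∈ Om) (hQ : Syl Q K)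
    (hc : ∀ x ∈ Q, zz J * x = x * zz J) : Adj Om K J := by
  have h1 : Q ≤ normalizer (J : Set G) := fun x hx => t.mem_normalizer hJ (hc x hx).symm
  obtain ⟨R, hR, hQR, -, hS⟩ := exists_two_sup hQ.2.1 h1
  exact adj_of_mem hR (mem_OmS_of_le hK hQ hQR) (mem_OmS_of_le hJ hS inf_le_right)

/-- a member of `Om(S)` and the two others -/
theorem exists_three (t : Tri Om) (S : Sylow 2 G) {K : Subgroup G} (hK : K ∈ OmS Om (S : Subgroup G)) :
    ∃ K2 K3, OmS Om (S : Subgroup G) = {K, K2, K3} ∧ K ≠ K2 ∧ K ≠ K3 ∧ K2 ≠ K3 := by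
  obtain ⟨a, b, c, hab, hac, hbc, hE⟩ := Set.ncard_eq_three.1 (t.three S)
  have h1 : K ∈ ({a, b, c} : Set (Subgroup G)) := hE ▸ hK
  rcases h1 with rfl | rfl | h1
  · exact ⟨b, c, hE, hab, hac, hbc⟩
  · exact ⟨a, c, by rw [hE]; ext x; simp only [Set.mem_insert_iff, Set.mem_singleton_iff]; (clear * -; tauto),
      hab.symm, hbc, hac⟩
  · have h2 : K = c := h1
    subst h2
    exact ⟨a, b, by rw [hE]; ext x; simp only [Set.mem_insert_iff, Set.mem_singleton_iff]; (clear * -; tauto),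
      hac.symm, hbc.symm, hab⟩

theorem mul_eq (t : Tri Om) (S : Sylow 2 G) {K K2 K3 : Subgroup G}
    (hE : OmS Om (S : Subgroup G) = {K, K2, K3}) (h12 : K ≠ K2) :
    zz K * zz K2 = zz K3 := by
  have hK : K ∈ OmS Om (S : Subgroup G) := by rw [hE]; simp
  have hK2 : K2 ∈ OmS Om (S : Subgroup G) := by rw [hE]; simp
  obtain ⟨N, hN, h1, h2, h3⟩ := t.mul S K hK K2 hK2 h12
  have h4 : N ∈ ({K, K2, K3} : Set (Subgroup G)) := hE ▸ hN
  rcases h4 with h4 | h4 | h4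
  · exact absurd h4 h1
  · exact absurd h4 h2
  · rw [h3, h4]

/-- swap case -/
theorem swap (t : Tri Om) (S : Sylow 2 G) {K K2 K3 J : Subgroup G}
    (hE : OmS Om (S : Subgroup G) = {K, K2, K3}) (h23 : K2 ≠ K3) (hJ : J ∈ Om) (hJS : zz J ∈ S)
    (h : cj (zz J) K2 = K3) : Adj Om K J := by
  have hK : K ∈ OmS Om (S : Subgroup G) := by rw [hE]; simp
  have hK2 : K2 ∈ OmS Om (S : Subgroup G) := by rw [hE]; simp
  obtain ⟨Q, hQ, hc⟩ := t.sw S J hJ hJS K2 hK2 (by rw [h]; exact h23.symm)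
  have h1 : zz K2 * zz K3 = zz K := by
    have h2 : OmS Om (S : Subgroup G) = {K2, K3, K} := by
      rw [hE]; ext x; simp only [Set.mem_insert_iff, Set.mem_singleton_iff]; (clear * -; tauto)
    exact t.mul_eq S h2 h23
  rw [h, h1] at hc
  exact (t.adj_of_cent hJ hK.1 hQ hc).symm

theorem fix_or_swap (t : Tri Om) (S : Sylow 2 G) {K K2 K3 : Subgroup G}
    (hE : OmS Om (S : Subgroup G) = {K, K2, K3}) (h12 : K ≠ K2) (h13 : K ≠ K3) (h23 : K2 ≠ K3) {y : G}
    (hy : y ∈ S) (hc : y * zz K = zz K * y) : cj y K2 = K3 ∨ (cj y K2 = K2 ∧ cj y K3 = K3) := by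
  have hK : K ∈ OmS Om (S : Subgroup G) := by rw [hE]; simp
  have hK2 : K2 ∈ OmS Om (S : Subgroup G) := by rw [hE]; simp
  have hK3 : K3 ∈ OmS Om (S : Subgroup G) := by rw [hE]; simp
  have hyK := t.cj_eq hK.1 hc
  have hyN : y ∈ normalizer ((S : Subgroup G) : Set G) := le_normalizer hy
  have h2 : cj y K2 ∈ ({K, K2, K3} : Set (Subgroup G)) := hE ▸ cj_mem_OmS' t.hyp.conj hyN hK2
  have h3 : cj y K3 ∈ ({K, K2, K3} : Set (Subgroup G)) := hE ▸ cj_mem_OmS' t.hyp.conj hyN hK3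
  rcases h2 with h2 | h2 | h2
  · exact absurd (cj_inj.1 (hyK.trans h2.symm)) h12
  · rcases h3 with h3 | h3 | h3
    · exact absurd (cj_inj.1 (hyK.trans h3.symm)) h13
    · exact absurd (cj_inj.1 (h2.trans h3.symm)) h23
    · exact Or.inr ⟨h2, h3⟩
  · exact Or.inl h2

/-- the elements of `E(S)` -/
theorem mem_ES (t : Tri Om) (S : Sylow 2 G) {a : G} (ha : a ∈ ES Om (S : Subgroup G)) :
    a = 1 ∨ ∃ K ∈ OmS Om (S : Subgroup G), a = zz K := by
  unfold ES at ha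
  induction ha using Subgroup.closure_induction with
  | mem x hx =>
    obtain ⟨K, hK, rfl⟩ := hx
    exact Or.inr ⟨K, hK, rfl⟩
  | one => exact Or.inl rfl
  | mul x y _ _ hx hy =>
    rcases hx with rfl | ⟨K, hK, rfl⟩
    · rwa [one_mul]
    · rcases hy with rfl | ⟨L, hL, rfl⟩
      · rw [mul_one]; exact Or.inr ⟨K, hK, rfl⟩
      · by_cases hKL : K = L
        · subst hKL
          exact Or.inl (t.hyp.zz_mul hK.1)
        · obtain ⟨N, hN, -, -, h1⟩ := t.mul S K hK L hL hKL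
          exact Or.inr ⟨N, hN, h1⟩
  | inv x _ hx =>
    rcases hx with rfl | ⟨K, hK, rfl⟩
    · left; exact inv_one
    · right; exact ⟨K, hK, t.hyp.zz_inv hK.1⟩

/-- **members with commuting involutions are in the same component of the commuting graph** -/
theorem rel_of_comm (t : Tri Om) {K J : Subgroup G} (hK : K ∈ Om) (hJ : J ∈ Om)
    (hc : zz J * zz K = zz K * zz J) : ReflTransGen (Adj Om) K J := by
  have hJ2 : IsPGroup 2 (zpowers (zz J)) := by
    apply IsPGroup.of_card (n := 1)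
    rw [Nat.card_zpowers, t.hyp.orderOf_zz hJ, pow_one]
  obtain ⟨T, hT, hzT⟩ := Cit.exists_syl_ge (C := centralizer {zz K}) hJ2
    ((zpowers_le).2 (mem_centralizer_singleton_iff.2 hc))
  obtain ⟨S, hTS, -⟩ := hT.exists_sylow_ge
  have hKS : K ∈ OmS Om (S : Subgroup G) := OmS_mono hTS (t.hyp.mem_OmS_of_syl hK hT)
  have hJS : zz J ∈ S := hTS (hzT (mem_zpowers _))
  obtain ⟨K2, K3, hE, h12, h13, h23⟩ := t.exists_three S hKS
  have hK2 : K2 ∈ OmS Om (S : Subgroup G) := by rw [hE]; simp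
  have hK3 : K3 ∈ OmS Om (S : Subgroup G) := by rw [hE]; simp
  rcases t.fix_or_swap S hE h12 h13 h23 hJS hc with h | ⟨h2, h3⟩
  · exact ReflTransGen.single (t.swap S hE h23 hJ hJS h)
  -- `E ≤ C(zz J)`
  have hfixS : ∀ L ∈ OmS Om (S : Subgroup G), cj (zz J) L = L := by
    intro L hL
    have h4 : L ∈ ({K, K2, K3} : Set (Subgroup G)) := hE ▸ hL
    rcases h4 with h4 | h4 | h4
    · rw [h4]; exact t.cj_eq hK hc
    · rw [h4]; exact h2
    · rw [h4]; exact h3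
  have hEJ : ES Om (S : Subgroup G) ≤ centralizer {zz J} := by
    rw [ES_le_iff]
    intro L hL
    rw [mem_centralizer_singleton_iff]
    exact (t.hyp.comm_zz hL.1 (mem_normalizer_iff_cj.2 (hfixS L hL))).symm
  obtain ⟨T', hT', hET'⟩ := Cit.exists_syl_ge (C := centralizer {zz J})
    (S.isPGroup'.to_le (ES_le t.hyp S.isPGroup')) hEJ
  obtain ⟨S', hTS', -⟩ := hT'.exists_sylow_ge
  have hJS' : J ∈ OmS Om (S' : Subgroup G) := OmS_mono hTS' (t.hyp.mem_OmS_of_syl hJ hT')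
  obtain ⟨J2, J3, hE', g12, g13, g23⟩ := t.exists_three S' hJS'
  have hzS' : ∀ L ∈ OmS Om (S : Subgroup G), zz L ∈ S' := fun L hL => hTS' (hET' (zz_mem_ES hL))
  have hcJ : ∀ L ∈ OmS Om (S : Subgroup G), zz L * zz J = zz J * zz L := fun L hL =>
    mem_centralizer_singleton_iff.1 (hEJ (zz_mem_ES hL))
  by_cases hsw : ∃ L ∈ OmS Om (S : Subgroup G), cj (zz L) J2 = J3
  · obtain ⟨L, hL, hLJ⟩ := hsw
    have h4 : Adj Om J L := t.swap S' hE' g23 hL.1 (hzS' L hL) hLJ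
    have h5 : Adj Om K L := ⟨S, hKS, hL⟩
    exact (ReflTransGen.single h5).tail h4.symm
  have hfix : ∀ L ∈ OmS Om (S : Subgroup G), ∀ M ∈ OmS Om (S' : Subgroup G), cj (zz L) M = M := by
    intro L hL M hM
    have h4 : M ∈ ({J, J2, J3} : Set (Subgroup G)) := hE' ▸ hM
    rcases t.fix_or_swap S' hE' g12 g13 g23 (hzS' L hL) (hcJ L hL) with h | ⟨h5, h6⟩
    · exact absurd ⟨L, hL, h⟩ hsw
    · rcases h4 with h4 | h4 | h4
      · rw [h4]; exact t.cj_eq hJ (hcJ L hL)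
      · rw [h4]; exact h5
      · rw [h4]; exact h6
  have hcomm : ∀ L ∈ OmS Om (S : Subgroup G), ∀ M ∈ OmS Om (S' : Subgroup G),
      zz L * zz M = zz M * zz L := fun L hL M hM =>
    t.hyp.comm_zz hM.1 (mem_normalizer_iff_cj.2 (hfix L hL M hM))
  by_cases hcen : ∃ M ∈ OmS Om (S' : Subgroup G), ∃ Q, Syl Q K ∧ ∀ x ∈ Q, zz M * x = x * zz M
  · obtain ⟨M, hM, Q, hQ, hQc⟩ := hcen
    exact (ReflTransGen.single (t.adj_of_cent hK hM.1 hQ hQc)).tail ⟨S', hM, hJS'⟩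
  push Not at hcen
  -- LEMMA Q
  have hA : ES Om (S' : Subgroup G) ≤ normalizer (K : Set G) := by
    rw [ES_le_iff]
    intro M hM
    exact t.mem_normalizer hK (hcomm K hKS M hM).symm
  have hA2 : IsPGroup 2 (ES Om (S' : Subgroup G)) := S'.isPGroup'.to_le (ES_le t.hyp S'.isPGroup')
  obtain ⟨Q, hQ, hAQ⟩ := exists_syl_normalized hA2 hA
  obtain ⟨c, v, n, hq⟩ := t.hyp.exists_gq hK hQ
  have hJ2S : J2 ∈ OmS Om (S' : Subgroup G) := by rw [hE']; simp
  obtain ⟨w, hw, hw4, a, ha, b, hb, ha1, haw, hbw⟩ := hq.exists_fix_inv hQ.2.1 hAQ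
    (fun a ha => ES_sq t.hyp S'.isPGroup' ha) (zz_mem_ES hJS') (zz_mem_ES hJ2S) (t.hyp.zz_ne hJ)
    (t.hyp.zz_ne hJ2S.1) (fun h4 => g12 (t.inj hJ hJ2S.1 h4)) (by
      intro a ha ha1 h4
      rcases t.mem_ES S' ha with h5 | ⟨M, hM, rfl⟩
      · exact ha1 h5
      · obtain ⟨x, hx, hx2⟩ := hcen M hM Q hQ
        exact hx2 (h4 x hx))
  obtain ⟨M, hM, rfl⟩ := (t.mem_ES S' ha).resolve_left ha1
  have hb1 : b ≠ 1 := by
    rintro rfl
    rw [one_mul, inv_one, mul_one] at hbw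
    exact hq.ne_inv_of_four hw hw4 hbw
  obtain ⟨M', hM', rfl⟩ := (t.mem_ES S' hb).resolve_left hb1
  have hne : M ≠ M' := by
    rintro rfl
    rw [haw] at hbw
    exact hq.ne_inv_of_four hw hw4 hbw
  have hbb : (zz M')⁻¹ = zz M' := t.hyp.zz_inv hM'.1
  have hprod : zz M' * zz (cj w⁻¹ M') = zz K := by
    rw [t.hyp.zz_cj hM'.1, inv_inv]
    have h4 : zz M' * w⁻¹ * zz M' = w := by
      have h5 : zz M' * w⁻¹ * (zz M')⁻¹ = w := by
        calc zz M' * w⁻¹ * (zz M')⁻¹ = (zz M' * w * (zz M')⁻¹)⁻¹ := by group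
          _ = w := by rw [hbw, inv_inv]
      rwa [hbb] at h5
    calc zz M' * (w⁻¹ * zz M' * w) = (zz M' * w⁻¹ * zz M') * w := by group
      _ = w * w := by rw [h4]
      _ = zz K := hq.sq_of_four hw hw4
  have hwM : cj w⁻¹ M = M := by
    have h4 : w ∈ normalizer (M : Set G) := t.mem_normalizer hM.1 (by
      calc w * zz M = (zz M * w * (zz M)⁻¹) * zz M := by rw [haw]
        _ = zz M * w := by group)
    exact mem_normalizer_iff_cj.1 (inv_mem h4)
  have hadj : Adj Om M M' := ⟨S', hM, hM'⟩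
  have hadj' : Adj Om M (cj w⁻¹ M') := by
    have h4 := hadj.conj t.hyp.conj w⁻¹
    rwa [hwM] at h4
  have hMM : M' ≠ cj w⁻¹ M' := by
    intro h4
    rw [← h4, t.hyp.zz_mul hM'.1] at hprod
    exact t.hyp.zz_ne hK hprod.symm
  obtain ⟨L, hL, hLX⟩ := t.fact M M' (cj w⁻¹ M') hadj hadj' hMM (by
    have hzi : (zz (cj w⁻¹ M'))⁻¹ = zz (cj w⁻¹ M') := t.hyp.zz_inv (t.hyp.conj M' hM'.1 _)
    have h4 : (zz M' * zz (cj w⁻¹ M'))⁻¹ = zz M' * zz (cj w⁻¹ M') := by
      rw [hprod, t.hyp.zz_inv hK]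
    rw [mul_inv_rev, hzi, hbb] at h4
    exact h4.symm)
  rw [hprod] at hLX
  obtain ⟨x, hx, hxL⟩ := exists_conj_of_mul_mem_odd (odd_XX _) (t.hyp.zz_mul hK) (t.hyp.zz_mul hL.right) hLX
  have h5 : cj x K = L := t.inj (t.hyp.conj K hK x) hL.right (by rw [t.hyp.zz_cj hK, hxL])
  have h6 : cj x M = M := t.cj_eq hM.1 (mem_centralizer_singleton_iff.1 (XX_le _ hx))
  have h7 : Adj Om M K := by
    have h8 : Adj Om (cj x M) (cj x K) := by rw [h5, h6]; exact hL
    have h9 := h8.conj t.hyp.conj x⁻¹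
    rwa [cj_inv_cj, cj_inv_cj] at h9
  exact (ReflTransGen.single h7.symm).tail ⟨S', hM, hJS'⟩

/-- **the product of two commuting `zz`'s is a `zz`** -/
theorem exists_mul (t : Tri Om) {K J : Subgroup G} (hK : K ∈ Om) (hJ : J ∈ Om) (hne : J ≠ K)
    (hc : zz J * zz K = zz K * zz J) : ∃ L ∈ Om, zz K * zz J = zz L := by
  have hJN : zz J ∈ normalizer (K : Set G) := t.mem_normalizer hK hc
  have hJ2 : IsPGroup 2 (zpowers (zz J)) := by
    apply IsPGroup.of_card (n := 1)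
    rw [Nat.card_zpowers, t.hyp.orderOf_zz hJ, pow_one]
  obtain ⟨Q, hQ, hJQ⟩ := exists_syl_normalized hJ2 ((zpowers_le).2 hJN)
  by_cases hcen : ∀ x ∈ Q, zz J * x = x * zz J
  · obtain ⟨S, h1, h2⟩ := t.adj_of_cent hK hJ hQ hcen
    obtain ⟨N, hN, -, -, h3⟩ := t.mul S K h1 J h2 hne.symm
    exact ⟨N, hN.1, h3⟩
  · obtain ⟨c, v, n, hq⟩ := t.hyp.exists_gq hK hQ
    obtain ⟨w, hw, hw4, hww⟩ := hq.exists_inverted hQ.2.1 (hJQ (mem_zpowers _)) (t.hyp.zz_mul hJ) hcen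
    refine ⟨cj w⁻¹ J, t.hyp.conj J hJ _, ?_⟩
    rw [t.hyp.zz_cj hJ, inv_inv]
    have h1 : zz J * w = w⁻¹ * zz J := by
      rw [← hww]; group
    have h2 : w⁻¹ * zz J * w = zz J * (w * w) := by
      rw [← h1]; group
    rw [h2, hq.sq_of_four hw hw4, ← hc]

/-- the stabiliser of the component of `K` -/
def stab (hO : ∀ K ∈ Om, ∀ g, cj g K ∈ Om) (K : Subgroup G) : Subgroup G where
  carrier := {g | ReflTransGen (Adj Om) K (cj g K)}
  one_mem' := by
    show ReflTransGen (Adj Om) K (cj 1 K)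
    rw [cj_one]
  mul_mem' := by
    intro a b ha hb
    show ReflTransGen (Adj Om) K (cj (a * b) K)
    rw [cj_mul]
    exact ha.trans (rel_conj hO hb a)
  inv_mem' := by
    intro a ha
    show ReflTransGen (Adj Om) K (cj a⁻¹ K)
    have h1 := rel_conj hO ha a⁻¹
    rw [cj_inv_cj] at h1
    exact rel_symm h1

theorem mem_stab {hO : ∀ K ∈ Om, ∀ g, cj g K ∈ Om} {K : Subgroup G} {g : G} :
    g ∈ stab hO K ↔ ReflTransGen (Adj Om) K (cj g K) := Iff.rfl

/-- a Sylow 2-subgroup normalises a member of `Om(S)` -/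
theorem exists_fixed (t : Tri Om) (S : Sylow 2 G) :
    ∃ K ∈ OmS Om (S : Subgroup G), (S : Subgroup G) ≤ normalizer (K : Set G) := by
  haveI : Fact (Nat.Prime 2) := ⟨Nat.prime_two⟩
  let act : MulAction (S : Subgroup G) (OmS Om (S : Subgroup G)) :=
    { smul := fun s K => ⟨cj (s : G) K, cj_mem_OmS' t.hyp.conj (le_normalizer s.2) K.2⟩
      one_smul := fun K => Subtype.ext (cj_one _)
      mul_smul := fun a b K => Subtype.ext (cj_mul _ _ _) }
  have hS : IsPGroup 2 (S : Subgroup G) := S.isPGroup'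
  have hcard : ¬ 2 ∣ Nat.card (OmS Om (S : Subgroup G)) := by
    rw [Nat.card_coe_set_eq, t.three S]
    omega
  obtain ⟨K, hK⟩ := hS.nonempty_fixed_point_of_prime_not_dvd_card (α := OmS Om (S : Subgroup G)) hcard
  refine ⟨K, K.2, fun s hs => ?_⟩
  rw [mem_normalizer_iff_cj]
  exact congrArg Subtype.val (hK ⟨s, hs⟩)

/-- **CONN for `|Om(S)| = 3`, `z₁ z₂ z₃ = 1`**: `hasch` is S1175, `hse` excludes strongly embedded subgroups. -/
theorem connected (t : Tri Om)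
    (hasch : ∀ (M : Subgroup G), M ≠ ⊤ → ∀ z : G, orderOf z = 2 → z ∈ M →
      (∃ S : Sylow 2 G, z ∈ S ∧ ∀ s ∈ S, Commute s z) → (∀ g : G, g * z * g⁻¹ ∈ M → g ∈ M) →
      (∀ g : G, Commute z (g * z * g⁻¹) → g * z * g⁻¹ ≠ z → centralizer ({z * (g * z * g⁻¹)} : Set G) ≤ M) →
      ∃ H : Subgroup G, Cfsg.IsStronglyEmbedded H)
    (hse : ∀ H : Subgroup G, ¬ Cfsg.IsStronglyEmbedded H) {K : Subgroup G} (hK : K ∈ Om) (g : G) :
    ReflTransGen (Adj Om) K (cj g K) := by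
  haveI : Fact (Nat.Prime 2) := ⟨Nat.prime_two⟩
  -- a member fixed by a Sylow subgroup, in the component of `K`
  obtain ⟨S, hKS, -⟩ := t.hyp.exists_sylow hK
  obtain ⟨K0, hK0, hS0⟩ := t.exists_fixed S
  have hKK0 : Adj Om K K0 := ⟨S, hKS, hK0⟩
  set M := stab t.hyp.conj K0 with hM
  have hNM : normalizer (K0 : Set G) ≤ M := by
    intro x hx
    rw [hM, mem_stab, mem_normalizer_iff_cj.1 hx]
  -- (h2)
  have key : ∀ J ∈ Om, zz J ∈ M → ReflTransGen (Adj Om) K0 J := by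
    intro J hJ hzJ
    have hJ2 : IsPGroup 2 (zpowers (zz J)) := by
      apply IsPGroup.of_card (n := 1)
      rw [Nat.card_zpowers, t.hyp.orderOf_zz hJ, pow_one]
    have hSM : Syl (S : Subgroup G) M := by
      refine ⟨hS0.trans hNM, S.isPGroup', fun h => ?_⟩
      exact S.not_dvd_index (h.trans (relIndex_dvd_index_of_le (hS0.trans hNM)))
    obtain ⟨T, hT, hzT⟩ := Cit.exists_syl_ge hJ2 ((zpowers_le).2 hzJ)
    obtain ⟨m, hm, hmT⟩ := hSM.exists_conj hT
    have h1 : zz J ∈ cj m (S : Subgroup G) := by rw [hmT]; exact hzT (mem_zpowers _)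
    rw [mem_cj] at h1
    have h2 : zz J ∈ normalizer ((cj m K0 : Subgroup G) : Set G) := by
      have h3 := hS0 h1
      rw [mem_normalizer_iff_cj] at h3 ⊢
      have h4 := congrArg (cj m) h3
      rw [← cj_mul] at h4
      rw [← cj_mul]
      rw [show m * (m⁻¹ * zz J * m) = zz J * m by group] at h4
      exact h4
    have h5 : ReflTransGen (Adj Om) (cj m K0) J :=
      t.rel_of_comm (t.hyp.conj _ hK0.1 m) hJ (t.hyp.comm_zz (t.hyp.conj _ hK0.1 m) h2)
    exact (mem_stab.1 hm).trans h5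
  by_cases hMt : M = ⊤
  · have h1 : g ∈ M := by rw [hMt]; exact mem_top g
    have h2 := rel_conj t.hyp.conj (ReflTransGen.single hKK0) g
    exact (ReflTransGen.single hKK0).trans ((mem_stab.1 h1).trans (rel_symm h2))
  · exfalso
    suffices hex : ∃ H : Subgroup G, Cfsg.IsStronglyEmbedded H by
      obtain ⟨H, hH⟩ := hex
      exact hse H hH
    refine hasch M hMt (zz K0) (t.hyp.orderOf_zz hK0.1) (hNM (le_normalizer (t.hyp.zz_mem hK0.1)))
      ⟨S, ?_, ?_⟩ ?_ ?_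
    · exact (t.hyp.zz_mem_inf S.isPGroup' hK0).2
    · intro s hs
      exact t.hyp.comm_zz hK0.1 (hS0 hs)
    · intro x hx
      rw [← t.hyp.zz_cj hK0.1] at hx
      exact mem_stab.2 (key _ (t.hyp.conj _ hK0.1 x) hx)
    · intro x hcx hnx
      rw [← t.hyp.zz_cj hK0.1] at hcx hnx ⊢
      have hJ := t.hyp.conj _ hK0.1 x
      obtain ⟨L, hL, hLz⟩ := t.exists_mul hK0.1 hJ (fun h => hnx (by rw [h])) hcx.eq.symm
      rw [hLz]
      intro y hy
      have h1 : ReflTransGen (Adj Om) K0 L := by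
        apply t.rel_of_comm hK0.1 hL
        rw [← hLz]
        calc zz K0 * zz (cj x K0) * zz K0 = zz K0 * (zz (cj x K0) * zz K0) := by group
          _ = zz K0 * (zz K0 * zz (cj x K0)) := by rw [hcx.eq]
      have h2 : cj y L = L := t.cj_eq hL (mem_centralizer_singleton_iff.1 hy)
      have h3 := rel_conj t.hyp.conj h1 y
      rw [h2] at h3
      exact mem_stab.2 (h1.trans (rel_symm h3))

/-- the commuting graph is connected if `Om` is one class -/
theorem connected_of_class (t : Tri Om)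
    (hasch : ∀ (M : Subgroup G), M ≠ ⊤ → ∀ z : G, orderOf z = 2 → z ∈ M →
      (∃ S : Sylow 2 G, z ∈ S ∧ ∀ s ∈ S, Commute s z) → (∀ g : G, g * z * g⁻¹ ∈ M → g ∈ M) →
      (∀ g : G, Commute z (g * z * g⁻¹) → g * z * g⁻¹ ≠ z → centralizer ({z * (g * z * g⁻¹)} : Set G) ≤ M) →
      ∃ H : Subgroup G, Cfsg.IsStronglyEmbedded H)
    (hse : ∀ H : Subgroup G, ¬ Cfsg.IsStronglyEmbedded H)
    (hone : ∀ K ∈ Om, ∀ L ∈ Om, ∃ g, cj g K = L) :
    ∀ K ∈ Om, ∀ L ∈ Om, ReflTransGen (Adj Om) K L := by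
  intro K hK L hL
  obtain ⟨g, rfl⟩ := hone K hK L hL
  exact t.connected hasch hse hK g

end Tri

end Cfsg.Agent.Cit
end

-- part: Cit/Swap
section
/-!
# LEMMA SWAP

`K ≠ K' = y K y⁻¹` in `Om(S)`, `y * y = 1`, `K` generated by elements of odd order. Then
`x * (y * x * y⁻¹) ∈ ⁅C(y), C(y)⁆` for all `x ∈ K ⊓ S`.
-/

set_option autoImplicit false
set_option linter.style.haveILetI false
set_option linter.unusedSectionVars false

namespace Cfsg.Agent.Cit

open Subgroup Cfsg OneBasic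
open scoped commutatorElement

variable {G : Type*} [Group G]

/-! ### Parity: fixed points in cosets of subgroups of odd order -/

/-- an involution normalising the coset `g N`, `|N|` odd, centralises an element of it -/
theorem exists_fixed_coset [Finite G] {N : Subgroup G} (hN : ¬ 2 ∣ Nat.card N) {y g : G} (hy : y * y = 1)
    (hyN : y ∈ normalizer (N : Set G)) (hg : g⁻¹ * (y * g * y⁻¹) ∈ N) :
    ∃ n ∈ N, y * (g * n) = (g * n) * y := by
  classical
  haveI : Fintype N := Fintype.ofFinite N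
  haveI : Fact (Nat.Prime 2) := ⟨Nat.prime_two⟩
  have hyi : y⁻¹ = y := inv_eq_of_mul_eq_one_right hy
  have hy' : ∀ n ∈ N, y * n * y⁻¹ ∈ N := fun n hn => (mem_normalizer_iff.1 hyN n).1 hn
  let f : N → N := fun n => ⟨g⁻¹ * (y * g * y⁻¹) * (y * n * y⁻¹), N.mul_mem hg (hy' _ n.2)⟩
  have hf : Function.Involutive f := by
    intro n
    apply Subtype.ext
    show g⁻¹ * (y * g * y⁻¹) * (y * (g⁻¹ * (y * g * y⁻¹) * (y * (n : G) * y⁻¹)) * y⁻¹) = n
    have h1 : y⁻¹ * y⁻¹ = 1 := by rw [hyi, hy]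
    calc g⁻¹ * (y * g * y⁻¹) * (y * (g⁻¹ * (y * g * y⁻¹) * (y * (n : G) * y⁻¹)) * y⁻¹)
        = g⁻¹ * (y * y) * g * (n : G) * (y⁻¹ * y⁻¹) := by group
      _ = n := by rw [hy, h1]; group
  obtain ⟨n, hn⟩ : ∃ n, f n = n := by
    have h1 : ¬ 2 ∣ Fintype.card N := by rwa [Nat.card_eq_fintype_card] at hN
    exact Equiv.Perm.exists_fixed_point_of_prime (p := 2) (n := 1) h1 (σ := hf.toPerm f)
      (Equiv.ext fun n => by
        show ((hf.toPerm f) ^ 2 ^ 1) n = n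
        rw [pow_one, pow_two]
        exact hf n)
  refine ⟨n, n.2, ?_⟩
  have h2 : g⁻¹ * (y * g * y⁻¹) * (y * (n : G) * y⁻¹) = n := congrArg Subtype.val hn
  calc y * (g * n) = g * (g⁻¹ * (y * g * y⁻¹) * (y * (n : G) * y⁻¹)) * y := by group
    _ = g * n * y := by rw [h2]

/-! ### 2-elements and commutator subgroups -/

/-- a 2-element congruent modulo `[C,C]` to an element of odd order lies in `[C,C]` -/
theorem mem_commutator_of_mul_odd {C : Subgroup G} {w n : G} (hw : w ∈ C) (hn : n ∈ C)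
    (h2 : ∃ k : ℕ, w ^ 2 ^ k = 1) (hodd : Odd (orderOf n)) (h : w * n ∈ ⁅C, C⁆) : w ∈ ⁅C, C⁆ := by
  have hCC : ⁅C, C⁆ = (commutator C).map C.subtype := by
    rw [commutator_def, map_commutator, ← MonoidHom.range_eq_map, range_subtype]
  rw [hCC] at h ⊢
  obtain ⟨k, hk⟩ := h2
  let φ := Abelianization.of (G := C)
  have h3 : φ ⟨w, hw⟩ * φ ⟨n, hn⟩ = 1 := by
    rw [← map_mul, ← MonoidHom.mem_ker, Abelianization.ker_of]
    obtain ⟨c, hc, hc2⟩ := h
    have h4 : (⟨w, hw⟩ * ⟨n, hn⟩ : C) = c := Subtype.ext hc2.symm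
    rw [h4]
    exact hc
  have h5 : orderOf (φ ⟨w, hw⟩) ∣ 2 ^ k := by
    apply orderOf_dvd_of_pow_eq_one
    rw [← map_pow]
    have h6 : (⟨w, hw⟩ : C) ^ 2 ^ k = 1 := Subtype.ext hk
    rw [h6, map_one]
  have h7 : orderOf (φ ⟨w, hw⟩) ∣ orderOf n := by
    apply orderOf_dvd_of_pow_eq_one
    rw [eq_inv_of_mul_eq_one_left h3, inv_pow, ← map_pow]
    have h6 : (⟨n, hn⟩ : C) ^ orderOf n = 1 := Subtype.ext (pow_orderOf_eq_one n)
    rw [h6, map_one, inv_one]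
  have h8 : orderOf (φ ⟨w, hw⟩) = 1 := by
    have h9 : Nat.Coprime (2 ^ k) (orderOf n) := Nat.Coprime.pow_left k (Nat.coprime_two_left.2 hodd)
    exact Nat.dvd_one.1 (h9 ▸ Nat.dvd_gcd h5 h7)
  rw [orderOf_eq_one_iff, ← MonoidHom.mem_ker, Abelianization.ker_of] at h8
  exact ⟨⟨w, hw⟩, h8, rfl⟩

/-- 2-elements of a group generated by elements of odd order are in its commutator subgroup -/
theorem TyTwo.mem_commutator {A : Subgroup G} (hA : TyTwo A) {x : G} (hx : x ∈ A)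
    (h2 : ∃ k : ℕ, x ^ 2 ^ k = 1) : x ∈ ⁅A, A⁆ := by
  have hAA : ⁅A, A⁆ = (commutator A).map A.subtype := by
    rw [commutator_def, map_commutator, ← MonoidHom.range_eq_map, range_subtype]
  rw [hAA]
  obtain ⟨k, hk⟩ := h2
  let φ := Abelianization.of (G := A)
  -- every element of `A` has odd order modulo the commutator subgroup
  have key : ∀ y, y ∈ _root_.Subgroup.closure {c | c ∈ A ∧ Odd (orderOf c)} → ∀ hy : y ∈ A, Odd (orderOf (φ ⟨y, hy⟩)) := by
    have hle : _root_.Subgroup.closure {c | c ∈ A ∧ Odd (orderOf c)} ≤ A := (closure_le _).2 fun c hc => hc.1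
    intro y hy
    induction hy using Subgroup.closure_induction with
    | mem c hc =>
      intro hcA
      refine Odd.of_dvd_nat hc.2 ?_
      have h3 := orderOf_map_dvd φ (⟨c, hcA⟩ : A)
      rwa [orderOf_mk] at h3
    | one =>
      intro h1
      have h3 : (⟨1, h1⟩ : A) = 1 := rfl
      rw [h3, map_one, orderOf_one]
      exact odd_one
    | mul a b ha hb iha ihb =>
      intro hab
      have haA := hle ha
      have hbA := hle hb
      have h3 : (⟨a * b, hab⟩ : A) = ⟨a, haA⟩ * ⟨b, hbA⟩ := rfl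
      rw [h3, map_mul]
      refine Odd.of_dvd_nat ((iha haA).mul (ihb hbA)) ?_
      exact (Commute.all _ _).orderOf_mul_dvd_mul_orderOf
    | inv a ha iha =>
      intro haA
      have h3 : (⟨a⁻¹, haA⟩ : A) = ⟨a, hle ha⟩⁻¹ := rfl
      rw [h3, map_inv, orderOf_inv]
      exact iha (hle ha)
  have h3 := key x (hA hx) hx
  have h5 : orderOf (φ ⟨x, hx⟩) ∣ 2 ^ k := by
    apply orderOf_dvd_of_pow_eq_one
    rw [← map_pow]
    have h6 : (⟨x, hx⟩ : A) ^ 2 ^ k = 1 := Subtype.ext hk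
    rw [h6, map_one]
  have h8 : orderOf (φ ⟨x, hx⟩) = 1 :=
    Nat.Coprime.eq_one_of_dvd (Nat.Coprime.pow_right k (Nat.coprime_two_right.2 h3)) h5
  rw [orderOf_eq_one_iff, ← MonoidHom.mem_ker, Abelianization.ker_of] at h8
  exact ⟨⟨x, hx⟩, h8, rfl⟩

/-! ### The diagonal lift -/

/-- Let `N` be a subgroup of odd order normalised by `A` and `y`, `y * y = 1`, such that `A` and `y A y⁻¹` commute
modulo `N`. Then for a 2-element `x` of `⁅A, A⁆` commuting with `y * x * y⁻¹` the product `x * (y * x * y⁻¹)` is in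
`⁅C(y), C(y)⁆`. -/
theorem swap_abs [Finite G] {A N : Subgroup G} {y : G} (hy : y * y = 1) (hN : ¬ 2 ∣ Nat.card N)
    (hAN : A ≤ normalizer (N : Set G)) (hyN : y ∈ normalizer (N : Set G))
    (hc : ∀ a ∈ A, ∀ b ∈ A, ⁅a, y * b * y⁻¹⁆ ∈ N) {x : G} (hx : x ∈ ⁅A, A⁆) (hx2 : ∃ k : ℕ, x ^ 2 ^ k = 1)
    (hxy : x * (y * x * y⁻¹) = (y * x * y⁻¹) * x) :
    x * (y * x * y⁻¹) ∈ ⁅centralizer {y}, centralizer {y}⁆ := by
  have hyi : y⁻¹ = y := inv_eq_of_mul_eq_one_right hy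
  set D := ⁅centralizer {y}, centralizer {y}⁆ with hD
  have hNn : ∀ {g n : G}, g ∈ normalizer (N : Set G) → n ∈ N → g * n * g⁻¹ ∈ N := fun hg hn =>
    (mem_normalizer_iff.1 hg _).1 hn
  have hNn' : ∀ {g n : G}, g ∈ normalizer (N : Set G) → n ∈ N → g⁻¹ * n * g ∈ N := fun {g n} hg hn => by
    have := hNn (inv_mem hg) hn
    rwa [inv_inv] at this
  have hAy : ∀ a ∈ A, y * a * y⁻¹ ∈ normalizer (N : Set G) := fun a ha =>
    mul_mem (mul_mem hyN (hAN ha)) (inv_mem hyN)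
  -- the relation `u ∈ a (y a y⁻¹) N`
  let R : G → G → Prop := fun a u => (a * (y * a * y⁻¹))⁻¹ * u ∈ N
  have hRex : ∀ a ∈ A, ∃ u ∈ centralizer {y}, R a u := by
    intro a ha
    obtain ⟨n, hn, hn2⟩ := exists_fixed_coset hN (g := a * (y * a * y⁻¹)) hy hyN (by
      have h1 : (a * (y * a * y⁻¹))⁻¹ * (y * (a * (y * a * y⁻¹)) * y⁻¹) =
          (y * a * y⁻¹)⁻¹ * a⁻¹ * (y * a * y⁻¹) * a := by
        calc (a * (y * a * y⁻¹))⁻¹ * (y * (a * (y * a * y⁻¹)) * y⁻¹)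
            = (y * a * y⁻¹)⁻¹ * a⁻¹ * (y * a * y⁻¹) * ((y * y) * a * (y⁻¹ * y⁻¹)) := by group
          _ = (y * a * y⁻¹)⁻¹ * a⁻¹ * (y * a * y⁻¹) * a := by
            rw [hy, hyi, hy]; group
      rw [h1]
      have h2 := hc a⁻¹ (inv_mem ha) a⁻¹ (inv_mem ha)
      have h3 : (y * a * y⁻¹)⁻¹ * a⁻¹ * (y * a * y⁻¹) * a = (⁅a⁻¹, y * a⁻¹ * y⁻¹⁆)⁻¹ := by
        rw [commutatorElement_def]; group
      rw [h3]
      exact inv_mem h2)
    refine ⟨a * (y * a * y⁻¹) * n, ?_, ?_⟩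
    · rw [mem_centralizer_singleton_iff]; exact hn2.symm
    · show (a * (y * a * y⁻¹))⁻¹ * (a * (y * a * y⁻¹) * n) ∈ N
      rw [inv_mul_cancel_left]; exact hn
  have hRn : ∀ {a u : G}, a ∈ A → R a u → u ∈ normalizer (N : Set G) := by
    intro a u ha hu
    have h1 : u = a * (y * a * y⁻¹) * ((a * (y * a * y⁻¹))⁻¹ * u) := by group
    rw [h1]
    exact mul_mem (mul_mem (hAN ha) (hAy a ha)) (le_normalizer hu)
  have hRmul : ∀ {a b u v : G}, a ∈ A → b ∈ A → R a u → R b v → R (a * b) (u * v) := by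
    intro a b u v ha hb hu hv
    show (a * b * (y * (a * b) * y⁻¹))⁻¹ * (u * v) ∈ N
    have hu' : (a * (y * a * y⁻¹))⁻¹ * u ∈ N := hu
    have hv' : (b * (y * b * y⁻¹))⁻¹ * v ∈ N := hv
    set n := (a * (y * a * y⁻¹))⁻¹ * u with hn
    set m := (b * (y * b * y⁻¹))⁻¹ * v with hm
    have e1 : u = a * (y * a * y⁻¹) * n := by rw [hn]; group
    have e2 : v = b * (y * b * y⁻¹) * m := by rw [hm]; group
    set a' := y * a * y⁻¹ with ha'
    set b' := y * b * y⁻¹ with hb'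
    have e3 : y * (a * b) * y⁻¹ = a' * b' := by rw [ha', hb']; group
    rw [e3, e1, e2]
    have e4 : (a * b * (a' * b'))⁻¹ * (a * a' * n * (b * b' * m)) =
        (b'⁻¹ * (a'⁻¹ * b⁻¹ * a' * b) * b') * ((b * b')⁻¹ * n * (b * b')) * m := by group
    rw [e4]
    have hb'N : b' ∈ normalizer (N : Set G) := hAy b hb
    refine N.mul_mem (N.mul_mem (hNn' hb'N ?_) (hNn' (mul_mem (hAN hb) hb'N) hu')) hv'
    have h5 := hc b⁻¹ (inv_mem hb) a⁻¹ (inv_mem ha)
    have h6 : a'⁻¹ * b⁻¹ * a' * b = (⁅b⁻¹, y * a⁻¹ * y⁻¹⁆)⁻¹ := by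
      rw [commutatorElement_def, ha']; group
    rw [h6]
    exact inv_mem h5
  have hRinv : ∀ {a u : G}, a ∈ A → R a u → R a⁻¹ u⁻¹ := by
    intro a u ha hu
    -- `R 1 (u * v)` with `v` a lift of `a⁻¹`
    obtain ⟨v, -, hv⟩ := hRex a⁻¹ (inv_mem ha)
    have h1 : R 1 (u * v) := by
      have := hRmul ha (inv_mem ha) hu hv
      rwa [mul_inv_cancel] at this
    have h2 : u * v ∈ N := by
      have h3 : (1 * (y * 1 * y⁻¹))⁻¹ * (u * v) ∈ N := h1
      have h4 : (1 * (y * 1 * y⁻¹))⁻¹ * (u * v) = u * v := by group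
      rwa [h4] at h3
    show (a⁻¹ * (y * a⁻¹ * y⁻¹))⁻¹ * u⁻¹ ∈ N
    have h5 : (a⁻¹ * (y * a⁻¹ * y⁻¹))⁻¹ * u⁻¹ =
        ((a⁻¹ * (y * a⁻¹ * y⁻¹))⁻¹ * v) * (u * v)⁻¹ := by group
    rw [h5]
    exact N.mul_mem hv (inv_mem h2)
  -- commutators
  have key : ∀ x ∈ ⁅A, A⁆, ∃ u ∈ D, R x u := by
    intro x hx
    have hle : ⁅A, A⁆ ≤ A := commutator_le_self A
    rw [Subgroup.commutator_def] at hx
    induction hx using Subgroup.closure_induction with
    | mem x hx =>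
      obtain ⟨a, ha, b, hb, rfl⟩ := hx
      obtain ⟨u, hu, hau⟩ := hRex a ha
      obtain ⟨v, hv, hbv⟩ := hRex b hb
      refine ⟨⁅u, v⁆, commutator_mem_commutator hu hv, ?_⟩
      rw [commutatorElement_def, commutatorElement_def]
      exact hRmul (mul_mem (mul_mem ha hb) (inv_mem ha)) (inv_mem hb)
        (hRmul (mul_mem ha hb) (inv_mem ha) (hRmul ha hb hau hbv) (hRinv ha hau)) (hRinv hb hbv)
    | one =>
      refine ⟨1, one_mem _, ?_⟩
      show (1 * (y * 1 * y⁻¹))⁻¹ * 1 ∈ N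
      have : (1 * (y * 1 * y⁻¹))⁻¹ * 1 = (1 : G) := by group
      rw [this]; exact N.one_mem
    | mul a b ha hb iha ihb =>
      obtain ⟨u, hu, hau⟩ := iha
      obtain ⟨v, hv, hbv⟩ := ihb
      refine ⟨u * v, mul_mem hu hv, hRmul (hle ?_) (hle ?_) hau hbv⟩
      · rw [Subgroup.commutator_def]; exact ha
      · rw [Subgroup.commutator_def]; exact hb
    | inv a ha iha =>
      obtain ⟨u, hu, hau⟩ := iha
      refine ⟨u⁻¹, inv_mem hu, hRinv (hle ?_) hau⟩
      rw [Subgroup.commutator_def]; exact ha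
  obtain ⟨u, hu, hxu⟩ := key x hx
  have hxu' : (x * (y * x * y⁻¹))⁻¹ * u ∈ N := hxu
  have hwC : x * (y * x * y⁻¹) ∈ centralizer {y} := by
    rw [mem_centralizer_singleton_iff]
    have e1 : x * (y * x * y⁻¹) * y = (x * (y * x * y⁻¹)) * y⁻¹ := by rw [hyi]
    calc x * (y * x * y⁻¹) * y = (x * (y * x * y⁻¹)) * y⁻¹ := e1
      _ = ((y * x * y⁻¹) * x) * y⁻¹ := by rw [hxy]
      _ = y * (x * (y⁻¹ * x * y⁻¹)) := by group
      _ = y * (x * (y * x * y⁻¹)) := by rw [hyi]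
  set w := x * (y * x * y⁻¹) with hw
  have huC : u ∈ centralizer {y} := by
    have h1 : D ≤ centralizer {y} := commutator_le_self _
    exact h1 hu
  have hnC : w⁻¹ * u ∈ centralizer {y} := mul_mem (inv_mem hwC) huC
  apply mem_commutator_of_mul_odd hwC hnC
  · obtain ⟨k, hk⟩ := hx2
    refine ⟨k, ?_⟩
    have h1 : Commute x (y * x * y⁻¹) := hxy
    rw [hw, h1.mul_pow, hk, one_mul]
    have h2 : (y * x * y⁻¹) ^ 2 ^ k = y * x ^ 2 ^ k * y⁻¹ := conj_pow
    rw [h2, hk]; group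
  · have h1 : orderOf (w⁻¹ * u) ∣ Nat.card N := by
      have h2 := _root_.orderOf_dvd_natCard (⟨w⁻¹ * u, hxu'⟩ : N)
      rwa [orderOf_mk] at h2
    refine Odd.of_dvd_nat ?_ h1
    rwa [← Nat.not_even_iff_odd, even_iff_two_dvd]
  · rw [mul_inv_cancel_left]
    exact hu

/-! ### LEMMA SWAP -/

/-- `TyTwo` passes to `K ⊓ H`, `K ∈ Om[H]` -/
theorem TyTwo.inf_of_cov [Finite G] {Om : Set (Subgroup G)} {K H : Subgroup G} (hT : TyTwo K)
    (hK : K ∈ SubCent.cov Om H) : TyTwo (K ⊓ H) := by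
  set L := _root_.Subgroup.closure {c | c ∈ K ⊓ H ∧ Odd (orderOf c)} with hL
  have hLK : L ≤ K ⊓ H := (closure_le _).2 fun c hc => hc.1
  have hoL : ∀ c ∈ K ⊓ H, Odd (orderOf c) → c ∈ L := fun c hc ho => subset_closure ⟨hc, ho⟩
  have hOO : ∀ c ∈ OO K, Odd (orderOf c) := by
    intro c hc
    have h1 := _root_.orderOf_dvd_natCard (⟨c, hc⟩ : OO K)
    rw [orderOf_mk] at h1
    refine Odd.of_dvd_nat ?_ h1
    have h2 := odd_OO K
    rwa [← even_iff_two_dvd, Nat.not_even_iff_odd] at h2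
  have hle : K ≤ L ⊔ OO K := by
    refine hT.trans ((closure_le _).2 ?_)
    rintro c ⟨hcK, hc⟩
    obtain ⟨o, ho, x, hx, rfl⟩ := SubCent.exists_mul hK hcK
    refine mul_mem (mem_sup_right ho) (mem_sup_left (hoL x hx ?_))
    -- `x = o⁻¹ c` has odd order
    have h1 : ∀ j : ℕ, (o * x) ^ j * (x ^ j)⁻¹ ∈ OO K := by
      intro j
      induction j with
      | zero => simp
      | succ j ih =>
        have h2 : (o * x) ^ (j + 1) * (x ^ (j + 1))⁻¹ = o * (x * ((o * x) ^ j * (x ^ j)⁻¹) * x⁻¹) := by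
          rw [pow_succ', pow_succ']
          group
        rw [h2]
        exact mul_mem ho (SubCent.conj_mem_OO hx.1 ih)
    have h2 := h1 (orderOf (o * x))
    rw [pow_orderOf_eq_one, one_mul] at h2
    have h3 : x ^ orderOf (o * x) ∈ OO K := by
      have := inv_mem h2
      rwa [inv_inv] at this
    have h4 : orderOf x ∣ orderOf (o * x) * orderOf (x ^ orderOf (o * x)) := by
      apply orderOf_dvd_of_pow_eq_one
      rw [pow_mul, pow_orderOf_eq_one]
    exact Odd.of_dvd_nat (hc.mul (hOO _ h3)) h4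
  intro k hk
  have hLn : L ≤ normalizer (OO K : Set G) := (hLK.trans inf_le_left).trans (le_normalizer_OO K)
  obtain ⟨l, hl, o, ho, rfl⟩ := exists_mul_of_mem_sup hLn (hle hk.1)
  have ho2 : o ∈ K ⊓ H := by
    have h1 := (K ⊓ H).mul_mem (inv_mem (hLK hl)) hk
    rwa [inv_mul_cancel_left] at h1
  exact mul_mem hl (hoL o ho2 (hOO o ho))

/-- **LEMMA SWAP** -/
theorem Hyp.swap [Finite G] {Om : Set (Subgroup G)} (h : Hyp Om) {S K : Subgroup G} (hS : IsPGroup 2 S)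
    (hK : K ∈ OmS Om S) (hT : TyTwo K) {y : G} (hy : y * y = 1) (hK' : cj y K ∈ OmS Om S) (hne : cj y K ≠ K)
    {x : G} (hx : x ∈ K ⊓ S) (hxy : y * x * y⁻¹ ∈ S) :
    x * (y * x * y⁻¹) ∈ ⁅centralizer {y}, centralizer {y}⁆ := by
  have hyi : y⁻¹ = y := inv_eq_of_mul_eq_one_right hy
  set K' := cj y K with hKd
  have hyK' : cj y K' = K := by
    rw [hKd, ← cj_mul, hy, cj_one]
  set A := K ⊓ centralizer {zz K'} with hA
  set A' := K' ⊓ centralizer {zz K} with hA'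
  have hz : y * zz K * y⁻¹ = zz K' := (h.zz_cj hK.1 y).symm
  have hz' : y * zz K' * y⁻¹ = zz K := by rw [← h.zz_cj hK'.1, hyK']
  have hAA : cj y A = A' := by
    rw [hA, hA', cj_inf, cj_centralizer, hz']
  have hAA' : cj y A' = A := by
    rw [← hAA, ← cj_mul, hy, cj_one]
  have hcom := PairComm.commutator_inf_le h hS hK hK' hne.symm
  rw [← hA, ← hA'] at hcom
  have hAn : A ≤ normalizer (A' : Set G) := by
    intro a ha
    have h1 : a ∈ normalizer (K' : Set G) :=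
      PairComm.inf_centralizer_le_normalizer h hS hK hK' hne.symm ha
    have h2 : a ∈ centralizer {zz K} := h.le_centralizer hK.1 ha.1
    rw [mem_normalizer_iff_cj] at h1 ⊢
    rw [hA', cj_inf, h1, mem_normalizer_iff_cj.1 (le_normalizer h2)]
  -- normalisers of characteristic subgroups
  have hOOn : ∀ {B : Subgroup G} {g : G}, g ∈ normalizer (B : Set G) → g ∈ normalizer (OO B : Set G) := by
    intro B g hg
    rw [mem_normalizer_iff_cj] at hg ⊢
    rw [← OO_cj, hg]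
  set N := OO A ⊓ OO A' with hN
  have hAN : A ≤ normalizer (N : Set G) := by
    intro a ha
    rw [mem_normalizer_iff_cj, hN, cj_inf, mem_normalizer_iff_cj.1 (hOOn (le_normalizer ha)),
      mem_normalizer_iff_cj.1 (hOOn (hAn ha))]
  have hyN : y ∈ normalizer (N : Set G) := by
    rw [mem_normalizer_iff_cj, hN, cj_inf, ← OO_cj, ← OO_cj, hAA, hAA', inf_comm]
  have hNo : ¬ 2 ∣ Nat.card N := fun h2 => odd_OO A (h2.trans (card_dvd_of_le inf_le_left))
  have hcov : K ∈ SubCent.cov Om (centralizer {zz K'}) := PairComm.mem_cov h hS hK hK' hne.symm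
  have hTA : TyTwo A := hT.inf_of_cov hcov
  have hxA : x ∈ A := by
    exact ⟨hx.1, mem_centralizer_singleton_iff.2 (h.comm hS hK hK' hne.symm hx (h.zz_mem_inf hS hK'))⟩
  have hx2 : ∃ k : ℕ, x ^ 2 ^ k = 1 := by
    obtain ⟨k, hk⟩ := hS ⟨x, hx.2⟩
    exact ⟨k, congrArg Subtype.val hk⟩
  refine swap_abs hy hNo hAN hyN ?_ (hTA.mem_commutator hxA hx2) hx2 ?_
  · intro a ha b hb
    apply hcom
    apply commutator_mem_commutator ha
    rw [← hAA]
    exact conj_mem_cj hb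
  · exact h.comm hS hK hK' hne.symm hx ⟨conj_mem_cj hx.1, hxy⟩

/-- (A1) for the member `J`: the involution of a quaternion pair in `⁅C, C⁆`, `C ≤ N(J)`, centralises a Sylow
2-subgroup of `J` -/
def AutOne (J : Subgroup G) : Prop :=
  ∀ C ≤ normalizer (J : Set G), ∀ x ∈ ⁅C, C⁆, ∀ y ∈ ⁅C, C⁆, x * x = y * y → x * y * x⁻¹ = y⁻¹ →
    ∃ Q, Syl Q J ∧ ∀ u ∈ Q, (x * x) * u = u * (x * x)

/-- quaternion pairs in a Sylow 2-subgroup of a member -/
theorem Hyp.exists_pair [Finite G] {Om : Set (Subgroup G)} (h : Hyp Om) {K Q : Subgroup G} (hK : K ∈ Om)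
    (hQ : Syl Q K) : ∃ x ∈ Q, ∃ v ∈ Q, x * x = zz K ∧ v * v = zz K ∧ x * v * x⁻¹ = v⁻¹ := by
  obtain ⟨c, v, n, hc⟩ := h.exists_gq hK hQ
  obtain ⟨y, hy, hy4, hyv⟩ := hc.exists_inverting hc.v_mem hc.orderOf_v
  exact ⟨y, hy, v, hc.v_mem, hc.sq_of_four hy hy4, hc.v_sq, hyv⟩

/-- the swap case: `y` is an involution with `C(y) ≤ N(J)` moving `K ∈ Om(S)`, `y ∈ S` -/
theorem Hyp.sw [Finite G] {Om : Set (Subgroup G)} (h : Hyp Om) {S K J : Subgroup G} (hS : IsPGroup 2 S)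
    (hK : K ∈ OmS Om S) (hT : TyTwo K) {y : G} (hy : y * y = 1) (hyS : y ∈ S) (hne : cj y K ≠ K)
    (hyJ : centralizer {y} ≤ normalizer (J : Set G)) (hJ : AutOne J) :
    ∃ Q, Syl Q J ∧ ∀ u ∈ Q, (zz K * zz (cj y K)) * u = u * (zz K * zz (cj y K)) := by
  have hK' : cj y K ∈ OmS Om S := cj_mem_OmS' h.conj (le_normalizer hyS) hK
  obtain ⟨x, hx, v, hv, hxx, hvv, hxv⟩ := h.exists_pair hK.1 (syl_inf hS hK)
  have hS' : ∀ x ∈ S, y * x * y⁻¹ ∈ S := fun x hx => S.mul_mem (S.mul_mem hyS hx) (S.inv_mem hyS)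
  have hcomm : ∀ a ∈ K ⊓ S, ∀ b ∈ K ⊓ S, a * (y * b * y⁻¹) = (y * b * y⁻¹) * a := fun a ha b hb =>
    h.comm hS hK hK' hne.symm ha ⟨conj_mem_cj hb.1, hS' b hb.2⟩
  have hX := h.swap hS hK hT hy hK' hne hx (hS' x hx.2)
  have hV := h.swap hS hK hT hy hK' hne hv (hS' v hv.2)
  have hz : zz (cj y K) = y * zz K * y⁻¹ := h.zz_cj hK.1 y
  have e1 : x * (y * x * y⁻¹) * (x * (y * x * y⁻¹)) = zz K * zz (cj y K) := by
    calc x * (y * x * y⁻¹) * (x * (y * x * y⁻¹)) = x * ((y * x * y⁻¹) * x) * (y * x * y⁻¹) := by group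
      _ = x * (x * (y * x * y⁻¹)) * (y * x * y⁻¹) := by rw [hcomm x hx x hx]
      _ = (x * x) * (y * (x * x) * y⁻¹) := by group
      _ = zz K * zz (cj y K) := by rw [hxx, hz]
  have e2 : v * (y * v * y⁻¹) * (v * (y * v * y⁻¹)) = zz K * zz (cj y K) := by
    calc v * (y * v * y⁻¹) * (v * (y * v * y⁻¹)) = v * ((y * v * y⁻¹) * v) * (y * v * y⁻¹) := by group
      _ = v * (v * (y * v * y⁻¹)) * (y * v * y⁻¹) := by rw [hcomm v hv v hv]
      _ = (v * v) * (y * (v * v) * y⁻¹) := by group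
      _ = zz K * zz (cj y K) := by rw [hvv, hz]
  have e3 : x * (y * x * y⁻¹) * (v * (y * v * y⁻¹)) * (x * (y * x * y⁻¹))⁻¹ = (v * (y * v * y⁻¹))⁻¹ := by
    calc x * (y * x * y⁻¹) * (v * (y * v * y⁻¹)) * (x * (y * x * y⁻¹))⁻¹
        = x * ((y * x * y⁻¹) * v) * ((y * v * y⁻¹) * (y * x⁻¹ * y⁻¹)) * x⁻¹ := by group
      _ = x * (v * (y * x * y⁻¹)) * ((y * v * y⁻¹) * (y * x⁻¹ * y⁻¹)) * x⁻¹ := by rw [hcomm v hv x hx]
      _ = x * v * ((y * (x * v * x⁻¹) * y⁻¹) * x⁻¹) := by group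
      _ = x * v * ((y * v⁻¹ * y⁻¹) * x⁻¹) := by rw [hxv]
      _ = x * v * (x⁻¹ * (y * v⁻¹ * y⁻¹)) := by rw [hcomm x⁻¹ (inv_mem hx) v⁻¹ (inv_mem hv)]
      _ = (x * v * x⁻¹) * (y * v⁻¹ * y⁻¹) := by group
      _ = v⁻¹ * (y * v⁻¹ * y⁻¹) := by rw [hxv]
      _ = (y * v⁻¹ * y⁻¹) * v⁻¹ := hcomm v⁻¹ (inv_mem hv) v⁻¹ (inv_mem hv)
      _ = (v * (y * v * y⁻¹))⁻¹ := by group
  obtain ⟨Q, hQ, hc⟩ := hJ _ hyJ _ hX _ hV (e1.trans e2.symm) e3
  rw [e1] at hc
  exact ⟨Q, hQ, hc⟩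

end Cfsg.Agent.Cit
end
end

-- part: Cit/ThreeCoreAdj
section
set_option linter.all false
open scoped Cfsg.Agent.FastGrp

/-!
# `|Om(S)| = 3`, `z₁ z₂ z₃ = 1`: adjacency in terms of the action on `K / O(K)`

`Tri.adj_iff` : `K`, `N` are adjacent iff `z_N` commutes with `z_K` and is trivial on `K / O(K)`. Consequences:
products (`Tri.adj_mul`), common Sylow 2-subgroups of several members centralised by a trivial 2-group (`Tri.comm_syl`),
a member adjacent to two adjacent members is the third one (`Tri.third`), lifting of commuting involutions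
(`exists_conj_comm`).
-/

set_option autoImplicit false
set_option linter.style.haveILetI false

namespace Cfsg.Agent.Cit.ThreeCore

open Subgroup Cfsg Relation OneBasic
open Cfsg.Agent.Cit Cfsg.Agent.Cit.AutAct

variable {G : Type*} [Group G]

theorem adj_comm_zz [Finite G] {Om : Set (Subgroup G)} (h : Hyp Om) {K N : Subgroup G} (ha : Adj Om K N) :
    zz N * zz K = zz K * zz N := by
  obtain ⟨S, h1, h2⟩ := ha
  exact ES_comm h S.isPGroup' (zz_mem_ES h2) (zz_mem_ES h1)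

theorem triv_mul {a b : G} {K : Subgroup G} (ha : Triv a K) (hb : Triv b K) (haN : a ∈ normalizer (K : Set G))
    (hbN : b ∈ normalizer (K : Set G)) : Triv (a * b) K := by
  rw [← AutAct.act_eq_one_iff haN] at ha
  rw [← AutAct.act_eq_one_iff hbN] at hb
  rw [← AutAct.act_eq_one_iff (mul_mem haN hbN)]
  have h1 : (⟨a * b, mul_mem haN hbN⟩ : ↥(normalizer (K : Set G))) = ⟨a, haN⟩ * ⟨b, hbN⟩ := rfl
  rw [h1, map_mul, ha, hb, mul_one]

/-- a 2-element of `N(Q) ∩ N(K)` trivial on `K / O(K)` centralises the 2-subgroup `Q` of `K` -/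
theorem triv_comm [Finite G] {a : G} {K Q : Subgroup G} (ha : Triv a K) (hQK : Q ≤ K) (hQ : IsPGroup 2 Q)
    (haQ : a ∈ normalizer (Q : Set G)) {x : G} (hx : x ∈ Q) : a * x = x * a := by
  have h1 : a * x * a⁻¹ * x⁻¹ ∈ Q := Q.mul_mem ((mem_normalizer_iff.1 haQ x).1 hx) (Q.inv_mem hx)
  obtain ⟨n, hn⟩ := hQ ⟨_, h1⟩
  have h2 := AutAct.eq_one_of_OO (ha x (hQK hx)) (n := n) (congrArg Subtype.val hn)
  rw [mul_inv_eq_one, mul_inv_eq_iff_eq_mul] at h2
  exact h2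

/-- an involution commuting with `u` modulo a normalised subgroup `X` of odd order has an `X`-conjugate commuting
with `u` -/
theorem exists_conj_comm [Finite G] {X : Subgroup G} (hX : ¬ 2 ∣ Nat.card X) {u g : G} (hu : u * u = 1)
    (hg : g * g = 1) (huX : u ∈ normalizer (X : Set G)) (hgX : g ∈ normalizer (X : Set G))
    (hc : u * g * u⁻¹ * g⁻¹ ∈ X) : ∃ x ∈ X, (x * g * x⁻¹) * u = u * (x * g * x⁻¹) := by
  have hui : u⁻¹ = u := inv_eq_of_mul_eq_one_right hu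
  have hgi : g⁻¹ = g := inv_eq_of_mul_eq_one_right hg
  obtain ⟨n, hn, hun⟩ := exists_fixed_coset hX hu huX (g := g) (by
    have h1 : g⁻¹ * (u * g * u⁻¹) = g⁻¹ * (u * g * u⁻¹ * g⁻¹) * g := by group
    rw [h1]
    have h2 := (mem_normalizer_iff.1 (inv_mem hgX) (u * g * u⁻¹ * g⁻¹)).1 hc
    rwa [inv_inv] at h2)
  -- an odd power of `g n` is an involution
  set y := g * n with hy
  have hyX : y * y ∈ X := by
    have h1 : y * y = (g * n * g⁻¹) * (g * g) * n := by rw [hy]; group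
    rw [h1, hg, mul_one]
    exact X.mul_mem ((mem_normalizer_iff.1 hgX n).1 hn) hn
  have hodd : Odd (orderOf (y * y)) := by
    have h1 := orderOf_dvd_natCard (⟨y * y, hyX⟩ : X)
    rw [Subgroup.orderOf_mk] at h1
    rw [Nat.odd_iff]
    by_contra h4
    exact hX (Dvd.dvd.trans (Nat.dvd_of_mod_eq_zero (by omega)) h1)
  obtain ⟨m, hm⟩ := hodd
  set t := y ^ (2 * m + 1) with ht
  have htt : t * t = 1 := by
    rw [ht, ← pow_add, show 2 * m + 1 + (2 * m + 1) = 2 * (2 * m + 1) by ring, pow_mul, pow_two, ← hm,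
      pow_orderOf_eq_one]
  have htu : t * u = u * t := by
    have h1 : Commute y u := hun.symm
    exact (h1.pow_left _).eq
  have hgt : g * t ∈ X := by
    have h1 : t = g * (n * (y * y) ^ m) := by
      calc t = y ^ (2 * m) * y := by rw [ht, pow_succ]
        _ = (y * y) ^ m * y := by rw [pow_mul, pow_two]
        _ = y * (y * y) ^ m := by
            have h2 : Commute y (y * y) := (Commute.refl y).mul_right (Commute.refl y)
            exact (h2.pow_right m).eq.symm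
        _ = g * (n * (y * y) ^ m) := by rw [hy]; group
    have h2 : g * t = (g * g) * (n * (y * y) ^ m) := by rw [h1]; group
    rw [h2, hg, one_mul]
    exact X.mul_mem hn (X.pow_mem hyX m)
  obtain ⟨x, hx, hxt⟩ := exists_conj_of_mul_mem_odd hX hg htt hgt
  exact ⟨x, hx, by rw [hxt, htu]⟩

variable [Finite G] {Om : Set (Subgroup G)}

theorem triv_of_adj (t : Tri Om) (hty : ∀ K ∈ Om, IsType K) {K N : Subgroup G} (ha : Adj Om K N) :
    Triv (zz N) K := by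
  have hK := ha.left
  have hN := ha.right
  have hc := adj_comm_zz t.hyp ha
  obtain ⟨S, h1, h2⟩ := ha
  by_cases hne : K = N
  · subst hne
    intro k hk
    have h3 := mem_centralizer_singleton_iff.1 (t.hyp.le_centralizer hK hk)
    rw [← h3, mul_inv_cancel_right, mul_inv_cancel]
    exact one_mem _
  refine AutAct.triv_of_cent (hty K hK) (syl_inf S.isPGroup' h1) (t.mem_normalizer hK hc) (b := 1) ?_ ?_
  · rw [pow_one, pow_two, t.hyp.zz_mul hN]
  · intro x hx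
    exact (t.hyp.comm S.isPGroup' h1 h2 hne hx (t.hyp.zz_mem_inf S.isPGroup' h2)).symm

theorem isPGroup_zpowers_zz (t : Tri Om) {N : Subgroup G} (hN : N ∈ Om) : IsPGroup 2 (zpowers (zz N)) :=
  AutAct.isPGroup_zpowers (k := 1) (by rw [pow_one, pow_two, t.hyp.zz_mul hN])

theorem adj_of_triv (t : Tri Om) {K N : Subgroup G} (hK : K ∈ Om) (hN : N ∈ Om)
    (hc : zz N * zz K = zz K * zz N) (hT : Triv (zz N) K) : Adj Om K N := by
  obtain ⟨Q, hQ, hQN⟩ := exists_syl_normalized (isPGroup_zpowers_zz t hN)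
    ((zpowers_le).2 (t.mem_normalizer hK hc))
  exact t.adj_of_cent hK hN hQ fun x hx => triv_comm hT hQ.1 hQ.2.1 (hQN (mem_zpowers _)) hx

/-- products of involutions of members adjacent to `K` -/
theorem adj_mul (t : Tri Om) (hty : ∀ K ∈ Om, IsType K) {K N N' N'' : Subgroup G} (h1 : Adj Om K N)
    (h2 : Adj Om K N') (hN : N'' ∈ Om) (h3 : zz N'' = zz N * zz N') : Adj Om K N'' := by
  have e1 := adj_comm_zz t.hyp h1
  have e2 := adj_comm_zz t.hyp h2
  refine adj_of_triv t h1.left hN ?_ ?_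
  · rw [h3]
    calc zz N * zz N' * zz K = zz N * (zz N' * zz K) := by group
      _ = (zz N * zz K) * zz N' := by rw [e2]; group
      _ = zz K * (zz N * zz N') := by rw [e1]; group
  · rw [h3]
    exact triv_mul (triv_of_adj t hty h1) (triv_of_adj t hty h2) (t.mem_normalizer h1.left e1)
      (t.mem_normalizer h1.left e2)

/-- two adjacent members and a 2-group normalising both: a Sylow 2-subgroup containing it and Sylow 2-subgroups of
both -/
theorem exists_common (t : Tri Om) {K K' B : Subgroup G} (ha : Adj Om K K') (hB : IsPGroup 2 B)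
    (h1 : B ≤ normalizer (K : Set G)) (h2 : B ≤ normalizer (K' : Set G)) :
    ∃ T : Sylow 2 G, B ≤ T ∧ K ∈ OmS Om (T : Subgroup G) ∧ K' ∈ OmS Om (T : Subgroup G) := by
  have hK := ha.left
  have hK' := ha.right
  by_cases hne : K = K'
  · subst hne
    obtain ⟨R, hR, hBR, -, hS⟩ := exists_two_sup hB h1
    obtain ⟨T, hT⟩ := hR.exists_le_sylow
    have h3 : K ∈ OmS Om (T : Subgroup G) := mem_OmS_of_le hK hS (inf_le_right.trans hT)
    exact ⟨T, hBR.trans hT, h3, h3⟩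
  obtain ⟨S, k1, k2⟩ := ha
  set C : Subgroup G := normalizer (K : Set G) ⊓ normalizer (K' : Set G) with hC
  obtain ⟨T, hT, hBT⟩ := Cit.exists_syl_ge hB (le_inf h1 h2)
  have hQC : (K ⊓ S) ⊔ (K' ⊓ S) ≤ C := by
    have key : ∀ K K' : Subgroup G, K ∈ OmS Om (S : Subgroup G) → K' ∈ OmS Om (S : Subgroup G) → K ≠ K' →
        K ⊓ S ≤ normalizer (K' : Set G) := by
      intro K K' k1 k2 hne x hx
      exact t.mem_normalizer k2.1 (t.hyp.comm S.isPGroup' k1 k2 hne hx (t.hyp.zz_mem_inf S.isPGroup' k2))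
    exact sup_le (le_inf (inf_le_left.trans le_normalizer) (key K K' k1 k2 hne))
      (le_inf (key K' K k2 k1 (Ne.symm hne)) (inf_le_left.trans le_normalizer))
  have hQ2 : IsPGroup 2 ((K ⊓ S) ⊔ (K' ⊓ S) : Subgroup G) := S.isPGroup'.to_le (sup_le inf_le_right inf_le_right)
  obtain ⟨T', hT', hQT'⟩ := Cit.exists_syl_ge hQ2 hQC
  obtain ⟨c, hc, hcT⟩ := hT'.exists_conj hT
  have hmem : ∀ K : Subgroup G, K ∈ OmS Om (S : Subgroup G) → K ⊓ S ≤ (K ⊓ S) ⊔ (K' ⊓ S) ⊔ T' →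
      c ∈ normalizer (K : Set G) → K ⊓ S ≤ T' → K ∈ OmS Om T := by
    intro K k1 _ hcK hle
    have h3 : Syl (cj c (K ⊓ S)) (cj c K) := (syl_inf S.isPGroup' k1).cj c
    rw [mem_normalizer_iff_cj.1 hcK] at h3
    exact mem_OmS_of_le k1.1 h3 (by rw [← hcT]; exact cj_mono c hle)
  obtain ⟨T1, hT1⟩ := hT.2.1.exists_le_sylow
  refine ⟨T1, hBT.trans hT1, OmS_mono hT1 (hmem K k1 ?_ hc.1 (le_sup_left.trans hQT')),
    OmS_mono hT1 (hmem K' k2 ?_ hc.2 (le_sup_right.trans hQT'))⟩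
  · exact le_sup_left.trans le_sup_left
  · exact le_sup_right.trans le_sup_left

/-- a member adjacent to two adjacent members -/
theorem third (t : Tri Om) (hty : ∀ K ∈ Om, IsType K) {K K' N : Subgroup G} (ha : Adj Om K K') (h1 : Adj Om K N)
    (h2 : Adj Om K' N) (hne : K ≠ K') (hNK : N ≠ K) (hNK' : N ≠ K') : zz N = zz K * zz K' := by
  have hN := h1.right
  obtain ⟨T, hzT, k1, k2⟩ := exists_common t ha (isPGroup_zpowers_zz t hN)
    ((zpowers_le).2 (t.mem_normalizer h1.left (adj_comm_zz t.hyp h1)))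
    ((zpowers_le).2 (t.mem_normalizer h2.left (adj_comm_zz t.hyp h2)))
  have hz : zz N ∈ (T : Subgroup G) := hzT (mem_zpowers _)
  have key : ∀ L : Subgroup G, L ∈ OmS Om (T : Subgroup G) → Adj Om L N → L ⊓ T ≤ normalizer (N : Set G) := by
    intro L hL hLN x hx
    refine t.mem_normalizer hN ?_
    refine (triv_comm (triv_of_adj t hty hLN) (inf_le_left : L ⊓ T ≤ L) (T.isPGroup'.to_le inf_le_right) ?_ hx).symm
    rw [mem_normalizer_iff_cj, cj_inf, mem_normalizer_iff_cj.1 (t.mem_normalizer hL.1 (adj_comm_zz t.hyp hLN)),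
      mem_normalizer_iff_cj.1 (le_normalizer hz)]
  have hW : (K ⊓ T) ⊔ (K' ⊓ T) ≤ normalizer (N : Set G) := sup_le (key K k1 h1) (key K' k2 h2)
  obtain ⟨R, hR, hWR, -, hS⟩ := exists_two_sup (T.isPGroup'.to_le (sup_le inf_le_right inf_le_right)) hW
  obtain ⟨S, hRS⟩ := hR.exists_le_sylow
  have j1 : K ∈ OmS Om (S : Subgroup G) :=
    mem_OmS_of_le k1.1 (syl_inf T.isPGroup' k1) ((le_sup_left.trans hWR).trans hRS)
  have j2 : K' ∈ OmS Om (S : Subgroup G) :=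
    mem_OmS_of_le k2.1 (syl_inf T.isPGroup' k2) ((le_sup_right.trans hWR).trans hRS)
  have j3 : N ∈ OmS Om (S : Subgroup G) := mem_OmS_of_le hN hS (inf_le_right.trans hRS)
  obtain ⟨L2, L3, hE, e1, e2, e3⟩ := t.exists_three S j1
  rw [hE] at j2 j3
  rcases j2 with j2 | j2 | j2
  · exact absurd j2.symm hne
  · rcases j3 with j3 | j3 | j3
    · exact absurd j3 hNK
    · exact absurd (j3.trans j2.symm) hNK'
    · rw [j2, j3]
      exact (t.mul_eq S hE e1).symm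
  · rcases j3 with j3 | j3 | j3
    · exact absurd j3 hNK
    · rw [j2, j3]
      have hE' : OmS Om (S : Subgroup G) = {K, L3, L2} := by
        rw [hE]; ext x; simp only [Set.mem_insert_iff, Set.mem_singleton_iff]; tauto
      exact (t.mul_eq S hE' e2).symm
    · exact absurd (j3.trans j2.symm) hNK'

end Cfsg.Agent.Cit.ThreeCore
end

-- part: Cit/SpFacts
section
set_option linter.all false
open scoped Cfsg.Agent.FastGrp

/-!
# The facts on `D = Sp₄(F)` used for the cores of `|Om(S)| = 3`, `z₁ z₂ z₃ = 1`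

`SpFacts p F D K L` : the facts (a)-(d) of helper145's bb R18 #12320 about the component `D` of `H = C(z₁) / O(C(z₁))`
(`D / Z(D) ≅ PSp₄(F)`, `char F = p`) and two commuting members `K`, `L` of `D` (`z_K z_L = z₁ ∈ Z(D)`).

`jL p D j` is the subgroup generated by the `p`-elements of `C_D(j)`; for `j = v w`, `v ∈ K`, `w ∈ L` of order 4, it is
isomorphic to `SL₂(F)`, contains `z₁` and `h = v w⁻¹`, and `D = ⟨K, L, jL⟩`.
-/

set_option autoImplicit false

namespace Cfsg.Agent.Cit.Sp4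

open Subgroup Cfsg Cfsg.Agent.Cit Cfsg.Agent.SignalizersComponents.Components
open Pointwise

universe u

section Local

variable {H : Type*} [Group H]

/-- the subgroup generated by the `p`-elements of `C_D(j)` -/
def jL (p : ℕ) (D : Subgroup H) (j : H) : Subgroup H :=
  closure {x | x ∈ D ∧ IsPGroup p (zpowers x) ∧ x * j = j * x}

theorem jL_le {p : ℕ} {D : Subgroup H} {j : H} : jL p D j ≤ D := by
  rw [jL, closure_le]
  exact fun x hx => hx.1

theorem jL_comm {p : ℕ} {D : Subgroup H} {j x : H} (hx : x ∈ jL p D j) : x * j = j * x := by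
  have h1 : jL p D j ≤ centralizer {j} := by
    rw [jL, closure_le]
    intro y hy
    exact mem_centralizer_singleton_iff.2 hy.2.2
  exact mem_centralizer_singleton_iff.1 (h1 hx)

theorem cj_jL {p : ℕ} {D : Subgroup H} {j x : H} (hx : x ∈ normalizer (D : Set H))
    (hj : x * j * x⁻¹ = j ∨ x * j * x⁻¹ = j⁻¹) : cj x (jL p D j) = jL p D j := by
  have key : ∀ y : H, y ∈ normalizer (D : Set H) → (y * j * y⁻¹ = j ∨ y * j * y⁻¹ = j⁻¹) →
      cj y (jL p D j) ≤ jL p D j := by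
    intro y hy hyj
    rw [cj, jL, MonoidHom.map_closure, closure_le]
    rintro _ ⟨x, ⟨hxD, hxp, hxj⟩, rfl⟩
    refine subset_closure ⟨?_, ?_, ?_⟩
    · exact (mem_normalizer_iff.1 hy x).1 hxD
    · have h1 := hxp.map (MulAut.conj y).toMonoidHom
      rwa [MonoidHom.map_zpowers] at h1
    · have h2 : (y * x * y⁻¹) * (y * j * y⁻¹) = (y * j * y⁻¹) * (y * x * y⁻¹) := by
        calc (y * x * y⁻¹) * (y * j * y⁻¹) = y * (x * j) * y⁻¹ := by group
          _ = (y * j * y⁻¹) * (y * x * y⁻¹) := by rw [hxj]; group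
      have h3 : Commute (y * x * y⁻¹) (y * j * y⁻¹) := h2
      rcases hyj with e | e
      · rw [e] at h3
        exact h3
      · rw [e] at h3
        exact (Commute.inv_right_iff.1 h3)
  refine le_antisymm (key x hx hj) ?_
  have h1 := key x⁻¹ (inv_mem hx) (by
    rcases hj with e | e
    · left
      calc x⁻¹ * j * x⁻¹⁻¹ = x⁻¹ * (x * j * x⁻¹) * x := by rw [e, inv_inv]
        _ = j := by group
    · right
      have e' : x * j⁻¹ * x⁻¹ = j := by
        have := congrArg (·⁻¹) e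
        simpa [mul_assoc] using this
      calc x⁻¹ * j * x⁻¹⁻¹ = x⁻¹ * (x * j⁻¹ * x⁻¹) * x := by rw [e', inv_inv]
        _ = j⁻¹ := by group)
  intro y hy
  have h2 : x⁻¹ * y * x ∈ jL p D j := h1 ⟨y, hy, by simp⟩
  exact ⟨x⁻¹ * y * x, h2, by simp [mul_assoc]⟩

/-- **the facts on `D`** (`D / Z(D) ≅ PSp₄(F)`) and two commuting members `K`, `L` of `D` -/
structure SpFacts (p : ℕ) (F : Type) [Field F] (D K L : Subgroup H) : Prop where
  comp : IsComponent D
  left : K ≤ D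
  right : L ≤ D
  eK : Nonempty (Matrix.SpecialLinearGroup (Fin 2) F ≃* K)
  eL : Nonempty (Matrix.SpecialLinearGroup (Fin 2) F ≃* L)
  comm : ∀ x ∈ K, ∀ y ∈ L, x * y = y * x
  ne : zz K ≠ zz L
  zcen : ∀ x ∈ D, x * (zz K * zz L) = zz K * zz L * x
  /-- (a) `C_D(z_K) = K L` -/
  cen : ∀ x ∈ D, x * zz K = zz K * x → x ∈ K ⊔ L
  /-- (b) `C_{Aut D}(K L)` is a 2-group -/
  cent : ∀ u : H, u ∈ normalizer (D : Set H) → ¬ 2 ∣ orderOf u → u ∈ centralizer (K : Set H) →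
    u ∈ centralizer (L : Set H) → u ∈ centralizer (D : Set H)
  /-- (c) -/
  iso : ∀ v ∈ K, ∀ w ∈ L, v * v = zz K → w * w = zz L →
    Nonempty (Matrix.SpecialLinearGroup (Fin 2) F ≃* jL p D (v * w))
  zmem : ∀ v ∈ K, ∀ w ∈ L, v * v = zz K → w * w = zz L → zz K * zz L ∈ jL p D (v * w)
  hmem : ∀ v ∈ K, ∀ w ∈ L, v * v = zz K → w * w = zz L → v * w⁻¹ ∈ jL p D (v * w)
  /-- (d) -/
  gen : ∀ v ∈ K, ∀ w ∈ L, v * v = zz K → w * w = zz L → D ≤ K ⊔ L ⊔ jL p D (v * w)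

end Local

end Cfsg.Agent.Cit.Sp4

private theorem dce_caf3309ffcde : _root_.True := by
  try have : _root_.True := by simp only [_root_.Cfsg.Agent.Cit.Sp4.jL.eq_1]
  exact _root_.True.intro
end

-- part: Cit/SpLift
section
set_option linter.all false
open scoped Cfsg.Agent.FastGrp

/-!
# `E / Z(E) ≅ PSp₄(F)`: lifting the facts to `E`

`Cov p φ K L z z'` : `E` perfect, `Z(E)` a 2-group, `φ : E → Sp₄(F) / Z` onto with kernel `Z(E)`, `K`, `L` commuting
subgroups `≅ SL₂(F)` over the two blocks, with involutions `z ≠ z'`.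

* `Cov.center_le`, `Cov.center_eq` : `Z(E) = ⟨z z'⟩ ≤ K L` (transfer);
* `Cov.mem_sup` : `C_E(z) = K L`.
-/

set_option autoImplicit false
set_option linter.style.haveILetI false
set_option linter.unusedSectionVars false

namespace Cfsg.Agent.Cit.SpLift

open Subgroup Cfsg Matrix Cfsg.Agent.Cit.LongAbs Cfsg.Agent.Cit.LongBlock Cfsg.Agent.Cit.LongQuot
  Cfsg.Agent.Cit.LongMain Cfsg.Agent.Cit.LongSp Cfsg.Agent.Cit.SpGen Cfsg.Agent.Cit.LongModel
  Cfsg.Agent.Cit.LongInst Cfsg.Agent.Cit.LongConj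

/-- `SL₂(F)` -/
abbrev SL (F : Type*) [Field F] := SpecialLinearGroup (Fin 2) F

/-- `PSp₄(F)` -/
abbrev QQ (F : Type*) [Field F] := Γ F ⧸ center (Γ F)

/-! ### Generalities -/

section Gen

variable {E : Type*} [Group E]

/-- `K` is generated by its `p`-elements -/
def PG (p : ℕ) (K : Subgroup E) : Prop :=
  ∀ X : Subgroup E, (∀ v ∈ K, ∀ n : ℕ, v ^ p ^ n = 1 → v ∈ X) → K ≤ X

/-- products of commuting subgroups -/
theorem mem_sup_comm {K L : Subgroup E} (h : ∀ x ∈ K, ∀ y ∈ L, x * y = y * x) {x : E} :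
    x ∈ K ⊔ L ↔ ∃ a ∈ K, ∃ b ∈ L, x = a * b := by
  constructor
  · intro hx
    have h1 : K ⊔ L ≤ 
        { carrier := {x | ∃ a ∈ K, ∃ b ∈ L, x = a * b}
          one_mem' := ⟨1, K.one_mem, 1, L.one_mem, by simp⟩
          mul_mem' := by
            rintro _ _ ⟨a, ha, b, hb, rfl⟩ ⟨c, hc, d, hd, rfl⟩
            refine ⟨a * c, K.mul_mem ha hc, b * d, L.mul_mem hb hd, ?_⟩
            calc a * b * (c * d) = a * (b * c) * d := by group
              _ = a * (c * b) * d := by rw [h c hc b hb]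
              _ = a * c * (b * d) := by group
          inv_mem' := by
            rintro _ ⟨a, ha, b, hb, rfl⟩
            refine ⟨a⁻¹, K.inv_mem ha, b⁻¹, L.inv_mem hb, ?_⟩
            rw [_root_.mul_inv_rev, h _ (K.inv_mem ha) _ (L.inv_mem hb)] : Subgroup E } := by
      refine sup_le (fun a ha => ⟨a, ha, 1, L.one_mem, by simp⟩) fun b hb => ⟨1, K.one_mem, b, hb, by simp⟩
    exact h1 hx
  · rintro ⟨a, ha, b, hb, rfl⟩
    exact mul_mem (mem_sup_left ha) (mem_sup_right hb)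

/-- transfer: the central 2-elements of a perfect group lie in `P'`, `|E : P|` odd -/
theorem mem_commutator_of_central [Finite E] (hG : commutator E = ⊤) (P : Subgroup E)
    (hodd : ¬ 2 ∣ P.index) {z : E} (hz : z ∈ P) (hc : z ∈ center E) {a : ℕ} (hz2 : z ^ 2 ^ a = 1) :
    z ∈ ⁅P, P⁆ := by
  let V : E →* Abelianization P := MonoidHom.transfer (Abelianization.of)
  have h1 : V z = 1 := by
    have h0 : commutator E ≤ V.ker := Abelianization.commutator_subset_ker V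
    exact h0 (hG ▸ mem_top z)
  have h2 : V z = Abelianization.of ⟨z ^ P.index, Subgroup.pow_mem _ hz _⟩ := by
    have key : ∀ (k : ℕ) (g₀ : E), g₀⁻¹ * z ^ k * g₀ ∈ P → g₀⁻¹ * z ^ k * g₀ = z ^ k := by
      intro k g₀ _
      have h3 := mem_center_iff.1 ((center E).pow_mem hc k) g₀
      rw [mul_assoc, ← h3, inv_mul_cancel_left]
    exact MonoidHom.transfer_eq_pow _ z key
  rw [h1] at h2
  have h3 : (⟨z ^ P.index, Subgroup.pow_mem _ hz _⟩ : P) ∈ commutator P := by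
    rw [← Abelianization.ker_of, MonoidHom.mem_ker]
    exact h2.symm
  have h4 : z ^ P.index ∈ ⁅P, P⁆ := by
    rw [← Subgroup.map_subtype_commutator]
    exact ⟨_, h3, rfl⟩
  have h5 : (orderOf z).Coprime P.index := by
    have h6 : orderOf z ∣ 2 ^ a := orderOf_dvd_of_pow_eq_one hz2
    refine Nat.Coprime.coprime_dvd_left h6 (Nat.Coprime.pow_left a ?_)
    exact (Nat.Prime.coprime_iff_not_dvd Nat.prime_two).2 hodd
  obtain ⟨m, hm⟩ := exists_pow_eq_self_of_coprime h5.symm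
  rw [← hm]
  exact Subgroup.pow_mem _ h4 m

end Gen

/-! ### `SL₂(F)` -/

section SLF

variable {F : Type*} [Field F] {E : Type*} [Group E] {K : Subgroup E}

theorem sl_unique (h2 : (2 : F) ≠ 0) (e : SL F ≃* K) {z x : E} (hz : z ∈ K) (hz2 : z * z = 1) (hz1 : z ≠ 1) 
    (hx : x ∈ K) (hx2 : x * x = 1) (hx1 : x ≠ 1) : x = z := by
  have key : ∀ y : E, ∀ hy : y ∈ K, y * y = 1 → y ≠ 1 → e.symm ⟨y, hy⟩ = -1 := by
    intro y hy hy2 hy1
    refine eq_neg_one h2 ?_ fun h => hy1 ?_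
    · rw [← map_mul]
      have : (⟨y, hy⟩ * ⟨y, hy⟩ : K) = 1 := Subtype.ext hy2
      rw [this, map_one]
    · have := (e.symm.map_eq_one_iff).1 h
      exact congrArg Subtype.val this
  have h3 := (key x hx hx2 hx1).trans (key z hz hz2 hz1).symm
  exact congrArg Subtype.val (e.symm.injective h3)

theorem sl_center_sq (e : SL F ≃* K) {x : E} (hx : x ∈ K) (hc : ∀ y ∈ K, y * x = x * y) : x * x = 1 := by
  have h1 : e.symm ⟨x, hx⟩ ∈ center (SL F) := by
    rw [mem_center_iff]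
    intro g
    apply e.injective
    rw [map_mul, map_mul, e.apply_symm_apply]
    exact Subtype.ext (hc _ (e g).2)
  obtain ⟨r, hr, hr2⟩ := Matrix.SpecialLinearGroup.mem_center_iff.1 h1
  have h2 : e.symm ⟨x, hx⟩ * e.symm ⟨x, hx⟩ = 1 := by
    apply Subtype.ext
    change (e.symm ⟨x, hx⟩).1 * (e.symm ⟨x, hx⟩).1 = 1
    rw [← hr2, ← map_mul, ← pow_two, show r ^ 2 = 1 by simpa only [_root_.sq_eq_one_iff, _root_.Fintype.card_fin] using hr, map_one]
  rw [← map_mul] at h2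
  have h3 := (e.symm.map_eq_one_iff).1 h2
  exact congrArg Subtype.val h3

theorem sl_conj_four [Fintype F] (hF : Odd (Fintype.card F)) (h2 : (2 : F) ≠ 0) (e : SL F ≃* K) {z x y : E} 
    (hz1 : z ≠ 1) (hz2 : z * z = 1) (hx : x ∈ K) (hy : y ∈ K) (hxx : x * x = z) (hyy : y * y = z) :
    ∃ k ∈ K, k * x * k⁻¹ = y := by
  have key : ∀ y : E, ∀ hy : y ∈ K, y * y = z → e.symm ⟨y, hy⟩ * e.symm ⟨y, hy⟩ = -1 := by
    intro y hy hyy
    refine eq_neg_one h2 ?_ fun h => hz1 ?_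
    · rw [← map_mul, ← map_mul]
      have : ((⟨y, hy⟩ * ⟨y, hy⟩ : K) * (⟨y, hy⟩ * ⟨y, hy⟩ : K)) = 1 := Subtype.ext (by
        change (y * y) * (y * y) = 1
        rw [hyy, hz2])
      rw [this, map_one]
    · rw [← map_mul] at h
      have := congrArg Subtype.val ((e.symm.map_eq_one_iff).1 h)
      rw [← hyy]
      exact this
  obtain ⟨g, hg⟩ := ClassicalGeometry.SLTwoFour.exists_conj_w hF _ (key x hx hxx)
  obtain ⟨k, hk⟩ := ClassicalGeometry.SLTwoFour.exists_conj_w hF _ (key y hy hyy)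
  refine ⟨e (k * g⁻¹), (e (k * g⁻¹)).2, ?_⟩
  have h3 : (k * g⁻¹) * e.symm ⟨x, hx⟩ * (k * g⁻¹)⁻¹ = e.symm ⟨y, hy⟩ := by
    rw [← hg, ← hk]; group
  have h4 := congrArg e h3
  rw [map_mul, map_mul, map_inv, e.apply_symm_apply, e.apply_symm_apply] at h4
  exact congrArg Subtype.val h4

theorem sl_pg {p : ℕ} [CharP F p] (e : SL F ≃* K) : PG p K := by
  have h0 : ∀ g : SL F, g ∈ Subgroup.closure {x : SL F | x ^ p = 1} := by
    let su (t : F) : SL F := ⟨!![1, t; 0, 1], by simp⟩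
    let sl (t : F) : SL F := ⟨!![1, 0; t, 1], by simp⟩
    have hsu : ∀ (t : F) (n : ℕ), (su t) ^ n = su (n * t) := by
      intro t n
      induction n with
      | zero => 
        rw [pow_zero, Nat.cast_zero, zero_mul]
        apply Subtype.ext; ext i j; (revert i j; simp only [su, _root_.Fin.forall_fin_succ, _root_.Matrix.SpecialLinearGroup.coe_one, _root_.Matrix.of_apply, _root_.Matrix.cons_val', _root_.Matrix.cons_val_fin_one, Fin.isValue, _root_.Matrix.cons_val_zero, _root_.Matrix.cons_val_succ, _root_.IsEmpty.forall_iff, _root_.and_true, _root_.Matrix.one_apply_eq, Nat.reduceAdd, _root_.Fin.succ_zero_eq_one, _root_.ne_eq, _root_.zero_ne_one, _root_.not_false_eq_true, _root_.Matrix.one_apply_ne, _root_.and_self, _root_.Fin.succ_ne_zero, _root_.true_and])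
      | succ n ih =>
        rw [pow_succ, ih]
        apply Subtype.ext
        show (su ((n : F) * t)).1 * (su t).1 = (su (((n + 1 : ℕ) : F) * t)).1
        ext i j
        (revert i j; simp only [su, Matrix.mul_apply, Fin.sum_univ_two, _root_.Fin.forall_fin_succ, _root_.Matrix.of_apply, _root_.Matrix.cons_val', _root_.Matrix.cons_val_fin_one, Fin.isValue, _root_.Matrix.cons_val_zero, _root_.Matrix.cons_val_one, _root_.Nat.cast_add, _root_.Nat.cast_one, _root_.mul_one, _root_.MulZeroClass.mul_zero, _root_.add_zero, _root_.Matrix.cons_val_succ, _root_.forall_const, _root_.true_and, _root_.one_mul, _root_.MulZeroClass.zero_mul, _root_.zero_add, _root_.implies_true, _root_.and_true]) <;> (repeat' with_reducible apply And.intro) <;> ring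
    have hsl : ∀ (t : F) (n : ℕ), (sl t) ^ n = sl (n * t) := by
      intro t n
      induction n with
      | zero => 
        rw [pow_zero, Nat.cast_zero, zero_mul]
        apply Subtype.ext; ext i j; (revert i j; simp only [sl, _root_.Fin.forall_fin_succ, _root_.Matrix.SpecialLinearGroup.coe_one, _root_.Matrix.of_apply, _root_.Matrix.cons_val', _root_.Matrix.cons_val_fin_one, Fin.isValue, _root_.Matrix.cons_val_zero, _root_.Matrix.cons_val_succ, _root_.IsEmpty.forall_iff, _root_.and_true, _root_.Matrix.one_apply_eq, Nat.reduceAdd, _root_.Fin.succ_zero_eq_one, _root_.ne_eq, _root_.zero_ne_one, _root_.not_false_eq_true, _root_.Matrix.one_apply_ne, _root_.and_self, _root_.Fin.succ_ne_zero, _root_.true_and])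
      | succ n ih =>
        rw [pow_succ, ih]
        apply Subtype.ext
        show (sl ((n : F) * t)).1 * (sl t).1 = (sl (((n + 1 : ℕ) : F) * t)).1
        ext i j
        (revert i j; simp only [sl, Matrix.mul_apply, Fin.sum_univ_two, _root_.Fin.forall_fin_succ, _root_.Matrix.of_apply, _root_.Matrix.cons_val', _root_.Matrix.cons_val_fin_one, Fin.isValue, _root_.Matrix.cons_val_zero, _root_.Matrix.cons_val_one, _root_.Nat.cast_add, _root_.Nat.cast_one, _root_.mul_one, _root_.Matrix.cons_val_succ, _root_.MulZeroClass.mul_zero, _root_.zero_add, _root_.implies_true, _root_.and_true, _root_.MulZeroClass.zero_mul, _root_.add_zero, _root_.one_mul, _root_.forall_const, _root_.true_and]) <;> (repeat' with_reducible apply And.intro) <;> ring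
    have hu : ∀ t : F, su t ∈ Subgroup.closure {x : SL F | x ^ p = 1} := fun t => Subgroup.subset_closure (by
      change su t ^ p = 1
      rw [hsu, CharP.cast_eq_zero, zero_mul]
      apply Subtype.ext; ext i j; (revert i j; simp only [su, _root_.Fin.forall_fin_succ, _root_.Matrix.of_apply, _root_.Matrix.cons_val', _root_.Matrix.cons_val_fin_one, _root_.Matrix.SpecialLinearGroup.coe_one, Fin.isValue, _root_.Matrix.cons_val_zero, _root_.Matrix.cons_val_succ, _root_.IsEmpty.forall_iff, _root_.and_true, _root_.Matrix.one_apply_eq, Nat.reduceAdd, _root_.Fin.succ_zero_eq_one, _root_.ne_eq, _root_.zero_ne_one, _root_.not_false_eq_true, _root_.Matrix.one_apply_ne, _root_.and_self, _root_.Fin.succ_ne_zero, _root_.true_and]))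
    have hl : ∀ t : F, sl t ∈ Subgroup.closure {x : SL F | x ^ p = 1} := fun t => Subgroup.subset_closure (by
      change sl t ^ p = 1
      rw [hsl, CharP.cast_eq_zero, zero_mul]
      apply Subtype.ext; ext i j; (revert i j; simp only [sl, _root_.Fin.forall_fin_succ, _root_.Matrix.of_apply, _root_.Matrix.cons_val', _root_.Matrix.cons_val_fin_one, _root_.Matrix.SpecialLinearGroup.coe_one, Fin.isValue, _root_.Matrix.cons_val_zero, _root_.Matrix.cons_val_succ, _root_.IsEmpty.forall_iff, _root_.and_true, _root_.Matrix.one_apply_eq, Nat.reduceAdd, _root_.Fin.succ_zero_eq_one, _root_.ne_eq, _root_.zero_ne_one, _root_.not_false_eq_true, _root_.Matrix.one_apply_ne, _root_.and_self, _root_.Fin.succ_ne_zero, _root_.true_and]))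
    have key : ∀ g : SL F, g.1 1 0 ≠ 0 → g ∈ Subgroup.closure {x : SL F | x ^ p = 1} := by
      intro g hc
      have hdet : g.1 0 0 * g.1 1 1 - g.1 0 1 * g.1 1 0 = 1 := by
        rw [← Matrix.det_fin_two]; exact g.2
      have : g = su ((g.1 0 0 - 1) / g.1 1 0) * sl (g.1 1 0) * su ((g.1 1 1 - 1) / g.1 1 0) := by
        apply Subtype.ext
        show g.1 = (su ((g.1 0 0 - 1) / g.1 1 0)).1 * (sl (g.1 1 0)).1 *
          (su ((g.1 1 1 - 1) / g.1 1 0)).1
        ext i j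
        fin_cases i <;> fin_cases j
        · simp [su, sl, Matrix.mul_apply, Fin.sum_univ_two, hc]
        · simp only [su, sl, Matrix.mul_apply, Fin.sum_univ_two, _root_.Fin.zero_eta, _root_.Fin.isValue, _root_.Fin.mk_one, _root_.Matrix.cons_mul, _root_.Nat.succ_eq_add_one, _root_.Nat.reduceAdd, _root_.Matrix.vecMul_cons, _root_.Matrix.head_cons, _root_.one_smul, _root_.Matrix.tail_cons, _root_.Matrix.smul_cons, _root_.smul_eq_mul, _root_.mul_one, _root_.Matrix.smul_empty, _root_.Matrix.empty_vecMul, _root_.add_zero, _root_.Matrix.add_cons, _root_.zero_add, _root_.Matrix.empty_add_empty, _root_.zero_smul, _root_.Matrix.empty_mul, _root_.Equiv.symm_apply_apply, _root_.Matrix.mul_apply, _root_.Matrix.of_apply, _root_.Matrix.cons_val', _root_.Matrix.cons_val_fin_one, _root_.Matrix.cons_val_zero, _root_.Matrix.cons_val_one, _root_.Fin.sum_univ_two]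
          field_simp
          linear_combination -hdet
        · simp only [su, sl, Matrix.mul_apply, Fin.sum_univ_two, _root_.Fin.mk_one, _root_.Fin.isValue, _root_.Fin.zero_eta, _root_.Matrix.cons_mul, _root_.Nat.succ_eq_add_one, _root_.Nat.reduceAdd, _root_.Matrix.vecMul_cons, _root_.Matrix.head_cons, _root_.one_smul, _root_.Matrix.tail_cons, _root_.Matrix.smul_cons, _root_.smul_eq_mul, _root_.mul_one, _root_.Matrix.smul_empty, _root_.Matrix.empty_vecMul, _root_.add_zero, _root_.Matrix.add_cons, _root_.zero_add, _root_.Matrix.empty_add_empty, _root_.zero_smul, _root_.Matrix.empty_mul, _root_.Equiv.symm_apply_apply, _root_.Matrix.mul_apply, _root_.Matrix.of_apply, _root_.Matrix.cons_val', _root_.Matrix.cons_val_fin_one, _root_.Matrix.cons_val_one, _root_.Matrix.cons_val_zero, _root_.Fin.sum_univ_two, _root_.MulZeroClass.mul_zero]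
        · simp only [su, sl, Matrix.mul_apply, Fin.sum_univ_two, _root_.Fin.mk_one, _root_.Fin.isValue, _root_.Matrix.cons_mul, _root_.Nat.succ_eq_add_one, _root_.Nat.reduceAdd, _root_.Matrix.vecMul_cons, _root_.Matrix.head_cons, _root_.one_smul, _root_.Matrix.tail_cons, _root_.Matrix.smul_cons, _root_.smul_eq_mul, _root_.mul_one, _root_.Matrix.smul_empty, _root_.Matrix.empty_vecMul, _root_.add_zero, _root_.Matrix.add_cons, _root_.zero_add, _root_.Matrix.empty_add_empty, _root_.zero_smul, _root_.Matrix.empty_mul, _root_.Equiv.symm_apply_apply, _root_.Matrix.mul_apply, _root_.Matrix.of_apply, _root_.Matrix.cons_val', _root_.Matrix.cons_val_fin_one, _root_.Matrix.cons_val_one, _root_.Fin.sum_univ_two, _root_.Matrix.cons_val_zero]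
          field_simp
          ring
      rw [this]
      exact mul_mem (mul_mem (hu _) (hl _)) (hu _)
    intro g
    by_cases hc : g.1 1 0 = 0
    · have hdet : g.1 0 0 * g.1 1 1 - g.1 0 1 * g.1 1 0 = 1 := by
        rw [← Matrix.det_fin_two]; exact g.2
      have h1 : g * sl 1 ∈ Subgroup.closure {x : SL F | x ^ p = 1} := by
        apply key
        have : (g * sl 1).1 1 0 = g.1 1 0 + g.1 1 1 := by
          change ((g.1 * (sl 1).1 : Matrix (Fin 2) (Fin 2) F)) 1 0 = _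
          simp [sl, Matrix.mul_apply, Fin.sum_univ_two]
        rw [this, hc, zero_add]
        intro h
        rw [hc, h] at hdet
        simp at hdet
      have h2 := mul_mem h1 (inv_mem (hl 1))
      rwa [mul_inv_cancel_right] at h2
    · exact key g hc
  intro X hX k hk
  have h1 : ∀ g : SL F, ((e g : K) : E) ∈ X := by
    intro g
    have h2 : Subgroup.closure {x : SL F | x ^ p = 1} ≤ X.comap (K.subtype.comp e.toMonoidHom) := by
      rw [closure_le]
      intro x hx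
      refine hX _ (e x).2 1 ?_
      have h3 : x ^ p = 1 := hx
      have h4 := congrArg (fun y => ((e y : K) : E)) h3
      rw [pow_one]
      simpa only [_root_.MulEquiv.toMonoidHom_eq_coe, _root_.MonoidHom.coe_comp, _root_.Subgroup.coe_subtype, _root_.MonoidHom.coe_coe, _root_.Function.comp_apply, _root_.map_pow, _root_.SubmonoidClass.coe_pow, _root_.map_one, _root_.OneMemClass.coe_one] using h4
    exact h2 (h0 g)
  have h5 := h1 (e.symm ⟨k, hk⟩)
  rwa [e.apply_symm_apply] at h5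

theorem eD1 (F : Type*) [Field F] : Nonempty (SL F ≃* D1 (spRep F)) := by
  obtain ⟨e⟩ := (spRep_model F).equiv1
  obtain ⟨e'⟩ := un_empty_equiv F (Fin 2)
  exact ⟨(e'.symm.trans e.symm).trans (D1Equiv (spRep F))⟩

theorem eD2 (F : Type*) [Field F] : Nonempty (SL F ≃* D2 (spRep F)) := by
  obtain ⟨e⟩ := (spRep_model F).equiv2
  obtain ⟨e'⟩ := un_empty_equiv F (Fin 2)
  exact ⟨(e'.symm.trans e.symm).trans (D2Equiv (spRep F))⟩

theorem inj_of_equiv [Finite F] {Q : Type*} [Group Q] {φ : E →* Q} {D : Subgroup Q} (hK : K.map φ = D) 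
    (e : SL F ≃* K) (e' : SL F ≃* D) {x : E} (hx : x ∈ K) (h : φ x = 1) : x = 1 := by
  subst hK
  haveI : Finite K := Finite.of_equiv _ e.toEquiv
  have h1 : Function.Bijective (φ.subgroupMap K) :=
    (Nat.bijective_iff_surjective_and_card _).2 ⟨φ.subgroupMap_surjective K, Nat.card_congr (e.symm.trans e').toEquiv⟩
  have h2 : (⟨x, hx⟩ : K) = 1 := h1.1 (by
    rw [map_one]
    exact Subtype.ext h)
  exact congrArg Subtype.val h2

end SLF

/-! ### the cover -/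

section Cov

variable {F : Type*} [Field F] [Fintype F] {E : Type*} [Group E] [Finite E]

/-- `E / Z(E) ≅ PSp₄(F)`, `K` and `L` lie over the two blocks -/
structure Cov (φ : E →* QQ F) (K L : Subgroup E) (z z' : E) : Prop where
  odd : Odd (Fintype.card F)
  surj : Function.Surjective φ
  ker : φ.ker = center E
  perf : commutator E = ⊤
  two : IsPGroup 2 (center E)
  eK : Nonempty (SL F ≃* K)
  eL : Nonempty (SL F ≃* L)
  mK : K.map φ = D1 (spRep F)
  mL : L.map φ = D2 (spRep F)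
  comm : ∀ x ∈ K, ∀ y ∈ L, x * y = y * x
  zK : z ∈ K
  z2 : z * z = 1
  z1 : z ≠ 1
  zL : z' ∈ L
  z2' : z' * z' = 1
  z1' : z' ≠ 1
  ne : z ≠ z'
  syl : ∃ S : Sylow 2 (QQ F), ∀ s ∈ (S : Subgroup (QQ F)), s * z0 (spRep F) = z0 (spRep F) * s

namespace Cov

variable {φ : E →* QQ F} {K L : Subgroup E} {z z' : E} (c : Cov φ K L z z')
include c

theorem h2 : (2 : F) ≠ 0 := SignalizersComponents.SLQuasisimple.two_ne_zero_of_odd c.odd

theorem mem_center {x : E} : x ∈ center E ↔ φ x = 1 := by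
  rw [← c.ker, MonoidHom.mem_ker]

theorem injK {x : E} (hx : x ∈ K) (h : φ x = 1) : x = 1 := by
  obtain ⟨e⟩ := c.eK
  obtain ⟨e'⟩ := eD1 F
  exact inj_of_equiv c.mK e e' hx h

theorem injL {x : E} (hx : x ∈ L) (h : φ x = 1) : x = 1 := by
  obtain ⟨e⟩ := c.eL
  obtain ⟨e'⟩ := eD2 F
  exact inj_of_equiv c.mL e e' hx h

theorem injK' {x y : E} (hx : x ∈ K) (hy : y ∈ K) (h : φ x = φ y) : x = y := by
  have h1 := c.injK (K.mul_mem (K.inv_mem hx) hy) (by rw [map_mul, map_inv, h, inv_mul_cancel])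
  exact inv_mul_eq_one.1 h1

theorem injL' {x y : E} (hx : x ∈ L) (hy : y ∈ L) (h : φ x = φ y) : x = y := by
  have h1 := c.injL (L.mul_mem (L.inv_mem hx) hy) (by rw [map_mul, map_inv, h, inv_mul_cancel])
  exact inv_mul_eq_one.1 h1

theorem map_z : φ z = z0 (spRep F) := by
  have h1 : z0 (spRep F) ∈ K.map φ := by rw [c.mK]; exact z0_mem
  obtain ⟨x, hx, hx'⟩ := h1
  have hx2 : x * x = 1 := c.injK (K.mul_mem hx hx) (by rw [map_mul, hx', z0_mul])
  have hx1 : x ≠ 1 := by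
    rintro rfl
    rw [map_one] at hx'
    have h5 : (spRep F).t ∈ center (Γ F) := pr_eq_one.1 hx'.symm
    have h6 := congrArg (spRep F).ρ (E1_center (spRep F) (spRep F).t_mem h5)
    rw [(spRep F).t_eq, map_one, ← fromBlocks_one, fromBlocks_inj] at h6
    have h7 := congrFun (congrFun h6.1 0) 0
    simp at h7
    apply c.h2
    have : (1 : F) + 1 = 0 := by nth_rewrite 1 [← h7]; ring
    rw [← this]; norm_num
  obtain ⟨e⟩ := c.eK
  rw [← hx', sl_unique c.h2 e c.zK c.z2 c.z1 hx hx2 hx1]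

theorem z0_mem' : z0 (spRep F) ∈ D2 (spRep F) := by
  have h1 : ∃ g : Γ F, (spRep F).ρ g = fromBlocks 1 0 0 (-1) :=
    (spRep_model F).ex 1 (-1) ⟨det_one, fun t ht => absurd ht (Set.notMem_empty t)⟩
      ⟨by rw [det_neg]; simp only [_root_.Fintype.card_fin, _root_.even_two, _root_.Even.neg_pow, _root_.one_pow, _root_.Matrix.det_one, _root_.mul_one], fun t ht => absurd ht (Set.notMem_empty t)⟩
  obtain ⟨g, hg⟩ := h1
  refine ⟨g, ⟨_, hg⟩, ?_⟩
  rw [z0]
  apply Cfsg.Agent.Cit.LongFiveB.pr_eq_of_smul (spRep F) (e := -1)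
  rw [hg, (spRep F).t_eq, fromBlocks_smul]
  simp only [_root_.smul_neg, _root_.neg_smul, _root_.one_smul, _root_.neg_neg, _root_.smul_zero]

theorem map_z' : φ z' = z0 (spRep F) := by
  have h1 : z0 (spRep F) ∈ L.map φ := by rw [c.mL]; exact c.z0_mem'
  obtain ⟨x, hx, hx'⟩ := h1
  have hx2 : x * x = 1 := c.injL (L.mul_mem hx hx) (by rw [map_mul, hx', z0_mul])
  have hx1 : x ≠ 1 := by
    rintro rfl
    have h3 := c.map_z
    rw [← hx', map_one] at h3
    exact c.z1 (c.injK c.zK h3)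
  obtain ⟨e⟩ := c.eL
  rw [← hx', sl_unique c.h2 e c.zL c.z2' c.z1' hx hx2 hx1]

theorem zz_center : z * z' ∈ center E := by
  rw [c.mem_center, map_mul, c.map_z, c.map_z', z0_mul]

/-- `p`-elements and central 2-elements -/
theorem eq_one_of_pow {p n : ℕ} (hp : Odd p) {y l ζ : E} (hy : y = l * ζ) (hyp : y ^ p ^ n = 1) (hlp : l ^ p ^ n = 1)
    (hζ : ζ ∈ center E) : ζ = 1 := by
  have h1 : ζ ^ p ^ n = 1 := by
    have h3 : Commute l ζ := (mem_center_iff.1 hζ l)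
    rw [hy, h3.mul_pow, hlp, one_mul] at hyp
    exact hyp
  obtain ⟨k, hk⟩ := c.two ⟨ζ, hζ⟩
  have h3 : ζ ^ 2 ^ k = 1 := congrArg Subtype.val hk
  have h4 : Nat.Coprime (p ^ n) (2 ^ k) := by
    apply Nat.Coprime.pow
    exact Nat.Coprime.symm (Nat.coprime_two_left.2 hp)
  have h5 := Nat.dvd_gcd (orderOf_dvd_of_pow_eq_one h1) (orderOf_dvd_of_pow_eq_one h3)
  rw [Nat.Coprime.gcd_eq_one h4] at h5
  exact orderOf_eq_one_iff.1 (Nat.dvd_one.1 h5)

theorem le_of_map_le {p : ℕ} (hp : Odd p) {M L' : Subgroup E} (hM : PG p M) (hinj : ∀ x ∈ L', φ x = 1 → x = 1)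
    (h : M.map φ ≤ L'.map φ) : M ≤ L' := by
  refine hM _ fun y hy n hn => ?_
  obtain ⟨l, hl, hly⟩ := h (mem_map_of_mem φ hy)
  have h1 : y = l * (l⁻¹ * y) := by group
  have h3 : l⁻¹ * y ∈ center E := by rw [c.mem_center, map_mul, map_inv, hly, inv_mul_cancel]
  have h4 : l ^ p ^ n = 1 := hinj _ (L'.pow_mem hl _) (by rw [map_pow, hly, ← map_pow, hn, map_one])
  have h5 := c.eq_one_of_pow hp h1 hn h4 h3
  rw [h1, h5, mul_one]
  exact hl

omit c in
theorem pg_map {p : ℕ} {M : Subgroup E} (hM : PG p M) {E' : Type*} [Group E'] (f : E →* E') : PG p (M.map f) := by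
  intro X hX
  rw [map_le_iff_le_comap]
  refine hM _ fun v hv n hn => ?_
  exact hX _ (mem_map_of_mem f hv) n (by rw [← map_pow, hn, map_one])

theorem char : ∃ p : ℕ, Odd p ∧ CharP F p ∧ p.Prime := by
  obtain ⟨p, hp⟩ := CharP.exists F
  haveI := hp
  obtain ⟨n, hp1, hc⟩ := FiniteField.card F p
  refine ⟨p, ?_, hp, hp1⟩
  have h1 := c.odd
  rw [hc] at h1
  exact (Nat.odd_pow_iff n.ne_zero).1 h1

/-- an element over a block antidiagonal matrix swaps `K` and `L` -/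
theorem swapK {x : E} {g : Γ F} (hg : φ x = pr (Γ F) g) {A B : Matrix (Fin 2) (Fin 2) F}
    (hA : (spRep F).ρ g = fromBlocks 0 A B 0) : cj x K ≤ L := by
  obtain ⟨p, hpo, hp, -⟩ := c.char
  haveI := hp
  obtain ⟨e⟩ := c.eK
  refine c.le_of_map_le hpo (pg_map (sl_pg e) _) (fun x hx h => c.injL hx h) ?_
  rw [c.mL, cj, Subgroup.map_map]
  rintro _ ⟨k, hk, rfl⟩
  have h1 : φ k ∈ D1 (spRep F) := by rw [← c.mK]; exact mem_map_of_mem φ hk
  obtain ⟨a, ⟨P, ha⟩, ha'⟩ := h1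
  have h3 : φ (x * k * x⁻¹) = pr (Γ F) (g * a * g⁻¹) := by
    rw [map_mul, map_mul, map_inv, hg, ← ha', map_mul, map_mul, map_inv]
  have h4 : (φ.comp (MulAut.conj x).toMonoidHom) k = pr (Γ F) (g * a * g⁻¹) := h3
  rw [h4]
  have h5 := (spRep F).ρ_mul_inv g
  rw [hA, ← fromBlocks_toBlocks ((spRep F).ρ g⁻¹), fromBlocks_multiply, ← fromBlocks_one, fromBlocks_inj] at h5
  simp only [Matrix.zero_mul, add_zero, zero_add] at h5
  obtain ⟨e1, e2, e3, e4⟩ := h5
  have e5 : ((spRep F).ρ g⁻¹).toBlocks₁₁ = 0 := by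
    calc ((spRep F).ρ g⁻¹).toBlocks₁₁ = (((spRep F).ρ g⁻¹).toBlocks₁₂ * B) * ((spRep F).ρ g⁻¹).toBlocks₁₁ := by
          rw [mul_eq_one_comm.1 e4, Matrix.one_mul]
      _ = 0 := by rw [Matrix.mul_assoc, e3, Matrix.mul_zero]
  have e6 : ((spRep F).ρ g⁻¹).toBlocks₂₂ = 0 := by
    calc ((spRep F).ρ g⁻¹).toBlocks₂₂ = (((spRep F).ρ g⁻¹).toBlocks₂₁ * A) * ((spRep F).ρ g⁻¹).toBlocks₂₂ := by
          rw [mul_eq_one_comm.1 e1, Matrix.one_mul]
      _ = 0 := by rw [Matrix.mul_assoc, e2, Matrix.mul_zero]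
  refine mem_map_of_mem _ ⟨B * P * ((spRep F).ρ g⁻¹).toBlocks₁₂, ?_⟩
  rw [map_mul, map_mul, hA, ha]
  nth_rewrite 1 [← fromBlocks_toBlocks ((spRep F).ρ g⁻¹)]
  rw [e5, e6, fromBlocks_multiply, fromBlocks_multiply]
  simp [e1]

theorem swapL {x : E} {g : Γ F} (hg : φ x = pr (Γ F) g) {A B : Matrix (Fin 2) (Fin 2) F}
    (hA : (spRep F).ρ g = fromBlocks 0 A B 0) : cj x L ≤ K := by
  obtain ⟨p, hpo, hp, -⟩ := c.char
  haveI := hp
  obtain ⟨e⟩ := c.eL
  refine c.le_of_map_le hpo (pg_map (sl_pg e) _) (fun x hx h => c.injK hx h) ?_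
  rw [c.mK, cj, Subgroup.map_map]
  rintro _ ⟨k, hk, rfl⟩
  have h1 : φ k ∈ D2 (spRep F) := by rw [← c.mL]; exact mem_map_of_mem φ hk
  obtain ⟨a, ⟨P, ha⟩, ha'⟩ := h1
  have h3 : φ (x * k * x⁻¹) = pr (Γ F) (g * a * g⁻¹) := by
    rw [map_mul, map_mul, map_inv, hg, ← ha', map_mul, map_mul, map_inv]
  have h4 : (φ.comp (MulAut.conj x).toMonoidHom) k = pr (Γ F) (g * a * g⁻¹) := h3
  rw [h4]
  have h5 := (spRep F).ρ_mul_inv g
  rw [hA, ← fromBlocks_toBlocks ((spRep F).ρ g⁻¹), fromBlocks_multiply, ← fromBlocks_one, fromBlocks_inj] at h5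
  simp only [Matrix.zero_mul, add_zero, zero_add] at h5
  obtain ⟨e1, e2, e3, e4⟩ := h5
  have e5 : ((spRep F).ρ g⁻¹).toBlocks₁₁ = 0 := by
    calc ((spRep F).ρ g⁻¹).toBlocks₁₁ = (((spRep F).ρ g⁻¹).toBlocks₁₂ * B) * ((spRep F).ρ g⁻¹).toBlocks₁₁ := by
          rw [mul_eq_one_comm.1 e4, Matrix.one_mul]
      _ = 0 := by rw [Matrix.mul_assoc, e3, Matrix.mul_zero]
  have e6 : ((spRep F).ρ g⁻¹).toBlocks₂₂ = 0 := by
    calc ((spRep F).ρ g⁻¹).toBlocks₂₂ = (((spRep F).ρ g⁻¹).toBlocks₂₁ * A) * ((spRep F).ρ g⁻¹).toBlocks₂₂ := by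
          rw [mul_eq_one_comm.1 e1, Matrix.one_mul]
      _ = 0 := by rw [Matrix.mul_assoc, e2, Matrix.mul_zero]
  refine mem_map_of_mem _ ⟨A * P * ((spRep F).ρ g⁻¹).toBlocks₂₁, ?_⟩
  rw [map_mul, map_mul, hA, ha]
  nth_rewrite 1 [← fromBlocks_toBlocks ((spRep F).ρ g⁻¹)]
  rw [e5, e6, fromBlocks_multiply, fromBlocks_multiply]
  simp [e4]

theorem conj_z {x : E} {g : Γ F} (hg : φ x = pr (Γ F) g) {A B : Matrix (Fin 2) (Fin 2) F}
    (hA : (spRep F).ρ g = fromBlocks 0 A B 0) : x * z * x⁻¹ = z' := by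
  obtain ⟨e⟩ := c.eL
  refine sl_unique c.h2 e c.zL c.z2' c.z1' (c.swapK hg hA ⟨z, c.zK, rfl⟩) ?_ ?_
  · calc x * z * x⁻¹ * (x * z * x⁻¹) = x * (z * z) * x⁻¹ := by group
      _ = 1 := by rw [c.z2]; group
  · intro h
    apply c.z1
    calc z = x⁻¹ * (x * z * x⁻¹) * x := by group
      _ = 1 := by rw [h]; group

/-- elements of the preimage of `C(z₀)` -/
theorem block_cases {x : E} (hx : φ x * z0 (spRep F) = z0 (spRep F) * φ x) :
    (∃ k ∈ K ⊔ L, ∃ ζ ∈ center E, x = k * ζ) ∨ (cj x K ≤ L ∧ cj x L ≤ K ∧ x * z * x⁻¹ = z') := by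
  obtain ⟨g, hg⟩ := pr_surjective (φ x)
  rw [← hg] at hx
  rcases blocks_or c.h2 hx with ⟨P, S, h⟩ | ⟨A, B, h⟩
  · left
    obtain ⟨hP, hS⟩ := spRep_blocks F h
    have h1 := (spRep_model F).split.mem (spRep F) h hP hS
    have h3 : φ x ∈ (K ⊔ L).map φ := by
      rw [← hg, Subgroup.map_sup, c.mK, c.mL, D1, D2, ← Subgroup.map_sup]
      exact mem_map_of_mem _ h1
    obtain ⟨k, hk, hkx⟩ := h3
    exact ⟨k, hk, k⁻¹ * x, by rw [c.mem_center, map_mul, map_inv, hkx, inv_mul_cancel], by group⟩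
  · right
    exact ⟨c.swapK hg.symm h, c.swapL hg.symm h, c.conj_z hg.symm h⟩

theorem center_le : center E ≤ K ⊔ L := by
  intro ζ hζ
  set P : Subgroup E := (CC (spRep F)).comap φ with hP
  have hPm : ∀ {x : E}, x ∈ P ↔ φ x * z0 (spRep F) = z0 (spRep F) * φ x := by
    intro x
    rw [hP, mem_comap, mem_centralizer_singleton_iff]
  have hodd : ¬ 2 ∣ P.index := by
    rw [hP, index_comap_of_surjective _ c.surj]
    obtain ⟨S, hS⟩ := c.syl
    have h1 : (S : Subgroup (QQ F)) ≤ CC (spRep F) := fun s hs => mem_centralizer_singleton_iff.2 (hS s hs)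
    intro h
    exact S.not_dvd_index (h.trans (index_dvd_of_le h1))
  obtain ⟨a, ha⟩ := c.two ⟨ζ, hζ⟩
  have hz2 : ζ ^ 2 ^ a = 1 := congrArg Subtype.val ha
  have hζP : ζ ∈ P := hPm.2 (by rw [c.mem_center.1 hζ]; simp)
  have h1 := mem_commutator_of_central c.perf P hodd hζP hζ hz2
  have hK : ∀ x ∈ K, x ∈ K ⊔ L := fun x hx => mem_sup_left hx
  have hL : ∀ x ∈ L, x ∈ K ⊔ L := fun x hx => mem_sup_right hx
  have hN : ∀ b : E, cj b K ≤ L → cj b L ≤ K → ∀ n ∈ K ⊔ L, b * n * b⁻¹ ∈ K ⊔ L := by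
    intro b h1 h3 n hn
    obtain ⟨x, hx, y, hy, rfl⟩ := (mem_sup_comm c.comm).1 hn
    have e : b * (x * y) * b⁻¹ = (b * x * b⁻¹) * (b * y * b⁻¹) := by group
    rw [e]
    exact mul_mem (hL _ (h1 ⟨x, hx, rfl⟩)) (hK _ (h3 ⟨y, hy, rfl⟩))
  have h3 : ⁅P, P⁆ ≤ K ⊔ L := by
    rw [commutator_le]
    intro a ha b hb
    rw [commutatorElement_def]
    rcases c.block_cases (hPm.1 ha) with ⟨n, hn, d, hd, rfl⟩ | ⟨h5, h6, -⟩
    · have hd' := mem_center_iff.1 hd
      have e : n * d * b * (n * d)⁻¹ * b⁻¹ = n * (b * n⁻¹ * b⁻¹) := by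
        calc n * d * b * (n * d)⁻¹ * b⁻¹ = n * (d * b) * d⁻¹ * n⁻¹ * b⁻¹ := by group
          _ = n * (b * d) * d⁻¹ * n⁻¹ * b⁻¹ := by rw [hd' b]
          _ = _ := by group
      rw [e]
      refine mul_mem hn ?_
      rcases c.block_cases (hPm.1 hb) with ⟨m, hm, f, hf, rfl⟩ | ⟨h7, h8, -⟩
      · have hf' := mem_center_iff.1 hf
        have e : m * f * n⁻¹ * (m * f)⁻¹ = m * n⁻¹ * m⁻¹ := by
          calc m * f * n⁻¹ * (m * f)⁻¹ = m * (f * n⁻¹) * f⁻¹ * m⁻¹ := by group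
            _ = m * (n⁻¹ * f) * f⁻¹ * m⁻¹ := by rw [hf' n⁻¹]
            _ = _ := by group
        rw [e]
        exact mul_mem (mul_mem hm (inv_mem hn)) (inv_mem hm)
      · exact hN b h7 h8 _ (inv_mem hn)
    · rcases c.block_cases (hPm.1 hb) with ⟨m, hm, f, hf, rfl⟩ | ⟨h7, h8, -⟩
      · have hf' := mem_center_iff.1 hf
        have e : a * (m * f) * a⁻¹ * (m * f)⁻¹ = (a * m * a⁻¹) * m⁻¹ := by
          calc a * (m * f) * a⁻¹ * (m * f)⁻¹ = a * m * (f * a⁻¹) * f⁻¹ * m⁻¹ := by group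
            _ = a * m * (a⁻¹ * f) * f⁻¹ * m⁻¹ := by rw [hf' a⁻¹]
            _ = _ := by group
        rw [e]
        exact mul_mem (hN a h5 h6 m hm) (inv_mem hm)
      · -- `b = a c`
        have h9 : a⁻¹ * b ∈ P := P.mul_mem (P.inv_mem ha) hb
        rcases c.block_cases (hPm.1 h9) with ⟨m, hm, f, hf, e⟩ | ⟨h10, -, -⟩
        · have hf' := mem_center_iff.1 hf
          have e2 : b = a * m * f := by rw [mul_assoc, ← e]; group
          have e3 : a * b * a⁻¹ * b⁻¹ = a * ((a * m * a⁻¹) * m⁻¹) * a⁻¹ := by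
            rw [e2]
            calc a * (a * m * f) * a⁻¹ * (a * m * f)⁻¹ = a * (a * m * (f * a⁻¹) * f⁻¹ * m⁻¹) * a⁻¹ := by group
              _ = a * (a * m * (a⁻¹ * f) * f⁻¹ * m⁻¹) * a⁻¹ := by rw [hf' a⁻¹]
              _ = _ := by group
          rw [e3]
          exact hN a h5 h6 _ (mul_mem (hN a h5 h6 m hm) (inv_mem hm))
        · exfalso
          have h11 : a⁻¹ * b * z * (a⁻¹ * b)⁻¹ ∈ L := h10 ⟨z, c.zK, rfl⟩
          have h12 : b * z * b⁻¹ ∈ L := h7 ⟨z, c.zK, rfl⟩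
          obtain ⟨e⟩ := c.eL
          obtain ⟨eK⟩ := c.eK
          have inv : ∀ y : E, y * z * y⁻¹ * (y * z * y⁻¹) = 1 ∧ y * z * y⁻¹ ≠ 1 := by
            intro y
            constructor
            · calc y * z * y⁻¹ * (y * z * y⁻¹) = y * (z * z) * y⁻¹ := by group
                _ = 1 := by rw [c.z2]; group
            · intro h
              apply c.z1
              calc z = y⁻¹ * (y * z * y⁻¹) * y := by group
                _ = 1 := by rw [h]; group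
          have h13 : b * z * b⁻¹ = z' := sl_unique c.h2 e c.zL c.z2' c.z1' h12 (inv b).1 (inv b).2
          have h14 : a⁻¹ * b * z * (a⁻¹ * b)⁻¹ = z' :=
            sl_unique c.h2 e c.zL c.z2' c.z1' h11 (inv _).1 (inv _).2
          have h15 : a * z' * a⁻¹ = z' := by
            calc a * z' * a⁻¹ = a * (a⁻¹ * b * z * (a⁻¹ * b)⁻¹) * a⁻¹ := by rw [h14]
              _ = b * z * b⁻¹ := by group
              _ = z' := h13
          have h16 : a * z' * a⁻¹ ∈ K := h6 ⟨z', c.zL, rfl⟩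
          rw [h15] at h16
          exact c.ne (sl_unique c.h2 eK c.zK c.z2 c.z1 h16 c.z2' c.z1').symm
  exact h3 h1

theorem center_eq {ζ : E} (hζ : ζ ∈ center E) : ζ = 1 ∨ ζ = z * z' := by
  obtain ⟨eK⟩ := c.eK
  obtain ⟨eL⟩ := c.eL
  obtain ⟨x, hx, y, hy, rfl⟩ := (mem_sup_comm c.comm).1 (c.center_le hζ)
  have h1 := mem_center_iff.1 hζ
  have hxx : x * x = 1 := by
    refine sl_center_sq eK hx fun k hk => ?_
    have h3 := h1 k
    have h4 := c.comm k hk y hy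
    have : k * x * y = x * k * y := by
      calc k * x * y = k * (x * y) := by group
        _ = x * (y * k) := by rw [h3]; group
        _ = x * k * y := by rw [← h4]; group
    exact mul_right_cancel this
  have hyy : y * y = 1 := by
    refine sl_center_sq eL hy fun k hk => ?_
    have h3 := h1 k
    have h4 := c.comm x hx k hk
    have : x * (k * y) = x * (y * k) := by
      calc x * (k * y) = (x * k) * y := by group
        _ = k * (x * y) := by rw [h4]; group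
        _ = x * (y * k) := by rw [h3]; group
    exact mul_left_cancel this
  have h5 : φ x * φ y = 1 := by rw [← map_mul, c.mem_center.1 hζ]
  have hz0 : z0 (spRep F) ≠ 1 := fun h => c.z1 (c.injK c.zK (by rw [c.map_z, h]))
  by_cases hx1 : x = 1
  · subst hx1
    rw [map_one, one_mul] at h5
    left
    rw [c.injL hy h5, one_mul]
  · have hxz := sl_unique c.h2 eK c.zK c.z2 c.z1 hx hxx hx1
    subst hxz
    by_cases hy1 : y = 1
    · subst hy1
      rw [map_one, mul_one, c.map_z] at h5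
      exact absurd h5 hz0
    · right
      rw [sl_unique c.h2 eL c.zL c.z2' c.z1' hy hyy hy1]

/-- **(a)** `C_E(z) = K L` -/
theorem mem_sup {x : E} (hx : x * z = z * x) : x ∈ K ⊔ L := by
  have h1 : φ x * z0 (spRep F) = z0 (spRep F) * φ x := by
    rw [← c.map_z, ← map_mul, hx, map_mul]
  rcases c.block_cases h1 with ⟨k, hk, ζ, hζ, rfl⟩ | ⟨-, -, h⟩
  · exact mul_mem hk (c.center_le hζ)
  · exfalso
    apply c.ne
    rw [← h, hx]
    group

end Cov

end Cov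

end Cfsg.Agent.Cit.SpLift
end

section
prune_inst 0xfcbcfbaff83ddfffff7e7ffff9dfffb9fdffffffdffdfbfff9ebffafdf6b6fafc5fbafefecdaffdff7e29490b87813fdffceffea6bdc7ffffd5ff45ffbee1fe5ffbd2d51de98b41ffc6ffffbf17f8e7f000000000000000000000000000041004200000000

-- part: Cit/SpLift2
section
prune_inst 0x101041001400000000180000600004600000000200000000000001020040040020040001200000000000005420340000030000000200000000000800011c01a00000000202400000200000000000000000000000000000000000000000000000000000000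
set_option linter.all false
open scoped Cfsg.Agent.FastGrp

/-!
# `E / Z(E) ≅ PSp₄(F)`: the subgroups `jL p ⊤ (v v')`

* `Cov.exists_jL` : `jL p ⊤ (v v') = Δ^Y`, `Δ = {x x^W : x ∈ K} ≅ SL₂(F)`, contains `z z'` and `v v'⁻¹`;
* `Cov.gen` : `E = ⟨K, L, jL p ⊤ (v v')⟩`;
* `Cov.aut` : an automorphism trivial on `K` and `L` has square 1.
-/

set_option autoImplicit false
set_option linter.style.haveILetI false
set_option linter.unusedSectionVars false

namespace Cfsg.Agent.Cit.SpLift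

open Subgroup Cfsg Matrix Cfsg.Agent.Cit.LongAbs Cfsg.Agent.Cit.LongBlock Cfsg.Agent.Cit.LongQuot
  Cfsg.Agent.Cit.LongMain Cfsg.Agent.Cit.LongSp Cfsg.Agent.Cit.SpGen Cfsg.Agent.Cit.LongModel
  Cfsg.Agent.Cit.LongInst Cfsg.Agent.Cit.LongConj Cfsg.Agent.Cit.Sp4

variable {F : Type*} [Field F] [Fintype F] {E : Type*} [Group E] [Finite E]

theorem isPGroup_zpowers {X : Type*} [Group X] {p n : ℕ} {x : X} (h : x ^ p ^ n = 1) : IsPGroup p (zpowers x) := by
  rintro ⟨_, i, rfl⟩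
  refine ⟨n, Subtype.ext ?_⟩
  change (x ^ i) ^ p ^ n = 1
  rw [← zpow_natCast, ← _root_.zpow_mul, mul_comm, _root_.zpow_mul, zpow_natCast, h, _root_.one_zpow]

theorem jL_conj_le {X : Type*} [Group X] (p : ℕ) (j Y : X) : cj Y (jL p ⊤ j) ≤ jL p ⊤ (Y * j * Y⁻¹) := by
  rw [cj, jL, MonoidHom.map_closure, closure_le]
  rintro _ ⟨x, ⟨-, hxp, hxj⟩, rfl⟩
  refine subset_closure ⟨mem_top _, ?_, ?_⟩
  · have h1 := hxp.map (MulAut.conj Y).toMonoidHom
    rwa [MonoidHom.map_zpowers] at h1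
  · change (Y * x * Y⁻¹) * (Y * j * Y⁻¹) = (Y * j * Y⁻¹) * (Y * x * Y⁻¹)
    calc (Y * x * Y⁻¹) * (Y * j * Y⁻¹) = Y * (x * j) * Y⁻¹ := by group
      _ = (Y * j * Y⁻¹) * (Y * x * Y⁻¹) := by rw [hxj]; group

theorem jL_conj {X : Type*} [Group X] (p : ℕ) (j Y : X) : jL p ⊤ (Y * j * Y⁻¹) = cj Y (jL p ⊤ j) := by
  refine le_antisymm ?_ (jL_conj_le p j Y)
  have h1 := jL_conj_le p (Y * j * Y⁻¹) Y⁻¹
  have h2 : Y⁻¹ * (Y * j * Y⁻¹) * Y⁻¹⁻¹ = j := by group
  rw [h2] at h1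
  intro x hx
  have h3 : Y⁻¹ * x * Y ∈ jL p ⊤ j := h1 ⟨x, hx, by simp⟩
  exact ⟨Y⁻¹ * x * Y, h3, by simp [mul_assoc]⟩

theorem jL_mul_center {X : Type*} [Group X] (p : ℕ) (j : X) {c : X} (hc : c ∈ center X) :
    jL p ⊤ (j * c) = jL p ⊤ j := by
  unfold jL
  congr 1
  ext x
  have h1 := mem_center_iff.1 hc x
  have h2 : x * (j * c) = j * c * x ↔ x * j = j * x := by
    constructor
    · intro h
      have h3 : x * j * c = j * x * c := by
        calc x * j * c = x * (j * c) := by group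
          _ = j * (c * x) := by rw [h]; group
          _ = j * x * c := by rw [← h1]; group
      exact mul_right_cancel h3
    · intro h
      calc x * (j * c) = (x * j) * c := by group
        _ = j * (x * c) := by rw [h]; group
        _ = j * c * x := by rw [h1]; group
  simp only [Set.mem_ofPred_eq, h2]

theorem eq_one_of_hom_center {E : Type*} [Group E] (hp : commutator E = ⊤) (γ : E →* center E) (x : E) :
    γ x = 1 := by
  have h5 : commutator E ≤ γ.ker := by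
    rw [commutator_def, commutator_le]
    intro a _ b _
    rw [MonoidHom.mem_ker, map_commutatorElement, commutatorElement_eq_one_iff_mul_comm]
    exact Subtype.ext (mem_center_iff.1 (γ b).2 _)
  exact MonoidHom.mem_ker.1 (h5 (hp ▸ mem_top x))

theorem exists_equiv_of_ker {E Q Q' : Type*} [Group E] [Group Q] [Group Q'] {φ : E →* Q} {ψ : E →* Q'}
    (hφ : Function.Surjective φ) (hψ : Function.Surjective ψ) (hk : φ.ker = ψ.ker) :
    ∃ β : Q ≃* Q', ∀ y : E, β (φ y) = ψ y := by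
  refine ⟨((QuotientGroup.quotientKerEquivOfSurjective φ hφ).symm.trans
    (QuotientGroup.quotientMulEquivOfEq hk)).trans (QuotientGroup.quotientKerEquivOfSurjective _ hψ), ?_⟩
  intro y
  have h1 : (QuotientGroup.quotientKerEquivOfSurjective φ hφ).symm (φ y) = QuotientGroup.mk y := by
    rw [MulEquiv.symm_apply_eq]
    rfl
  rw [MulEquiv.trans_apply, MulEquiv.trans_apply, h1]
  rfl

namespace Cov

variable {φ : E →* QQ F} {K L : Subgroup E} {z z' : E} (c : Cov φ K L z z')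
include c

theorem exists_K {P : Matrix (Fin 2) (Fin 2) F} (hP : P.det = 1) :
    ∃ x ∈ K, ∃ e : Γ F, (spRep F).ρ e = fromBlocks P 0 0 1 ∧ φ x = pr (Γ F) e := by
  have h1 : ∃ g : Γ F, (spRep F).ρ g = fromBlocks P 0 0 1 :=
    (spRep_model F).ex P 1 ⟨hP, fun t ht => absurd ht (Set.notMem_empty t)⟩
      ⟨det_one, fun t ht => absurd ht (Set.notMem_empty t)⟩
  obtain ⟨e, he⟩ := h1
  have h2 : pr (Γ F) e ∈ K.map φ := by
    rw [c.mK]
    exact mem_map_of_mem _ ⟨P, he⟩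
  obtain ⟨x, hx, hx'⟩ := h2
  exact ⟨x, hx, e, he, hx'⟩

theorem exists_L {P : Matrix (Fin 2) (Fin 2) F} (hP : P.det = 1) :
    ∃ x ∈ L, ∃ e : Γ F, (spRep F).ρ e = fromBlocks 1 0 0 P ∧ φ x = pr (Γ F) e := by
  have h1 : ∃ g : Γ F, (spRep F).ρ g = fromBlocks 1 0 0 P :=
    (spRep_model F).ex 1 P ⟨det_one, fun t ht => absurd ht (Set.notMem_empty t)⟩
      ⟨hP, fun t ht => absurd ht (Set.notMem_empty t)⟩
  obtain ⟨e, he⟩ := h1
  have h2 : pr (Γ F) e ∈ L.map φ := by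
    rw [c.mL]
    exact mem_map_of_mem _ ⟨P, he⟩
  obtain ⟨x, hx, hx'⟩ := h2
  exact ⟨x, hx, e, he, hx'⟩

theorem inf_eq {x : E} (hK : x ∈ K) (hL : x ∈ L) : x = 1 := by
  obtain ⟨eK⟩ := c.eK
  obtain ⟨eL⟩ := c.eL
  by_contra hx1
  have hxx : x * x = 1 := sl_center_sq eK hK fun y hy => c.comm y hy x hL
  exact c.ne ((sl_unique c.h2 eK c.zK c.z2 c.z1 hK hxx hx1).symm.trans
    (sl_unique c.h2 eL c.zL c.z2' c.z1' hL hxx hx1))

/-- `x ↦ x x^W` -/
noncomputable def dl {W : E} (hW : cj W K ≤ L) : K →* E where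
  toFun x := x * (W * x * W⁻¹)
  map_one' := by simp
  map_mul' := by
    intro x y
    have h1 : (y : E) * (W * x * W⁻¹) = (W * x * W⁻¹) * y := c.comm _ y.2 _ (hW ⟨x, x.2, rfl⟩)
    rw [Subgroup.coe_mul]
    calc (x : E) * y * (W * (x * y) * W⁻¹) = x * (y * (W * x * W⁻¹)) * (W * y * W⁻¹) := by group
      _ = x * (W * x * W⁻¹) * (y * (W * y * W⁻¹)) := by rw [h1]; group

theorem dl_apply {W : E} (hW : cj W K ≤ L) (x : K) : c.dl hW x = x * (W * x * W⁻¹) := rfl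

theorem dl_injective {W : E} (hW : cj W K ≤ L) : Function.Injective (c.dl hW) := by
  rw [injective_iff_map_eq_one]
  intro x hx
  rw [dl_apply] at hx
  have h1 : (x : E) = (W * x * W⁻¹)⁻¹ := eq_inv_of_mul_eq_one_left hx
  have h2 : (x : E) ∈ L := by
    rw [h1]
    exact L.inv_mem (hW ⟨x, x.2, rfl⟩)
  exact Subtype.ext (c.inf_eq x.2 h2)

/-- the data for `Δ` -/
theorem jL_W {p : ℕ} [Fact p.Prime] [CharP F p] {w : Γ F} (hw : (spRep F).ρ w = fromBlocks 0 1 (-1) 0) {W : E}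
    (hWw : φ W = pr (Γ F) w) (hW : cj W K ≤ L) :
    (∀ g : Γ F, ∀ k, (spRep F).ρ g = fromBlocks k 0 0 k → ∃ x : K, φ (c.dl hW x) = pr (Γ F) g) ∧
      jL p ⊤ W = (c.dl hW).range := by
  have hpo : Odd p := by
    obtain ⟨q, hq, hq', -⟩ := c.char
    haveI := hq'
    rwa [CharP.eq F ‹CharP F p› hq']
  have hww : w * w ∈ center (Γ F) := by
    refine (spRep F).mem_center_of_scalar (c := -1) ?_
    rw [map_mul, hw, fromBlocks_multiply, neg_smul, one_smul, ← fromBlocks_one, fromBlocks_neg]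
    simp
  have key : ∀ g : Γ F, ∀ k, (spRep F).ρ g = fromBlocks k 0 0 k →
      ∃ x : K, φ (c.dl hW x) = pr (Γ F) g ∧ ∀ n, g ^ n = 1 → (x : E) ^ n = 1 := by
    intro g k hg
    obtain ⟨hk, -⟩ := spRep_blocks F hg
    obtain ⟨x, hx, e, he, hxe⟩ := c.exists_K hk
    refine ⟨⟨x, hx⟩, ?_, ?_⟩
    · have h1 : e * w * e = g * w := by
        apply (spRep F).inj
        rw [map_mul, map_mul, map_mul, he, hw, hg, fromBlocks_multiply, fromBlocks_multiply, fromBlocks_multiply]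
        simp
      rw [dl_apply]
      change φ (x * (W * x * W⁻¹)) = _
      rw [map_mul, map_mul, map_mul, map_inv, hxe, hWw, ← map_mul, ← map_inv, ← map_mul, ← map_mul]
      congr 1
      calc e * (w * e * w⁻¹) = (e * w * e) * w⁻¹ := by group
        _ = g := by rw [h1]; group
    · intro n hn
      refine c.injK (K.pow_mem hx n) ?_
      rw [map_pow, hxe, ← map_pow, pr_eq_one]
      have h3 : e ^ n = 1 := by
        apply (spRep F).inj
        have h4 := congrArg (spRep F).ρ hn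
        rw [map_pow, hg, fromBlocks_diagonal_pow, map_one, ← fromBlocks_one, fromBlocks_inj] at h4
        rw [map_pow, he, fromBlocks_diagonal_pow, h4.1, one_pow, fromBlocks_one, map_one]
      rw [h3]
      exact (center (Γ F)).one_mem
  refine ⟨fun g k hg => (key g k hg).imp fun x hx => hx.1, le_antisymm ?_ ?_⟩
  · rw [jL, closure_le]
    rintro y ⟨-, hyp, hyW⟩
    obtain ⟨n, hn⟩ := hyp ⟨y, mem_zpowers y⟩
    have hn' : y ^ p ^ n = 1 := congrArg Subtype.val hn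
    -- lift to an element of the same order
    obtain ⟨g', hg'⟩ := pr_surjective (φ y)
    have hpn : Odd (p ^ n) := hpo.pow
    obtain ⟨m, hm⟩ : ∃ m, (y ^ 2) ^ m = y := by
      apply exists_pow_eq_self_of_coprime
      refine Nat.Coprime.coprime_dvd_right (orderOf_dvd_of_pow_eq_one hn') ?_
      exact Nat.coprime_two_left.2 hpn
    set g := (g' ^ 2) ^ m with hgdef
    have hg : pr (Γ F) g = φ y := by rw [hgdef, map_pow, map_pow, hg', ← map_pow, ← map_pow, hm]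
    have hgn : g ^ p ^ n = 1 := by
      have h1 : g' ^ p ^ n ∈ center (Γ F) := by
        rw [← pr_eq_one, map_pow, hg', ← map_pow, hn', map_one]
      have h2 := sq_of_center h1
      calc g ^ p ^ n = (g' ^ p ^ n * g' ^ p ^ n) ^ m := by
            rw [hgdef, ← pow_mul, ← pow_mul, ← pow_add, ← pow_mul]
            congr 1
            ring
        _ = 1 := by rw [h2, one_pow]
    have hgw : g * w = w * g := by
      have h1 : pr (Γ F) g * pr (Γ F) w = pr (Γ F) w * pr (Γ F) g := by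
        rw [hg, ← hWw, ← map_mul, hyW, map_mul]
      rw [pr_comm] at h1
      set ζ := g * w * g⁻¹ * w⁻¹ with hζ
      have h2 := sq_of_center h1
      have h3 := mem_center_iff.1 h1
      have h4 : w * g * w⁻¹ = ζ⁻¹ * g := by
        rw [hζ]; group
      have h5 : (w * g * w⁻¹) ^ p ^ n = 1 := by
        rw [conj_pow, hgn]; group
      have h6 : Commute ζ⁻¹ g := (Commute.inv_left (h3 g).symm)
      rw [h4, h6.mul_pow, hgn, mul_one, inv_pow, inv_eq_one] at h5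
      obtain ⟨r, hr⟩ := hpn
      have h7 : ζ = 1 := by
        have : ζ ^ p ^ n = ζ := by
          rw [hr, pow_succ, pow_mul, pow_two, h2, one_pow, one_mul]
        rw [← this, h5]
      calc g * w = ζ * (w * g) := by rw [hζ]; group
        _ = w * g := by rw [h7, one_mul]
    obtain ⟨k, hk⟩ := Sp4M.exists_diag_of_p c.h2 p (isPGroup_zpowers hgn) hw hgw
    obtain ⟨x, hx, hxn⟩ := key g k hk
    have h1 : y = c.dl hW x * ((c.dl hW x)⁻¹ * y) := by group
    have h2 : (c.dl hW x)⁻¹ * y ∈ center E := by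
      rw [c.mem_center, map_mul, map_inv, hx, hg, inv_mul_cancel]
    have h3 : (c.dl hW x) ^ p ^ n = 1 := by
      have : x ^ p ^ n = 1 := Subtype.ext (by simpa using hxn _ hgn)
      rw [← map_pow, this, map_one]
    have h4 := c.eq_one_of_pow hpo h1 hn' h3 h2
    rw [h1, h4, mul_one]
    exact ⟨x, rfl⟩
  · obtain ⟨eK⟩ := c.eK
    have h1 : PG p (c.dl hW).range := by
      have e := eK.trans (MonoidHom.ofInjective (c.dl_injective hW))
      exact sl_pg e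
    refine h1 _ fun y hy n hn => subset_closure ⟨mem_top _, isPGroup_zpowers hn, ?_⟩
    obtain ⟨x, rfl⟩ := hy
    rw [dl_apply]
    have h2 : W * W ∈ center E := by
      rw [c.mem_center, map_mul, hWw, ← map_mul, pr_eq_one]
      exact hww
    have h3 := mem_center_iff.1 h2 (x : E)
    have h4 : (x : E) * (W * x * W⁻¹) = (W * x * W⁻¹) * x := c.comm _ x.2 _ (hW ⟨x, x.2, rfl⟩)
    calc (x : E) * (W * x * W⁻¹) * W = (x : E) * W * x := by group
      _ = (x : E) * (W * W) * W⁻¹ * x := by group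
      _ = (W * W) * x * W⁻¹ * x := by rw [h3]
      _ = W * ((W * x * W⁻¹) * x) := by group
      _ = W * (x * (W * x * W⁻¹)) := by rw [h4]

/-- **`jL p ⊤ (v v')`** -/
theorem exists_jL (p : ℕ) [Fact p.Prime] [CharP F p] {v v' : E} (hv : v ∈ K) (hv' : v' ∈ L) (hvv : v * v = z)
    (hvv' : v' * v' = z') : Nonempty (SL F ≃* jL p ⊤ (v * v')) ∧ z * z' ∈ jL p ⊤ (v * v') ∧
      v * v'⁻¹ ∈ jL p ⊤ (v * v') := by
  obtain ⟨a, b, hab⟩ := exists_quat F
  obtain ⟨g0, w, h0, k, hk, hw, hg0, hh0, hgh⟩ := Sp4M.exists_conj c.h2 hab.1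
  obtain ⟨W, hWw⟩ := c.surj (pr (Γ F) w)
  obtain ⟨G, hG⟩ := c.surj (pr (Γ F) g0)
  have hW : cj W K ≤ L := c.swapK hWw hw
  obtain ⟨hex, hjL⟩ := c.jL_W (p := p) hw hWw hW
  obtain ⟨eK⟩ := id c.eK
  obtain ⟨eL⟩ := id c.eL
  have hjd : (jj F).det = 1 := by simp [jj, det_fin_two]
  obtain ⟨a1, ha1, e1, he1, hae1⟩ := c.exists_K hjd
  obtain ⟨a2, ha2, e2, he2, hae2⟩ := c.exists_L hjd
  -- `a1² = z`, `a2² = z'`
  have ha11 : a1 * a1 = z := by
    refine c.injK' (K.mul_mem ha1 ha1) c.zK ?_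
    rw [map_mul, hae1, ← map_mul, c.map_z, z0]
    congr 1
    apply (spRep F).inj
    rw [map_mul, he1, (spRep F).t_eq, fromBlocks_multiply]
    simp [jj_sq]
  have ha22 : a2 * a2 = z' := by
    refine c.injL' (L.mul_mem ha2 ha2) c.zL ?_
    rw [map_mul, hae2, ← map_mul, c.map_z', z0]
    apply Cfsg.Agent.Cit.LongFiveB.pr_eq_of_smul (spRep F) (e := -1)
    rw [map_mul, he2, (spRep F).t_eq, fromBlocks_multiply, fromBlocks_smul]
    simp [jj_sq]
  -- `G W G⁻¹ = a1 a2` modulo the centre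
  have hz1 : (a1 * a2)⁻¹ * (G * W * G⁻¹) ∈ center E := by
    rw [c.mem_center, map_mul, map_inv, map_mul, map_mul, map_mul, map_inv, hae1, hae2, hG, hWw]
    have : e1 * e2 = g0 * w * g0⁻¹ := by
      apply (spRep F).inj
      rw [hg0, map_mul, he1, he2, fromBlocks_multiply]
      simp
    rw [← map_mul, this, map_mul, map_mul, map_inv, inv_mul_cancel]
  -- `a1 a2⁻¹ = G (dl x) G⁻¹` modulo the centre
  obtain ⟨x, hx⟩ := hex _ _ hgh
  have hz2 : (G * c.dl hW x * G⁻¹)⁻¹ * (a1 * a2⁻¹) ∈ center E := by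
    rw [c.mem_center, map_mul, map_inv, map_mul, map_mul, map_mul, map_inv, map_inv, hae1, hae2, hG, hx]
    have : e1 = h0 * e2 := by
      apply (spRep F).inj
      rw [map_mul, he1, hh0, he2, fromBlocks_multiply]
      simp [jj_sq]
    rw [this]
    simp only [← map_inv, ← map_mul]
    rw [pr_eq_one]
    have e : (g0 * (g0⁻¹ * h0 * g0) * g0⁻¹)⁻¹ * (h0 * e2 * e2⁻¹) = 1 := by group
    rw [e]
    exact (center (Γ F)).one_mem
  obtain ⟨b1, hb1, hb1'⟩ := sl_conj_four c.odd c.h2 eK c.z1 c.z2 ha1 hv ha11 hvv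
  obtain ⟨b2, hb2, hb2'⟩ := sl_conj_four c.odd c.h2 eL c.z1' c.z2' ha2 hv' ha22 hvv'
  set Y := b1 * b2 * G with hY
  have hprod : ∀ x ∈ K, ∀ y ∈ L, (b1 * b2) * (x * y) * (b1 * b2)⁻¹ = (b1 * x * b1⁻¹) * (b2 * y * b2⁻¹) := by
    intro x hx y hy
    have h1 : b2 * x = x * b2 := (c.comm x hx b2 hb2).symm
    have h2 : b2 * y * b2⁻¹ * b1⁻¹ = b1⁻¹ * (b2 * y * b2⁻¹) :=
      (c.comm _ (K.inv_mem hb1) _ (L.mul_mem (L.mul_mem hb2 hy) (L.inv_mem hb2))).symm
    calc (b1 * b2) * (x * y) * (b1 * b2)⁻¹ = b1 * (b2 * x) * y * b2⁻¹ * b1⁻¹ := by group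
      _ = b1 * x * (b2 * y * b2⁻¹ * b1⁻¹) := by rw [h1]; group
      _ = _ := by rw [h2]; group
  have hYW : ∃ ζ ∈ center E, Y * W * Y⁻¹ = v * v' * ζ := by
    refine ⟨_, hz1, ?_⟩
    have h1 := hprod a1 ha1 a2 ha2
    rw [hb1', hb2'] at h1
    have h2 := mem_center_iff.1 hz1 (b1 * b2)⁻¹
    calc Y * W * Y⁻¹ = (b1 * b2) * ((a1 * a2) * ((a1 * a2)⁻¹ * (G * W * G⁻¹))) * (b1 * b2)⁻¹ := by
          rw [hY]; group
      _ = (b1 * b2) * (a1 * a2) * ((a1 * a2)⁻¹ * (G * W * G⁻¹) * (b1 * b2)⁻¹) := by group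
      _ = (b1 * b2) * (a1 * a2) * (b1 * b2)⁻¹ * ((a1 * a2)⁻¹ * (G * W * G⁻¹)) := by rw [← h2]; group
      _ = _ := by rw [h1]
  have hmain : jL p ⊤ (v * v') = cj Y (c.dl hW).range := by
    obtain ⟨ζ, hζ, h⟩ := hYW
    rw [← jL_mul_center p (v * v') hζ, ← h, jL_conj, hjL]
  have hzz : z * z' ∈ jL p ⊤ (v * v') := by
    rw [hmain]
    refine ⟨z * z', ⟨⟨z, c.zK⟩, ?_⟩, ?_⟩
    · rw [dl_apply]
      change z * (W * z * W⁻¹) = _
      rw [c.conj_z hWw hw]
    · have h1 := mem_center_iff.1 c.zz_center Y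
      simp only [MulEquiv.coe_toMonoidHom, MulAut.conj_apply]
      rw [h1]
      group
  refine ⟨?_, hzz, ?_⟩
  · rw [hmain]
    exact ⟨(eK.trans (MonoidHom.ofInjective (c.dl_injective hW))).trans (cjEquiv Y _)⟩
  · have h1 : v * v'⁻¹ = (Y * c.dl hW x * Y⁻¹) * ((G * c.dl hW x * G⁻¹)⁻¹ * (a1 * a2⁻¹)) := by
      have h2 := hprod a1 ha1 a2⁻¹ (L.inv_mem ha2)
      have h3 : b2 * a2⁻¹ * b2⁻¹ = v'⁻¹ := by rw [← hb2']; group
      rw [hb1', h3] at h2
      rw [← h2]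
      have h4 := mem_center_iff.1 hz2 (b1 * b2)⁻¹
      calc (b1 * b2) * (a1 * a2⁻¹) * (b1 * b2)⁻¹ 
          = (b1 * b2) * ((G * c.dl hW x * G⁻¹) * (((G * c.dl hW x * G⁻¹)⁻¹ * (a1 * a2⁻¹)) * (b1 * b2)⁻¹)) := by
            group
        _ = (b1 * b2) * ((G * c.dl hW x * G⁻¹) * ((b1 * b2)⁻¹ * ((G * c.dl hW x * G⁻¹)⁻¹ * (a1 * a2⁻¹)))) := by
            rw [h4]
        _ = _ := by rw [hY]; group
    rw [h1]
    refine mul_mem ?_ ?_
    · rw [hmain]
      exact ⟨_, ⟨x, rfl⟩, rfl⟩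
    · rcases c.center_eq hz2 with h | h
      · rw [h]; exact one_mem _
      · rw [h]; exact hzz

/-- **(d)** `E = ⟨K, L, jL⟩` -/
theorem gen (p : ℕ) [Fact p.Prime] [CharP F p] {v v' : E} (hv : v ∈ K) (hv' : v' ∈ L) (hvv : v * v = z)
    (hvv' : v' * v' = z') : K ⊔ L ⊔ jL p ⊤ (v * v') = ⊤ := by
  obtain ⟨⟨e⟩, hzz, hh⟩ := c.exists_jL p hv hv' hvv hvv'
  have hpo : Odd p := by
    obtain ⟨q, hq, hq', -⟩ := c.char
    haveI := hq'
    rwa [CharP.eq F ‹CharP F p› hq']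
  obtain ⟨eK⟩ := id c.eK
  -- a `p`-element of `jL` not commuting with `z`
  obtain ⟨x, n, hxj, hxn, hxz⟩ : ∃ x, ∃ n : ℕ, x ∈ jL p ⊤ (v * v') ∧ x ^ p ^ n = 1 ∧ x * z ≠ z * x := by
    by_contra hcon
    push Not at hcon
    have h1 : jL p ⊤ (v * v') ≤ centralizer {z} := sl_pg (p := p) e _ fun x hx n hn =>
      mem_centralizer_singleton_iff.2 (hcon x n hx hn)
    have h2 : ∀ y ∈ jL p ⊤ (v * v'), y * (v * v'⁻¹) = v * v'⁻¹ * y := by
      intro y hy
      have h3 := mem_centralizer_singleton_iff.1 (h1 hy)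
      have h4 : Commute y (v * v') := jL_comm hy
      have h5 : v * v'⁻¹ = z * (v * v')⁻¹ := by
        have : v' * v = v * v' := (c.comm v hv v' hv').symm
        rw [← hvv]
        calc v * v'⁻¹ = v * (v * v⁻¹) * v'⁻¹ := by group
          _ = v * v * (v' * v)⁻¹ := by group
          _ = v * v * (v * v')⁻¹ := by rw [this]
      rw [h5]
      exact ((show Commute y z from h3).mul_right h4.inv_right)
    have h3 := sl_center_sq e hh h2
    have h4 : v * v'⁻¹ * (v * v'⁻¹) = z * z' := by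
      have h5 : v'⁻¹ * v = v * v'⁻¹ := (c.comm v hv _ (L.inv_mem hv')).symm
      have h6 : z'⁻¹ = z' := inv_eq_of_mul_eq_one_left c.z2'
      calc v * v'⁻¹ * (v * v'⁻¹) = v * (v'⁻¹ * v) * v'⁻¹ := by group
        _ = (v * v) * (v' * v')⁻¹ := by rw [h5]; group
        _ = z * z' := by rw [hvv, hvv', h6]
    rw [h4] at h3
    apply c.ne
    calc z = z * (z' * z') := by rw [c.z2', mul_one]
      _ = (z * z') * z' := by group
      _ = z' := by rw [h3, one_mul]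
  obtain ⟨g, hg⟩ := pr_surjective (φ x)
  have hnc : ¬ (φ x * z0 (spRep F) = z0 (spRep F) * φ x) := by
    intro h
    apply hxz
    -- `x z x⁻¹ = z` or `z'`; `x` has odd order
    have h1 : x * z * x⁻¹ * z⁻¹ ∈ center E := by
      rw [c.mem_center, map_mul, map_mul, map_mul, map_inv, map_inv, c.map_z, h]
      group
    rcases c.center_eq h1 with h2 | h2
    · calc x * z = (x * z * x⁻¹ * z⁻¹) * (z * x) := by group
        _ = z * x := by rw [h2, one_mul]
    · -- `x² z x⁻² = z`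
      have h3 : x * z * x⁻¹ = z * z' * z := by rw [← h2]; group
      have h4 := mem_center_iff.1 c.zz_center
      have h5 : x ^ 2 * z = z * x ^ 2 := by
        have h6 : x * (x * z * x⁻¹) * x⁻¹ = z := by
          rw [h3]
          have h7 : x * (z * z' * z) * x⁻¹ = (z * z') * (x * z * x⁻¹) := by
            calc x * (z * z' * z) * x⁻¹ = (x * (z * z')) * z * x⁻¹ := by group
              _ = (z * z') * (x * z * x⁻¹) := by rw [h4 x]; group
          rw [h7, h3]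
          have h8 : z' * z = z * z' := (c.comm z c.zK z' c.zL).symm
          calc z * z' * (z * z' * z) = z * (z' * z) * z' * z := by group
            _ = (z * z) * (z' * z') * z := by rw [h8]; group
            _ = z := by rw [c.z2, c.z2', one_mul, one_mul]
        calc x ^ 2 * z = (x * (x * z * x⁻¹) * x⁻¹) * x ^ 2 := by rw [pow_two]; group
          _ = z * x ^ 2 := by rw [h6]
      have hpn : Odd (p ^ n) := hpo.pow
      obtain ⟨m, hm⟩ : ∃ m, (x ^ 2) ^ m = x := by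
        apply exists_pow_eq_self_of_coprime
        refine Nat.Coprime.coprime_dvd_right (orderOf_dvd_of_pow_eq_one hxn) ?_
        exact Nat.coprime_two_left.2 hpn
      have h6 : Commute ((x ^ 2) ^ m) z := (show Commute (x ^ 2) z from h5).pow_left m
      rw [hm] at h6
      exact h6
  have hgen : ((K ⊔ L ⊔ jL p ⊤ (v * v')).map φ).comap (pr (Γ F)) = ⊤ := by
    refine SpGen.gen (x := g) ?_ ?_ ?_ ?_ ?_
    · intro y hy
      have h1 : pr (Γ F) y ∈ K.map φ := by rw [c.mK]; exact mem_map_of_mem _ hy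
      exact Subgroup.map_mono (le_sup_left.trans le_sup_left) h1
    · intro y hy
      have h1 : pr (Γ F) y ∈ L.map φ := by rw [c.mL]; exact mem_map_of_mem _ hy
      exact Subgroup.map_mono (le_sup_right.trans le_sup_left) h1
    · rw [mem_comap, hg]
      exact mem_map_of_mem _ (mem_sup_right hxj)
    · rintro ⟨P, S, h⟩
      apply hnc
      rw [← hg, z0, ← map_mul, ← map_mul, (spRep F).comm_t_of_blocks h]
    · rintro ⟨P, S, h⟩
      apply hnc
      rw [← hg, z0, pr_comm]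
      refine (spRep F).mem_center_of_scalar (c := -1) ?_
      have h1 : g * (spRep F).t * g⁻¹ * (spRep F).t⁻¹ = (g * (spRep F).t) * ((spRep F).t * g)⁻¹ := by group
      have h2 : (spRep F).ρ (g * (spRep F).t) = - (spRep F).ρ ((spRep F).t * g) := by
        rw [map_mul, map_mul, h, (spRep F).t_eq, fromBlocks_multiply, fromBlocks_multiply, fromBlocks_neg]
        simp
      rw [h1, map_mul, h2, Matrix.neg_mul, ← map_mul, mul_inv_cancel, map_one, neg_smul, one_smul]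
  rw [eq_top_iff]
  intro y _
  obtain ⟨g1, hg1⟩ := pr_surjective (φ y)
  have h1 : g1 ∈ ((K ⊔ L ⊔ jL p ⊤ (v * v')).map φ).comap (pr (Γ F)) := by rw [hgen]; exact mem_top _
  rw [mem_comap, hg1] at h1
  obtain ⟨m, hm, hmy⟩ := h1
  have h2 : m⁻¹ * y ∈ center E := by rw [c.mem_center, map_mul, map_inv, hmy, inv_mul_cancel]
  have h3 : y = m * (m⁻¹ * y) := by group
  rw [h3]
  exact mul_mem hm (mem_sup_left (c.center_le h2))

/-- **(b)** -/
theorem aut {α : E ≃* E} (hK : ∀ x ∈ K, α x = x) (hL : ∀ x ∈ L, α x = x) (x : E) : α (α x) = x := by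
  have hcen : ∀ {x : E}, x ∈ center E ↔ α x ∈ center E := by
    intro x
    constructor
    · intro h
      rw [mem_center_iff]
      intro y
      obtain ⟨y, rfl⟩ := α.surjective y
      rw [← map_mul, mem_center_iff.1 h, map_mul]
    · intro h
      rw [mem_center_iff]
      intro y
      apply α.injective
      rw [map_mul, mem_center_iff.1 h, map_mul]
  have hk : φ.ker = (φ.comp α.toMonoidHom).ker := by
    ext y
    rw [MonoidHom.mem_ker, MonoidHom.mem_ker, ← c.mem_center, hcen, c.mem_center]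
    rfl
  have hs : Function.Surjective (φ.comp α.toMonoidHom) := c.surj.comp α.surjective
  obtain ⟨β, hβ⟩ : ∃ β : QQ F ≃* QQ F, ∀ y : E, β (φ y) = φ (α y) := exists_equiv_of_ker c.surj hs hk
  have h1 : ∀ y ∈ D1 (spRep F), β y = y := by
    intro y hy
    rw [← c.mK] at hy
    obtain ⟨k, hk, rfl⟩ := hy
    rw [hβ, hK k hk]
  have h2 : ∀ y ∈ D2 (spRep F), β y = y := by
    intro y hy
    rw [← c.mL] at hy
    obtain ⟨k, hk, rfl⟩ := hy
    rw [hβ, hL k hk]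
  have h3 := Sp4M.aut_sq c.h2 h1 h2
  have h4 : ∀ y : E, y⁻¹ * α (α y) ∈ center E := by
    intro y
    rw [c.mem_center, map_mul, map_inv, ← hβ, ← hβ, h3, inv_mul_cancel]
  -- the homomorphism to the centre is trivial
  let γ : E →* center E :=
    { toFun := fun y => ⟨y⁻¹ * α (α y), h4 y⟩
      map_one' := Subtype.ext (by simp)
      map_mul' := by
        intro y y'
        apply Subtype.ext
        change (y * y')⁻¹ * α (α (y * y')) = y⁻¹ * α (α y) * (y'⁻¹ * α (α y'))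
        have h5 := mem_center_iff.1 (h4 y) y'⁻¹
        rw [map_mul, map_mul]
        calc (y * y')⁻¹ * (α (α y) * α (α y')) = y'⁻¹ * (y⁻¹ * α (α y)) * α (α y') := by group
          _ = y⁻¹ * α (α y) * y'⁻¹ * α (α y') := by rw [h5]
          _ = _ := by group }
  have h6 := eq_one_of_hom_center c.perf γ x
  have h7 : x⁻¹ * α (α x) = 1 := congrArg Subtype.val h6
  exact (inv_mul_eq_one.1 h7).symm

end Cov

end Cfsg.Agent.Cit.SpLift

private theorem dce_53671a84c403 : _root_.True := by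
  try have : _root_.True := by simp only [_root_.Cfsg.Agent.Cit.SpLift.Cov.dl.congr_simp]
  exact _root_.True.intro
end

-- part: Cit/SpLift3
section
set_option linter.all false
open scoped Cfsg.Agent.FastGrp

/-!
# `SpFacts` from `Cov`
-/

set_option autoImplicit false
set_option linter.style.haveILetI false
set_option linter.unusedSectionVars false

namespace Cfsg.Agent.Cit.SpLift

open Subgroup Cfsg Matrix Cfsg.Agent.Cit.Sp4 Cfsg.Agent.SignalizersComponents.Components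

variable {F : Type} [Field F] [Fintype F] {H : Type*} [Group H] [Finite H]

theorem jL_map (p : ℕ) (D : Subgroup H) (j : D) : jL p D (j : H) = (jL p ⊤ j).map D.subtype := by
  rw [jL, jL, MonoidHom.map_closure]
  congr 1
  ext x
  constructor
  · rintro ⟨hx, hxp, hxj⟩
    refine ⟨⟨x, hx⟩, ⟨mem_top _, ?_, Subtype.ext hxj⟩, rfl⟩
    obtain ⟨n, hn⟩ := hxp ⟨x, mem_zpowers x⟩
    have hn' : x ^ p ^ n = 1 := congrArg Subtype.val hn
    exact isPGroup_zpowers (n := n) (Subtype.ext (by simpa using hn'))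
  · rintro ⟨x, ⟨-, hxp, hxj⟩, rfl⟩
    refine ⟨x.2, ?_, congrArg Subtype.val hxj⟩
    have h1 := hxp.map D.subtype
    rwa [MonoidHom.map_zpowers] at h1

/-- the facts on `D` -/
theorem spFacts {p : ℕ} [Fact p.Prime] [CharP F p] {D K L : Subgroup H} (comp : IsComponent D) (hKD : K ≤ D)
    (hLD : L ≤ D) (hzK : zz K ∈ K) (hzL : zz L ∈ L) {φ : D →* QQ F}
    (c : Cov φ (K.subgroupOf D) (L.subgroupOf D) ⟨zz K, hKD hzK⟩ ⟨zz L, hLD hzL⟩) : SpFacts p F D K L where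
  comp := comp
  left := hKD
  right := hLD
  eK := by
    obtain ⟨e⟩ := c.eK
    exact ⟨e.trans (subgroupOfEquivOfLe hKD)⟩
  eL := by
    obtain ⟨e⟩ := c.eL
    exact ⟨e.trans (subgroupOfEquivOfLe hLD)⟩
  comm := fun x hx y hy => congrArg Subtype.val
    (c.comm ⟨x, hKD hx⟩ (mem_subgroupOf.2 hx) ⟨y, hLD hy⟩ (mem_subgroupOf.2 hy))
  ne := fun h => c.ne (Subtype.ext h)
  zcen := fun x hx => congrArg Subtype.val (mem_center_iff.1 c.zz_center ⟨x, hx⟩)
  cen := by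
    intro x hx h
    have h1 : (⟨x, hx⟩ : D) ∈ K.subgroupOf D ⊔ L.subgroupOf D := c.mem_sup (Subtype.ext h)
    have h2 := mem_map_of_mem D.subtype h1
    rw [Subgroup.map_sup, map_subgroupOf_eq_of_le hKD, map_subgroupOf_eq_of_le hLD] at h2
    exact h2
  cent := by
    intro u hu ho hK hL
    let α : D ≃* D := normalizerMonoidHom D ⟨u, hu⟩
    have hα : ∀ x : D, ((α x : D) : H) = u * x * u⁻¹ := fun x => rfl
    have fix : ∀ {M : Subgroup H}, u ∈ centralizer (M : Set H) → ∀ x ∈ M.subgroupOf D, α x = x := by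
      intro M hM x hx
      apply Subtype.ext
      rw [hα, ← mem_centralizer_iff.1 hM x (mem_subgroupOf.1 hx)]
      group
    have h1 := c.aut (α := α) (fix hK) (fix hL)
    have h2 : u ^ 2 ∈ centralizer (D : Set H) := by
      rw [mem_centralizer_iff]
      intro x hx
      have h3 := congrArg Subtype.val (h1 ⟨x, hx⟩)
      rw [hα, hα] at h3
      calc x * u ^ 2 = u * (u * x * u⁻¹) * u⁻¹ * u ^ 2 := by rw [h3]
        _ = u ^ 2 * x := by rw [pow_two]; group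
    obtain ⟨m, hm⟩ : ∃ m, (u ^ 2) ^ m = u := by
      apply exists_pow_eq_self_of_coprime
      exact (Nat.Prime.coprime_iff_not_dvd Nat.prime_two).2 ho
    rw [← hm]
    exact pow_mem h2 m
  iso := by
    intro v hv w hw hvv hww
    obtain ⟨⟨e⟩, -, -⟩ := c.exists_jL p (v := ⟨v, hKD hv⟩) (v' := ⟨w, hLD hw⟩) (mem_subgroupOf.2 hv)
      (mem_subgroupOf.2 hw) (Subtype.ext hvv) (Subtype.ext hww)
    have h1 := jL_map p D (⟨v, hKD hv⟩ * ⟨w, hLD hw⟩)
    rw [show v * w = ((⟨v, hKD hv⟩ * ⟨w, hLD hw⟩ : D) : H) from rfl, h1]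
    exact ⟨e.trans (equivMapOfInjective _ _ D.subtype_injective)⟩
  zmem := by
    intro v hv w hw hvv hww
    obtain ⟨-, h, -⟩ := c.exists_jL p (v := ⟨v, hKD hv⟩) (v' := ⟨w, hLD hw⟩) (mem_subgroupOf.2 hv)
      (mem_subgroupOf.2 hw) (Subtype.ext hvv) (Subtype.ext hww)
    have h1 := jL_map p D (⟨v, hKD hv⟩ * ⟨w, hLD hw⟩)
    rw [show v * w = ((⟨v, hKD hv⟩ * ⟨w, hLD hw⟩ : D) : H) from rfl, h1]
    exact mem_map_of_mem D.subtype h
  hmem := by
    intro v hv w hw hvv hww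
    obtain ⟨-, -, h⟩ := c.exists_jL p (v := ⟨v, hKD hv⟩) (v' := ⟨w, hLD hw⟩) (mem_subgroupOf.2 hv)
      (mem_subgroupOf.2 hw) (Subtype.ext hvv) (Subtype.ext hww)
    have h1 := jL_map p D (⟨v, hKD hv⟩ * ⟨w, hLD hw⟩)
    rw [show v * w = ((⟨v, hKD hv⟩ * ⟨w, hLD hw⟩ : D) : H) from rfl, h1]
    exact mem_map_of_mem D.subtype h
  gen := by
    intro v hv w hw hvv hww
    have h := c.gen p (v := ⟨v, hKD hv⟩) (v' := ⟨w, hLD hw⟩) (mem_subgroupOf.2 hv)
      (mem_subgroupOf.2 hw) (Subtype.ext hvv) (Subtype.ext hww)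
    have h1 := jL_map p D (⟨v, hKD hv⟩ * ⟨w, hLD hw⟩)
    rw [show v * w = ((⟨v, hKD hv⟩ * ⟨w, hLD hw⟩ : D) : H) from rfl, h1]
    have h2 := congrArg (Subgroup.map D.subtype) h
    rw [Subgroup.map_sup, Subgroup.map_sup, map_subgroupOf_eq_of_le hKD, map_subgroupOf_eq_of_le hLD] at h2
    rw [h2]
    intro x hx
    exact ⟨⟨x, hx⟩, mem_top _, rfl⟩

end Cfsg.Agent.Cit.SpLift
end

-- part: Cit/TwoP/WW
section
set_option linter.all false
open scoped Cfsg.Agent.FastGrp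

/-!
# `|Om(S)| = 2`, equal involutions: the set `WW` and the strongly closed subgroup `B(S)`

* `PP Om b z`: `b ⊥ L` for every member `L` over `z`.
* `WW Om b`: `b ⊥ z` for some `z = zz K` and `b ⊥ s` for all `s = zz L` commuting with `z` and `b`.
* `WW.pp` (L1): then `b ⊥ s` for all `s = zz L` commuting with `b`.
* `BB`: the elements `b ∈ S` with `b ⊥ L` for all `L` with `zz L ∈ S`; strongly closed if `L2 Om` and `Crit Om`.
-/

set_option autoImplicit false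
set_option linter.style.haveILetI false
set_option linter.unusedSectionVars false

namespace Cfsg.Agent.Cit.TwoP

open Subgroup Cfsg Cit OneBasic TwoFK

variable {G : Type*} [Group G]

/-- `b ⊥ z` -/
def PP (Om : Set (Subgroup G)) (b z : G) : Prop := ∀ L ∈ Om, zz L = z → Perp b L

/-- `b ⊥ z` for some `z = zz K`, and `b ⊥ s` for all `s = zz L` commuting with `z` and `b` -/
def WW (Om : Set (Subgroup G)) (b : G) : Prop :=
  ∃ K ∈ Om, PP Om b (zz K) ∧ ∀ L ∈ Om, zz K * zz L = zz L * zz K → b * zz L = zz L * b → PP Om b (zz L)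

/-- elements of `WW` commute with the member involutions in a common 2-group -/
def L2 (Om : Set (Subgroup G)) : Prop := ∀ b : G, WW Om b → ∀ S : Subgroup G, IsPGroup 2 S → b ∈ S →
  ∀ L ∈ Om, zz L ∈ S → b * zz L = zz L * b

/-- the criterion for `b ∈ WW` -/
def Crit (Om : Set (Subgroup G)) : Prop := ∀ S : Subgroup G, Syl S ⊤ → ∀ b ∈ S,
  (∀ L ∈ Om, zz L ∈ S → Perp b L) → WW Om b

theorem perp_comm [Finite G] {Om : Set (Subgroup G)} (h : Hyp Om) {K : Subgroup G} (hK : K ∈ Om) {b : G}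
    (hb : Perp b K) : b * zz K = zz K * b := h.comm_zz hK hb.mem

section PP

variable [Finite G] {Om : Set (Subgroup G)}

theorem PP.comm (h : Hyp Om) {K : Subgroup G} (hK : K ∈ Om) {b : G} (hb : PP Om b (zz K)) :
    b * zz K = zz K * b := perp_comm h hK (hb K hK rfl)

theorem PP.conj (h : Hyp Om) {b z : G} (hb : PP Om b z) (g : G) : PP Om (g * b * g⁻¹) (g * z * g⁻¹) := by
  intro L hL hz
  have h1 : zz (cj g⁻¹ L) = z := by
    rw [h.zz_cj hL, hz]; group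
  have h2 := (hb _ (h.conj L hL g⁻¹) h1).cj g
  rwa [cj_cj_inv] at h2

theorem PP.conj_comm (h : Hyp Om) {b z : G} (hb : PP Om b z) {g : G} (hg : g * b = b * g) :
    PP Om b (g * z * g⁻¹) := by
  have := hb.conj h g
  rwa [hg, mul_inv_cancel_right] at this

theorem PP.of_conj_comm (h : Hyp Om) {b z g : G} (hg : g * b = b * g) (hb : PP Om b (g * z * g⁻¹)) :
    PP Om b z := by
  have h1 : g⁻¹ * b = b * g⁻¹ := ((show Commute g b from hg).inv_left).eq
  have h2 := hb.conj_comm h h1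
  have h3 : g⁻¹ * (g * z * g⁻¹) * g⁻¹⁻¹ = z := by group
  rwa [h3] at h2

theorem WW.conj (h : Hyp Om) {b : G} (hb : WW Om b) (g : G) : WW Om (g * b * g⁻¹) := by
  obtain ⟨K, hK, h1, h2⟩ := hb
  refine ⟨cj g K, h.conj K hK g, ?_, ?_⟩
  · rw [h.zz_cj hK]; exact h1.conj h g
  · intro L hL hc hbL
    have hL' := h.conj L hL g⁻¹
    have e1 : zz (cj g⁻¹ L) = g⁻¹ * zz L * g := by rw [h.zz_cj hL, inv_inv]
    have e2 : g * (g⁻¹ * zz L * g) * g⁻¹ = zz L := by group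
    have h3 : PP Om b (zz (cj g⁻¹ L)) := by
      apply h2 _ hL'
      · rw [e1]
        rw [h.zz_cj hK] at hc
        calc zz K * (g⁻¹ * zz L * g) = g⁻¹ * (g * zz K * g⁻¹ * zz L) * g := by group
          _ = g⁻¹ * (zz L * (g * zz K * g⁻¹)) * g := by rw [hc]
          _ = _ := by group
      · rw [e1]
        calc b * (g⁻¹ * zz L * g) = g⁻¹ * (g * b * g⁻¹ * zz L) * g := by group
          _ = g⁻¹ * (zz L * (g * b * g⁻¹)) * g := by rw [hbL]
          _ = _ := by group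
    have h4 := h3.conj h g
    rwa [e1, e2] at h4

theorem WW.isP {b : G} (hb : WW Om b) : IsPGroup 2 (zpowers b) := by
  obtain ⟨K, hK, h1, -⟩ := hb
  exact (h1 K hK rfl).p

end PP

variable [Finite G] {Om : Set (Subgroup G)}

/-- elements centralising a Sylow 2-subgroup of `K` normalised by them -/
theorem le_centralizer_inf (b : TwoEq Om) {K R : Subgroup G} (hK : K ∈ Om) (hR : Syl R (centralizer {zz K}))
    {f : G} (hf : f ∈ R) (hp : Perp f K) : ∀ x ∈ K ⊓ R, f * x = x * f := by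
  refine hp.cent b.hyp hK (b.syl_inf hK hR) ?_
  rw [mem_normalizer_iff_cj, cj_inf, mem_normalizer_iff_cj.1 hp.mem, mem_normalizer_iff_cj.1 (le_normalizer hf)]

/-- a 2-group containing Sylow 2-subgroups of `K` and normalised .. centralises `zz K` -/
theorem le_centralizer_zz (b : TwoEq Om) {K Q T : Subgroup G} (hK : K ∈ Om) (hQ : Syl Q K) (hQT : Q ≤ T)
    (hT : IsPGroup 2 T) : T ≤ centralizer {zz K} := by
  haveI : Fact (Nat.Prime 2) := ⟨Nat.prime_two⟩
  obtain ⟨S, hTS⟩ := hT.exists_le_sylow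
  have hKS : K ∈ OmS Om (S : Subgroup G) := mem_OmS_of_le hK hQ (hQT.trans hTS)
  intro t ht
  have h1 : cj t K ∈ OmS Om (S : Subgroup G) := cj_mem_OmS' b.hyp.conj (le_normalizer (hTS ht)) hKS
  have h2 := b.same S _ h1 _ hKS
  rw [b.hyp.zz_cj hK] at h2
  rw [mem_centralizer_singleton_iff]
  calc t * zz K = (t * zz K * t⁻¹) * t := by group
    _ = zz K * t := by rw [h2]

/-- **(L)**: a Sylow 2-subgroup of `C(b)` centralises `z`, if `b ⊥ K`, `z = zz K` -/
theorem exists_syl_centralizer (b : TwoEq Om) {K : Subgroup G} (hK : K ∈ Om) {f : G} (hf : Perp f K) :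
    ∃ T, Syl T (centralizer {f}) ∧ T ≤ centralizer {zz K} := by
  obtain ⟨hp, hn, Q, hQ, hc⟩ := hf
  have h1 : Q ≤ centralizer {f} := fun x hx => mem_centralizer_singleton_iff.2 (hc x hx).symm
  obtain ⟨T, hT, hQT⟩ := OneBasic.exists_syl_ge hQ.2.1 h1
  exact ⟨T, hT, le_centralizer_zz b hK hQ hQT hT.2.1⟩

/-- **L1**: `b ∈ WW` is perpendicular to all member involutions which commute with `b` -/
theorem WW.pp (b : TwoEq Om) {f : G} (hw : WW Om f) {L : Subgroup G} (hL : L ∈ Om)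
    (hc : f * zz L = zz L * f) : PP Om f (zz L) := by
  obtain ⟨K, hK, h1, h2⟩ := hw
  obtain ⟨T, hT, hTz⟩ := exists_syl_centralizer b hK (h1 K hK rfl)
  obtain ⟨c, hcf, hcT⟩ := OneF.exists_conj_le hT (Zs_isP b.hyp (zz_mem_Zs hL))
    (by rw [zpowers_le, mem_centralizer_singleton_iff]; exact hc.symm)
  have hL' := b.hyp.conj L hL c
  have e1 : zz (cj c L) = c * zz L * c⁻¹ := b.hyp.zz_cj hL c
  have h3 : zz (cj c L) ∈ T := by rw [e1]; exact hcT (conj_mem_cj (mem_zpowers _))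
  have h4 : PP Om f (zz (cj c L)) := by
    apply h2 _ hL'
    · exact (mem_centralizer_singleton_iff.1 (hTz h3)).symm
    · exact (mem_centralizer_singleton_iff.1 (hT.1 h3)).symm
  rw [e1] at h4
  exact h4.of_conj_comm b.hyp hcf

/-- `B(S)`: the elements of `S` perpendicular to all members with involution in `S` -/
def BB (b : TwoEq Om) {S : Subgroup G} (hS : IsPGroup 2 S) : Subgroup G where
  carrier := {f | f ∈ S ∧ ∀ L ∈ Om, zz L ∈ S → Perp f L}
  one_mem' := ⟨S.one_mem, fun L _ _ => Perp.one L⟩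
  mul_mem' := by
    rintro f g ⟨hf, hf'⟩ ⟨hg, hg'⟩
    refine ⟨S.mul_mem hf hg, fun L hL hz => ?_⟩
    have h1 := hf' L hL hz
    have h2 := hg' L hL hz
    exact h1.mul b.hyp hL (A := S ⊓ normalizer (L : Set G)) (hS.to_le inf_le_left) inf_le_right
      ⟨hf, h1.mem⟩ ⟨hg, h2.mem⟩ h2
  inv_mem' := by
    rintro f ⟨hf, hf'⟩
    exact ⟨S.inv_mem hf, fun L hL hz => (hf' L hL hz).inv⟩

theorem mem_BB (b : TwoEq Om) {S : Subgroup G} (hS : IsPGroup 2 S) {f : G} :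
    f ∈ BB b hS ↔ f ∈ S ∧ ∀ L ∈ Om, zz L ∈ S → Perp f L := Iff.rfl

theorem BB_le (b : TwoEq Om) {S : Subgroup G} (hS : IsPGroup 2 S) : BB b hS ≤ S := fun _ hb => hb.1

theorem mem_BB_of_WW (b : TwoEq Om) (h2 : L2 Om) {S : Subgroup G} (hS : IsPGroup 2 S) {f : G} (hf : f ∈ S)
    (hw : WW Om f) : f ∈ BB b hS :=
  ⟨hf, fun L hL hz => hw.pp b hL (h2 f hw S hS hf L hL hz) L hL rfl⟩

/-- **`B(S)` is strongly closed** -/
theorem stronglyClosed (b : TwoEq Om) (h2 : L2 Om) (hc : Crit Om) {S : Subgroup G} (hS : Syl S ⊤) :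
    IsStronglyClosed (BB b hS.2.1) S :=
  ⟨BB_le b hS.2.1, fun f hf g hg => mem_BB_of_WW b h2 hS.2.1 hg ((hc S hS f hf.1 hf.2).conj b.hyp g)⟩

/-- if `B(S) = 1` then `WW = 1` -/
theorem eq_one_of_WW_of_BB (b : TwoEq Om) (h2 : L2 Om) {S : Subgroup G} (hS : Syl S ⊤) (hB : BB b hS.2.1 = ⊥)
    {f : G} (hw : WW Om f) : f = 1 := by
  obtain ⟨R, hR, hfR⟩ := OneBasic.exists_syl_ge hw.isP (le_top : zpowers f ≤ ⊤)
  obtain ⟨g, -, hg⟩ := hR.exists_conj hS
  have h1 : g * f * g⁻¹ ∈ S := by rw [← hg]; exact conj_mem_cj (hfR (mem_zpowers f))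
  have h3 := mem_BB_of_WW b h2 hS.2.1 h1 (hw.conj b.hyp g)
  rw [hB, mem_bot] at h3
  calc f = g⁻¹ * (g * f * g⁻¹) * g := by group
    _ = 1 := by rw [h3]; group

end Cfsg.Agent.Cit.TwoP
end

-- part: Cit/TwoP/WWEnd
section
set_option linter.all false
open scoped Cfsg.Agent.FastGrp

-- part: Cit/TwoP/NotSolv
section
/-!
# `|Om(S)| = 2`, equal involutions: `C_G(B)` is not solvable

`not_solvable`: `B` a 2-subgroup centralising Sylow 2-subgroups of `K` and `K'`, `s` swaps `K` and `K'` and is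
conjugate to `z = zz K` in `C_G(B)`: then `C_G(B)` is not solvable.
-/

set_option autoImplicit false
set_option linter.style.haveILetI false
set_option linter.unusedSectionVars false

namespace Cfsg.Agent.Cit.TwoP

open Subgroup Cfsg Cit OneBasic TwoFK

variable {G : Type*} [Group G]

/-- the image in `N(N)/N` -/
noncomputable def mk (N : Subgroup G) : normalizer (N : Set G) →* normalizer (N : Set G) ⧸ N.subgroupOf (normalizer (N : Set G)) :=
  QuotientGroup.mk' _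

theorem mk_eq_one {N : Subgroup G} {a : normalizer (N : Set G)} : mk N a = 1 ↔ (a : G) ∈ N := by
  rw [mk, QuotientGroup.mk'_apply, QuotientGroup.eq_one_iff, mem_subgroupOf]

theorem commute_mk {N : Subgroup G} {a b : G} (ha : a ∈ normalizer (N : Set G))
    (hb : b ∈ normalizer (N : Set G)) : Commute (mk N ⟨a, ha⟩) (mk N ⟨b, hb⟩) ↔ a * b * a⁻¹ * b⁻¹ ∈ N := by
  rw [commute_iff_eq, ← mul_inv_eq_iff_eq_mul, ← mul_inv_eq_one, ← map_mul, ← map_inv, ← map_mul, ← map_inv,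
    ← map_mul, mk_eq_one]
  rfl

/-- powers of a product of elements commuting modulo `N` -/
theorem exists_pow_mul {N : Subgroup G} {a b : G} (ha : a ∈ normalizer (N : Set G))
    (hb : b ∈ normalizer (N : Set G)) (hab : a * b * a⁻¹ * b⁻¹ ∈ N) (n : ℕ) :
    ∃ c ∈ N, (a * b) ^ n = a ^ n * b ^ n * c := by
  have h1 := (commute_mk ha hb).2 hab
  have h2 := h1.mul_pow n
  have h3 : mk N ((⟨a, ha⟩ ^ n * ⟨b, hb⟩ ^ n)⁻¹ * (⟨a, ha⟩ * ⟨b, hb⟩) ^ n) = 1 := by
    rw [map_mul, map_inv, map_mul, map_pow, map_pow, map_pow, map_mul, h2, inv_mul_cancel]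
  rw [mk_eq_one] at h3
  refine ⟨(a ^ n * b ^ n)⁻¹ * (a * b) ^ n, h3, by group⟩

/-- an odd order subgroup of `K` normalised by a subgroup covering `K/O(K)` -/
theorem inf_le_OO [Finite G] {K O X : Subgroup G} (hO : ¬ 2 ∣ Nat.card O) (hXO : X ≤ normalizer (O : Set G))
    (hcov : ∀ k ∈ K, ∃ o ∈ OO K, ∃ x ∈ K ⊓ X, k = o * x) : O ⊓ K ≤ OO K := by
  have h1 : ¬ 2 ∣ Nat.card (O ⊓ K : Subgroup G) := fun h =>
    hO (h.trans (card_dvd_of_le inf_le_left))
  have hn : O ⊓ K ≤ normalizer (OO K : Set G) := inf_le_right.trans (le_normalizer_OO K)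
  have h2 : OO K ⊔ (O ⊓ K) ≤ OO K := by
    apply le_OO (sup_le (OO_le K) inf_le_right)
    · intro k hk
      obtain ⟨o, ho, x, ⟨hxK, hxX⟩, rfl⟩ := hcov k hk
      refine mul_mem (le_normalizer (mem_sup_left ho)) ?_
      rw [mem_normalizer_iff_cj, cj_sup, cj_inf, mem_normalizer_iff_cj.1 (le_normalizer_OO K hxK),
        mem_normalizer_iff_cj.1 (hXO hxX), mem_normalizer_iff_cj.1 (le_normalizer hxK)]
    · exact LB.odd_sup (odd_OO K) h1 hn
  exact le_sup_right.trans h2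

/-- an odd order element of `K` commuting with `K` modulo `O(K)` -/
theorem mem_OO_of_central [Finite G] {K : Subgroup G} {c : G} (hc : c ∈ K) (ho : ¬ 2 ∣ Nat.card (zpowers c))
    (hcen : ∀ k ∈ K, c * k * c⁻¹ * k⁻¹ ∈ OO K) : c ∈ OO K := by
  have hn : zpowers c ≤ normalizer (OO K : Set G) := (zpowers_le.2 hc).trans (le_normalizer_OO K)
  have h2 : OO K ⊔ zpowers c ≤ OO K := by
    apply le_OO (sup_le (OO_le K) (zpowers_le.2 hc))
    · intro k hk
      rw [mem_normalizer_iff_cj]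
      refine eq_of_le_of_card_ge ?_ (by rw [card_cj])
      rw [cj_sup, mem_normalizer_iff_cj.1 (le_normalizer_OO K hk), sup_le_iff]
      refine ⟨le_sup_left, ?_⟩
      rw [cj_def, MonoidHom.map_zpowers, zpowers_le]
      have h1 : (MulAut.conj k).toMonoidHom c = (k * (c * k⁻¹ * c⁻¹ * (k⁻¹)⁻¹) * k⁻¹) * c := by
        simp only [MulEquiv.coe_toMonoidHom, MulAut.conj_apply]
        group
      rw [h1]
      exact mul_mem (mem_sup_left ((mem_normalizer_iff.1 (le_normalizer_OO K hk) _).1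
        (hcen k⁻¹ (inv_mem hk)))) (mem_sup_right (mem_zpowers c))
    · exact LB.odd_sup (odd_OO K) ho hn
  exact h2 (mem_sup_right (mem_zpowers c))

/-- `w ^ |V| ∈ O` for `w ∈ V O` -/
theorem pow_mem_of_mem_sup [Finite G] {V O : Subgroup G} (hV : V ≤ normalizer (O : Set G)) {w : G}
    (hw : w ∈ V ⊔ O) : w ^ Nat.card V ∈ O := by
  obtain ⟨v, hv, o, ho, rfl⟩ := exists_mul_of_mem_sup hV hw
  obtain ⟨c, hc, h1⟩ := exists_pow_mul (N := O) (hV hv) (le_normalizer ho)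
    (by
      have h2 := (mem_normalizer_iff.1 (hV hv) _).1 ho
      exact mul_mem h2 (inv_mem ho)) (Nat.card V)
  rw [h1]
  have h2 : v ^ Nat.card V = 1 := by
    have h3 : (⟨v, hv⟩ : V) ^ Nat.card V = 1 := pow_card_eq_one'
    exact congrArg Subtype.val h3
  rw [h2, one_mul]
  exact mul_mem (pow_mem ho _) hc

/-- an odd order element of `K` outside `O(K)` -/
theorem exists_odd_not_mem [Finite G] {Om : Set (Subgroup G)} (h : Hyp Om) {K : Subgroup G} (hK : K ∈ Om)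
    (hT : TyTwo K) : ∃ c ∈ K, Odd (orderOf c) ∧ c ∉ OO K := by
  by_contra hc
  push Not at hc
  have h1 : K ≤ OO K := by
    refine hT.trans ?_
    rw [closure_le]
    rintro c ⟨hcK, hco⟩
    exact hc c hcK hco
  exact odd_OO K (by
    have h2 : OO K = K := le_antisymm (OO_le K) h1
    rw [h2, ← h.orderOf_zz hK]
    have h3 : orderOf (⟨zz K, h.zz_mem hK⟩ : K) ∣ Nat.card K := orderOf_dvd_natCard _
    rwa [← orderOf_coe] at h3)

variable [Finite G] {Om : Set (Subgroup G)}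

/-- **`C_G(B)` is not solvable** -/
theorem not_solvable (b : TwoEq Om) {K K' : Subgroup G} (m : Mate Om K K') (hT2 : TyTwo K) {B : Subgroup G}
    (hB : IsPGroup 2 B) (hBK : ∀ f ∈ B, Perp f K) {s g : G} (hsw : cj s K = K')
    (hg : g ∈ centralizer (B : Set G)) (hgs : g * zz K * g⁻¹ = s) :
    ¬ Group.IsSolvable (centralizer (B : Set G)) := by
  haveI : Fact (Nat.Prime 2) := ⟨Nat.prime_two⟩
  intro hsol
  obtain ⟨X, hX⟩ : ∃ X, X = centralizer (B : Set G) := ⟨_, rfl⟩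
  rw [← hX] at hsol hg
  have hK := m.hK
  have hBn : B ≤ normalizer (K : Set G) := fun f hf => (hBK f hf).mem
  -- a Sylow 2-subgroup `Q` of `K` centralised by `B`
  obtain ⟨Q, hQ, hBQ⟩ := exists_syl_normalized hB hBn
  have hBQc : ∀ f ∈ B, ∀ x ∈ Q, f * x = x * f := fun f hf => (hBK f hf).cent b.hyp hK hQ (hBQ hf)
  have hQX : Q ≤ X := by
    intro x hx
    rw [hX, mem_centralizer_iff]
    intro f hf
    exact hBQc f hf x hx
  obtain ⟨T, hT, hQT⟩ := OneBasic.exists_syl_ge hQ.2.1 hQX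
  have hTz : T ≤ centralizer {zz K} := le_centralizer_zz b hK hQ hQT hT.2.1
  obtain ⟨V, O, hVT, hTV, hO, hOX, hfac, hXO, hcen⟩ := OneF.exists_constrained hsol hT
  have hzQ : zz K ∈ Q := by
    obtain ⟨c, v, n, hc⟩ := b.hyp.exists_gq hK hQ
    exact hc.z_mem
  have hzV : zz K ∈ V := hcen _ (hQT hzQ) fun v hv =>
    (mem_centralizer_singleton_iff.1 (hTz (hVT hv))).symm
  have hVO : V ≤ normalizer (O : Set G) := (hVT.trans hT.1).trans hXO
  -- `V O` is normal in `X`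
  have hW : X ≤ normalizer ((V ⊔ O : Subgroup G) : Set G) := by
    intro x hx
    obtain ⟨o, ho, n, hn, hnV, rfl⟩ := hfac x hx
    refine mul_mem (le_normalizer (mem_sup_right ho)) ?_
    rw [mem_normalizer_iff_cj, cj_sup, mem_normalizer_iff_cj.1 hnV, mem_normalizer_iff_cj.1 (hXO hn)]
  have hsW : s ∈ V ⊔ O := by
    rw [← hgs]
    exact (mem_normalizer_iff.1 (hW hg) _).1 (mem_sup_left hzV)
  -- the covering
  have hcov0 : K ∈ SubCent.cov Om X := by
    rw [hX]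
    exact (SubCent.mem_cov_centralizer b.hyp hB).2 ⟨hK, Trivial.commutator_le b.hyp hK hQ hB hBn hBQc⟩
  have hcov : ∀ k ∈ K, ∃ o ∈ OO K, ∃ x ∈ K ⊓ X, k = o * x := fun k hk => SubCent.exists_mul hcov0 hk
  obtain ⟨r0, hr0, hodd, hr0O⟩ := exists_odd_not_mem b.hyp hK hT2
  obtain ⟨o, ho, r, ⟨hrK, hrX⟩, hor⟩ := hcov r0 hr0
  -- `y = a r`
  obtain ⟨a, ha⟩ : ∃ a, a = s⁻¹ * r⁻¹ * s := ⟨_, rfl⟩
  have haK' : a ∈ K' := by
    have h1 : cj s⁻¹ K = K' := b.cj_inv_swap m hsw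
    rw [ha, ← h1, mem_cj, inv_inv]
    have h2 : s * (s⁻¹ * r⁻¹ * s) * s⁻¹ = r⁻¹ := by group
    rw [h2]; exact inv_mem hrK
  have hyW : a * r ∈ V ⊔ O := by
    have h1 : r⁻¹ * s * r ∈ V ⊔ O := by
      have := (mem_normalizer_iff.1 (hW (inv_mem hrX)) _).1 hsW
      rwa [inv_inv] at this
    have h2 := mul_mem (inv_mem hsW) h1
    rwa [show s⁻¹ * (r⁻¹ * s * r) = a * r by rw [ha]; group] at h2
  have hNK : ∀ x, x ∈ normalizer (K : Set G) → x ∈ normalizer (OO K : Set G) := by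
    intro x hx
    rw [mem_normalizer_iff_cj, ← OO_cj, mem_normalizer_iff_cj.1 hx]
  have hK'N : ∀ x ∈ K', x ∈ normalizer (K : Set G) := fun x hx => m.symm.le_normalizer b.hyp hx
  have hcom := (b.hyp.h2 K' m.hL K hK m.zz.symm).resolve_left m.ne.symm
  have hcm : ∀ x ∈ K', ∀ k ∈ K, x * k * x⁻¹ * k⁻¹ ∈ OO K := fun x hx k hk =>
    (hcom (commutator_mem_commutator hx hk)).2
  obtain ⟨N, hN⟩ : ∃ N, N = Nat.card V := ⟨_, rfl⟩
  obtain ⟨c, hc, hpow⟩ := exists_pow_mul (hNK a (hK'N a haK')) (hNK r (le_normalizer hrK)) (hcm a haK' r hrK) N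
  have hy1O : (a * r) ^ N ∈ O := by rw [hN]; exact pow_mem_of_mem_sup hVO hyW
  -- `y1 = (a r)^N` commutes with `K ⊓ X` modulo `O(K)`
  have hy1K : (a * r) ^ N ∈ normalizer (K : Set G) := pow_mem (mul_mem (hK'N a haK') (le_normalizer hrK)) _
  have hy1c : ∀ k ∈ K ⊓ X, (a * r) ^ N * k * ((a * r) ^ N)⁻¹ * k⁻¹ ∈ OO K := by
    rintro k ⟨hkK, hkX⟩
    apply inf_le_OO hO hXO hcov
    constructor
    · have h1 : k * ((a * r) ^ N)⁻¹ * k⁻¹ ∈ O := (mem_normalizer_iff.1 (hXO hkX) _).1 (inv_mem hy1O)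
      have h2 := mul_mem hy1O h1
      rwa [show (a * r) ^ N * (k * ((a * r) ^ N)⁻¹ * k⁻¹) = (a * r) ^ N * k * ((a * r) ^ N)⁻¹ * k⁻¹ by
        group] at h2
    · exact K.mul_mem ((mem_normalizer_iff.1 hy1K _).1 hkK) (K.inv_mem hkK)
  -- pass to `N(O(K)) / O(K)`
  have nK : ∀ k ∈ K, k ∈ normalizer (OO K : Set G) := fun k hk => le_normalizer_OO K hk
  have na := hNK a (hK'N a haK')
  have hcen2 : ∀ k ∈ K, r ^ N * k * (r ^ N)⁻¹ * k⁻¹ ∈ OO K := by
    have h1 : ∀ k ∈ K ⊓ X, r ^ N * k * (r ^ N)⁻¹ * k⁻¹ ∈ OO K := by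
      intro k hk
      rw [← commute_mk (pow_mem (nK r hrK) N) (nK k hk.1)]
      have h2 := (commute_mk (pow_mem (mul_mem na (nK r hrK)) N) (nK k hk.1)).2 (hy1c k hk)
      have h3 : mk (OO K) ⟨(a * r) ^ N, pow_mem (mul_mem na (nK r hrK)) N⟩
          = mk (OO K) ⟨a ^ N, pow_mem na N⟩ * mk (OO K) ⟨r ^ N, pow_mem (nK r hrK) N⟩ := by
        have h4 : (⟨(a * r) ^ N, pow_mem (mul_mem na (nK r hrK)) N⟩ : normalizer (OO K : Set G))
            = ⟨a ^ N, pow_mem na N⟩ * ⟨r ^ N, pow_mem (nK r hrK) N⟩ * ⟨c, le_normalizer hc⟩ :=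
          Subtype.ext hpow
        have h7 : mk (OO K) ⟨c, le_normalizer hc⟩ = 1 := mk_eq_one.2 hc
        rw [h4, map_mul, map_mul, h7, mul_one]
      have h5 : Commute (mk (OO K) ⟨a ^ N, pow_mem na N⟩) (mk (OO K) ⟨k, nK k hk.1⟩) :=
        (commute_mk _ _).2 (hcm _ (pow_mem haK' N) k hk.1)
      have h6 : mk (OO K) ⟨r ^ N, pow_mem (nK r hrK) N⟩ = (mk (OO K) ⟨a ^ N, pow_mem na N⟩)⁻¹ *
          mk (OO K) ⟨(a * r) ^ N, pow_mem (mul_mem na (nK r hrK)) N⟩ := by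
        rw [h3, inv_mul_cancel_left]
      rw [h6]
      exact h5.inv_left.mul_left h2
    intro k hk
    obtain ⟨o', ho', x, hx, rfl⟩ := hcov k hk
    rw [← commute_mk (pow_mem (nK r hrK) N) (nK _ hk)]
    have h2 := (commute_mk (pow_mem (nK r hrK) N) (nK x hx.1)).2 (h1 x hx)
    have h3 : mk (OO K) ⟨o' * x, nK _ hk⟩ = mk (OO K) ⟨x, nK x hx.1⟩ := by
      have h4 : (⟨o' * x, nK _ hk⟩ : normalizer (OO K : Set G)) = ⟨o', le_normalizer ho'⟩ * ⟨x, nK x hx.1⟩ := rfl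
      rw [h4, map_mul, mk_eq_one.2 ho', one_mul]
    rw [h3]
    exact h2
  -- replace `r` by `r0`
  have hr0N : mk (OO K) ⟨r0, nK r0 hr0⟩ = mk (OO K) ⟨r, nK r hrK⟩ := by
    have h4 : (⟨r0, nK r0 hr0⟩ : normalizer (OO K : Set G)) = ⟨o, le_normalizer ho⟩ * ⟨r, nK r hrK⟩ :=
      Subtype.ext hor
    rw [h4, map_mul, mk_eq_one.2 ho, one_mul]
  have hcen3 : ∀ k ∈ K, r0 ^ N * k * (r0 ^ N)⁻¹ * k⁻¹ ∈ OO K := by
    intro k hk
    rw [← commute_mk (pow_mem (nK r0 hr0) N) (nK k hk)]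
    have h2 := (commute_mk (pow_mem (nK r hrK) N) (nK k hk)).2 (hcen2 k hk)
    have h3 : mk (OO K) ⟨r0 ^ N, pow_mem (nK r0 hr0) N⟩ = mk (OO K) ⟨r ^ N, pow_mem (nK r hrK) N⟩ := by
      have h4 : (⟨r0 ^ N, pow_mem (nK r0 hr0) N⟩ : normalizer (OO K : Set G)) = ⟨r0, nK r0 hr0⟩ ^ N := rfl
      have h5 : (⟨r ^ N, pow_mem (nK r hrK) N⟩ : normalizer (OO K : Set G)) = ⟨r, nK r hrK⟩ ^ N := rfl
      rw [h4, h5, map_pow, map_pow, hr0N]
    rw [h3]
    exact h2
  -- `r0 ^ N ∈ O(K)`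
  have hr0c : ¬ 2 ∣ Nat.card (zpowers (r0 ^ N)) := by
    intro h
    rw [Nat.card_zpowers] at h
    have h1 := h.trans (orderOf_pow_dvd N)
    rw [← even_iff_two_dvd, ← Nat.not_odd_iff_even] at h1
    exact h1 hodd
  have hfin := mem_OO_of_central (pow_mem hr0 N) hr0c hcen3
  obtain ⟨k, hk⟩ := IsPGroup.iff_card.1 (hT.2.1.to_le hVT)
  have hcop : (orderOf r0).Coprime N := by
    rw [hN, hk]
    exact Nat.Coprime.pow_right k (Nat.coprime_comm.1 ((Nat.Prime.coprime_iff_not_dvd Nat.prime_two).2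
      (by rw [← even_iff_two_dvd, ← Nat.not_odd_iff_even, not_not]; exact hodd)))
  apply hr0O
  have h1 : r0 ∈ zpowers (r0 ^ N) := by
    obtain ⟨j, hj⟩ := exists_pow_eq_self_of_coprime hcop.symm
    have h2 : (r0 ^ N) ^ j ∈ zpowers (r0 ^ N) := pow_mem (mem_zpowers _) j
    rwa [hj] at h2
  exact (zpowers_le.2 hfin) h1

end Cfsg.Agent.Cit.TwoP
end

-- part: Cit/TwoP/WWEnd
section
/-!
# `|Om(S)| = 2`, equal involutions: `WW = 1`

`eq_one_of_WW`: `L2 Om`, `Crit Om`, S1173 and the existence of an element `s ∼ z` of `C_G(B(S))` which swaps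
`K` and `K'` imply `WW = 1`.  `exists_conj`: such an element from a pair `(K, L)` with `x x ^ s = y y ^ z`.
-/

set_option autoImplicit false
set_option linter.style.haveILetI false
set_option linter.unusedSectionVars false

namespace Cfsg.Agent.Cit.TwoP

open Subgroup Cfsg Cit OneBasic TwoFK

variable {G : Type*} [Group G] [Finite G] {Om : Set (Subgroup G)}

/-- `z ∼ s` in the centraliser of `B(R)` -/
theorem exists_conj (b : TwoEq Om) {K L R R' T : Subgroup G} (hK : K ∈ Om) (hL : L ∈ Om)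
    (hR : Syl R (centralizer {zz K})) (hRt : Syl R ⊤) (hR' : Syl R' (centralizer {zz L}))
    (hT : Syl T (centralizer {zz K} ⊓ centralizer {zz L})) (hTR : T ≤ R) (hTR' : T ≤ R')
    (hzL : zz L ∈ R) {x y : G} (hx : x ∈ K ⊓ R) (hy : y ∈ L ⊓ R') (hx2 : x * x = zz K) (hy2 : y * y = zz L)
    (hxy : x * (zz L * x * (zz L)⁻¹) = y * (zz K * y * (zz K)⁻¹)) :
    ∃ g ∈ centralizer (BB b hRt.2.1 : Set G), g * zz K * g⁻¹ = zz L := by
  have hzK : zz K ∈ R := by
    have h1 : zpowers (zz K) ≤ R := by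
      refine syl_le_of_normalizes hR (Zs_isP b.hyp (zz_mem_Zs hK)) ?_ ?_
      · rw [zpowers_le, mem_centralizer_singleton_iff]
      · intro a ha
        apply mem_normalizer_of_cent
        rintro _ ⟨k, rfl⟩
        exact ((show Commute a (zz K) from mem_centralizer_singleton_iff.1 (hR.1 ha)).zpow_right k).eq
    exact h1 (mem_zpowers _)
  have hTe : T = R ⊓ centralizer {zz L} := by
    refine syl_eq_of_le hT (hRt.2.1.to_le inf_le_left) (inf_le_inf_right _ hR.1) ?_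
    exact le_inf hTR (hT.1.trans inf_le_right)
  have hxc : x ∈ centralizer (BB b hRt.2.1 : Set G) := by
    rw [mem_centralizer_iff]
    intro f hf
    exact le_centralizer_inf b hK hR hf.1 (hf.2 K hK hzK) x hx
  have hyc : y ∈ centralizer (BB b hRt.2.1 : Set G) := by
    rw [mem_centralizer_iff]
    intro f hf
    have h1 := hf.2 L hL hzL
    have h2 : f ∈ R' := by
      apply hTR'
      rw [hTe]
      exact ⟨hf.1, mem_centralizer_singleton_iff.2 (perp_comm b.hyp hL h1)⟩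
    exact le_centralizer_inf b hL hR' h2 h1 y hy
  have hzs : zz K * zz L = zz L * zz K := (mem_centralizer_singleton_iff.1 (hR.1 hzL)).symm
  have hzz := b.hyp.zz_mul hK
  have hss := b.hyp.zz_mul hL
  have hzi : (zz K)⁻¹ = zz K := inv_eq_of_mul_eq_one_right hzz
  have hsi : (zz L)⁻¹ = zz L := inv_eq_of_mul_eq_one_right hss
  have hxi : x⁻¹ = x * zz K := by
    rw [inv_eq_iff_mul_eq_one, ← hx2]
    have h4 : x * (x * (x * x)) = (x * x) * (x * x) := by group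
    rw [h4, hx2, hzz]
  have hyi : y⁻¹ = y * zz L := by
    rw [inv_eq_iff_mul_eq_one, ← hy2]
    have h4 : y * (y * (y * y)) = (y * y) * (y * y) := by group
    rw [h4, hy2, hss]
  have e1 : y * zz K * y⁻¹ = y * (zz K * y * (zz K)⁻¹) * (zz K * zz L) := by
    rw [hyi, hzi]
    calc y * zz K * (y * zz L) = y * (zz K * y) * zz L := by group
      _ = y * (zz K * y) * (zz K * zz K) * zz L := by rw [hzz, mul_one]
      _ = y * (zz K * y * zz K) * (zz K * zz L) := by group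
  have e2 : x * zz L * x⁻¹ = x * (zz L * x * (zz L)⁻¹) * (zz L * zz K) := by
    rw [hxi, hsi]
    calc x * zz L * (x * zz K) = x * (zz L * x) * zz K := by group
      _ = x * (zz L * x) * (zz L * zz L) * zz K := by rw [hss, mul_one]
      _ = x * (zz L * x * zz L) * (zz L * zz K) := by group
  refine ⟨x⁻¹ * y, mul_mem (inv_mem hxc) hyc, ?_⟩
  calc x⁻¹ * y * zz K * (x⁻¹ * y)⁻¹ = x⁻¹ * (y * zz K * y⁻¹) * x := by group
    _ = x⁻¹ * (x * zz L * x⁻¹) * x := by rw [e1, e2, hxy, hzs]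
    _ = zz L := by group

/-- **`WW = 1`** -/
theorem eq_one_of_WW (b : TwoEq Om) (hT2 : ∀ K ∈ Om, TyTwo K) (h2 : L2 Om) (hc : Crit Om)
    {S K K' : Subgroup G} {s g : G} (hS : Syl S ⊤) (m : Mate Om K K') (hz : zz K ∈ S) (hs : cj s K = K')
    (hg : g ∈ centralizer (BB b hS.2.1 : Set G)) (hgs : g * zz K * g⁻¹ = s)
    (h1173 : OneF.H1173 G)
    (hN : ∀ N : Subgroup G, N.Normal → ¬ Group.IsSolvable N → centralizer (N : Set G) = ⊥) {f : G}
    (hw : WW Om f) : f = 1 := by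
  haveI : Fact (Nat.Prime 2) := ⟨Nat.prime_two⟩
  refine eq_one_of_WW_of_BB b h2 hS ?_ hw
  obtain ⟨P, hP⟩ : ∃ P : Sylow 2 G, (P : Subgroup G) = S := by
    refine ⟨hS.2.1.toSylow ?_, rfl⟩
    have := hS.2.2
    rwa [relIndex_top_right] at this
  have h1 := h1173 P (BB b hS.2.1) (by rw [hP]; exact stronglyClosed b h2 hc hS)
  rw [← TwoFusion.PerfCore.perf_eq_iInf] at h1
  have h2 : ¬ Group.IsSolvable (TwoFusion.PerfCore.perf (centralizer (BB b hS.2.1 : Set G))) := by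
    intro h3
    have h4 := TwoFusion.PerfCore.perf_eq_bot_of_solvable h3
    rw [TwoFusion.PerfCore.perf_perf] at h4
    refine not_solvable b m (hT2 K m.hK) (hS.2.1.to_le (BB_le b hS.2.1)) ?_ hs hg hgs
      (TwoFusion.PerfCore.solvable_of_perf_eq_bot h4)
    intro f hf
    exact hf.2 K m.hK hz
  have h3 := hN _ h1 h2
  rw [eq_bot_iff, ← h3]
  intro b hb
  rw [mem_centralizer_iff]
  intro x hx
  have h4 := TwoFusion.PerfCore.perf_le _ hx
  exact (mem_centralizer_iff.1 h4 b hb).symm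

end Cfsg.Agent.Cit.TwoP
end

private theorem dce_0bee518c40a0 : _root_.True := by
  try have : _root_.True := by simp only [_root_.Cfsg.Agent.Cit.TwoP.mk.eq_1]
  exact _root_.True.intro
end

-- part: GH/Q2/NoG2
section
prune_inst 0x43004005822000000000000200000000000000000200000610005020108010280400100000002000002a2002804002003100050421000000a00000040040120002802000040a00000000000a007180c00000000000000000000000000000000000000000
set_option linter.all false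
open scoped Cfsg.Agent.FastGrp

/-!
# The target `G₂` has no swap

If `S` has coordinates in which some element interchanges the two quaternion groups, then the first target
presentation (`S = R⟨x⟩`) is impossible: there `S'` is abelian and contains an element of order `2^(n+2)`.
-/

set_option autoImplicit false
set_option linter.unusedSectionVars false
set_option linter.unusedVariables false

namespace Cfsg.Agent.GH.Q2.NoG2

open Subgroup Cfsg.Agent.GH.Defs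
open scoped commutatorElement

variable {G : Type*} [Group G] {S : Subgroup G} {z r1 y1 r2 y2 x s : G} {n n1 n2 : ℕ} {u1 j1 u2 j2 : ℤ}

/-! ### The target -/

/-- an element of `R` commuting with `r1`, `r2` -/
theorem mem_A0 (h : Co z r1 y1 r2 y2 n1 n2) {g : G} (hg : g ∈ RR r1 y1 r2 y2) (c1 : g * r1 = r1 * g)
    (c2 : g * r2 = r2 * g) : ∃ i j : ℤ, g = r1 ^ i * r2 ^ j := by
  have aux : ∀ {z r y : G} {n : ℕ} (q : Qn z r y n) (i : ℤ), (r ^ i * y) * r ≠ r * (r ^ i * y) := by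
    intro z r y n q i e
    apply q.r_ne_inv
    have h1 : y * r = r⁻¹ * y := by rw [mul_cj, q.inv]
    have h2 : r ^ i * (y * r) = r ^ i * (r * y) := by
      rw [← mul_assoc, e, ← mul_assoc, ← mul_assoc, ← zpow_one_add, ← zpow_add_one, add_comm]
    have h3 := mul_left_cancel h2
    rw [h1] at h3
    exact (mul_right_cancel h3).symm
  obtain ⟨i, j, rfl | rfl | rfl | rfl⟩ := h.mem_R.1 hg
  · exact ⟨i, j, rfl⟩
  · exfalso
    apply aux h.q1 i
    have h1 : r2 ^ j * r1 = r1 * r2 ^ j := ((show Commute r1 r2 from h.rr).zpow_right j).eq.symm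
    have h2 : (r1 ^ i * y1) * r1 * r2 ^ j = r1 * (r1 ^ i * y1) * r2 ^ j := by
      calc (r1 ^ i * y1) * r1 * r2 ^ j = r1 ^ i * y1 * (r1 * r2 ^ j) := by group
        _ = r1 ^ i * y1 * r2 ^ j * r1 := by rw [← h1]; group
        _ = r1 * (r1 ^ i * y1 * r2 ^ j) := c1
        _ = _ := by group
    exact mul_right_cancel h2
  · exfalso
    apply aux h.q2 j
    have h1 : r1 ^ i * r2 = r2 * r1 ^ i := ((show Commute r1 r2 from h.rr).zpow_left i).eq
    have h2 : r1 ^ i * ((r2 ^ j * y2) * r2) = r1 ^ i * (r2 * (r2 ^ j * y2)) := by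
      calc r1 ^ i * ((r2 ^ j * y2) * r2) = r1 ^ i * (r2 ^ j * y2) * r2 := by group
        _ = r2 * (r1 ^ i * (r2 ^ j * y2)) := c2
        _ = (r2 * r1 ^ i) * (r2 ^ j * y2) := by group
        _ = _ := by rw [← h1]; group
    exact mul_left_cancel h2
  · exfalso
    apply aux h.q2 j
    have h1 : (r1 ^ i * y1) * r2 = r2 * (r1 ^ i * y1) := by
      have e1 : r1 ^ i * r2 = r2 * r1 ^ i := ((show Commute r1 r2 from h.rr).zpow_left i).eq
      rw [mul_assoc, h.yr, ← mul_assoc, e1, mul_assoc]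
    have h2 : (r1 ^ i * y1) * ((r2 ^ j * y2) * r2) = (r1 ^ i * y1) * (r2 * (r2 ^ j * y2)) := by
      calc (r1 ^ i * y1) * ((r2 ^ j * y2) * r2) = r1 ^ i * y1 * (r2 ^ j * y2) * r2 := by group
        _ = r2 * (r1 ^ i * y1 * (r2 ^ j * y2)) := c2
        _ = (r2 * (r1 ^ i * y1)) * (r2 ^ j * y2) := by group
        _ = _ := by rw [← h1]; group
    exact mul_left_cancel h2

theorem cj_mem_R (h : Sd S z r1 y1 r2 y2 n1 n2) (hs : s ∈ S) {g : G} (hg : g ∈ RR r1 y1 r2 y2) :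
    cj s g ∈ RR r1 y1 r2 y2 := by
  have key : ∀ (r y r' y' : G) (u j : ℤ), cj s r = r' ^ u → cj s y = r' ^ j * y' → r' ∈ RR r1 y1 r2 y2 →
      y' ∈ RR r1 y1 r2 y2 → ∀ g ∈ closure ({r, y} : Set G), cj s g ∈ RR r1 y1 r2 y2 := by
    intro r y r' y' u j e1 e2 m1 m2 g hg
    induction hg using Subgroup.closure_induction with
    | mem x hx =>
      rcases hx with rfl | rfl
      · rw [e1]; exact zpow_mem m1 _
      · rw [e2]; exact mul_mem (zpow_mem m1 _) m2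
    | one => rw [cj_one]; exact one_mem _
    | mul a b _ _ ha hb => rw [cj_mul]; exact mul_mem ha hb
    | inv a _ ha => rw [cj_inv]; exact inv_mem ha
  obtain ⟨a, ha, b, hb, rfl⟩ := h.mem_R'.1 hg
  rw [cj_mul]
  rcases h.act s hs with ⟨u1, j1, u2, j2, N⟩ | ⟨-, u1, j1, u2, j2, N⟩
  · exact mul_mem (key _ _ _ _ _ _ N.a1 N.b1 h.m1 h.m2 a ha) (key _ _ _ _ _ _ N.a2 N.b2 h.m3 h.m4 b hb)
  · exact mul_mem (key _ _ _ _ _ _ N.a1 N.b1 h.m3 h.m4 a ha) (key _ _ _ _ _ _ N.a2 N.b2 h.m1 h.m2 b hb)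

/-- commutators in the target -/
theorem comm_mem (h : Sd S z r1 y1 r2 y2 n n) (hx : x ∈ S) (T : TX (r1 * r2) r1 y1 r2 y2 x)
    (hc : ∀ s ∈ S, s ∈ RR r1 y1 r2 y2 ∨ x⁻¹ * s ∈ RR r1 y1 r2 y2) {a b : G} (ha : a ∈ S) (hb : b ∈ S) :
    ⁅a, b⁆ ∈ RR r1 y1 r2 y2 ∧ ⁅a, b⁆ * r1 = r1 * ⁅a, b⁆ ∧ ⁅a, b⁆ * r2 = r2 * ⁅a, b⁆ := by
  have hN : ∀ s ∈ S, ∃ u1 j1 u2 j2 : ℤ, Ns r1 y1 r2 y2 s u1 j1 u2 j2 := by
    intro s hs
    have hR : ∀ s ∈ RR r1 y1 r2 y2, ∃ u1 j1 u2 j2 : ℤ, Ns r1 y1 r2 y2 s u1 j1 u2 j2 := by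
      intro s hs
      obtain ⟨i, j, hh⟩ := h.ns_of_mem hs
      rcases hh with ⟨_, M⟩ | ⟨_, M⟩ | ⟨_, M⟩ | ⟨_, M⟩ <;> exact ⟨_, _, _, _, M⟩
    rcases hc s hs with h1 | h1
    · exact hR s h1
    · obtain ⟨u1, j1, u2, j2, N⟩ := hR _ h1
      have := T.ns.mul N
      rw [mul_inv_cancel_left] at this
      exact ⟨_, _, _, _, this⟩
  refine ⟨?_, ?_⟩
  · rw [commutatorElement_def]
    rcases hc a ha with h1 | h1
    · have e : a * b * a⁻¹ * b⁻¹ = a * cj b a⁻¹ := by simp only [cj]; group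
      rw [e]
      exact mul_mem h1 (cj_mem_R h hb (inv_mem h1))
    · rcases hc b hb with h2 | h2
      · have e : a * b * a⁻¹ * b⁻¹ = cj a b * b⁻¹ := by simp only [cj]
        rw [e]
        exact mul_mem (cj_mem_R h ha h2) (inv_mem h2)
      · -- `b a⁻¹ ∈ R`
        have h3 : b * a⁻¹ ∈ RR r1 y1 r2 y2 := by
          have e : b * a⁻¹ = cj x ((x⁻¹ * b) * (x⁻¹ * a)⁻¹) := by simp only [cj]; group
          rw [e]
          exact cj_mem_R h hx (mul_mem h2 (inv_mem h1))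
        have e : a * b * a⁻¹ * b⁻¹ = cj a (b * a⁻¹) * (b * a⁻¹)⁻¹ := by simp only [cj]; group
        rw [e]
        exact mul_mem (cj_mem_R h ha h3) (inv_mem h3)
  · obtain ⟨u1, j1, u2, j2, N⟩ := hN a⁻¹ (inv_mem ha)
    obtain ⟨v1, k1, v2, k2, M⟩ := hN b⁻¹ (inv_mem hb)
    have key : ∀ (r : G) (u v : ℤ), cj a⁻¹ r = r ^ u → cj b⁻¹ r = r ^ v → ⁅a, b⁆ * r = r * ⁅a, b⁆ := by
      intro r u v e1 e2
      rw [← cj_eq_self_iff]
      have h1 : cj (a⁻¹ * b⁻¹) r = cj (b⁻¹ * a⁻¹) r := by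
        rw [cj_mul_left, cj_mul_left, e1, e2, cj_zpow, cj_zpow, e1, e2, ← zpow_mul, ← zpow_mul, mul_comm]
      have h2 : ⁅a, b⁆ = (b⁻¹ * a⁻¹)⁻¹ * (a⁻¹ * b⁻¹) := by rw [commutatorElement_def]; group
      rw [h2, cj_mul_left, h1, cj_inv_cj]
    exact ⟨key _ _ _ N.a1 M.a1, key _ _ _ N.a2 M.a2⟩

/-- in the target `G₂`, `S'` is abelian -/
theorem tgt_comm (h : Sd S z r1 y1 r2 y2 n n) (hx : x ∈ S) (T : TX (r1 * r2) r1 y1 r2 y2 x)
    (hc : ∀ s ∈ S, s ∈ RR r1 y1 r2 y2 ∨ x⁻¹ * s ∈ RR r1 y1 r2 y2) {a b : G} (ha : a ∈ ⁅S, S⁆)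
    (hb : b ∈ ⁅S, S⁆) : a * b = b * a := by
  have hD : ⁅S, S⁆ ≤ RR r1 y1 r2 y2 ⊓ (centralizer {r1} ⊓ centralizer {r2}) := by
    rw [commutator_le]
    intro a ha b hb
    obtain ⟨h1, h2, h3⟩ := comm_mem h hx T hc ha hb
    exact ⟨h1, mem_centralizer_singleton_iff.2 h2, mem_centralizer_singleton_iff.2 h3⟩
  obtain ⟨a1, a2, a3⟩ := hD ha
  obtain ⟨b1, b2, b3⟩ := hD hb
  have a2' := mem_centralizer_singleton_iff.1 a2
  have a3' := mem_centralizer_singleton_iff.1 a3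
  obtain ⟨i, j, rfl⟩ := mem_A0 h.toCo b1 (mem_centralizer_singleton_iff.1 b2)
    (mem_centralizer_singleton_iff.1 b3)
  exact (((show Commute a r1 from a2').zpow_right i).mul_right ((show Commute a r2 from a3').zpow_right j)).eq

/-- in the target `G₂`, `r1 ∈ S'` -/
theorem tgt_mem (h : Sd S z r1 y1 r2 y2 n n) (hx : x ∈ S) (T : TX (r1 * r2) r1 y1 r2 y2 x) :
    r1 ∈ ⁅S, S⁆ := by
  have h1 : ⁅x, y1⁆ = r1 := by
    have h2 : x * y1 * x⁻¹ = r1 * y1 := T.b1
    rw [commutatorElement_def, h2, mul_inv_cancel_right]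
  rw [← h1]
  exact commutator_mem_commutator hx h.h2

/-! ### The group with a swap -/

section swap

variable {m : ℕ} (h : Sd S z r1 y1 r2 y2 m m) (hs : s ∈ S) (N : Sw r1 y1 r2 y2 s u1 j1 u2 j2)
  (hab : ∀ a ∈ ⁅S, S⁆, ∀ b ∈ ⁅S, S⁆, a * b = b * a)

include h hs N hab

/-- `y1` and `y2` interchange: the commutator `[s, y1]` -/
theorem no_odd {e : G} (he : e ∈ S) {v1 k1 v2 k2 : ℤ} (M : Ns r1 y1 r2 y2 e v1 k1 v2 k2) :
    Even k1 ∧ Even k2 := by
  have hb : r2 ^ j1 * y2 * y1⁻¹ ∈ ⁅S, S⁆ := by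
    have h1 : ⁅s, y1⁆ = r2 ^ j1 * y2 * y1⁻¹ := by
      have h2 : s * y1 * s⁻¹ = r2 ^ j1 * y2 := N.b1
      rw [commutatorElement_def, h2]
    rw [← h1]
    exact commutator_mem_commutator hs h.h2
  have hk1 : r1 ^ k1 ∈ ⁅S, S⁆ := by
    have h1 : ⁅e, y1⁆ = r1 ^ k1 := by
      have h2 : e * y1 * e⁻¹ = r1 ^ k1 * y1 := M.b1
      rw [commutatorElement_def, h2, mul_inv_cancel_right]
    rw [← h1]
    exact commutator_mem_commutator he h.h2
  have hk2 : r2 ^ k2 ∈ ⁅S, S⁆ := by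
    have h1 : ⁅e, y2⁆ = r2 ^ k2 := by
      have h2 : e * y2 * e⁻¹ = r2 ^ k2 * y2 := M.b2
      rw [commutatorElement_def, h2, mul_inv_cancel_right]
    rw [← h1]
    exact commutator_mem_commutator he h.h4
  have c1 := hab _ hk1 _ hb
  have c2 := hab _ hk2 _ hb
  -- conjugation by `b = r2 ^ j1 y2 y1⁻¹` inverts `r1` and `r2`
  have i1 : cj (r2 ^ j1 * y2 * y1⁻¹) r1 = r1⁻¹ := by
    rw [cj_mul_left]
    have e1 : cj y1⁻¹ r1 = r1⁻¹ := by
      apply cj_inj (s := y1)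
      rw [cj_cj_inv, cj_inv, h.q1.inv, inv_inv]
    rw [e1, cj_inv]
    congr 1
    rw [cj_eq_self_iff]
    have e2 : Commute (r2 ^ j1) r1 := (show Commute r2 r1 from h.rr.symm).zpow_left j1
    exact (e2.mul_left (show Commute y2 r1 from h.ry.symm)).eq
  have i2 : cj (r2 ^ j1 * y2 * y1⁻¹) r2 = r2⁻¹ := by
    rw [cj_mul_left, cj_mul_left]
    have e1 : cj y1⁻¹ r2 = r2 := by
      rw [cj_eq_self_iff]
      exact ((show Commute y1 r2 from h.yr).inv_left).eq
    rw [e1, h.q2.inv, cj_inv]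
    congr 1
    rw [cj_eq_self_iff]
    exact ((Commute.refl r2).zpow_left j1).eq
  have key : ∀ {r y : G} (q : Qn z r y m) (k : ℤ) (g : G), cj g r = r⁻¹ → r ^ k * g = g * r ^ k → Even k := by
    intro r y q k g e1 e2
    have e3 : cj g (r ^ k) = r ^ k := cj_eq_self_iff.2 e2.symm
    rw [cj_zpow, e1, inv_zpow] at e3
    by_contra hk
    rw [Int.not_even_iff_odd] at hk
    have e4 : r ^ (2 * k) = 1 := by
      rw [two_mul, zpow_add]
      nth_rewrite 1 [← e3]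
      exact inv_mul_cancel _
    rw [q.zpow_eq_one] at e4
    obtain ⟨l, hl⟩ := hk
    obtain ⟨w, hw⟩ := e4
    have h5 : (2 : ℤ) ^ (m + 2) = 4 * 2 ^ m := by ring
    rw [h5, hl] at hw
    have h6 : (2 : ℤ) * (2 * l + 1) = 2 * (2 * (2 ^ m * w)) := by rw [hw]; ring
    omega
  exact ⟨key h.q1 k1 _ i1 c1, key h.q2 k2 _ i2 c2⟩

theorem m_zero : m = 0 := by
  have hb : r2 ^ j1 * y2 * y1⁻¹ ∈ ⁅S, S⁆ := by
    have h1 : ⁅s, y1⁆ = r2 ^ j1 * y2 * y1⁻¹ := by
      have h2 : s * y1 * s⁻¹ = r2 ^ j1 * y2 := N.b1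
      rw [commutatorElement_def, h2]
    rw [← h1]
    exact commutator_mem_commutator hs h.h2
  have ha : r2 ^ u1 * r1⁻¹ ∈ ⁅S, S⁆ := by
    have h1 : ⁅s, r1⁆ = r2 ^ u1 * r1⁻¹ := by
      have h2 : s * r1 * s⁻¹ = r2 ^ u1 := N.a1
      rw [commutatorElement_def, h2]
    rw [← h1]
    exact commutator_mem_commutator hs h.h1
  have i1 : cj (r2 ^ j1 * y2 * y1⁻¹) r1 = r1⁻¹ := by
    rw [cj_mul_left]
    have e1 : cj y1⁻¹ r1 = r1⁻¹ := by
      apply cj_inj (s := y1)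
      rw [cj_cj_inv, cj_inv, h.q1.inv, inv_inv]
    rw [e1, cj_inv]
    congr 1
    rw [cj_eq_self_iff]
    have e2 : Commute (r2 ^ j1) r1 := (show Commute r2 r1 from h.rr.symm).zpow_left j1
    exact (e2.mul_left (show Commute y2 r1 from h.ry.symm)).eq
  have i2 : cj (r2 ^ j1 * y2 * y1⁻¹) r2 = r2⁻¹ := by
    rw [cj_mul_left, cj_mul_left]
    have e1 : cj y1⁻¹ r2 = r2 := by
      rw [cj_eq_self_iff]
      exact ((show Commute y1 r2 from h.yr).inv_left).eq
    rw [e1, h.q2.inv, cj_inv]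
    congr 1
    rw [cj_eq_self_iff]
    exact ((Commute.refl r2).zpow_left j1).eq
  have c1 : cj (r2 ^ j1 * y2 * y1⁻¹) (r2 ^ u1 * r1⁻¹) = r2 ^ u1 * r1⁻¹ :=
    cj_eq_self_iff.2 (hab _ ha _ hb).symm
  rw [cj_mul, cj_zpow, cj_inv, i1, i2, inv_inv] at c1
  -- `r1 ^ 2 = r2 ^ (2 u1)`
  have c2 : r1 ^ (2 : ℤ) = r2 ^ (u1 + u1) := by
    have h1 : r1 * r1 = (r2 ^ u1) * (r2 ^ u1 * r1⁻¹) * r1 := by
      rw [← c1, inv_zpow]
      group
    rw [zpow_two, h1, zpow_add]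
    group
  have c3 := h.ind_zpow c2
  by_contra hm
  obtain ⟨k, rfl⟩ := Nat.exists_eq_succ_of_ne_zero hm
  have c4 : r1 ^ (4 : ℤ) = 1 := by
    have e : r1 ^ (4 : ℤ) = r1 ^ (2 : ℤ) * r1 ^ (2 : ℤ) := by rw [← zpow_add]; rfl
    rw [e]
    rcases c3 with c3 | c3 <;> rw [c3]
    · rw [one_mul]
    · exact h.q1.z_sq
  rw [h.q1.zpow_eq_one] at c4
  have c5 := Int.le_of_dvd (by norm_num) c4
  have c6 : (2 : ℤ) ^ (k.succ + 2) = 8 * 2 ^ k := by rw [Nat.succ_eq_add_one]; ring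
  have c7 : (1 : ℤ) ≤ 2 ^ k := one_le_pow₀ (by norm_num)
  omega

end swap

/-! ### The case `n = 0` -/

theorem sq0 (h : Qn z r1 y1 0) {q : G} (hq : q ∈ closure ({r1, y1} : Set G)) : q * q = 1 ∨ q * q = z := by
  obtain ⟨i, rfl | rfl⟩ := h.mem_iff.1 hq
  · have h1 : r1 ^ i * r1 ^ i = z ^ i := by
      have h2 : r1 ^ (2 : ℤ) = z := by
        have := h.rzp
        simpa using this
      rw [← h2, ← zpow_mul, ← zpow_add, two_mul]
    rw [h1]
    exact h.zpow_one_or i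
  · exact Or.inr (h.ry_sq i)

theorem sqR (h : Co z r1 y1 r2 y2 0 0) {g : G} (hg : g ∈ RR r1 y1 r2 y2) : g * g = 1 ∨ g * g = z := by
  obtain ⟨a, ha, b, hb, rfl⟩ := h.mem_R'.1 hg
  have h1 : a * b * (a * b) = (a * a) * (b * b) := by
    have := h.comm ha hb
    calc a * b * (a * b) = a * (b * a) * b := by group
      _ = a * (a * b) * b := by rw [← this]
      _ = _ := by group
  rw [h1]
  rcases sq0 h.q1 ha with e1 | e1 <;> rcases sq0 h.q2 hb with e2 | e2 <;> rw [e1, e2]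
  · left; rw [one_mul]
  · right; rw [one_mul]
  · right; rw [mul_one]
  · left; exact h.q1.z_sq

section zero

variable (h : Sd S z r1 y1 r2 y2 0 0)

include h

theorem comm_z (hs : s ∈ S) {w : G} (hw : w = 1 ∨ w = z) : s * w = w * s := by
  rcases hw with rfl | rfl
  · simp
  · exact h.zc hs

theorem sq_z {w : G} (hw : w = 1 ∨ w = z) : w * w = 1 := by
  rcases hw with rfl | rfl
  · simp
  · exact h.q1.z_sq

theorem commR {a b : G} (ha : a ∈ RR r1 y1 r2 y2) (hb : b ∈ RR r1 y1 r2 y2) : ⁅a, b⁆ = 1 ∨ ⁅a, b⁆ = z := by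
  have h1 := sqR h.toCo (mul_mem ha hb)
  have h2 := sqR h.toCo (inv_mem ha)
  have h3 := sqR h.toCo (inv_mem hb)
  have hbS := h.R_le hb
  have e : ⁅a, b⁆ = ((a * b) * (a * b)) * ((a⁻¹ * a⁻¹) * (b⁻¹ * b⁻¹)) := by
    have h4 := comm_z h (inv_mem hbS) h2
    calc ⁅a, b⁆ = ((a * b) * (a * b)) * (b⁻¹ * (a⁻¹ * a⁻¹) * b⁻¹) := by rw [commutatorElement_def]; group
      _ = _ := by rw [h4, mul_assoc (a⁻¹ * a⁻¹)]
  rw [e]
  rcases h1 with h1 | h1 <;> rcases h2 with h2 | h2 <;> rcases h3 with h3 | h3 <;> rw [h1, h2, h3] <;>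
    simp [h.q1.z_sq]

variable (hs : s ∈ S) (N : Sw r1 y1 r2 y2 s u1 j1 u2 j2)

include hs N

theorem sw_sq_mem (hR : ∀ g ∈ S, g ∈ RR r1 y1 r2 y2 ∨ s⁻¹ * g ∈ RR r1 y1 r2 y2) : s * s ∈ RR r1 y1 r2 y2 := by
  rcases hR _ (mul_mem hs hs) with h1 | h1
  · exact h1
  · rw [inv_mul_cancel_left] at h1
    exact absurd N (fun N => Sd.not_sw_of_mem h.toCo h1 N)

theorem X_sq (hR : ∀ g ∈ S, g ∈ RR r1 y1 r2 y2 ∨ s⁻¹ * g ∈ RR r1 y1 r2 y2) {g : G}
    (hg : g ∈ RR r1 y1 r2 y2) : (g * cj s g⁻¹) * (g * cj s g⁻¹) = 1 := by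
  obtain ⟨q1, hq1, q2, hq2, rfl⟩ := h.mem_R'.1 hg
  obtain ⟨A, hA⟩ : ∃ A, A = q1 * cj s q2⁻¹ := ⟨_, rfl⟩
  obtain ⟨B, hB⟩ : ∃ B, B = q2 * cj s q1⁻¹ := ⟨_, rfl⟩
  have m2 : cj s q2⁻¹ ∈ closure ({r1, y1} : Set G) := N.cj_mem2 (inv_mem hq2)
  have m1 : cj s q1⁻¹ ∈ closure ({r2, y2} : Set G) := N.cj_mem1 (inv_mem hq1)
  have mA : A ∈ closure ({r1, y1} : Set G) := by rw [hA]; exact mul_mem hq1 m2
  have mB : B ∈ closure ({r2, y2} : Set G) := by rw [hB]; exact mul_mem hq2 m1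
  have hX : q1 * q2 * cj s (q1 * q2)⁻¹ = A * B := by
    have c1 := h.comm m2 hq2
    calc q1 * q2 * cj s (q1 * q2)⁻¹ = q1 * (q2 * cj s q2⁻¹) * cj s q1⁻¹ := by simp only [cj]; group
      _ = q1 * (cj s q2⁻¹ * q2) * cj s q1⁻¹ := by rw [c1]
      _ = A * B := by rw [hA, hB]; group
  have hAB := h.comm mA mB
  have sA := sq0 h.q1 mA
  have sB := sq0 h.q2 mB
  -- `cj s B = A⁻¹ w`
  obtain ⟨w, hw, hw'⟩ : ∃ w, (w = 1 ∨ w = z) ∧ cj s B = A⁻¹ * w := by
    refine ⟨⁅q1, s * s⁆, commR h (mem_sup_left hq1) (sw_sq_mem h hs N hR), ?_⟩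
    rw [hA, hB, commutatorElement_def]
    simp only [cj]
    group
  have hB2 : B * B = A⁻¹ * A⁻¹ := by
    have e1 : cj s (B * B) = B * B := cj_eq_self_iff.2 (comm_z h hs sB)
    rw [← e1, cj_mul, hw']
    have hAS : A⁻¹ ∈ S := inv_mem (h.R_le (mem_sup_left mA))
    have e2 := comm_z h hAS hw
    calc A⁻¹ * w * (A⁻¹ * w) = A⁻¹ * (w * A⁻¹) * w := by group
      _ = A⁻¹ * (A⁻¹ * w) * w := by rw [e2]
      _ = A⁻¹ * A⁻¹ * (w * w) := by group
      _ = A⁻¹ * A⁻¹ := by rw [sq_z h hw, mul_one]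
  rw [hX]
  calc A * B * (A * B) = A * (B * A) * B := by group
    _ = A * A * (B * B) := by rw [← hAB]; group
    _ = 1 := by rw [hB2]; group

theorem comm_sq (hR : ∀ g ∈ S, g ∈ RR r1 y1 r2 y2 ∨ s⁻¹ * g ∈ RR r1 y1 r2 y2) {a b : G} (ha : a ∈ S)
    (hb : b ∈ S) : ⁅a, b⁆ * ⁅a, b⁆ = 1 := by
  -- `a ∈ R`
  have key1 : ∀ a ∈ RR r1 y1 r2 y2, ∀ b ∈ S, ⁅a, b⁆ * ⁅a, b⁆ = 1 := by
    intro a ha b hb
    rcases hR b hb with h1 | h1
    · exact sq_z h (commR h ha h1)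
    · obtain ⟨c, hc⟩ : ∃ c, c = s⁻¹ * b := ⟨_, rfl⟩
      rw [← hc] at h1
      have hbc : b = s * c := by rw [hc]; group
      obtain ⟨w, hw, hw'⟩ : ∃ w, (w = 1 ∨ w = z) ∧ c * a⁻¹ * c⁻¹ = a⁻¹ * w := by
        refine ⟨⁅a, c⁆, commR h ha h1, ?_⟩
        rw [commutatorElement_def]; group
      have hwS : cj s w = w := cj_eq_self_iff.2 (comm_z h hs hw)
      have e : ⁅a, b⁆ = (a * cj s a⁻¹) * w := by
        calc ⁅a, b⁆ = a * cj s (c * a⁻¹ * c⁻¹) := by
              rw [commutatorElement_def, hbc]; simp only [cj]; group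
          _ = _ := by rw [hw', cj_mul, hwS, mul_assoc]
      have hXS : a * cj s a⁻¹ ∈ S := mul_mem (h.R_le ha) (mul_mem (mul_mem hs (inv_mem (h.R_le ha))) (inv_mem hs))
      rw [e]
      have e2 := comm_z h hXS hw
      calc a * cj s a⁻¹ * w * (a * cj s a⁻¹ * w) = a * cj s a⁻¹ * (w * (a * cj s a⁻¹)) * w := by group
        _ = (a * cj s a⁻¹) * (a * cj s a⁻¹) * (w * w) := by rw [← e2]; group
        _ = 1 := by rw [X_sq h hs N hR ha, sq_z h hw, one_mul]
  have key2 : ∀ a ∈ S, ∀ b ∈ RR r1 y1 r2 y2, ⁅a, b⁆ * ⁅a, b⁆ = 1 := by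
    intro a ha b hb
    have h1 := key1 b hb a ha
    rw [← commutatorElement_inv, ← mul_inv_rev, h1, inv_one]
  rcases hR a ha with h1 | h1
  · exact key1 a h1 b hb
  · rcases hR b hb with h2 | h2
    · exact key2 a ha b h2
    · -- `b = a d`
      have hd : a⁻¹ * b ∈ RR r1 y1 r2 y2 := by
        have e : a⁻¹ * b = (s⁻¹ * a)⁻¹ * (s⁻¹ * b) := by group
        rw [e]; exact mul_mem (inv_mem h1) h2
      have e : ⁅a, b⁆ = a * ⁅a, a⁻¹ * b⁆ * a⁻¹ := by
        rw [commutatorElement_def, commutatorElement_def]; group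
      rw [e]
      calc a * ⁅a, a⁻¹ * b⁆ * a⁻¹ * (a * ⁅a, a⁻¹ * b⁆ * a⁻¹) = a * (⁅a, a⁻¹ * b⁆ * ⁅a, a⁻¹ * b⁆) * a⁻¹ := by
            group
        _ = 1 := by rw [key2 a ha _ hd]; group

theorem mem_sq (hR : ∀ g ∈ S, g ∈ RR r1 y1 r2 y2 ∨ s⁻¹ * g ∈ RR r1 y1 r2 y2)
    (hab : ∀ a ∈ ⁅S, S⁆, ∀ b ∈ ⁅S, S⁆, a * b = b * a) {g : G} (hg : g ∈ ⁅S, S⁆) : g * g = 1 := by
  let E : Subgroup G :=
    { carrier := {g | g ∈ ⁅S, S⁆ ∧ g * g = 1}
      one_mem' := ⟨one_mem _, by simp⟩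
      mul_mem' := by
        rintro a b ⟨ha, ha2⟩ ⟨hb, hb2⟩
        refine ⟨mul_mem ha hb, ?_⟩
        calc a * b * (a * b) = a * (b * a) * b := by group
          _ = (a * a) * (b * b) := by rw [hab b hb a ha]; group
          _ = 1 := by rw [ha2, hb2, one_mul]
      inv_mem' := by
        rintro a ⟨ha, ha2⟩
        exact ⟨inv_mem ha, by rw [← mul_inv_rev, ha2, inv_one]⟩ }
  have h1 : ⁅S, S⁆ ≤ E := by
    rw [commutator_le]
    intro a ha b hb
    exact ⟨commutator_mem_commutator ha hb, comm_sq h hs N hR ha hb⟩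
  exact (h1 hg).2

end zero

/-- **The first target is impossible if some element interchanges the quaternion groups of some coordinates.** -/
theorem no_g2 {m : ℕ} (h : Sd S z r1 y1 r2 y2 m m) (hs : s ∈ S) (N : Sw r1 y1 r2 y2 s u1 j1 u2 j2)
    {a1 b1 a2 b2 : G} (h' : Sd S z a1 b1 a2 b2 n n) (hx : x ∈ S) (T : TX (a1 * a2) a1 b1 a2 b2 x)
    (hc : ∀ s ∈ S, s ∈ RR a1 b1 a2 b2 ∨ x⁻¹ * s ∈ RR a1 b1 a2 b2) : False := by
  have hab : ∀ a ∈ ⁅S, S⁆, ∀ b ∈ ⁅S, S⁆, a * b = b * a := fun a ha b hb => tgt_comm h' hx T hc ha hb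
  have hm := m_zero h hs N hab
  subst hm
  have hR : ∀ g ∈ S, g ∈ RR r1 y1 r2 y2 ∨ s⁻¹ * g ∈ RR r1 y1 r2 y2 := by
    intro g hg
    rcases h.act g hg with ⟨v1, k1, v2, k2, M⟩ | ⟨-, v1, k1, v2, k2, M⟩
    · obtain ⟨e1, e2⟩ := no_odd h hs N hab hg M
      exact Or.inl (h.inR g hg _ _ _ _ M e1 e2)
    · right
      rcases h.act (s⁻¹ * g) (mul_mem (inv_mem hs) hg) with ⟨w1, l1, w2, l2, M'⟩ | ⟨-, w1, l1, w2, l2, M'⟩
      · obtain ⟨e1, e2⟩ := no_odd h hs N hab (mul_mem (inv_mem hs) hg) M'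
        exact h.inR _ (mul_mem (inv_mem hs) hg) _ _ _ _ M' e1 e2
      · exfalso
        have h1 := N.mul M'
        rw [mul_inv_cancel_left] at h1
        exact h1.not_sw M h.toCo
  have h1 := mem_sq h hs N hR hab (tgt_mem h' hx T)
  have h2 := h'.q1.ord
  have h3 : orderOf a1 ∣ 2 := orderOf_dvd_of_pow_eq_one (by rw [pow_two]; exact h1)
  rw [h2] at h3
  have h4 := Nat.le_of_dvd (by norm_num) h3
  have h5 : 2 ^ 1 < 2 ^ (n + 2) := Nat.pow_lt_pow_right (by norm_num) (by omega)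
  omega

end Cfsg.Agent.GH.Q2.NoG2
end

-- part: GH/Q2/TargetSwap
section
set_option linter.all false
open scoped Cfsg.Agent.FastGrp

/-!
# GH-Q, case (II): the types, in the presence of a swap
-/

set_option autoImplicit false

namespace Cfsg.Agent.GH.Q2

open Subgroup Cfsg.Agent.GH.Defs

variable {G : Type*} [Group G] {S : Subgroup G} {z r1 y1 r2 y2 s : G} {n : ℕ} {u1 j1 u2 j2 : ℤ}

/-- **the types, if the quaternion groups of some coordinates are interchanged.** -/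
theorem types_of_swap [Finite G] (h0 : Sd S z r1 y1 r2 y2 n n) (hs : s ∈ S)
    (N : Sw r1 y1 r2 y2 s u1 j1 u2 j2) (h : Tg S z) : TypeSp4 ↥S ∨ TypeL4 ↥S := by
  obtain ⟨r1, y1, r2, y2, n, h, hc⟩ := h
  rcases hc with ⟨x, hx, T, hc⟩ | ⟨t, ht, T, hc⟩ | ⟨x, hx, t, ht, T, T', htx, hc⟩ |
    ⟨rfl, x, hx, t, ht, T, T', htx, hc⟩
  · exact (NoG2.no_g2 h0 hs N h hx T hc).elim
  · left
    have hcard := h.card_two ht (T.not_mem h) hc
    refine ModelSp4.typeSp4 h.relR (T.relT h.h1 h.h2 h.h3 h.h4 ht) ?_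
      (by rw [hcard]; congr 1; ring)
    rw [eq_top_iff]
    intro s _
    have key := h.mem_cl (X := closure {⟨t, ht⟩, ⟨y2, h.h4⟩, ⟨y1, h.h2⟩, ⟨r2, h.h3⟩, ⟨r1, h.h1⟩})
      (subset_closure (by simp)) (subset_closure (by simp)) (subset_closure (by simp))
      (subset_closure (by simp))
    rcases hc s s.2 with h1 | h1
    · exact key s h1
    · have h2 := key ((⟨t, ht⟩ : S)⁻¹ * s) h1
      exact (Subgroup.mul_mem_cancel_left _ (inv_mem (subset_closure (by simp)))).1 h2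
  · right
    have hcard := h.card_four (T.not_mem h) (h.mem_N0_of_ns hx T.ns) ht
      (h.not_mem_N0_of_sw rfl T'.sw_tgt) hc
    refine GHTypes.LFourRel.typeL4 h.relR (T.relX h.h1 h.h2 h.h3 h.h4 hx (mul_mem h.h1 h.h3))
      (T'.relT h.h1 h.h2 h.h3 h.h4 ht) (Subtype.ext (cj_eq_self_iff.1 htx)) ?_
      (by rw [hcard]; congr 1; ring)
    rw [eq_top_iff]
    intro s _
    have key := h.mem_cl (X := closure {⟨t, ht⟩, ⟨x, hx⟩, ⟨y2, h.h4⟩, ⟨y1, h.h2⟩, ⟨r2, h.h3⟩,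
      ⟨r1, h.h1⟩}) (subset_closure (by simp)) (subset_closure (by simp)) (subset_closure (by simp))
      (subset_closure (by simp))
    rcases hc s s.2 with h1 | h1 | h1 | h1
    · exact key s h1
    · have h2 := key ((⟨x, hx⟩ : S)⁻¹ * s) h1
      exact (Subgroup.mul_mem_cancel_left _ (inv_mem (subset_closure (by simp)))).1 h2
    · have h2 := key ((⟨t, ht⟩ : S)⁻¹ * s) h1
      exact (Subgroup.mul_mem_cancel_left _ (inv_mem (subset_closure (by simp)))).1 h2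
    · have h2 := key (((⟨t, ht⟩ : S) * (⟨x, hx⟩ : S))⁻¹ * s) h1
      exact (Subgroup.mul_mem_cancel_left _ (inv_mem (mul_mem (subset_closure (by simp))
        (subset_closure (by simp))))).1 h2
  · right
    have hcard := h.card_four (T.not_mem h) (h.mem_N0_of_ns hx T.ns) ht
      (h.not_mem_N0_of_sw rfl T'.sw_tgt) hc
    refine ModelL4z.typeL4 h.relR (T.relX h.h1 h.h2 h.h3 h.h4 hx (mul_mem (mul_mem h.h1 h.h3) h.hz))
      (T'.relT h.h1 h.h2 h.h3 h.h4 ht) (Subtype.ext ?_) ?_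
      (by rw [hcard])
    · change t * x = x * z * t
      rw [mul_cj, htx]
    rw [eq_top_iff]
    intro s _
    have key := h.mem_cl (X := closure {⟨t, ht⟩, ⟨x, hx⟩, ⟨y2, h.h4⟩, ⟨y1, h.h2⟩, ⟨r2, h.h3⟩,
      ⟨r1, h.h1⟩}) (subset_closure (by simp)) (subset_closure (by simp)) (subset_closure (by simp))
      (subset_closure (by simp))
    rcases hc s s.2 with h1 | h1 | h1 | h1
    · exact key s h1
    · have h2 := key ((⟨x, hx⟩ : S)⁻¹ * s) h1
      exact (Subgroup.mul_mem_cancel_left _ (inv_mem (subset_closure (by simp)))).1 h2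
    · have h2 := key ((⟨t, ht⟩ : S)⁻¹ * s) h1
      exact (Subgroup.mul_mem_cancel_left _ (inv_mem (subset_closure (by simp)))).1 h2
    · have h2 := key (((⟨t, ht⟩ : S) * (⟨x, hx⟩ : S))⁻¹ * s) h1
      exact (Subgroup.mul_mem_cancel_left _ (inv_mem (mul_mem (subset_closure (by simp))
        (subset_closure (by simp))))).1 h2


end Cfsg.Agent.GH.Q2
end

-- part: Cit/TwoSyl/GlueOne
section
prune_inst 0x243000005822000000000000600004400000000000200000614004000008050280400100000002000002a20420300020021000500030000000000000411c0080002802001240a000200000008007180c00000000000000000000000000000000000000000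
set_option linter.all false
open scoped Cfsg.Agent.FastGrp

/-!
# D5b, `C_S(Q₁Q₂) = ⟨z⟩`: the data of GH-Q (II) from `TwoEq`

For `TwoEq Om`, `Mate Om K L`, `S` a Sylow 2-subgroup of `C(zz K)`, `C_S(Q₁Q₂) = ⟨z⟩` and no field automorphisms:
coordinates `Sd`, `(f1)`, `(f2)`.
-/

set_option autoImplicit false
set_option linter.style.haveILetI false
set_option linter.unusedSectionVars false
set_option linter.unusedVariables false

namespace Cfsg.Agent.Cit.TwoSyl.GlueOne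

open Subgroup Cfsg Cit OneBasic TwoFK OneFieldHom OneFieldPsi
open Cfsg.Agent.GH.Q2 (Sd Ns Sw RR Co Qn)

variable {G : Type*} [Group G] [Finite G] {Om : Set (Subgroup G)} {K L S : Subgroup G}

/-- no field automorphisms, in the form of THEOREM FK -/
def FK (Om : Set (Subgroup G)) : Prop :=
  ∀ n, n ≠ 0 → Ord Om n → ∀ K ∈ Om, ∀ g ∈ normalizer (K : Set G), psiK K n g = 1

theorem hK1 (b : TwoEq Om) (hT : ∀ K ∈ Om, TyTwo K) (hK : K ∈ Om) : ∀ x ∈ K, ∀ y ∈ K, orderOf x = 4 →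
    orderOf y = 4 → ∃ k ∈ K, k * x * k⁻¹ = y :=
  fun _ hx _ hy hx4 hy4 => b.hyp.conj_four hK (hT K hK) hx hy hx4 hy4

/-- `FK` on coordinates -/
theorem fk_coord (b : TwoEq Om) (hF : FK Om) (hK : K ∈ Om) {Q : Subgroup G} (hQ : Syl Q K) {x y : G} {n : ℕ}
    (g : GQ Q x y (zz K) n) {s : G} (hs : s ∈ normalizer (K : Set G)) {a : ℤ} (ha : s * x * s⁻¹ = x ^ a) :
    x ^ a = x ∨ x ^ a = x⁻¹ := by
  have hord : orderOf (s * x * s⁻¹) = 2 ^ (n + 2) := by
    have := (MulAut.conj s).orderOf_eq x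
    rw [MulAut.conj_apply] at this
    rw [this, g.ord]
  have hx1 : x ^ 2 ^ (n + 2) = 1 := pow_eq_one g.ord
  obtain ⟨u, hu⟩ := exists_unit g.ord hord (by rw [ha]; exact zpow_mem (mem_zpowers x) a)
  have key : (u = 1 ∨ u = -1) → x ^ a = x ∨ x ^ a = x⁻¹ := by
    rintro (h1 | h1)
    · left; rw [← ha, hu, h1, Units.val_one, cp_one hx1]
    · right; rw [← ha, hu, h1, Units.val_neg, Units.val_one, cp_neg_one hx1]
  apply key
  rcases Nat.eq_zero_or_pos n with hn | hn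
  · subst hn
    have : ∀ w : (ZMod 4)ˣ, w = 1 ∨ w = -1 := by decide
    exact this u
  · have hn0 : n ≠ 0 := by omega
    obtain ⟨m, ho⟩ := TwoFK.exists_ord b
    have hmn := ho.eq hK hQ g
    subst hmn
    have h2 := hF n hn0 ho K hK s hs
    have h3 : R K n s u := R_of_one (ho K hK) hn0 hs (hQ.1 g.c_mem) g.ord K.one_mem (by
      rw [hu]; group)
    rw [psiK_eq (ho K hK) hn0 h3, q_eq_one] at h2
    exact h2

/-- an even type is inner on a quaternion group -/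
theorem exists_inner {Q : Subgroup G} {z r y s : G} {n : ℕ} {j : ℤ} (g : GQ Q r y z n)
    (hr : s * r * s⁻¹ = r ∨ s * r * s⁻¹ = r⁻¹) (hy : s * y * s⁻¹ = r ^ j * y) (hj : Even j) :
    ∃ q ∈ Q, q * r * q⁻¹ = s * r * s⁻¹ ∧ q * y * q⁻¹ = s * y * s⁻¹ := by
  obtain ⟨k, rfl⟩ := hj
  have hyk : y * r ^ (-k) = r ^ k * y := by
    have h1 : y * r ^ (-k) * y⁻¹ = r ^ k := by
      rw [← conj_zpow, g.conj, inv_zpow, zpow_neg, inv_inv]
    rw [← h1]; group
  have h2 : r ^ k * y * (r ^ k)⁻¹ = r ^ (k + k) * y := by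
    rw [← zpow_neg, mul_assoc, hyk, ← mul_assoc, ← zpow_add]
  rcases hr with h1 | h1
  · refine ⟨r ^ k, Q.zpow_mem g.c_mem k, ?_, by rw [hy, h2]⟩
    rw [h1]; group
  · refine ⟨r ^ k * y, Q.mul_mem (Q.zpow_mem g.c_mem k) g.v_mem, ?_, ?_⟩
    · calc r ^ k * y * r * (r ^ k * y)⁻¹ = r ^ k * (y * r * y⁻¹) * (r ^ k)⁻¹ := by group
        _ = r⁻¹ := by rw [g.conj]; group
        _ = s * r * s⁻¹ := h1.symm
    · calc r ^ k * y * y * (r ^ k * y)⁻¹ = r ^ k * y * (r ^ k)⁻¹ := by group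
        _ = s * y * s⁻¹ := by rw [h2, hy]

theorem comm_of {Q : Subgroup G} {z r y s : G} {n : ℕ} (g : GQ Q r y z n) (hr : s * r = r * s)
    (hy : s * y = y * s) : ∀ w ∈ Q, s * w = w * s := by
  intro w hw
  have h1 : Q ≤ centralizer {s} := by
    rw [← GH.Q2.Coord.closure_of_gq g, closure_le]
    rintro x (rfl | rfl)
    · exact mem_centralizer_singleton_iff.2 hr.symm
    · exact mem_centralizer_singleton_iff.2 hy.symm
  exact (mem_centralizer_singleton_iff.1 (h1 hw)).symm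

/-- the centraliser of `Q₁Q₂` in `S` is `⟨z⟩` -/
def PPz (K L S : Subgroup G) : Prop :=
  ∀ s ∈ S, (∀ g ∈ K ⊓ S, s * g = g * s) → (∀ g ∈ L ⊓ S, s * g = g * s) → s = 1 ∨ s = zz K

theorem comm_QQ (b : TwoEq Om) (m : Mate Om K L) (hS : Syl S (centralizer {zz K})) :
    ∀ a ∈ K ⊓ S, ∀ c ∈ L ⊓ S, a * c = c * a :=
  fun _ ha _ hc => m.comm b.hyp hS.2.1 ha.1 ha.2 hc.1 hc.2

theorem syl1 (b : TwoEq Om) (m : Mate Om K L) (hS : Syl S (centralizer {zz K})) : Syl (K ⊓ S) K :=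
  b.syl_inf m.hK hS

theorem syl2 (b : TwoEq Om) (m : Mate Om K L) (hS : Syl S (centralizer {zz K})) : Syl (L ⊓ S) L :=
  b.syl_inf m.hL (by rw [← m.zz]; exact hS)

/-- **`inR`** -/
theorem inR (b : TwoEq Om) (hF : FK Om) (m : Mate Om K L) (hS : Syl S (centralizer {zz K}))
    (h0 : PPz K L S) {r1 y1 r2 y2 : G} {n1 n2 : ℕ} (g1 : GQ (K ⊓ S) r1 y1 (zz K) n1)
    (g2 : GQ (L ⊓ S) r2 y2 (zz K) n2) {s : G} (hs : s ∈ S) {u1 j1 u2 j2 : ℤ}
    (N : Ns r1 y1 r2 y2 s u1 j1 u2 j2) (e1 : Even j1) (e2 : Even j2) : s ∈ RR r1 y1 r2 y2 := by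
  have a1 : s * r1 * s⁻¹ = r1 ^ u1 := N.a1
  have a2 : s * r2 * s⁻¹ = r2 ^ u2 := N.a2
  have b1 : s * y1 * s⁻¹ = r1 ^ j1 * y1 := N.b1
  have b2 : s * y2 * s⁻¹ = r2 ^ j2 * y2 := N.b2
  have hsz : s * zz K = zz K * s := mem_centralizer_singleton_iff.1 (hS.1 hs)
  have hsK : s ∈ normalizer (K : Set G) := by
    rcases b.norm_or m hsz with h1 | h1
    · exact h1
    · exfalso
      have h2 : s * r1 * s⁻¹ ∈ L := by rw [← h1]; exact conj_mem_cj g1.c_mem.1
      have h3 : r1 ^ u1 ∈ K ⊓ S := zpow_mem g1.c_mem u1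
      have h4 : r1 ^ u1 ∈ L ⊓ S := ⟨a1 ▸ h2, h3.2⟩
      have h5 : y1 * r1 ^ u1 = r1 ^ u1 * y1 := comm_QQ b m hS _ g1.v_mem _ h4
      have h6 : orderOf (r1 ^ u1) = 2 ^ (n1 + 2) := by
        rw [← a1]
        have := (MulAut.conj s).orderOf_eq r1
        rw [MulAut.conj_apply] at this
        rw [this, g1.ord]
      have h7 : r1 ^ u1 = (r1 ^ u1)⁻¹ := by
        have h8 : y1 * r1 ^ u1 * y1⁻¹ = (r1 ^ u1)⁻¹ := by
          rw [← conj_zpow, g1.conj, inv_zpow]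
        rw [← h8, h5, mul_inv_cancel_right]
      have h9 : (r1 ^ u1) ^ 2 = 1 := by
        rw [pow_two]
        nth_rewrite 2 [h7]
        exact mul_inv_cancel _
      have h10 := orderOf_dvd_of_pow_eq_one h9
      rw [h6] at h10
      have h11 := Nat.le_of_dvd (by norm_num) h10
      have h12 : 2 ^ 1 < 2 ^ (n1 + 2) := Nat.pow_lt_pow_right (by norm_num) (by omega)
      omega
  have hsL := b.mem_normalizer_mate m hsK
  obtain ⟨q1, hq1, c1, d1⟩ := exists_inner g1 (by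
    rw [a1]; exact fk_coord b hF m.hK (syl1 b m hS) g1 hsK a1) b1 e1
  obtain ⟨q2, hq2, c2, d2⟩ := exists_inner g2 (by
    rw [a2]; exact fk_coord b hF m.hL (syl2 b m hS) (m.zz ▸ g2) hsL a2) b2 e2
  have hc := comm_QQ b m hS
  have hq21 : ∀ w ∈ K ⊓ S, q2⁻¹ * w * q2 = w := by
    intro w hw
    rw [mul_assoc, hc w hw q2 hq2, inv_mul_cancel_left]
  have hq12 : ∀ w ∈ L ⊓ S, q1⁻¹ * w * q1 = w := by
    intro w hw
    rw [mul_assoc, ← hc q1 hq1 w hw, inv_mul_cancel_left]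
  have hqq : q1 * q2 = q2 * q1 := hc _ hq1 _ hq2
  have k1 : ∀ w ∈ K ⊓ S, q1 * w * q1⁻¹ = s * w * s⁻¹ → ((q1 * q2)⁻¹ * s) * w = w * ((q1 * q2)⁻¹ * s) := by
    intro w hw h1
    calc ((q1 * q2)⁻¹ * s) * w = q2⁻¹ * (q1⁻¹ * (s * w * s⁻¹) * q1) * q1⁻¹ * s := by group
      _ = (q2⁻¹ * w * q2) * ((q1 * q2)⁻¹ * s) := by rw [← h1]; group
      _ = w * ((q1 * q2)⁻¹ * s) := by rw [hq21 w hw]
  have k2 : ∀ w ∈ L ⊓ S, q2 * w * q2⁻¹ = s * w * s⁻¹ → ((q1 * q2)⁻¹ * s) * w = w * ((q1 * q2)⁻¹ * s) := by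
    intro w hw h1
    rw [hqq]
    calc ((q2 * q1)⁻¹ * s) * w = q1⁻¹ * (q2⁻¹ * (s * w * s⁻¹) * q2) * q2⁻¹ * s := by group
      _ = (q1⁻¹ * w * q1) * ((q2 * q1)⁻¹ * s) := by rw [← h1]; group
      _ = w * ((q2 * q1)⁻¹ * s) := by rw [hq12 w hw]
  have hRR : q1 * q2 ∈ RR r1 y1 r2 y2 := by
    unfold RR
    rw [GH.Q2.Coord.closure_of_gq g1, GH.Q2.Coord.closure_of_gq g2]
    exact mul_mem (mem_sup_left hq1) (mem_sup_right hq2)
  have hz : zz K ∈ RR r1 y1 r2 y2 := by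
    unfold RR
    rw [GH.Q2.Coord.closure_of_gq g1]
    exact mem_sup_left g1.z_mem
  have h1 := h0 ((q1 * q2)⁻¹ * s) (S.mul_mem (S.inv_mem (S.mul_mem hq1.2 hq2.2)) hs)
    (comm_of g1 (k1 _ g1.c_mem c1) (k1 _ g1.v_mem d1)) (comm_of g2 (k2 _ g2.c_mem c2) (k2 _ g2.v_mem d2))
  have h2 : s = (q1 * q2) * ((q1 * q2)⁻¹ * s) := by group
  rw [h2]
  rcases h1 with h1 | h1
  · rw [h1, mul_one]; exact hRR
  · rw [h1]; exact mul_mem hRR hz

/-- `Q₁ ∩ Q₂ = ⟨z⟩` -/
theorem inf_eq (b : TwoEq Om) (m : Mate Om K L) (hS : Syl S (centralizer {zz K})) {x : G} (hx1 : x ∈ K ⊓ S)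
    (hx2 : x ∈ L ⊓ S) : x = 1 ∨ x = zz K := by
  obtain ⟨c, v, n, hc⟩ := b.hyp.exists_gq m.hK (syl1 b m hS)
  have h3 : ∀ a ∈ K ⊓ S, a * x = x * a := fun a ha => comm_QQ b m hS a ha x hx2
  by_cases hxc : x ∈ zpowers c
  · obtain ⟨i, rfl⟩ := hxc
    have h4 : v * c ^ i = c ^ i * v := h3 v hc.v_mem
    rw [hc.zpow_v] at h4
    have h5 : c ^ (2 * i) = 1 := by
      rw [two_mul, zpow_add]
      nth_rewrite 1 [mul_left_cancel h4]
      rw [zpow_neg, inv_mul_cancel]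
    exact hc.zpow_sq h5
  · exfalso
    obtain ⟨i, rfl⟩ := hc.exists_eq_of_not_mem hx1 hxc
    exact GH.Q2.InRank.out_not_comm hc i (h3 c hc.c_mem)

/-- **coordinates** -/
theorem exists_sd (b : TwoEq Om) (hF : FK Om) (m : Mate Om K L) (hS : Syl S (centralizer {zz K}))
    (h0 : PPz K L S) : ∃ (r1 y1 r2 y2 : G) (n1 n2 : ℕ), Sd S (zz K) r1 y1 r2 y2 n1 n2 ∧
      GQ (K ⊓ S) r1 y1 (zz K) n1 ∧ GQ (L ⊓ S) r2 y2 (zz K) n2 := by
  obtain ⟨c₁, v₁, n₁, g1⟩ := b.hyp.exists_gq m.hK (syl1 b m hS)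
  obtain ⟨c₂, v₂, n₂, g2⟩ := b.hyp.exists_gq m.hL (syl2 b m hS)
  rw [← m.zz] at g2
  have hmap : ∀ (s : G) (A B : Subgroup G), s ∈ S → cj s A = B → ∀ g ∈ A ⊓ S, s * g * s⁻¹ ∈ B ⊓ S := by
    rintro s A B hs rfl g ⟨hgA, hg⟩
    exact ⟨conj_mem_cj hgA, S.mul_mem (S.mul_mem hs hg) (S.inv_mem hs)⟩
  obtain ⟨r1, y1, r2, y2, k1, k2, hco, -, -, hact⟩ := GH.Q2.Coord.exists_coord hS.2.1 g1 g2
    (comm_QQ b m hS) (fun g hg1 hg2 => inf_eq b m hS hg1 hg2) (by
      intro s hs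
      rcases b.cj_or m (mem_centralizer_singleton_iff.1 (hS.1 hs)) with ⟨e1, e2⟩ | ⟨e1, e2⟩
      · exact Or.inl ⟨hmap s _ _ hs e1, hmap s _ _ hs e2⟩
      · exact Or.inr ⟨hmap s _ _ hs e1, hmap s _ _ hs e2⟩)
  exact ⟨r1, y1, r2, y2, n₁, n₂, ⟨hco, k1.c_mem.2, k1.v_mem.2, k2.c_mem.2, k2.v_mem.2, hact,
    fun s hs u1 j1 u2 j2 N e1 e2 => inR b hF m hS h0 k1 k2 hs N e1 e2⟩, k1, k2⟩

/-- involutions of `R` other than `z` -/
theorem exists_of_mem (b : TwoEq Om) (m : Mate Om K L) (hS : Syl S (centralizer {zz K})) {a : G}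
    (ha : a ∈ (K ⊓ S) ⊔ (L ⊓ S)) (haa : a * a = 1) (ha1 : a ≠ 1) (haz : a ≠ zz K) :
    ∃ p ∈ K ⊓ S, ∃ q ∈ L ⊓ S, a = p * q ∧ p * p = zz K ∧ q * q = zz K := by
  obtain ⟨p, hp, q, hq, rfl⟩ := (GH.Q2.InRank.mem_sup_iff (comm_QQ b m hS)).1 ha
  have hpq := comm_QQ b m hS p hp q hq
  have e1 : (p * p) * (q * q) = 1 := by
    rw [← haa]
    exact ((show Commute q p from hpq.symm).mul_mul_mul_comm p q).symm
  have e2 : q * q = (p * p)⁻¹ := eq_inv_of_mul_eq_one_right e1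
  have hzz : zz K * zz K = 1 := b.hyp.zz_mul m.hK
  have hzi : (zz K)⁻¹ = zz K := inv_eq_of_mul_eq_one_right hzz
  have uK : ∀ x ∈ K, x * x = 1 → x = 1 ∨ x = zz K := by
    intro x hx hxx
    by_cases h1 : x = 1
    · exact Or.inl h1
    · exact Or.inr (b.hyp.eq_zz m.hK hx hxx h1)
  have uL : ∀ x ∈ L, x * x = 1 → x = 1 ∨ x = zz K := by
    intro x hx hxx
    by_cases h1 : x = 1
    · exact Or.inl h1
    · exact Or.inr (by rw [m.zz]; exact b.hyp.eq_zz m.hL hx hxx h1)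
  rcases inf_eq b m hS (x := p * p) (mul_mem hp hp) (by
    have h3 := inv_mem (mul_mem hq hq)
    rwa [e2, inv_inv] at h3) with h3 | h3
  · exfalso
    rw [h3, inv_one] at e2
    rcases uK p hp.1 h3 with h4 | h4 <;> rcases uL q hq.1 e2 with h5 | h5
    · exact ha1 (by rw [h4, h5, one_mul])
    · exact haz (by rw [h4, h5, one_mul])
    · exact haz (by rw [h4, h5, mul_one])
    · exact ha1 (by rw [h4, h5, hzz])
  · refine ⟨p, hp, q, hq, rfl, h3, ?_⟩
    rw [e2, h3, hzi]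

/-- **(f1)** -/
theorem f1 (b : TwoEq Om) (hT : ∀ K ∈ Om, TyTwo K) (m : Mate Om K L) (hS : Syl S (centralizer {zz K}))
    {a a' : G} (ha : a ∈ (K ⊓ S) ⊔ (L ⊓ S)) (ha' : a' ∈ (K ⊓ S) ⊔ (L ⊓ S)) (haa : a * a = 1) (ha1 : a ≠ 1)
    (haz : a ≠ zz K) (hbb : a' * a' = 1) (hb1 : a' ≠ 1) (hbz : a' ≠ zz K) :
    ∃ c : G, c * zz K * c⁻¹ = zz K ∧ c * a * c⁻¹ = a' := by
  obtain ⟨p, hp, q, hq, rfl, hpp, hqq⟩ := exists_of_mem b m hS ha haa ha1 haz
  obtain ⟨p', hp', q', hq', rfl, hpp', hqq'⟩ := exists_of_mem b m hS ha' hbb hb1 hbz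
  have o1 := b.hyp.orderOf_of_sq m.hK hpp
  have o2 := b.hyp.orderOf_of_sq m.hK hpp'
  have o3 := b.hyp.orderOf_of_sq m.hL (by rw [← m.zz]; exact hqq)
  have o4 := b.hyp.orderOf_of_sq m.hL (by rw [← m.zz]; exact hqq')
  have p1 : IsPGroup 2 ↥(K ⊓ S) := hS.2.1.to_le inf_le_right
  have p2 : IsPGroup 2 ↥(L ⊓ S) := hS.2.1.to_le inf_le_right
  obtain ⟨k, hk, hkc, hkp⟩ := b.hyp.conj_four_rel m.hK (hK1 b hT m.hK) (syl1 b m hS) p2
    (inf_le_left.trans (m.symm.le_normalizer b.hyp)) (fun a ha q hq => (comm_QQ b m hS q hq a ha).symm)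
    hp hp' o1 o2
  obtain ⟨l, hl, hlc, hlq⟩ := b.hyp.conj_four_rel m.hL (hK1 b hT m.hL) (syl2 b m hS) p1
    (inf_le_left.trans (m.le_normalizer b.hyp)) (fun a ha q hq => comm_QQ b m hS a ha q hq) hq hq' o3 o4
  have hkz : k * zz K = zz K * k := b.hyp.comm_zz m.hK (le_normalizer hk)
  have hlz : l * zz K = zz K * l := by
    rw [m.zz]; exact b.hyp.comm_zz m.hL (le_normalizer hl)
  refine ⟨l * k, ?_, ?_⟩
  · have h1 : (l * k) * zz K = zz K * (l * k) := by rw [mul_assoc, hkz, ← mul_assoc, hlz, mul_assoc]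
    rw [h1, mul_inv_cancel_right]
  · have e1 : k * q * k⁻¹ = q := by rw [hkc q hq, mul_inv_cancel_right]
    have e2 : l * p' * l⁻¹ = p' := by rw [hlc p' hp', mul_inv_cancel_right]
    calc l * k * (p * q) * (l * k)⁻¹ = l * ((k * p * k⁻¹) * (k * q * k⁻¹)) * l⁻¹ := by group
      _ = (l * p' * l⁻¹) * (l * q * l⁻¹) := by rw [hkp, e1]; group
      _ = p' * q' := by rw [e2, hlq]

theorem qk (b : TwoEq Om) (hT : ∀ K ∈ Om, TyTwo K) (hK : K ∈ Om) {Q : Subgroup G} (hQ : Syl Q K) {c v : G}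
    {n : ℕ} (g : GQ Q c v (zz K) n) : GH.Q2.InQuat.QK K Q c v (zz K) n :=
  ⟨hQ, g, fun x hx => mem_centralizer_singleton_iff.2 (b.hyp.comm_zz hK (le_normalizer hx)),
    fun f x => OneK1.hom_eq_one (hT K hK) f x⟩

open GH.Q2.InF2 in
/-- elements of odd order of `C(z)` normalise the members -/
theorem odd_normalizer (b : TwoEq Om) (m : Mate Om K L) {g : G} (hg : g * zz K = zz K * g)
    (ho : Odd (orderOf g)) : g ∈ normalizer (K : Set G) :=
  mem_of_sq ho (b.sq_norm m hg)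

open GH.Q2.InF2 in
theorem res_le_stab (b : TwoEq Om) (hT : ∀ K ∈ Om, TyTwo K) (m : Mate Om K L) {Q : Subgroup G}
    (hQ : Syl Q K) {c v : G} {n : ℕ} (g : GQ Q c v (zz K) n) : Res (zz K) ≤ Stab K (zz K) (c ^ 2 ^ n) v :=
  res_le fun _ hgz hgo => odd_mem (qk b hT m.hK hQ g) (odd_normalizer b m hgz hgo) hgz hgo

open GH.Q2.InF2 in
/-- **`S ∩ O^2(C(z)) ≤ R`** -/
theorem mem_RR (b : TwoEq Om) (hT : ∀ K ∈ Om, TyTwo K) (m : Mate Om K L) (hS : Syl S (centralizer {zz K}))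
    {r1 y1 r2 y2 : G} {n1 n2 : ℕ} (h : Sd S (zz K) r1 y1 r2 y2 n1 n2) (g1 : GQ (K ⊓ S) r1 y1 (zz K) n1)
    (g2 : GQ (L ⊓ S) r2 y2 (zz K) n2) {s : G} (hs : s ∈ S) (hs' : s ∈ Res (zz K)) :
    s ∈ RR r1 y1 r2 y2 := by
  have k1 := qk b hT m.hK (syl1 b m hS) g1
  have g2' : GQ (L ⊓ S) r2 y2 (zz L) n2 := m.zz ▸ g2
  have k2 := qk b hT m.hL (syl2 b m hS) g2'
  have hs1 := res_le_stab b hT m (syl1 b m hS) g1 hs'
  have hs2 := res_le_stab b hT m.symm (syl2 b m hS) g2' (by rw [← m.zz]; exact hs')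
  rcases h.act s hs with ⟨u1, j1, u2, j2, N⟩ | ⟨-, u1, j1, u2, j2, N⟩
  · exact h.inR s hs u1 j1 u2 j2 N (even_of_stab k1 (N.odd1 h.toCo) N.a1 N.b1 hs1)
      (even_of_stab k2 (N.odd2 h.toCo) N.a2 N.b2 hs2)
  · exfalso
    have h3 : s * r1 * s⁻¹ ∈ K ⊓ S :=
      ⟨(mem_normalizer_iff.1 hs1.1 r1).1 g1.c_mem.1, S.mul_mem (S.mul_mem hs h.h1) (S.inv_mem hs)⟩
    have h4 : s * r1 * s⁻¹ ∈ L ⊓ S := by
      have h5 : s * r1 * s⁻¹ = r2 ^ u1 := N.a1
      rw [h5]
      exact zpow_mem g2.c_mem _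
    have h5 := inf_eq b m hS h3 h4
    apply h.q1.odd_ne (i := 1) odd_one
    rw [zpow_one]
    rcases h5 with h5 | h5
    · left
      have h6 : r1 = s⁻¹ * (s * r1 * s⁻¹) * s := by group
      rw [h6, h5]; group
    · right
      have h6 : r1 = s⁻¹ * (s * r1 * s⁻¹) * s := by group
      rw [h6, h5, mul_assoc, ← h.zc hs, inv_mul_cancel_left]

open GH.Q2.InF2 in
/-- **(f2)** -/
theorem f2 (b : TwoEq Om) (hT : ∀ K ∈ Om, TyTwo K) (m : Mate Om K L) (hS : Syl S (centralizer {zz K}))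
    {r1 y1 r2 y2 : G} {n1 n2 : ℕ} (h : Sd S (zz K) r1 y1 r2 y2 n1 n2) (g1 : GQ (K ⊓ S) r1 y1 (zz K) n1)
    (g2 : GQ (L ⊓ S) r2 y2 (zz K) n2) (c s : G) (hc : GH.Q2.cj c (zz K) = zz K) (hs : s ∈ S)
    (hcs : GH.Q2.cj c s ∈ S) : ∃ t ∈ S, GH.Q2.cj c s * (GH.Q2.cj t s)⁻¹ ∈ RR r1 y1 r2 y2 := by
  have hcz : c * zz K = zz K * c := GH.Q2.cj_eq_self_iff.1 hc
  obtain ⟨x, hx, t, ht, rfl⟩ := exists_mul hS hcz
  have htz : t * zz K = zz K * t := h.zc ht
  have hts : GH.Q2.cj t s ∈ S := S.mul_mem (S.mul_mem ht hs) (S.inv_mem ht)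
  refine ⟨t, ht, mem_RR b hT m hS h g1 g2 (S.mul_mem hcs (S.inv_mem hts)) ?_⟩
  have h3 : GH.Q2.cj (x * t) s * (GH.Q2.cj t s)⁻¹ =
      x * (GH.Q2.cj t s * x⁻¹ * (GH.Q2.cj t s)⁻¹) := by
    simp only [GH.Q2.cj]; group
  rw [h3]
  exact mul_mem hx (conj_mem_res (h.zc hts) (inv_mem hx))

/-- **the target presentations** -/
theorem exists_tg (b : TwoEq Om) (hT : ∀ K ∈ Om, TyTwo K) (hF : FK Om) (hidx : ∀ N : Subgroup G, N.index ≠ 2)
    (m : Mate Om K L) (S : Sylow 2 G) (hS : Syl (S : Subgroup G) (centralizer {zz K}))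
    (h0 : PPz K L S) (iso : ∃ g : G, g * zz K * g⁻¹ ∈ (S : Subgroup G) ∧ g * zz K * g⁻¹ ≠ zz K) :
    GH.Q2.Tg (S : Subgroup G) (zz K) := by
  obtain ⟨r1, y1, r2, y2, n1, n2, h, g1, g2⟩ := exists_sd b hF m hS h0
  have hR : RR r1 y1 r2 y2 = (K ⊓ (S : Subgroup G)) ⊔ (L ⊓ (S : Subgroup G)) := by
    unfold RR
    rw [GH.Q2.Coord.closure_of_gq g1, GH.Q2.Coord.closure_of_gq g2]
  refine GH.Q2.tg_main S hidx h iso ?_ (f2 b hT m hS h g1 g2)
  intro a ha c hc haa ha1 haz hcc hc1 hcz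
  rw [hR] at ha hc
  exact f1 b hT m hS ha hc haa ha1 haz hcc hc1 hcz

end Cfsg.Agent.Cit.TwoSyl.GlueOne
end
end
end
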